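import Groth.Prelude.Def_Pi1
import Groth.Agent.VarietyBC.Fibre
import Groth.Agent.VarietyBC.SmoothChart
import Groth.Agent.Variety2.Normal
import Groth.Agent.Ega4Algebra1.RegularNormal
import Groth.Agent.Ega4Algebra1.RegularLocal
import Mathlib.FieldTheory.LinearDisjoint
import Mathlib.FieldTheory.PrimitiveElement

/-! If `X_L` is reducible for a Galois `L/k` and a normal irreducible `X`, then `X` lives over a
nontrivial subfield of `L`. -/

set_option autoImplicit false

universe u

open CategoryTheory AlgebraicGeometry TensorProduct Polynomial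

namespace Groth.Misc13.GaloisSplit

section Field

variable (k L K : Type u) [Field k] [Field L] [Field K] [Algebra k L] [Algebra k K]
  [FiniteDimensional k L] [IsGalois k L]

/-- If no nontrivial subfield of the Galois extension `L` embeds in `K`, then `K ⊗ L` has prime
nilradical. -/
theorem nilradical_isPrime_tensor
    (h : ∀ F : IntermediateField k L, Nonempty (F →ₐ[k] K) → F = ⊥) :
    (nilradical (K ⊗[k] L)).IsPrime := by
  classical
  let Ω := AlgebraicClosure K
  let ι : L →ₐ[k] Ω := IsAlgClosed.lift
  let j : K →ₐ[k] Ω := IsScalarTower.toAlgHom k K Ω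
  let F : IntermediateField k L := IntermediateField.comap ι j.fieldRange
  let σ : F →ₐ[k] K := (AlgEquiv.ofInjectiveField j).symm.toAlgHom.comp
    ((ι.comp F.val).codRestrict j.range fun a => a.2)
  have hF : F = ⊥ := h F ⟨σ⟩
  let pb := Field.powerBasisOfFiniteOfSeparable k L
  have hgen : IsIntegral K (ι pb.gen) := Algebra.IsAlgebraic.isAlgebraic _ |>.isIntegral
  set g := minpoly K (ι pb.gen) with hg
  have hdeg : pb.dim ≤ g.natDegree := by
    -- all roots of the minimal polynomial over `k` lie in the image of `L`
    have hspl : ((minpoly k pb.gen).map (algebraMap k L)).Splits := IsGalois.splits k pb.gen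
    have hmonic : g.Monic := minpoly.monic hgen
    have hdvd : g.map (algebraMap K Ω) ∣ ((minpoly k pb.gen).map (algebraMap k L)).map ι.toRingHom := by
      have h1 : g ∣ (minpoly k pb.gen).map (algebraMap k K) := by
        refine minpoly.dvd K _ ?_
        rw [aeval_map_algebraMap, aeval_algHom_apply, minpoly.aeval, map_zero]
      have h2 := Polynomial.map_dvd (algebraMap K Ω) h1
      rwa [Polynomial.map_map, ← IsScalarTower.algebraMap_eq,
        ← ι.comp_algebraMap_of_tower k, ← Polynomial.map_map] at h2
    have hroots : ∀ a ∈ (g.map (algebraMap K Ω)).roots, a ∈ Set.range ι := by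
      intro a ha
      have ha' := Multiset.mem_of_le (Polynomial.roots.le_of_dvd
        (((minpoly.monic (Algebra.IsIntegral.isIntegral pb.gen)).map _).map _).ne_zero hdvd) ha
      rw [hspl.roots_map] at ha'
      obtain ⟨b, -, rfl⟩ := Multiset.mem_map.1 ha'
      exact ⟨b, rfl⟩
    have hcoeff : ∀ i, g.coeff i ∈ Set.range (algebraMap k K) := by
      intro i
      obtain ⟨m, hm⟩ : ∃ m : Multiset L, (g.map (algebraMap K Ω)).roots = m.map ι := by
        refine ⟨(g.map (algebraMap K Ω)).roots.attach.map fun a => (hroots a.1 a.2).choose, ?_⟩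
        rw [Multiset.map_map]
        conv_lhs => rw [← Multiset.attach_map_val (g.map (algebraMap K Ω)).roots]
        exact Multiset.map_congr rfl fun a _ => ((hroots a.1 a.2).choose_spec).symm
      have hprod := (IsAlgClosed.splits (g.map (algebraMap K Ω))).eq_prod_roots_of_monic (hmonic.map _)
      rw [hm] at hprod
      obtain ⟨b, hb⟩ : ∃ b : L, ι b = j (g.coeff i) := by
        refine ⟨((m.map fun a => Polynomial.X - Polynomial.C a).prod).coeff i, ?_⟩
        change ι.toRingHom _ = algebraMap K Ω _
        rw [← Polynomial.coeff_map, ← Polynomial.coeff_map, hprod, Polynomial.map_multiset_prod,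
          Multiset.map_map, Multiset.map_map]
        simp [Function.comp_def]
      have hbF : b ∈ F := ⟨g.coeff i, hb.symm⟩
      rw [hF, IntermediateField.mem_bot] at hbF
      obtain ⟨c, rfl⟩ := hbF
      rw [AlgHom.commutes] at hb
      exact ⟨c, j.injective ((j.commutes c).trans hb)⟩
    obtain ⟨g₀, hg₀⟩ : g ∈ Polynomial.lifts (algebraMap k K) :=
      (Polynomial.lifts_iff_coeff_lifts _).2 hcoeff
    have hroot : aeval pb.gen g₀ = 0 := by
      apply ι.toRingHom.injective
      change ι _ = ι _
      rw [map_zero, ← aeval_algHom_apply, ← aeval_map_algebraMap K]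
      change aeval (ι pb.gen) (g₀.map (algebraMap k K)) = 0
      rw [show g₀.map (algebraMap k K) = g from hg₀]
      exact minpoly.aeval _ _
    have hne : g₀ ≠ 0 := fun h0 => hmonic.ne_zero (by rw [← hg₀, h0, map_zero])
    calc pb.dim = (minpoly k pb.gen).natDegree := pb.natDegree_minpoly.symm
      _ ≤ g₀.natDegree := Polynomial.natDegree_le_natDegree (minpoly.degree_le_of_ne_zero k pb.gen hne hroot)
      _ = g.natDegree := by
        rw [← hg₀]; exact (Polynomial.natDegree_map_eq_of_injective (algebraMap k K).injective g₀).symm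
  let φ : K ⊗[k] L →ₐ[K] Ω :=
    Algebra.TensorProduct.lift (Algebra.ofId K Ω) ι fun _ _ => Commute.all _ _
  have hli : LinearIndependent K fun i : Fin pb.dim => (ι pb.gen) ^ (i : ℕ) :=
    (linearIndependent_pow (ι pb.gen)).comp (Fin.castLE hdeg) (Fin.castLE_injective hdeg)
  let bb := Algebra.TensorProduct.basis K pb.basis
  have hφ : ∀ i, φ (bb i) = ι pb.gen ^ (i : ℕ) := fun i => by
    simp [bb, φ, pb.basis_eq_pow]
  have hinj : Function.Injective φ := by
    intro x y hxy
    rw [← bb.sum_repr x, ← bb.sum_repr y, map_sum, map_sum] at hxy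
    simp only [map_smul, hφ] at hxy
    exact bb.ext_elem (Fintype.linearIndependent_iffₛ.1 hli _ _ hxy)
  have : IsDomain (K ⊗[k] L) := hinj.isDomain φ.toRingHom
  rw [nilradical_eq_zero]
  exact Ideal.isPrime_bot

end Field

section Scheme

variable {k : Type u} [Field k] (X : Scheme.{u}) [X.Over (Spec (CommRingCat.of k))]

attribute [local instance] Curv2.resAlgebra

/-- A normal irreducible scheme over `k` whose function field contains the finite extension `F`
lives over `F`. -/
theorem exists_hom_Spec [IrreducibleSpace X] (hX : Pi1.IsNormalScheme X)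
    (F : Type u) [Field F] [Algebra k F] [Algebra.IsAlgebraic k F]
    (σ : F →ₐ[k] X.residueField (genericPoint X)) :
    ∃ g : X ⟶ Spec (CommRingCat.of F),
      g ≫ Spec.map (CommRingCat.ofHom (algebraMap k F)) = X ↘ Spec (CommRingCat.of k) := by
  classical
  have : ∀ x : X, IsDomain (X.presheaf.stalk x) := fun x => (hX x).1
  have : ∀ x : X, _root_.IsReduced (X.presheaf.stalk x) := fun x => inferInstance
  have : AlgebraicGeometry.IsReduced X := AlgebraicGeometry.isReduced_of_isReduced_stalk X
  have : IsIntegral X := isIntegral_of_irreducibleSpace_of_isReduced X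
  have : Nonempty (⊤ : X.Opens) := ⟨⟨genericPoint X, trivial⟩⟩
  have hres : Function.Bijective (X.residue (genericPoint X)).hom :=
    ⟨RingHom.injective (R := X.functionField) (X.residue (genericPoint X)).hom,
      IsLocalRing.residue_surjective⟩
  let e : X.functionField ≃+* X.residueField (genericPoint X) := RingEquiv.ofBijective _ hres
  let ψ : F →+* X.functionField := e.symm.toRingHom.comp σ.toRingHom
  let T : k →+* Γ(X, ⊤) := Coh.toGlobal (X ↘ Spec (CommRingCat.of k))
  let φ : Γ(X, ⊤) →+* X.functionField := (X.germToFunctionField ⊤).hom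
  have hφ : Function.Injective φ := X.germToFunctionField_injective ⊤
  have hψk : ψ.comp (algebraMap k F) = φ.comp T := by
    ext c
    apply e.injective
    show e (e.symm (σ (algebraMap k F c))) = _
    rw [e.apply_symm_apply, σ.commutes]
    rfl
  have hmem : ∀ a : F, ∃ s, φ s = ψ a := by
    intro a
    refine Groth.Variety2.exists_section_of_forall_stalk ⊤ (ψ a) fun x _ => ?_
    have := (hX x).1
    have := (hX x).2
    obtain ⟨q, hq, hq0⟩ := Algebra.IsIntegral.isIntegral (R := k) a
    have hint : _root_.IsIntegral (X.presheaf.stalk x) (ψ a) := by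
      refine ⟨q.map ((X.presheaf.germ ⊤ x trivial).hom.comp T), hq.map _, ?_⟩
      have hc : (algebraMap (X.presheaf.stalk x) X.functionField).comp
          ((X.presheaf.germ ⊤ x trivial).hom.comp T) = ψ.comp (algebraMap k F) := by
        rw [hψk]
        ext c
        exact Scheme.algebraMap_germ_eq_germToFunctionField (X := X) (show x ∈ (⊤ : X.Opens) from trivial) (T c)
      rw [Polynomial.eval₂_map, hc, ← Polynomial.hom_eval₂, hq0, map_zero]
    exact IsIntegrallyClosed.isIntegral_iff.1 hint
  choose t ht using hmem
  let τ : F →+* Γ(X, ⊤) :=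
    { toFun := t
      map_one' := hφ (by rw [ht, map_one, map_one])
      map_mul' := fun a b => hφ (by rw [map_mul φ, ht, ht, ht, map_mul])
      map_zero' := hφ (by rw [ht, map_zero, map_zero])
      map_add' := fun a b => hφ (by rw [map_add φ, ht, ht, ht, map_add]) }
  have hτ : τ.comp (algebraMap k F) = T := RingHom.ext fun c =>
    hφ ((ht _).trans (RingHom.congr_fun hψk c))
  refine ⟨X.toSpecΓ ≫ Spec.map (CommRingCat.ofHom τ), ?_⟩
  rw [Category.assoc, ← Spec.map_comp, ← CommRingCat.ofHom_comp, hτ]
  have hT : CommRingCat.ofHom T =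
      (Scheme.ΓSpecIso (CommRingCat.of k)).inv ≫ (X ↘ Spec (CommRingCat.of k)).appTop := rfl
  rw [hT, Spec.map_comp, ← Category.assoc, ← Scheme.toSpecΓ_naturality, Category.assoc,
    toSpecΓ_SpecMap_ΓSpecIso_inv]
  exact Category.comp_id _

/-- A normal irreducible `X` with reducible `X_L` lives over a nontrivial subfield of `L`. -/
theorem exists_factor [IrreducibleSpace X] (hX : Pi1.IsNormalScheme X)
    (L : Type u) [Field L] [Algebra k L] [FiniteDimensional k L] [IsGalois k L]
    (hred : ¬ IrreducibleSpace ↥(Curv2.bc k X L)) :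
    ∃ F : IntermediateField k L, F ≠ ⊥ ∧
      ∃ g : X ⟶ Spec (CommRingCat.of F),
        g ≫ Spec.map (CommRingCat.ofHom (algebraMap k F)) = X ↘ Spec (CommRingCat.of k) := by
  by_contra hno
  push Not at hno
  refine hred (Groth.VarietyBC.irreducibleSpace_bc_of_fibre L
    ((Groth.VarietyBC.isIrreducible_preimage_iff L (genericPoint X)).2
      (nilradical_isPrime_tensor k L _ fun F ⟨σ⟩ => ?_)))
  by_contra hF
  obtain ⟨g, hg⟩ := exists_hom_Spec X hX F σ
  exact hno F hF g hg

/-- A connected smooth variety is irreducible and normal. -/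
theorem isNormal_irreducible_of_smooth [ConnectedSpace X]
    [Smooth (X ↘ Spec (CommRingCat.of k))] [QuasiCompact (X ↘ Spec (CommRingCat.of k))] :
    Pi1.IsNormalScheme X ∧ IrreducibleSpace X := by
  have hreg : ∀ x : X, IsRegularLocalRing (X.presheaf.stalk x) := fun x =>
    Groth.VarietyBC.isRegularLocalRing_of_mem_smoothLocus (k := k)
      (by rw [Scheme.Hom.smoothLocus_eq_top]; trivial)
  have hdom : ∀ x : X, IsDomain (X.presheaf.stalk x) := fun x => by
    have := hreg x
    exact Groth.Ega4Algebra1.isDomain_of_isRegularLocalRing _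
  refine ⟨fun x => ⟨hdom x, by
    have := hreg x
    exact Groth.Ega4Algebra1.isIntegrallyClosed_of_isRegularLocalRing _⟩, ?_⟩
  have : IsLocallyNoetherian X :=
    LocallyOfFiniteType.isLocallyNoetherian (X ↘ Spec (CommRingCat.of k))
  have : CompactSpace X :=
    QuasiCompact.compactSpace_of_compactSpace (X ↘ Spec (CommRingCat.of k))
  have : IsNoetherian X := {}
  obtain ⟨Z, hZ, -⟩ := exists_mem_irreducibleComponents_subset_of_isIrreducible
    {Classical.arbitrary X} isIrreducible_singleton
  have huniv : Z = Set.univ := IsClopen.eq_univ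
    ⟨isClosed_of_mem_irreducibleComponents Z hZ,
      Groth.Variety2.isOpen_irreducibleComponents hdom hZ⟩ hZ.1.nonempty
  rw [irreducibleSpace_def, Set.top_eq_univ, ← huniv]
  exact hZ.1

end Scheme

end Groth.Misc13.GaloisSplit
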