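import Groth.Agent.FlatMorOne.FlatBaseChangeScheme
import Groth.Agent.RefRank.Stalk

/-! Flat descent of flatness over the base. -/

set_option autoImplicit false

universe u

open CategoryTheory CategoryTheory.Limits AlgebraicGeometry TensorProduct

namespace Groth.Misc13.FlatBC

variable {X S X' S' : Scheme.{u}}

/-- `M` is flat over `S` at `x` as soon as its stalk is. -/
lemma isFlatOverAt_iff_flat (f : X ⟶ S) (M : X.Modules) (x : X) :
    FlatMod.IsFlatOverAt f M x ↔
      letI := FlatMod.moduleStalkOver f M x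
      Module.Flat (S.presheaf.stalk (f x)) (M.presheaf.stalk x) := Iff.rfl

lemma flat_stalkMap_iff_structure (f : X ⟶ S) (x : X) :
    FlatMod.IsFlatOverAt f (Coh.structureModule X) x ↔ (f.stalkMap x).hom.Flat := by
  let := (f.stalkMap x).hom.toAlgebra
  let := FlatMod.moduleStalkOver f (Coh.structureModule X) x
  have : IsScalarTower (S.presheaf.stalk (f x)) (X.presheaf.stalk x)
      ((Coh.structureModule X).presheaf.stalk x) := .of_algebraMap_smul fun _ _ => rfl
  rw [isFlatOverAt_iff_flat, RingHom.Flat]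
  exact (Module.Flat.equiv_iff ((Groth.RefRank.oneEquiv x).restrictScalars _)).symm

/-- Flatness of the stalk map is stable under base change. -/
lemma flat_stalkMap_baseChange {f : X ⟶ S} {g : S' ⟶ S} {f' : X' ⟶ S'} {g' : X' ⟶ X}
    (H : IsPullback g' f' f g) (x' : X') (hg : (g.stalkMap (f' x')).hom.Flat) :
    (g'.stalkMap x').hom.Flat := by
  have h := Groth.FlatMorOne.isFlatOverAt_baseChange H.flip (Coh.structureModule S') x'
    ((flat_stalkMap_iff_structure g (f' x')).2 hg)
  let := (g'.stalkMap x').hom.toAlgebra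
  let := Groth.QCohMod.stalkAlg f' x'
  let P := (Scheme.Modules.pullback f').obj (Coh.structureModule S')
  let := FlatMod.moduleStalkOver g' P x'
  have : IsScalarTower (X.presheaf.stalk (g' x')) (X'.presheaf.stalk x') (P.presheaf.stalk x') :=
    .of_algebraMap_smul fun _ _ => rfl
  let e : X'.presheaf.stalk x' ≃ₗ[X'.presheaf.stalk x'] P.presheaf.stalk x' :=
    (TensorProduct.AlgebraTensorModule.rid (S'.presheaf.stalk (f' x')) (X'.presheaf.stalk x')
      (X'.presheaf.stalk x')).symm ≪≫ₗ
    TensorProduct.AlgebraTensorModule.congr (LinearEquiv.refl _ _) (Groth.RefRank.oneEquiv (f' x'))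
      ≪≫ₗ Groth.QCohMod.pullStalkEquiv f' (Coh.structureModule S') x'
  exact (Module.Flat.equiv_iff (e.restrictScalars (X.presheaf.stalk (g' x')))).2 h

/-- Flatness over the base descends along a base change flat at the point. -/
theorem isFlatOverAt_of_baseChange {f : X ⟶ S} {g : S' ⟶ S} {f' : X' ⟶ S'} {g' : X' ⟶ X}
    (H : IsPullback g' f' f g) (F : X.Modules) [F.IsQuasicoherent] (x' : X')
    (hg : (g.stalkMap (f' x')).hom.Flat)
    (h : FlatMod.IsFlatOverAt f' ((Scheme.Modules.pullback g').obj F) x') :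
    FlatMod.IsFlatOverAt f F (g' x') := by
  rw [Groth.Flatmor4.isFlatOverAt_pullback_iff g' f F x' (flat_stalkMap_baseChange H x' hg), H.w]
  let P := (Scheme.Modules.pullback g').obj F
  let := (g.stalkMap (f' x')).hom.toAlgebra
  let := FlatMod.moduleStalkOver f' P x'
  let := FlatMod.moduleStalkOver (f' ≫ g) P x'
  let : Module (S.presheaf.stalk (g (f' x'))) (P.presheaf.stalk x') :=
    FlatMod.moduleStalkOver (f' ≫ g) P x'
  have : IsScalarTower (S.presheaf.stalk (g (f' x'))) (S'.presheaf.stalk (f' x'))
      (P.presheaf.stalk x') := .of_algebraMap_smul fun r m => by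
    change f'.stalkMap x' (g.stalkMap (f' x') r) • m = (f' ≫ g).stalkMap x' r • m
    rw [Scheme.Hom.stalkMap_comp]
    rfl
  have : Module.Flat (S'.presheaf.stalk (f' x')) (P.presheaf.stalk x') := h
  have : Module.Flat (S.presheaf.stalk (g (f' x'))) (S'.presheaf.stalk (f' x')) := hg
  exact Module.Flat.trans (S.presheaf.stalk (g (f' x'))) (S'.presheaf.stalk (f' x')) _

end Groth.Misc13.FlatBC
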