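import Groth.Agent.Misc15.ProjPts
import Groth.Agent.Chow.AffineImm
import Groth.Agent.Variety2.ProjBasics

/-! Projective space over any base is smooth; affine pieces factor through it. -/

set_option autoImplicit false
set_option backward.isDefEq.respectTransparency.types false

universe u

open CategoryTheory CategoryTheory.Limits AlgebraicGeometry

namespace Groth.Misc13.ProjFactor

open Groth.Misc15.ProjPts

theorem smooth_projSpace_toSpec (n : ℕ) : Smooth (CohB1.ProjSpace.toSpec n Z.{u}) := by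
  let 𝒰 : (CohB1.ProjSpace n Z.{u}).OpenCover := Scheme.Cover.mkOfCovers (Fin (n + 1)) _
    (fun i => chartPt i Z.{u}) (fun x => by
      have hx : x ∈ (⨆ i : Fin (n + 1), D.{u} i) := by rw [iSup_basicOpen_X]; trivial
      obtain ⟨i, hi⟩ := TopologicalSpace.Opens.mem_iSup.mp hx
      have h : x ∈ Set.range (chartPt i Z.{u}) := by rw [range_chartPt]; exact hi
      obtain ⟨y, hy⟩ := h
      exact ⟨i, y, hy⟩) fun i => inferInstance
  refine IsZariskiLocalAtSource.of_openCover (P := @Smooth.{u}) 𝒰 fun i => ?_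
  have h : 𝒰.f i ≫ CohB1.ProjSpace.toSpec n Z.{u} =
      Spec.map (CommRingCat.ofHom (MvPolynomial.C : Z.{u} →+* MvPolynomial (Fin n) Z.{u})) :=
    specULiftZIsTerminal.hom_ext _ _
  rw [h]
  change Smooth (Spec.map (CommRingCat.ofHom (MvPolynomial.C : Z.{u} →+* MvPolynomial (Fin n) Z.{u})))
  rw [HasRingHomProperty.Spec_iff (P := @Smooth.{u}), CommRingCat.hom_ofHom,
    ← MvPolynomial.algebraMap_eq, RingHom.smooth_algebraMap]
  exact (⟨inferInstance, inferInstance⟩ : Algebra.Smooth Z.{u} (MvPolynomial (Fin n) Z.{u}))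

theorem smooth_projSpaceOver_toBase (n : ℕ) (S : Scheme.{u}) :
    Smooth (CohB1.ProjSpaceOver.toBase n S) :=
  MorphismProperty.pullback_snd (P := @Smooth.{u}) _ _ (smooth_projSpace_toSpec n)

theorem exists_factor {X Y : Scheme.{u}} (f : X ⟶ Y) [LocallyOfFiniteType f] [IsNoetherian X]
    (U : X.Opens) (hU : IsAffineOpen U) :
    ∃ (W P : Scheme.{u}) (g : (U : Scheme.{u}) ⟶ W) (h : W ⟶ P) (k : P ⟶ Y),
      IsOpenImmersion g ∧ IsClosedImmersion h ∧ Smooth k ∧ IsProper k ∧ g ≫ h ≫ k = U.ι ≫ f := by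
  have : IsAffine (U : Scheme.{u}) := hU
  obtain ⟨m, e, he, hef⟩ := Groth.Chow.exists_immersion_projSpaceOver (U.ι ≫ f)
  have : IsLocallyNoetherian (U : Scheme.{u}) :=
    LocallyOfFiniteType.isLocallyNoetherian U.ι
  have : IsNoetherian (U : Scheme.{u}) := {}
  have : QuasiCompact e := inferInstance
  refine ⟨_, _, e.toImage, e.imageι, CohB1.ProjSpaceOver.toBase m Y, inferInstance, inferInstance,
    smooth_projSpaceOver_toBase m Y, Groth.Variety2.isProper_projSpaceOver_toBase m Y, ?_⟩
  rw [e.toImage_imageι_assoc, hef]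

end Groth.Misc13.ProjFactor
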