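import Groth.Prelude.Def_SGA6
import Groth.Prelude.Def_DCoh4
import Groth.Agent.KTheory.Devissage
import Groth.Agent.KTheory.LambdaVb
import Groth.Agent.DerivedCoh.KFlat.SchemeStalk
import Groth.Agent.LocFree.SES
import Groth.Agent.PicAux.TensorLift
import Groth.Agent.QCohMod.Tensor

/-!
Classes in `K₀(Coh X)` with supports; nilpotence of `[V] - rank V`.
-/

set_option autoImplicit false
universe u

open CategoryTheory CategoryTheory.Limits AlgebraicGeometry TopologicalSpace ZeroObject

namespace Groth.Misc13.KNilp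

open Groth.CohTwo Groth.KTheory Groth.KTheory.Devissage Groth.QCohMod

variable {X : Scheme.{u}}

/-- The class of a module in `K₀(Coh X)`. -/
noncomputable abbrev kc (M : X.Modules) : SGA6.Kcoh X :=
  KZero.clSub (fun M : X.Modules => Coh.IsCoh M) M

/-- The classes of the coherent modules supported in `W`. -/
noncomputable def supSub (W : Set X) : AddSubgroup (SGA6.Kcoh X) :=
  AddSubgroup.closure {c | ∃ G : X.Modules, Coh.IsCoh G ∧ CohB1.support G ⊆ W ∧ c = kc G}

theorem mem_supSub {W : Set X} {G : X.Modules} (hG : Coh.IsCoh G) (h : CohB1.support G ⊆ W) :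
    kc G ∈ supSub W := AddSubgroup.subset_closure ⟨G, hG, h, rfl⟩

variable [IsNoetherian X]

/-- A morphism bijective on stalks outside `W` identifies classes modulo those supported in `W`. -/
theorem kc_sub_mem {M F : X.Modules} (hM : Coh.IsCoh M) (hF : Coh.IsCoh F) (a : M ⟶ F) (W : Set X)
    (ha : ∀ x ∉ W, Function.Bijective ((stalk x).map a)) {Z : Set X}
    (hMZ : CohB1.support M ⊆ Z) (hFZ : CohB1.support F ⊆ Z) :
    kc M - kc F ∈ supSub (Z ∩ W) := by
  have := hM.1
  have := hF.1
  have hK : Coh.IsCoh (kernel a) := Groth.QCohMod.isCoh_kernel a hM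
  have hC : Coh.IsCoh (cokernel a) := Groth.QCohMod.isCoh_cokernel a hF
  have hI : Coh.IsCoh (kernel (cokernel.π a)) :=
    haveI := hC.1
    Groth.QCohMod.isCoh_kernel (cokernel.π a) hF
  have hf : (ShortComplex.mk (kernel.ι (cokernel.π a)) (cokernel.π a) (kernel.condition _)).ShortExact :=
    { exact := ShortComplex.exact_of_f_is_kernel _ (kernelIsKernel _)
      mono_f := inferInstance
      epi_g := inferInstanceAs (Epi (cokernel.π a)) }
  have hk : (ShortComplex.mk (kernel.ι a) (Abelian.factorThruImage a) (by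
      rw [← cancel_mono (Abelian.image.ι a)]; simp)).ShortExact :=
    { exact := by
        apply ShortComplex.exact_of_f_is_kernel
        refine KernelFork.IsLimit.ofι' _ _ fun {W'} k h => ⟨kernel.lift a k ?_, kernel.lift_ι _ _ _⟩
        have := h =≫ Abelian.image.ι a
        simpa using this
      mono_f := inferInstance
      epi_g := inferInstance }
  have e2 := clSub_rel (P := fun M : X.Modules => Coh.IsCoh M) _ hf hI hF hC
  have e3 := clSub_rel (P := fun M : X.Modules => Coh.IsCoh M) _ hk hK hM hI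
  change kc F = kc (kernel (cokernel.π a)) + kc (cokernel a) at e2
  change kc M = kc (kernel a) + kc (kernel (cokernel.π a)) at e3
  have e : kc M - kc F = kc (kernel a) - kc (cokernel a) := by rw [e2, e3]; abel
  rw [e]
  refine sub_mem (mem_supSub hK fun x hx => ⟨hMZ (support_subset_of_mono (kernel.ι a) hx), ?_⟩)
    (mem_supSub hC fun x hx => ⟨hFZ (support_subset_of_epi (cokernel.π a) hx), ?_⟩)
  · by_contra hxW
    apply hx
    have hi : Function.Injective ((stalk x).map (kernel.ι a)) :=
      (mono_iff_stalk (kernel.ι a)).mp inferInstance x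
    refine ⟨fun s t => hi ((ha x hxW).1 ?_)⟩
    have hc : (stalk x).map (kernel.ι a) ≫ (stalk x).map a = 0 := by
      rw [← Functor.map_comp, kernel.condition, Functor.map_zero]
    exact (congr($hc s)).trans (congr($hc t)).symm
  · by_contra hxW
    exact subsingleton_cokernel_stalk a x (ha x hxW).2 hx

/-- Coherent modules with isomorphic stalks at `y` are related by a roof, bijective near `y`. -/
theorem exists_roof {M F : X.Modules} (hM : Coh.IsCoh M) (hF : Coh.IsCoh F) (y : X)
    (σ : ↑(M.presheaf.stalk y) →ₗ[X.presheaf.stalk y] ↑(F.presheaf.stalk y))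
    (hσ : Function.Bijective σ) :
    ∃ (N : X.Modules) (a : N ⟶ M) (b : N ⟶ F) (U : X.Opens), Coh.IsCoh N ∧ y ∈ U ∧
      ∀ x ∈ U, Function.Bijective ((stalk x).map a) ∧ Function.Bijective ((stalk x).map b) := by
  obtain ⟨J, γ, hyJ, -, hγ⟩ := exists_graft hM hF y σ hσ
  have hN := isCoh_idealMul J M hM
  obtain ⟨U₀, hyU₀, hU₀⟩ := exists_injective_nhd hN hF γ y hγ.1
  obtain ⟨U₁, hyU₁, hU₁⟩ := exists_surjective_nhd hN hF γ y hγ.2
  have := hM.1
  refine ⟨_, Dual3.idealMulι J M, γ, U₀ ⊓ U₁ ⊓ ⟨(J.support : Set X)ᶜ, J.support.2.isOpen_compl⟩, hN,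
    ⟨⟨hyU₀, hyU₁⟩, hyJ⟩, fun x hx => ⟨bijective_stalk_idealMulι J M hx.2,
      ⟨(AddCommGrpCat.mono_iff_injective _).1 (hU₀ x hx.1.1),
        (AddCommGrpCat.epi_iff_surjective _).1 (hU₁ x hx.1.2)⟩⟩⟩

section Tensor

variable (G : X.Modules)

/-- Tensoring with `G` on the right. -/
noncomputable abbrev tr : X.Modules ⥤ X.Modules := (DCoh.tensorBi (X := X)).flip.obj G

instance : (tr G).Additive where
  map_add {M N a b} := by
    show ((DCoh.tensorBi (X := X)).map (a + b)).app G = _
    rw [Functor.map_add, NatTrans.app_add]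
    rfl

omit [AlgebraicGeometry.IsNoetherian X] in
theorem bijective_tr_map {M N : X.Modules} (a : M ⟶ N) (x : X)
    (h : Function.Bijective ((stalk x).map a)) :
    Function.Bijective ((stalk x).map ((tr G).map a)) := by
  open Groth.DerivedCoh.KFlat in
  have h1 : IsIso ((forget₂ (ModuleCat.{u} (X.presheaf.stalk x)) AddCommGrpCat.{u}).map
      ((stk x).map a)) := (ConcreteCategory.isIso_iff_bijective _).2 h
  open Groth.DerivedCoh.KFlat in
  have h2 : IsIso ((stk x).map a) :=
    isIso_of_reflects_iso _ (forget₂ (ModuleCat.{u} (X.presheaf.stalk x)) AddCommGrpCat.{u})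
  open Groth.DerivedCoh.KFlat in
  have h3 : IsIso ((tr G ⋙ stk x).map a) :=
    (NatIso.isIso_map_iff (tensorFlipStkIso G x) a).2
      (Functor.map_isIso ((MonoidalCategory.tensorRight ((stk x).obj G))) _)
  open Groth.DerivedCoh.KFlat in
  exact (ConcreteCategory.isIso_iff_bijective
    ((forget₂ (ModuleCat.{u} (X.presheaf.stalk x)) AddCommGrpCat.{u}).map
      ((tr G ⋙ stk x).map a))).1 inferInstance

omit [AlgebraicGeometry.IsNoetherian X] in
theorem support_tr_subset (M : X.Modules) : CohB1.support ((tr G).obj M) ⊆ CohB1.support G := by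
  intro x hx hs
  apply hx
  have : Subsingleton (G.presheaf.stalk x) := hs
  have : Subsingleton (TensorProduct (X.presheaf.stalk x) (M.presheaf.stalk x) (G.presheaf.stalk x)) :=
    subsingleton_of_forall_eq 0 fun z => by
      induction z using TensorProduct.induction_on with
      | zero => rfl
      | tmul s t => rw [Subsingleton.elim t 0, TensorProduct.tmul_zero]
      | add p q hp hq => rw [hp, hq, add_zero]
  exact (Groth.QCohMod.stalkTensorEquiv M G x).surjective.subsingleton

omit [AlgebraicGeometry.IsNoetherian X] in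
theorem isCoh_tr {M : X.Modules} (hM : Coh.IsCoh M) (hG : Coh.IsCoh G) :
    Coh.IsCoh ((tr G).obj M) :=
  haveI := hM.1
  haveI := hG.1
  ⟨Groth.QCohMod.isQCoh_tensorMod, Groth.QCohMod.isFT_tensorMod hM.2 hG.2⟩

/-- `r` copies of the structure sheaf, tensored with `G`, have class `r • [G]`. -/
theorem exists_free (r : ℕ) : ∃ O : X.Modules, FlatMod.IsFinLocFreeOfRank r O ∧
    ∀ G : X.Modules, Coh.IsCoh G → kc ((tr G).obj O) = r • kc G := by
  induction r with
  | zero =>
    refine ⟨FlatMod.freeMod X 0, Groth.LocFree.isFinLocFreeOfRank_freeMod X 0, fun G hG => ?_⟩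
    have hc := isCoh_tr G (LocFree.isCoh (Groth.LocFree.isFinLocFree_freeMod X 0)) hG
    have hz : IsZero ((tr G).obj (FlatMod.freeMod X 0)) :=
      (tr G).map_isZero ((Groth.QCohMod.isZero_iff_support_eq_empty _).2 <|
        Set.eq_empty_iff_forall_notMem.2 fun x hx => hx (by
          have := Groth.LocFree.finite_stalk (Groth.LocFree.isFinLocFree_freeMod X 0) x
          have := LocFree.free_stalk (Groth.LocFree.isFinLocFree_freeMod X 0) x
          exact (Module.finBasisOfFinrankEq (X.presheaf.stalk x) _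
            (Groth.LocFree.finrank_stalk (Groth.LocFree.isFinLocFreeOfRank_freeMod X 0) x)).repr.toEquiv.subsingleton))
    rw [zero_smul]
    exact clSub_zero hz hc
  | succ r ih =>
    obtain ⟨O, hO, ih⟩ := ih
    have h1 := Groth.LocFree.isFinLocFreeOfRank_unit X
    have hb := Groth.LocFree.isFinLocFreeOfRank_biprod hO h1
    refine ⟨O ⊞ Coh.structureModule X, hb, fun G hG => ?_⟩
    have c1 := LocFree.isCoh (Groth.LocFree.isFinLocFree_of_rank hO)
    have c3 := LocFree.isCoh (Groth.LocFree.isFinLocFree_of_rank h1)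
    have c2 := LocFree.isCoh (Groth.LocFree.isFinLocFree_of_rank hb)
    let S : ShortComplex X.Modules :=
      ShortComplex.mk (biprod.inl : O ⟶ O ⊞ Coh.structureModule X) biprod.snd biprod.inl_snd
    let sp : S.Splitting :=
      { r := biprod.fst, s := biprod.inr, f_r := biprod.inl_fst, s_g := biprod.inr_snd, id := biprod.total }
    have hse : (S.map (tr G)).ShortExact := (sp.map (tr G)).shortExact
    have d1 := isCoh_tr G c1 hG
    have d2 := isCoh_tr G c2 hG
    have d3 := isCoh_tr G c3 hG
    have hrel : kc ((tr G).obj (O ⊞ Coh.structureModule X)) =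
        kc ((tr G).obj O) + kc ((tr G).obj (Coh.structureModule X)) :=
      clSub_rel (P := fun M : X.Modules => Coh.IsCoh M) (S.map (tr G)) hse d1 d2 d3
    obtain ⟨e, -⟩ := Groth.PicAux.exists_leftUnitor G
    have hz : IsZero ((tr G).obj (0 : X.Modules)) := (tr G).map_isZero (isZero_zero _)
    have he : kc ((tr G).obj (Coh.structureModule X)) = kc G :=
      clSub_iso (P := fun M : X.Modules => Coh.IsCoh M) e (isCoh_tr G c3 hG) hG hz (isCoh_of_isZero hz)
    rw [hrel, ih G hG, he, succ_nsmul]

end Tensor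

/-- The key step: `[V ⊗ G] - r [G]` is supported off an open on which `V` is trivial. -/
theorem exists_open_sub_mem {r : ℕ} {V : X.Modules} (hV : FlatMod.IsFinLocFreeOfRank r V) (y : X) :
    ∃ U : X.Opens, y ∈ U ∧ ∀ (Z : Set X) (G : X.Modules), Coh.IsCoh G → CohB1.support G ⊆ Z →
      kc ((tr G).obj V) - r • kc G ∈ supSub (Z ∩ (U : Set X)ᶜ) := by
  obtain ⟨O, hO, hOG⟩ := exists_free (X := X) r
  have hV' := Groth.LocFree.isFinLocFree_of_rank hV
  have hO' := Groth.LocFree.isFinLocFree_of_rank hO
  have := Groth.LocFree.finite_stalk hV' y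
  have := LocFree.free_stalk hV' y
  have := Groth.LocFree.finite_stalk hO' y
  have := LocFree.free_stalk hO' y
  let σ : O.presheaf.stalk y ≃ₗ[X.presheaf.stalk y] V.presheaf.stalk y :=
    LinearEquiv.ofFinrankEq _ _ (by
      rw [Groth.LocFree.finrank_stalk hO y, Groth.LocFree.finrank_stalk hV y])
  obtain ⟨N, a, b, U, hN, hyU, hU⟩ := exists_roof (LocFree.isCoh hO') (LocFree.isCoh hV') y
    σ.toLinearMap σ.bijective
  refine ⟨U, hyU, fun Z G hG hGZ => ?_⟩
  have hs : ∀ M : X.Modules, CohB1.support ((tr G).obj M) ⊆ Z := fun M =>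
    (support_tr_subset G M).trans hGZ
  have ha := kc_sub_mem (isCoh_tr G hN hG) (isCoh_tr G (LocFree.isCoh hO') hG) ((tr G).map a)
    (U : Set X)ᶜ (fun x hx => bijective_tr_map G a x (hU x (not_not.1 hx)).1) (hs N) (hs O)
  have hb := kc_sub_mem (isCoh_tr G hN hG) (isCoh_tr G (LocFree.isCoh hV') hG) ((tr G).map b)
    (U : Set X)ᶜ (fun x hx => bijective_tr_map G b x (hU x (not_not.1 hx)).2) (hs N) (hs V)
  rw [hOG G hG] at ha
  simpa using sub_mem ha hb

/-- An endomorphism acting on classes as `G ↦ V ⊗ G - r G` is nilpotent. -/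
theorem exists_iterate_eq_zero {r : ℕ} {V : X.Modules} (hV : FlatMod.IsFinLocFreeOfRank r V)
    (T : SGA6.Kcoh X →+ SGA6.Kcoh X)
    (hT : ∀ G, Coh.IsCoh G → T (kc G) = kc ((tr G).obj V) - r • kc G) :
    ∃ n : ℕ, ∀ y, (⇑T)^[n] y = 0 := by
  have key : ∀ Z : Closeds X, ∃ n : ℕ, ∀ c ∈ supSub (Z : Set X), (⇑T)^[n] c = 0 := by
    intro Z
    induction Z using WellFoundedLT.induction with
    | ind Z IH =>
    rcases (Z : Set X).eq_empty_or_nonempty with he | ⟨y, hy⟩
    · refine ⟨0, fun c hc => ?_⟩
      induction hc using AddSubgroup.closure_induction with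
      | mem c hc =>
        obtain ⟨G, hG, hs, rfl⟩ := hc
        exact clSub_zero ((Groth.QCohMod.isZero_iff_support_eq_empty G).mpr
          (Set.subset_empty_iff.mp (he ▸ hs))) hG
      | zero => exact iterate_map_zero T 0
      | add a b _ _ ha hb => rw [iterate_map_add, ha, hb, add_zero]
      | neg a _ ha => rw [iterate_map_neg, ha, neg_zero]
    obtain ⟨U, hyU, hU⟩ := exists_open_sub_mem hV y
    let Z' : Closeds X := ⟨(Z : Set X) ∩ (U : Set X)ᶜ, Z.2.inter U.2.isClosed_compl⟩
    obtain ⟨n, hn⟩ := IH Z' (lt_of_le_of_ne Set.inter_subset_left fun e => by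
      have : y ∈ (Z' : Set X) := e ▸ hy
      exact this.2 hyU)
    refine ⟨n + 1, fun c hc => ?_⟩
    induction hc using AddSubgroup.closure_induction with
    | mem c hc =>
      obtain ⟨G, hG, hs, rfl⟩ := hc
      rw [Function.iterate_succ_apply, hT G hG]
      exact hn _ (hU _ G hG hs)
    | zero => exact iterate_map_zero T _
    | add a b _ _ ha hb => rw [iterate_map_add, ha, hb, add_zero]
    | neg a _ ha => rw [iterate_map_neg, ha, neg_zero]
  obtain ⟨n, hn⟩ := key ⊤
  refine ⟨n, fun c => hn c ?_⟩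
  induction c using k0sub_induction with
  | h0 => exact zero_mem _
  | hcl G hG => exact mem_supSub hG (fun _ _ => trivial)
  | hadd a b ha hb => exact add_mem ha hb
  | hneg a ha => exact neg_mem ha

end Groth.Misc13.KNilp
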