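import Groth.Prelude.Def_ChowK
import Groth.Agent.Misc13.KNilp
import Groth.Agent.KTheory.ClosureSheaf
import Groth.Agent.RefRank.Divisor
import Groth.Agent.RefRank.Ext
import Groth.Agent.RefRank.LocFin

/-!
Rank one reflexive modules in `K₀(Coh_{≤n})/K₀(Coh_{≤b})`.
-/

set_option autoImplicit false
universe u

open CategoryTheory CategoryTheory.Limits AlgebraicGeometry TopologicalSpace ZeroObject

namespace Groth.Misc13.KRef1

open Groth.Misc13.KNilp Groth.KTheory Groth.KTheory.Devissage Groth.QCohMod Groth.RefRank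
open Groth.DerivedCoh.KFlat (stk)

variable {X : Scheme.{u}} [AlgebraicGeometry.IsNoetherian X] (δ : X → ℤ) (a b : ℤ)

theorem toQuot_zero {F : X.Modules} (h : Cyc.CohLe δ b F) : Cyc.toK0CohQuot δ a b F = 0 :=
  (QuotientAddGroup.eq_zero_iff _).2 (AddSubgroup.subset_closure ⟨F, h, rfl⟩)

variable {δ a b}

theorem toQuot_rel (ha : ∀ x, δ x ≤ a) (S : ShortComplex X.Modules) (hS : S.ShortExact)
    (h₁ : Coh.IsCoh S.X₁) (h₂ : Coh.IsCoh S.X₂) (h₃ : Coh.IsCoh S.X₃) :
    Cyc.toK0CohQuot δ a b S.X₂ = Cyc.toK0CohQuot δ a b S.X₁ + Cyc.toK0CohQuot δ a b S.X₃ :=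
  (congrArg QuotientAddGroup.mk (clSub_rel (P := Cyc.CohLe δ a) S hS ⟨h₁, fun x _ => ha x⟩
    ⟨h₂, fun x _ => ha x⟩ ⟨h₃, fun x _ => ha x⟩)).trans (QuotientAddGroup.mk_add _ _ _)

/-- The class map on `K₀(Coh X)`. -/
noncomputable def Φ (ha : ∀ x, δ x ≤ a) (b : ℤ) : SGA6.Kcoh X →+ Cyc.K0CohQuot δ a b :=
  liftSub (fun M : X.Modules => Coh.IsCoh M) (Cyc.toK0CohQuot δ a b)
    fun S hS h₁ h₂ h₃ => toQuot_rel ha S hS h₁ h₂ h₃

theorem Φ_kc (ha : ∀ x, δ x ≤ a) {M : X.Modules} (hM : Coh.IsCoh M) :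
    Φ ha b (kc M) = Cyc.toK0CohQuot δ a b M := liftSub_clSub _ _ hM

theorem Φ_supSub (ha : ∀ x, δ x ≤ a) {W : Set X} (hW : ∀ x ∈ W, δ x ≤ b) {c : SGA6.Kcoh X}
    (hc : c ∈ supSub W) : Φ ha b c = 0 := by
  induction hc using AddSubgroup.closure_induction with
  | mem c hc =>
    obtain ⟨G, hG, hs, rfl⟩ := hc
    rw [Φ_kc ha hG]
    exact toQuot_zero δ a b ⟨hG, fun x hx => hW x (hs (not_subsingleton_iff_nontrivial.2 hx))⟩
  | zero => exact map_zero _
  | add p q _ _ hp hq => rw [map_add, hp, hq, add_zero]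
  | neg p _ hp => rw [map_neg, hp, neg_zero]

theorem toQuot_eq_of_bijective (ha : ∀ x, δ x ≤ a) {M F : X.Modules} (hM : Coh.IsCoh M)
    (hF : Coh.IsCoh F) (φ : M ⟶ F)
    (hφ : ∀ x, b < δ x → Function.Bijective ((stalk x).map φ)) :
    Cyc.toK0CohQuot δ a b M = Cyc.toK0CohQuot δ a b F := by
  have h := kc_sub_mem hM hF φ {x | δ x ≤ b} (fun x hx => hφ x (not_le.1 hx))
    (Set.subset_univ _) (Set.subset_univ _)
  have h' := Φ_supSub ha (fun x hx => hx.2) h
  rwa [map_sub, Φ_kc ha hM, Φ_kc ha hF, sub_eq_zero] at h'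

theorem toQuot_iso (ha : ∀ x, δ x ≤ a) {A B : X.Modules} (f : A ≅ B) (hA : Coh.IsCoh A)
    (hB : Coh.IsCoh B) : Cyc.toK0CohQuot δ a b A = Cyc.toK0CohQuot δ a b B :=
  toQuot_eq_of_bijective ha hA hB f.hom fun x _ =>
    (ConcreteCategory.isIso_iff_bijective _).1 ((stalk x).map_isIso f.hom)

/-- Additivity for complexes which are short exact at the points of dimension `> b`. -/
theorem toQuot_rel_of_stalk (ha : ∀ x, δ x ≤ a) (S : ShortComplex X.Modules)
    (h₁ : Coh.IsCoh S.X₁) (h₂ : Coh.IsCoh S.X₂) (h₃ : Coh.IsCoh S.X₃)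
    (hS : ∀ x, b < δ x → (S.map (stalk x)).ShortExact) :
    Cyc.toK0CohQuot δ a b S.X₂ = Cyc.toK0CohQuot δ a b S.X₁ + Cyc.toK0CohQuot δ a b S.X₃ := by
  have := h₁.1
  have := h₂.1
  have := h₃.1
  have hK : Coh.IsCoh (kernel S.g) := Groth.QCohMod.isCoh_kernel S.g h₂
  have hC : Coh.IsCoh (cokernel S.g) := Groth.QCohMod.isCoh_cokernel S.g h₃
  have hI : Coh.IsCoh (kernel (cokernel.π S.g)) :=
    haveI := hC.1
    Groth.QCohMod.isCoh_kernel (cokernel.π S.g) h₃
  let j : S.X₁ ⟶ kernel S.g := kernel.lift S.g S.f S.zero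
  have e1 : Cyc.toK0CohQuot δ a b S.X₁ = Cyc.toK0CohQuot δ a b (kernel S.g) := by
    refine toQuot_eq_of_bijective ha h₁ hK j fun x hx => ?_
    have hex := hS x hx
    have hi : Function.Injective ((stalk x).map (kernel.ι S.g)) :=
      (mono_iff_stalk (kernel.ι S.g)).mp inferInstance x
    have hc : (stalk x).map j ≫ (stalk x).map (kernel.ι S.g) = (stalk x).map S.f := by
      rw [← Functor.map_comp, kernel.lift_ι]
    refine ⟨fun s t hst => ?_, fun t => ?_⟩
    · have hf := hex.mono_f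
      refine (AddCommGrpCat.mono_iff_injective _).1 hf ?_
      exact (congr($hc s)).symm.trans ((congrArg _ hst).trans (congr($hc t)))
    · have hexact := hex.exact
      rw [ShortComplex.ab_exact_iff] at hexact
      have hz : (stalk x).map (kernel.ι S.g) ≫ (stalk x).map S.g = 0 := by
        rw [← Functor.map_comp, kernel.condition, Functor.map_zero]
      obtain ⟨s, hs⟩ := hexact ((stalk x).map (kernel.ι S.g) t) (congr($hz t))
      exact ⟨s, hi ((congr($hc s)).trans hs)⟩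
  have e2 : Cyc.toK0CohQuot δ a b S.X₂ =
      Cyc.toK0CohQuot δ a b (kernel S.g) + Cyc.toK0CohQuot δ a b (Abelian.image S.g) :=
    toQuot_rel ha (ShortComplex.mk (kernel.ι S.g) (Abelian.factorThruImage S.g) (by
      rw [← cancel_mono (Abelian.image.ι S.g)]; simp))
      { exact := by
          apply ShortComplex.exact_of_f_is_kernel
          refine KernelFork.IsLimit.ofι' _ _ fun {W'} k h => ⟨kernel.lift S.g k ?_, kernel.lift_ι _ _ _⟩
          have := h =≫ Abelian.image.ι S.g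
          simpa using this
        mono_f := inferInstance
        epi_g := inferInstance } hK h₂ hI
  have e3 : Cyc.toK0CohQuot δ a b (Abelian.image S.g) = Cyc.toK0CohQuot δ a b S.X₃ := by
    refine toQuot_eq_of_bijective ha hI h₃ (Abelian.image.ι S.g) fun x hx =>
      ⟨(mono_iff_stalk (Abelian.image.ι S.g)).mp inferInstance x, fun t => ?_⟩
    obtain ⟨s, hs⟩ := (AddCommGrpCat.epi_iff_surjective _).1 (hS x hx).epi_g t
    have hc : (stalk x).map (Abelian.factorThruImage S.g) ≫ (stalk x).map (Abelian.image.ι S.g) =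
        (stalk x).map S.g := by
      rw [← Functor.map_comp, Abelian.image.fac]
    exact ⟨_, (congr($hc s)).trans hs⟩
  rw [e2, ← e1, e3]

/-- Tensoring with a module free at `x` is exact at `x`. -/
theorem shortExact_tr_stalk {L : X.Modules} (x : X)
    [Module.Free (X.presheaf.stalk x) (L.presheaf.stalk x)] (S : ShortComplex X.Modules)
    (hS : S.ShortExact) : ((S.map (tr L)).map (stalk x)).ShortExact := by
  have : Module.Flat (X.presheaf.stalk x) ((stk x).obj L) :=
    inferInstanceAs (Module.Flat (X.presheaf.stalk x) (L.presheaf.stalk x))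
  have : PreservesFiniteColimits (MonoidalCategory.tensorRight ((stk x).obj L)) :=
    preservesFiniteColimits_of_natIso (BraidedCategory.tensorLeftIsoTensorRight ((stk x).obj L))
  have : PreservesFiniteLimits (MonoidalCategory.tensorRight ((stk x).obj L)) :=
    preservesFiniteLimits_of_natIso (BraidedCategory.tensorLeftIsoTensorRight ((stk x).obj L))
  have h : ((S.map (tr L)).map (stk x)).ShortExact :=
    ShortComplex.shortExact_of_iso (S.mapNatIso (Groth.DerivedCoh.KFlat.tensorFlipStkIso L x)).symm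
      (((Groth.DerivedCoh.KFlat.shortExact_iff_stk S).1 hS x).map_of_exact
        (MonoidalCategory.tensorRight ((stk x).obj L)))
  exact h.map_of_exact (forget₂ (ModuleCat.{u} (X.presheaf.stalk x)) AddCommGrpCat.{u})

theorem tw_rel (ha : ∀ x, δ x ≤ a) {L : X.Modules} (hL : Coh.IsCoh L)
    (hfree : ∀ x, b < δ x → Module.Free (X.presheaf.stalk x) (L.presheaf.stalk x))
    (S : ShortComplex X.Modules) (hS : S.ShortExact) (h₁ : Coh.IsCoh S.X₁) (h₂ : Coh.IsCoh S.X₂)
    (h₃ : Coh.IsCoh S.X₃) :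
    Cyc.toK0CohQuot δ a b ((tr L).obj S.X₂) =
      Cyc.toK0CohQuot δ a b ((tr L).obj S.X₁) + Cyc.toK0CohQuot δ a b ((tr L).obj S.X₃) := by
  have d₁ := isCoh_tr L h₁ hL
  have d₂ := isCoh_tr L h₂ hL
  have d₃ := isCoh_tr L h₃ hL
  exact toQuot_rel_of_stalk (b := b) ha (S.map (tr L)) d₁ d₂ d₃
    fun x hx => haveI := hfree x hx; shortExact_tr_stalk x S hS

variable (δ a b) in
/-- `G ↦ [G ⊗ L] - [G]` on objects. -/
noncomputable def twistFun (L G : X.Modules) : Cyc.K0CohQuot δ a b :=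
  Cyc.toK0CohQuot δ a b ((tr L).obj G) - Cyc.toK0CohQuot δ a b G

theorem twistFun_rel (ha : ∀ x, δ x ≤ a) {L : X.Modules} (hL : Coh.IsCoh L)
    (hfree : ∀ x, b < δ x → Module.Free (X.presheaf.stalk x) (L.presheaf.stalk x))
    (S : ShortComplex X.Modules) (hS : S.ShortExact) (h₁ : Coh.IsCoh S.X₁) (h₂ : Coh.IsCoh S.X₂)
    (h₃ : Coh.IsCoh S.X₃) :
    twistFun δ a b L S.X₂ = twistFun δ a b L S.X₁ + twistFun δ a b L S.X₃ := by
  unfold twistFun
  rw [tw_rel ha hL hfree S hS h₁ h₂ h₃, toQuot_rel (b := b) ha S hS h₁ h₂ h₃]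
  abel

/-- `G ↦ [G ⊗ L] - [G]`, for `L` free at the points of dimension `> b`. -/
noncomputable def twist (ha : ∀ x, δ x ≤ a) {L : X.Modules} (hL : Coh.IsCoh L)
    (hfree : ∀ x, b < δ x → Module.Free (X.presheaf.stalk x) (L.presheaf.stalk x)) :
    SGA6.Kcoh X →+ Cyc.K0CohQuot δ a b :=
  liftSub (fun M : X.Modules => Coh.IsCoh M) (twistFun δ a b L)
    fun S hS h₁ h₂ h₃ => twistFun_rel ha hL hfree S hS h₁ h₂ h₃

theorem twist_kc (ha : ∀ x, δ x ≤ a) {L : X.Modules} (hL : Coh.IsCoh L)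
    (hfree : ∀ x, b < δ x → Module.Free (X.presheaf.stalk x) (L.presheaf.stalk x)) {G : X.Modules}
    (hG : Coh.IsCoh G) : twist ha hL hfree (kc G) =
      Cyc.toK0CohQuot δ a b ((tr L).obj G) - Cyc.toK0CohQuot δ a b G :=
  liftSub_clSub _ _ hG

section Rank1

variable [IsIntegral X]

theorem lt_delta_of_specializes (hδ : Cyc.IsDimFun X δ) {x y : X} (h : x ⤳ y) (hne : x ≠ y) :
    δ y < δ x := (hδ x y h hne).1

theorem delta_le_gen (hδ : Cyc.IsDimFun X δ) (x : X) : δ x ≤ δ (genericPoint ↥X) := by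
  by_cases h : genericPoint ↥X = x
  · rw [h]
  · exact (lt_delta_of_specializes hδ (genericPoint_specializes x) h).le

/-- At a point of dimension at least `dim X - 1` a reflexive module of rank one has a basis. -/
theorem exists_basis_of_delta (hX : Pi1.IsNormalScheme X) (hδ : Cyc.IsDimFun X δ) {L : X.Modules}
    (hL : RefHull.IsRef1 L) {x : X} (hx : δ (genericPoint ↥X) - 1 ≤ δ x) :
    ∃ t, IsStalkBasis L x t := by
  have h1 := isRankOne_of_genInvertible hL.2.2
  by_cases he : x = genericPoint ↥X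
  · subst he
    exact h1
  refine exists_isStalkBasis hX hL.1 hL.2.1 h1 ((coheight_eq_one_iff x).1 (le_antisymm ?_ ?_))
  · refine Order.coheight_le fun p hp => ?_
    by_contra hlen
    have h2 : 2 ≤ p.length := by
      rw [not_le] at hlen
      exact_mod_cast Order.add_one_le_of_lt hlen
    have key : ∀ i j : Fin (p.length + 1), i < j → δ (p i) < δ (p j) := fun i j hij => by
      have h := p.strictMono hij
      exact lt_delta_of_specializes hδ (Scheme.le_iff_specializes.1 h.le) h.ne'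
    have a1 := key 0 ⟨1, by omega⟩ (by simp [Fin.lt_def])
    have a2 := key ⟨1, by omega⟩ ⟨2, by omega⟩ (by simp [Fin.lt_def])
    have a3 := delta_le_gen hδ (p ⟨2, by omega⟩)
    have a0 : p 0 = x := hp
    rw [a0] at a1
    omega
  · refine Order.one_le_iff_ne_zero.2 fun h0 => he ?_
    exact (((genSpec x).antisymm (Scheme.le_iff_specializes.mp
      (Order.coheight_eq_zero.mp h0 (le_of_specializes (genSpec x))))).eq).symm

theorem free_of_basis {L : X.Modules} {x : X} {t : L.presheaf.stalk x} (h : IsStalkBasis L x t) :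
    Module.Free (X.presheaf.stalk x) (L.presheaf.stalk x) :=
  Module.Free.of_equiv (LinearEquiv.ofBijective (LinearMap.toSpanSingleton _ _ t) h)

/-- A roof between `O` and `L` at a point where `L` has a basis. -/
theorem exists_roof_unit {L : X.Modules} (hL : Coh.IsCoh L) {y : X} {t : L.presheaf.stalk y}
    (ht : IsStalkBasis L y t) :
    ∃ (N : X.Modules) (a : N ⟶ Coh.structureModule X) (c : N ⟶ L) (U : X.Opens), Coh.IsCoh N ∧
      y ∈ U ∧ ∀ x ∈ U, Function.Bijective ((stalk x).map a) ∧ Function.Bijective ((stalk x).map c) :=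
  exists_roof Groth.QCohMod.isCoh_unit hL y
    ((oneEquiv y).symm.trans (LinearEquiv.ofBijective (LinearMap.toSpanSingleton _ _ t) ht)).toLinearMap
    (LinearEquiv.bijective _)

variable (hX : Pi1.IsNormalScheme X) (hδ : Cyc.IsDimFun X δ)
include hX hδ

theorem sub_mem_supSub {L : X.Modules} (hL : RefHull.IsRef1 L) :
    ∃ W : Set X, IsClosed W ∧ genericPoint ↥X ∉ W ∧
      kc L - kc (Coh.structureModule X) ∈ supSub W := by
  obtain ⟨t, ht⟩ := exists_basis_of_delta hX hδ hL (x := genericPoint ↥X) (by omega)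
  obtain ⟨N, e, c, U, hN, hη, hU⟩ := exists_roof_unit hL.1 ht
  refine ⟨(U : Set X)ᶜ, U.2.isClosed_compl, not_not.2 hη, ?_⟩
  have h1 := kc_sub_mem hN Groth.QCohMod.isCoh_unit e (U : Set X)ᶜ (fun x hx => (hU x (not_not.1 hx)).1)
    (Set.subset_univ _) (Set.subset_univ _)
  have h2 := kc_sub_mem hN hL.1 c (U : Set X)ᶜ (fun x hx => (hU x (not_not.1 hx)).2)
    (Set.subset_univ _) (Set.subset_univ _)
  rw [Set.univ_inter] at h1 h2
  simpa using sub_mem h1 h2

theorem toQuot_unit_eq {L : X.Modules} (hL : RefHull.IsRef1 L) {n : ℤ}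
    (hn : δ (genericPoint ↥X) = n) :
    Cyc.toK0CohQuot δ n (n - 1) (Coh.structureModule X) = Cyc.toK0CohQuot δ n (n - 1) L := by
  have ha : ∀ x, δ x ≤ n := fun x => hn ▸ delta_le_gen hδ x
  obtain ⟨W, -, hW, h⟩ := sub_mem_supSub hX hδ hL
  have h' := Φ_supSub (b := n - 1) ha (fun x hx => by
    have := lt_delta_of_specializes hδ (genericPoint_specializes x) (fun e => hW (e ▸ hx))
    omega) h
  rw [map_sub, Φ_kc ha hL.1, Φ_kc ha Groth.QCohMod.isCoh_unit, sub_eq_zero] at h'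
  exact h'.symm

omit hX in
/-- `[F ⊗ L] = [F]` for the structure sheaf `F` of the closure of a point other than the generic one. -/
theorem twist_closureStructureSheaf {L₂ : X.Modules} (h₂ : RefHull.IsRef1 L₂) {n : ℤ}
    (hn : δ (genericPoint ↥X) = n) (good : ∀ x, n - 2 < δ x → ∃ t, IsStalkBasis L₂ x t) {y : X}
    (hyη : y ≠ genericPoint ↥X) :
    Cyc.toK0CohQuot δ n (n - 2) ((tr L₂).obj (Cyc.closureStructureSheaf y)) =
      Cyc.toK0CohQuot δ n (n - 2) (Cyc.closureStructureSheaf y) := by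
  have ha : ∀ x, δ x ≤ n := fun x => hn ▸ delta_le_gen hδ x
  have hF := isCoh_closureStructureSheaf (x := y)
  have hs := support_closureStructureSheaf_subset (x := y)
  have hcl : ∀ x ∈ closure ({y} : Set X), x ≠ y → δ x < δ y := fun x hx hne =>
    lt_delta_of_specializes hδ (specializes_iff_mem_closure.2 hx) hne.symm
  have hle : ∀ x ∈ closure ({y} : Set X), δ x ≤ δ y := fun x hx => by
    by_cases hne : x = y
    · rw [hne]
    · exact (hcl x hx hne).le
  by_cases hy' : δ y ≤ n - 2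
  · rw [← Φ_kc ha (isCoh_tr L₂ hF h₂.1), ← Φ_kc ha hF]
    have hW' : ∀ x ∈ closure ({y} : Set X), δ x ≤ n - 2 := fun x hx => (hle x hx).trans hy'
    rw [Φ_supSub ha hW' (mem_supSub hF hs), Φ_supSub ha hW' (mem_supSub (isCoh_tr L₂ hF h₂.1) ?_)]
    intro x hx
    refine hs fun h0 => hx ?_
    have : Subsingleton ((Cyc.closureStructureSheaf y).presheaf.stalk x) := h0
    have : Subsingleton (TensorProduct (X.presheaf.stalk x)
        ((Cyc.closureStructureSheaf y).presheaf.stalk x) (L₂.presheaf.stalk x)) :=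
      subsingleton_of_forall_eq 0 fun z => by
        induction z using TensorProduct.induction_on with
        | zero => rfl
        | tmul p q => rw [Subsingleton.elim p 0, TensorProduct.zero_tmul]
        | add p q hp hq => rw [hp, hq, add_zero]
    exact (Groth.QCohMod.stalkTensorEquiv _ L₂ x).surjective.subsingleton
  · obtain ⟨t, ht⟩ := good y (not_le.1 hy')
    obtain ⟨N, e, c, U, hN, hyU, hU⟩ := exists_roof_unit h₂.1 ht
    set F := Cyc.closureStructureSheaf y
    have hyδ : δ y < δ (genericPoint ↥X) :=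
      lt_delta_of_specializes hδ (genericPoint_specializes y) hyη.symm
    -- compare `N ⊗ F ⟶ O ⊗ F` and `N ⊗ F ⟶ L₂ ⊗ F`
    have hz : ∀ x ∈ closure ({y} : Set X) ∩ (U : Set X)ᶜ, δ x ≤ n - 2 := fun x hx => by
      have := hcl x hx.1 fun e => hx.2 (e ▸ hyU)
      omega
    have hsupp : ∀ M : X.Modules, CohB1.support ((tr F).obj M) ⊆ closure ({y} : Set X) :=
      fun M => (support_tr_subset F M).trans hs
    have k1 := Φ_supSub ha hz (kc_sub_mem (isCoh_tr F hN hF) (isCoh_tr F Groth.QCohMod.isCoh_unit hF)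
      ((tr F).map e) (U : Set X)ᶜ
      (fun x hx => bijective_tr_map F e x (hU x (not_not.1 hx)).1) (hsupp _) (hsupp _))
    have k2 := Φ_supSub ha hz (kc_sub_mem (isCoh_tr F hN hF) (isCoh_tr F h₂.1 hF)
      ((tr F).map c) (U : Set X)ᶜ
      (fun x hx => bijective_tr_map F c x (hU x (not_not.1 hx)).2) (hsupp _) (hsupp _))
    rw [map_sub, Φ_kc ha (isCoh_tr F hN hF), sub_eq_zero] at k1 k2
    rw [Φ_kc ha (isCoh_tr F Groth.QCohMod.isCoh_unit hF)] at k1
    rw [Φ_kc ha (isCoh_tr F h₂.1 hF)] at k2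
    obtain ⟨i, -⟩ := Groth.PicAux.exists_leftUnitor F
    obtain ⟨j, -⟩ := Groth.PicAux.exists_braiding L₂ F
    have a1 : Coh.IsCoh (CohB1.tensorMod F L₂) := isCoh_tensorMod hF h₂.1
    have a2 : Coh.IsCoh (CohB1.tensorMod L₂ F) := isCoh_tensorMod h₂.1 hF
    have a3 : Coh.IsCoh (CohB1.tensorMod (Coh.structureModule X) F) :=
      isCoh_tensorMod Groth.QCohMod.isCoh_unit hF
    have q1 : Cyc.toK0CohQuot δ n (n - 2) (CohB1.tensorMod L₂ F) =
        Cyc.toK0CohQuot δ n (n - 2) (CohB1.tensorMod F L₂) := toQuot_iso ha j a2 a1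
    have q2 : Cyc.toK0CohQuot δ n (n - 2) (CohB1.tensorMod (Coh.structureModule X) F) =
        Cyc.toK0CohQuot δ n (n - 2) F := toQuot_iso ha i a3 hF
    exact q1.symm.trans ((k2.symm.trans k1).trans q2)

omit hX in
theorem toQuot_refTensor_eq {L₁ L₂ : X.Modules} (h₁ : RefHull.IsRef1 L₁) (h₂ : RefHull.IsRef1 L₂)
    {n : ℤ} (hn : δ (genericPoint ↥X) = n) (g₁ : ∀ x, n - 2 < δ x → ∃ t, IsStalkBasis L₁ x t)
    (g₂ : ∀ x, n - 2 < δ x → ∃ t, IsStalkBasis L₂ x t) :
    Cyc.toK0CohQuot δ n (n - 2) ((tr L₂).obj L₁) =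
      Cyc.toK0CohQuot δ n (n - 2) (RefPow.refTensor L₁ L₂) := by
  have ha : ∀ x, δ x ≤ n := fun x => hn ▸ delta_le_gen hδ x
  have hc := isCoh_tensorMod h₁.1 h₂.1
  refine toQuot_eq_of_bijective ha hc (isCoh_ddual hc) (RefPow.toRefTensor L₁ L₂) fun x hx => ?_
  obtain ⟨t₁, ht₁⟩ := g₁ x hx
  obtain ⟨t₂, ht₂⟩ := g₂ x hx
  have hb := isStalkBasis_tensor ht₁ ht₂
  have := free_of_basis hb
  have : Module.Finite (X.presheaf.stalk x) ((CohB1.tensorMod L₁ L₂).presheaf.stalk x) :=
    finite_stalkModule hc x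
  exact (bijective_bidual_iff hc x).2 (inferInstanceAs (Module.IsReflexive _ _))

theorem toQuot_refTensor_add {L₁ L₂ : X.Modules} (h₁ : RefHull.IsRef1 L₁) (h₂ : RefHull.IsRef1 L₂)
    {n : ℤ} (hn : δ (genericPoint ↥X) = n) :
    Cyc.toK0CohQuot δ n (n - 2) (RefPow.refTensor L₁ L₂) +
        Cyc.toK0CohQuot δ n (n - 2) (Coh.structureModule X) =
      Cyc.toK0CohQuot δ n (n - 2) L₁ + Cyc.toK0CohQuot δ n (n - 2) L₂ := by
  have ha : ∀ x, δ x ≤ n := fun x => hn ▸ delta_le_gen hδ x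
  have good : ∀ {L : X.Modules}, RefHull.IsRef1 L → ∀ x, n - 2 < δ x →
      ∃ t, IsStalkBasis L x t := fun hL x hx => exists_basis_of_delta hX hδ hL (by omega)
  have hfree : ∀ x, n - 2 < δ x → Module.Free (X.presheaf.stalk x) (L₂.presheaf.stalk x) :=
    fun x hx => free_of_basis (good h₂ x hx).choose_spec
  let T := twist ha h₂.1 hfree
  obtain ⟨W, hWc, hW, h⟩ := sub_mem_supSub hX hδ h₁
  have hT : ∀ c ∈ supSub W, T c = 0 := by
    intro c hc
    let ι : KZero.K0sub (cohSupp W) →+ SGA6.Kcoh X :=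
      liftSub (cohSupp W) kc fun S hS h₁ h₂ h₃ => clSub_rel S hS h₁.1 h₂.1 h₃.1
    have htop : (T.comp ι).ker = ⊤ := by
      refine closure_eq_top W hWc _ fun y hy => ?_
      refine ⟨_, isCoh_closureStructureSheaf (x := y), support_closureStructureSheaf_subset (x := y),
        length_closureStructureSheaf (x := y), ?_⟩
      have hF := isCoh_closureStructureSheaf (x := y)
      have hs := support_closureStructureSheaf_subset (x := y)
      rw [AddMonoidHom.mem_ker, AddMonoidHom.comp_apply, liftSub_clSub _ _ ⟨hF, hs.trans hy⟩,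
        twist_kc ha h₂.1 hfree hF, sub_eq_zero]
      exact twist_closureStructureSheaf hδ h₂ hn (good h₂) fun e => hW (e ▸ hy (subset_closure rfl))
    induction hc using AddSubgroup.closure_induction with
    | mem c hc =>
      obtain ⟨G, hG, hs, rfl⟩ := hc
      have hG' : KZero.clSub (cohSupp W) G ∈ (T.comp ι).ker := htop ▸ AddSubgroup.mem_top _
      rw [AddMonoidHom.mem_ker, AddMonoidHom.comp_apply, liftSub_clSub _ _ ⟨hG, hs⟩] at hG'
      exact hG'
    | zero => exact map_zero _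
    | add p q _ _ hp hq => rw [map_add, hp, hq, add_zero]
    | neg p _ hp => rw [map_neg, hp, neg_zero]
  have hmain := hT _ h
  rw [map_sub, twist_kc ha h₂.1 hfree h₁.1, twist_kc ha h₂.1 hfree Groth.QCohMod.isCoh_unit,
    sub_eq_zero] at hmain
  obtain ⟨i, -⟩ := Groth.PicAux.exists_leftUnitor L₂
  have e1 : Cyc.toK0CohQuot δ n (n - 2) ((tr L₂).obj (Coh.structureModule X)) =
      Cyc.toK0CohQuot δ n (n - 2) L₂ :=
    toQuot_iso ha i (isCoh_tensorMod Groth.QCohMod.isCoh_unit h₂.1) h₂.1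
  have e2 := toQuot_refTensor_eq hδ h₁ h₂ hn (good h₁) (good h₂)
  rw [e1, e2, sub_eq_sub_iff_add_eq_add] at hmain
  rw [hmain]
  abel

end Rank1

end Groth.Misc13.KRef1
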