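import Groth.Prelude.Def_FGA
import Groth.Agent.Misc13.KRef1
import Groth.Agent.PicAux.InverseInvertible
import Mathlib.Data.Finset.Sort
import Mathlib.Data.Fintype.Powerset

/-!
First Chern class operators on `K₀(Coh X)`: they lower the dimension of supports; alternating sums.
-/

set_option autoImplicit false
universe u

open CategoryTheory CategoryTheory.Limits AlgebraicGeometry TopologicalSpace ZeroObject

namespace Groth.Misc13.KC1

open Groth.CohTwo (isClosed_support)
open Groth.Misc13.KNilp Groth.KTheory Groth.KTheory.Devissage Groth.QCohMod Groth.RefRank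

variable {X : Scheme.{u}} [AlgebraicGeometry.IsNoetherian X]

local notation "CP" => (fun M : X.Modules => Coh.IsCoh M)

theorem kc_iso {A B : X.Modules} (f : A ≅ B) (hA : Coh.IsCoh A) (hB : Coh.IsCoh B) : kc A = kc B :=
  clSub_iso (P := CP) f hA hB (isZero_zero _) (isCoh_of_isZero (isZero_zero _))

omit [AlgebraicGeometry.IsNoetherian X] in
theorem supSub_mono {W W' : Set X} (h : W ⊆ W') {c : SGA6.Kcoh X} (hc : c ∈ supSub W) :
    c ∈ supSub W' :=
  AddSubgroup.closure_mono (fun d hd => by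
    obtain ⟨G, h1, h2, rfl⟩ := hd
    exact ⟨G, h1, h2.trans h, rfl⟩) hc

theorem isFLF_of_invertible {M : X.Modules} (hM : PicF.IsInvertible M) : FlatMod.IsFinLocFree M :=
  Groth.LocFree.isFinLocFree_of_rank (Groth.LocFree.isInvertible_iff_ofRank_one.1 hM)

theorem isCoh_of_invertible {M : X.Modules} (hM : PicF.IsInvertible M) : Coh.IsCoh M :=
  LocFree.isCoh (isFLF_of_invertible hM)

theorem tensor_rel {M : X.Modules} (hM : PicF.IsInvertible M) (S : ShortComplex X.Modules)
    (hS : S.ShortExact) (h₁ : Coh.IsCoh S.X₁) (h₂ : Coh.IsCoh S.X₂) (h₃ : Coh.IsCoh S.X₃) :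
    kc (CohB1.tensorMod M S.X₂) = kc (CohB1.tensorMod M S.X₁) + kc (CohB1.tensorMod M S.X₃) := by
  have := h₁.1
  have := h₂.1
  have := h₃.1
  have hc := isCoh_of_invertible hM
  exact clSub_rel (P := CP) _ (Groth.KTheory.LambdaVb.shortExact_tensor (isFLF_of_invertible hM) hS)
    (isCoh_tensorMod hc h₁) (isCoh_tensorMod hc h₂) (isCoh_tensorMod hc h₃)

/-- `[G] - [M ⊗ G]` on objects. -/
noncomputable def c1Fun (M G : X.Modules) : SGA6.Kcoh X := kc G - kc (CohB1.tensorMod M G)

theorem c1Fun_rel {M : X.Modules} (hM : PicF.IsInvertible M) (S : ShortComplex X.Modules)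
    (hS : S.ShortExact) (h₁ : Coh.IsCoh S.X₁) (h₂ : Coh.IsCoh S.X₂) (h₃ : Coh.IsCoh S.X₃) :
    c1Fun M S.X₂ = c1Fun M S.X₁ + c1Fun M S.X₃ := by
  unfold c1Fun
  have e : kc S.X₂ = kc S.X₁ + kc S.X₃ := clSub_rel (P := CP) S hS h₁ h₂ h₃
  rw [tensor_rel hM S hS h₁ h₂ h₃, e]
  abel

/-- The operator `G ↦ [G] - [M ⊗ G]`. -/
noncomputable def c1 {M : X.Modules} (hM : PicF.IsInvertible M) : SGA6.Kcoh X →+ SGA6.Kcoh X :=
  liftSub CP (c1Fun M) fun S hS h₁ h₂ h₃ => c1Fun_rel hM S hS h₁ h₂ h₃

theorem c1_kc {M : X.Modules} (hM : PicF.IsInvertible M) {G : X.Modules} (hG : Coh.IsCoh G) :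
    c1 hM (kc G) = kc G - kc (CohB1.tensorMod M G) := liftSub_clSub _ _ hG

theorem c1_congr {M M' : X.Modules} (e : M = M') (hM : PicF.IsInvertible M)
    (hM' : PicF.IsInvertible M') : c1 hM = c1 hM' := by subst e; rfl

theorem c1_tensor {A B : X.Modules} (hA : PicF.IsInvertible A) (hB : PicF.IsInvertible B)
    (hAB : PicF.IsInvertible (CohB1.tensorMod A B)) :
    c1 hAB = c1 hA + c1 hB - (c1 hA).comp (c1 hB) := by
  refine k0sub_hom_ext fun G hG => ?_
  have cA := isCoh_of_invertible hA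
  have cB := isCoh_of_invertible hB
  have hBG := isCoh_tensorMod cB hG
  change c1 hAB (kc G) = c1 hA (kc G) + c1 hB (kc G) - c1 hA (c1 hB (kc G))
  rw [c1_kc hAB hG, c1_kc hA hG, c1_kc hB hG, map_sub, c1_kc hA hG, c1_kc hA hBG,
    kc_iso (Groth.PicAux.exists_associator A B G).choose (isCoh_tensorMod (isCoh_tensorMod cA cB) hG)
      (isCoh_tensorMod cA hBG)]
  abel

section Delta

variable [IsIntegral X] {δ : X → ℤ} (hδ : Cyc.IsDimFun X δ)
include hδ

theorem c1_mem {M : X.Modules} (hM : PicF.IsInvertible M) (m : ℤ) {c : SGA6.Kcoh X}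
    (hc : c ∈ supSub {x | δ x ≤ m}) : c1 hM c ∈ supSub {x | δ x ≤ m - 1} := by
  induction hc using AddSubgroup.closure_induction with
  | zero => rw [map_zero]; exact zero_mem _
  | add p q _ _ hp hq => rw [map_add]; exact add_mem hp hq
  | neg p _ hp => rw [map_neg]; exact neg_mem hp
  | mem c hc =>
    obtain ⟨G, hG, hs, rfl⟩ := hc
    have hMc := isCoh_of_invertible hM
    have hGc : IsClosed (CohB1.support G) := isClosed_support G hG
    let ι : KZero.K0sub (cohSupp (CohB1.support G)) →+ SGA6.Kcoh X :=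
      liftSub (cohSupp (CohB1.support G)) kc fun S hS h₁ h₂ h₃ => clSub_rel S hS h₁.1 h₂.1 h₃.1
    have htop : (supSub {x | δ x ≤ m - 1}).comap ((c1 hM).comp ι) = ⊤ := by
      refine closure_eq_top (CohB1.support G) hGc _ fun y hy => ?_
      have hF := isCoh_closureStructureSheaf (x := y)
      have hFs := support_closureStructureSheaf_subset (x := y)
      refine ⟨_, hF, hFs, length_closureStructureSheaf (x := y), ?_⟩
      rw [AddSubgroup.mem_comap, AddMonoidHom.comp_apply, liftSub_clSub _ _ ⟨hF, hFs.trans hy⟩,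
        c1_kc hM hF]
      obtain ⟨W, s, hyW, hsW⟩ := (Groth.PicAux.isInvertible_iff_exists_gen M).1 hM y
      obtain ⟨N, e, c, U, hN, hyU, hU⟩ := KRef1.exists_roof_unit hMc (isStalkBasis_germ_of_gen hsW hyW)
      set F := Cyc.closureStructureSheaf y
      have hsupp : ∀ L : X.Modules, CohB1.support ((tr F).obj L) ⊆ closure ({y} : Set X) :=
        fun L => (support_tr_subset F L).trans hFs
      have hz : closure ({y} : Set X) ∩ (U : Set X)ᶜ ⊆ {x | δ x ≤ m - 1} := fun x hx => by
        have h1 : δ x < δ y := (hδ y x (specializes_iff_mem_closure.2 hx.1) fun e => hx.2 (e ▸ hyU)).1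
        have h2 : δ y ≤ m := hs (hy (subset_closure rfl))
        show δ x ≤ m - 1
        omega
      have hmono : supSub (closure ({y} : Set X) ∩ (U : Set X)ᶜ) ≤ supSub {x | δ x ≤ m - 1} :=
        AddSubgroup.closure_mono fun d hd => by
          obtain ⟨G', h1, h2, rfl⟩ := hd
          exact ⟨G', h1, h2.trans hz, rfl⟩
      have k1 := hmono (kc_sub_mem (isCoh_tr F hN hF) (isCoh_tr F Groth.QCohMod.isCoh_unit hF)
        ((tr F).map e) (U : Set X)ᶜ
        (fun x hx => bijective_tr_map F e x (hU x (not_not.1 hx)).1) (hsupp _) (hsupp _))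
      have k2 := hmono (kc_sub_mem (isCoh_tr F hN hF) (isCoh_tr F hMc hF)
        ((tr F).map c) (U : Set X)ᶜ
        (fun x hx => bijective_tr_map F c x (hU x (not_not.1 hx)).2) (hsupp _) (hsupp _))
      have hi : kc ((tr F).obj (Coh.structureModule X)) = kc F :=
        kc_iso (Groth.PicAux.exists_leftUnitor F).choose
          (isCoh_tensorMod Groth.QCohMod.isCoh_unit hF) hF
      rw [hi] at k1
      have k3 := sub_mem k1 k2
      rw [sub_sub_sub_cancel_left] at k3
      have k4 := neg_mem k3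
      rw [neg_sub] at k4
      exact k4
    have hG' : KZero.clSub (cohSupp (CohB1.support G)) G ∈
        (supSub {x | δ x ≤ m - 1}).comap ((c1 hM).comp ι) := htop ▸ AddSubgroup.mem_top _
    rw [AddSubgroup.mem_comap, AddMonoidHom.comp_apply, liftSub_clSub _ _ ⟨hG, subset_rfl⟩] at hG'
    exact hG'

theorem delta_nonneg (n : ℕ) (hdim : topologicalKrullDim X = (n : ℕ))
    (hn : δ (genericPoint ↥X) = n) (x : X) : 0 ≤ δ x := by
  have key : ∀ (d : ℕ) (x : X), δ (genericPoint ↥X) - δ x ≤ d →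
      δ (genericPoint ↥X) - δ x ≤ 0 ∨
        ∃ p : LTSeries X, p.head = x ∧ δ (genericPoint ↥X) - δ x ≤ p.length := by
    intro d
    induction d with
    | zero => intro x hx; exact Or.inl hx
    | succ d ih =>
      intro x hx
      by_cases he : genericPoint ↥X = x
      · left; rw [← he]; omega
      right
      classical
      let Z : Set ℤ := {t | ∃ z : X, z ⤳ x ∧ z ≠ x ∧ δ z = t}
      obtain ⟨t, ⟨z, hzx, hne, rfl⟩, hmin⟩ := Int.exists_least_of_bdd (P := (· ∈ Z))
        ⟨δ x, fun t ⟨z, hz, hne, ht⟩ => ht ▸ (hδ z x hz hne).1.le⟩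
        ⟨δ (genericPoint ↥X), _, genericPoint_specializes x, he, rfl⟩
      have hstep : δ z = δ x + 1 := by
        refine (hδ z x hzx hne).2 fun w hzw hwx => ?_
        by_contra hw
        push Not at hw
        have h1 : δ w < δ z := (hδ z w hzw hw.1.symm).1
        have h2 : δ z ≤ δ w := hmin _ ⟨w, hwx, hw.2, rfl⟩
        omega
      have hlt : x < z := lt_of_le_not_ge (Scheme.le_iff_specializes.2 hzx) fun h' =>
        hne ((Scheme.le_iff_specializes.1 h').antisymm hzx).eq.symm
      rcases ih z (by omega) with h0 | ⟨p, hp, hlen⟩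
      · refine ⟨(RelSeries.singleton _ z).cons x hlt, RelSeries.head_cons _ _ _, ?_⟩
        show δ (genericPoint ↥X) - δ x ≤ ((1 : ℕ) : ℤ)
        omega
      · refine ⟨p.cons x (by rw [hp]; exact hlt), RelSeries.head_cons _ _ _, ?_⟩
        simp [RelSeries.cons_length]
        omega
  have hk : Order.krullDim ↥X = (n : ℕ) :=
    (Order.krullDim_eq_of_orderIso (irreducibleSetEquivPoints (α := ↥X))).symm.trans hdim
  have hle := KRef1.delta_le_gen hδ x
  rcases key (δ (genericPoint ↥X) - δ x).toNat x (by omega) with h | ⟨p, -, hp⟩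
  · omega
  · have h2 : (p.length : WithBot ℕ∞) ≤ (n : ℕ) := (le_iSup (fun q : LTSeries ↥X => (q.length : WithBot ℕ∞)) p).trans_eq hk
    have h3 : p.length ≤ n := by exact_mod_cast h2
    omega

end Delta

section AltSum

theorem isInvertible_tensorList (l : List X.Modules) (h : ∀ M ∈ l, PicF.IsInvertible M) :
    PicF.IsInvertible (FGA.tensorList l) := by
  induction l with
  | nil => exact Groth.LocFree.isInvertible_iff_ofRank_one.2 (Groth.LocFree.isFinLocFreeOfRank_unit X)
  | cons A l ih =>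
    refine Groth.LocFree.isInvertible_iff_ofRank_one.2 ?_
    exact Groth.LocFree.isFinLocFreeOfRank_tensorMod
      (Groth.LocFree.isInvertible_iff_ofRank_one.1 (h A (by simp)))
      (Groth.LocFree.isInvertible_iff_ofRank_one.1 (ih fun M hM => h M (by simp [hM])))

theorem sort_map_succ {n : ℕ} (I : Finset (Fin n)) :
    (I.map (Fin.succEmb n)).sort (· ≤ ·) = (I.sort (· ≤ ·)).map Fin.succ := by
  refine List.Perm.eq_of_pairwise' (r := (· ≤ ·)) (Finset.pairwise_sort _ _)
    ((Finset.pairwise_sort I _).map _ fun a b h => Fin.succ_le_succ_iff.2 h) ?_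
  rw [← Multiset.coe_eq_coe, Finset.sort_eq, ← Multiset.map_coe, Finset.sort_eq]
  rfl

theorem sum_finset_fin_succ {n : ℕ} {β : Type*} [AddCommMonoid β] (f : Finset (Fin (n + 1)) → β) :
    ∑ I, f I = ∑ I : Finset (Fin n), f (I.map (Fin.succEmb n)) +
      ∑ I : Finset (Fin n), f (insert 0 (I.map (Fin.succEmb n))) := by
  classical
  refine ((Fintype.sum_bijective (Sum.elim (fun I : Finset (Fin n) => I.map (Fin.succEmb n))
    (fun I => insert 0 (I.map (Fin.succEmb n)))) ⟨?_, fun J => ?_⟩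
    (Sum.elim (fun I : Finset (Fin n) => f (I.map (Fin.succEmb n)))
      (fun I : Finset (Fin n) => f (insert 0 (I.map (Fin.succEmb n)))))
    f (by rintro (I | I) <;> rfl)).symm).trans (Fintype.sum_sum_type _)
  · have h0 : ∀ I : Finset (Fin n), (0 : Fin (n + 1)) ∉ I.map (Fin.succEmb n) := fun I => by simp
    have hmap := Finset.map_injective (Fin.succEmb n)
    rintro (I | I) (I' | I') h <;> dsimp at h
    · rw [hmap h]
    · exact absurd (h ▸ Finset.mem_insert_self _ _) (h0 I)
    · exact absurd (h.symm ▸ Finset.mem_insert_self _ _) (h0 I')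
    · have := congrArg (fun J : Finset (Fin (n + 1)) => J.erase 0) h
      simp only [Finset.erase_insert (h0 I), Finset.erase_insert (h0 I')] at this
      rw [hmap this]
  · let I := J.preimage Fin.succ (Fin.succ_injective n).injOn
    by_cases h : (0 : Fin (n + 1)) ∈ J
    · refine ⟨Sum.inr I, Finset.ext fun a => ?_⟩
      induction a using Fin.cases <;> simp [I, h, Fin.succ_ne_zero]
    · refine ⟨Sum.inl I, Finset.ext fun a => ?_⟩
      induction a using Fin.cases <;> simp [I, h]

theorem sort_insert_zero {n : ℕ} (I : Finset (Fin n)) :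
    (insert 0 (I.map (Fin.succEmb n))).sort (· ≤ ·) = 0 :: (I.sort (· ≤ ·)).map Fin.succ := by
  rw [Finset.sort_insert _ (fun b _ => Fin.zero_le b) (by simp), sort_map_succ]

/-- The product of the operators attached to a family. -/
noncomputable def prodC1 : {n : ℕ} → (M : Fin n → X.Modules) → (∀ i, PicF.IsInvertible (M i)) →
    SGA6.Kcoh X →+ SGA6.Kcoh X
  | 0, _, _ => AddMonoidHom.id _
  | _ + 1, M, h => (prodC1 (fun i => M i.succ) fun i => h i.succ).comp (c1 (h 0))

theorem altSum_eq {n : ℕ} (M : Fin n → X.Modules) (h : ∀ i, PicF.IsInvertible (M i)) :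
    ∀ (G : X.Modules), Coh.IsCoh G → ∑ I : Finset (Fin n), ((-1 : ℤ) ^ I.card) •
      kc (CohB1.tensorMod (FGA.tensorList ((I.sort (· ≤ ·)).map M)) G) = prodC1 M h (kc G) := by
  induction n with
  | zero =>
    intro G hG
    simp only [Finset.univ_unique, Finset.sum_singleton]
    have he : (default : Finset (Fin 0)) = ∅ := Subsingleton.elim _ _
    rw [he, Finset.card_empty, pow_zero, one_smul, Finset.sort_empty, List.map_nil]
    exact kc_iso (Groth.PicAux.exists_leftUnitor G).choose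
      (isCoh_tensorMod Groth.QCohMod.isCoh_unit hG) hG
  | succ n ih =>
    intro G hG
    have cM := isCoh_of_invertible (h 0)
    have hMG := isCoh_tensorMod cM hG
    have hT : ∀ I : Finset (Fin n), Coh.IsCoh
        (FGA.tensorList ((I.sort (· ≤ ·)).map fun i => M i.succ)) := fun I =>
      isCoh_of_invertible (isInvertible_tensorList _ fun N hN => by
        obtain ⟨i, -, rfl⟩ := List.mem_map.1 hN
        exact h _)
    change _ = prodC1 (fun i => M i.succ) _ (c1 (h 0) (kc G))
    rw [c1_kc (h 0) hG, map_sub, ← ih _ _ G hG, ← ih _ _ _ hMG, sum_finset_fin_succ,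
      sub_eq_add_neg, ← Finset.sum_neg_distrib]
    refine congrArg₂ (· + ·) (Finset.sum_congr rfl fun I _ => ?_) (Finset.sum_congr rfl fun I _ => ?_)
    · rw [Finset.card_map, sort_map_succ, List.map_map]
      rfl
    · rw [Finset.card_insert_of_notMem (by simp), Finset.card_map, sort_insert_zero, List.map_cons,
        List.map_map, pow_succ, mul_neg_one, neg_smul, neg_inj]
      congr 1
      let T := FGA.tensorList ((I.sort (· ≤ ·)).map fun i => M i.succ)
      exact (kc_iso (Groth.PicAux.exists_associator T (M 0) G).choose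
          (isCoh_tensorMod (isCoh_tensorMod (hT I) cM) hG) (isCoh_tensorMod (hT I) hMG)).symm.trans
        (kc_iso (((DCoh.tensorBi (X := X)).mapIso (Groth.PicAux.exists_braiding T (M 0)).choose).app G)
          (isCoh_tensorMod (isCoh_tensorMod (hT I) cM) hG) (isCoh_tensorMod (isCoh_tensorMod cM (hT I)) hG)) |>.symm

theorem prodC1_mem [IsIntegral X] {δ : X → ℤ} (hδ : Cyc.IsDimFun X δ) {n : ℕ} (M : Fin n → X.Modules)
    (h : ∀ i, PicF.IsInvertible (M i)) : ∀ (m : ℤ) (c : SGA6.Kcoh X), c ∈ supSub {x | δ x ≤ m} →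
      prodC1 M h c ∈ supSub {x | δ x ≤ m - n} := by
  induction n with
  | zero => intro m c hc; simpa [prodC1] using hc
  | succ n ih =>
    intro m c hc
    have h' := ih (fun i => M i.succ) (fun i => h i.succ) _ _ (c1_mem hδ (h 0) m hc)
    rw [show m - ((n + 1 : ℕ) : ℤ) = m - 1 - n by push_cast; ring]
    exact h'

theorem supSub_eq_bot {W : Set X} (hW : W = ∅) {c : SGA6.Kcoh X} (hc : c ∈ supSub W) : c = 0 := by
  induction hc using AddSubgroup.closure_induction with
  | mem c hc =>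
    obtain ⟨G, hG, hs, rfl⟩ := hc
    exact clSub_zero ((Groth.QCohMod.isZero_iff_support_eq_empty G).mpr
      (Set.subset_empty_iff.mp (hW ▸ hs))) hG
  | zero => rfl
  | add p q _ _ hp hq => rw [hp, hq, add_zero]
  | neg p _ hp => rw [hp, neg_zero]

end AltSum

section Ref

variable [IsIntegral X] {δ : X → ℤ} (hδ : Cyc.IsDimFun X δ)
include hδ

/-- The map to classes for `Coh_{≤ a}` when that is all coherent modules. -/
noncomputable def toLe {a : ℤ} (ha : δ (genericPoint ↥X) = a) :
    SGA6.Kcoh X →+ KZero.K0sub (Cyc.CohLe δ a) :=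
  liftSub CP (KZero.clSub (Cyc.CohLe δ a)) fun S hS h₁ h₂ h₃ =>
    clSub_rel S hS ⟨h₁, fun x _ => ha ▸ KRef1.delta_le_gen hδ x⟩
      ⟨h₂, fun x _ => ha ▸ KRef1.delta_le_gen hδ x⟩ ⟨h₃, fun x _ => ha ▸ KRef1.delta_le_gen hδ x⟩

theorem toLe_kc {a : ℤ} (ha : δ (genericPoint ↥X) = a) {G : X.Modules} (hG : Coh.IsCoh G) :
    toLe hδ ha (kc G) = KZero.clSub (Cyc.CohLe δ a) G := liftSub_clSub _ _ hG

/-- Alternating sum of `[M_I ⊗ O] - [M_I ⊗ L]` as a product of operators. -/
theorem altSum_sub {n : ℕ} (M : Fin n → X.Modules) (h : ∀ i, PicF.IsInvertible (M i))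
    {β : Type (u + 1)} [AddCommGroup β] (f : X.Modules → β) (Φ : SGA6.Kcoh X →+ β)
    (hΦ : ∀ G, Coh.IsCoh G → Φ (kc G) = f G) {L : X.Modules} (hL : Coh.IsCoh L) :
    ∑ I : Finset (Fin n), ((-1 : ℤ) ^ I.card) •
      (f (CohB1.tensorMod (FGA.tensorList ((I.sort (· ≤ ·)).map M)) (Coh.structureModule X)) -
        f (CohB1.tensorMod (FGA.tensorList ((I.sort (· ≤ ·)).map M)) L)) =
      Φ (prodC1 M h (kc (Coh.structureModule X) - kc L)) := by
  rw [map_sub, ← altSum_eq M h _ Groth.QCohMod.isCoh_unit, ← altSum_eq M h _ hL,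
    ← Finset.sum_sub_distrib, map_sum]
  refine Finset.sum_congr rfl fun I _ => ?_
  have hT : Coh.IsCoh (FGA.tensorList ((I.sort (· ≤ ·)).map M)) :=
    isCoh_of_invertible (isInvertible_tensorList _ fun N hN => by
      obtain ⟨i, -, rfl⟩ := List.mem_map.1 hN
      exact h _)
  rw [map_sub, map_zsmul, map_zsmul, hΦ _ (isCoh_tensorMod hT Groth.QCohMod.isCoh_unit),
    hΦ _ (isCoh_tensorMod hT hL), ← smul_sub]

theorem unit_sub_mem (hX : Pi1.IsNormalScheme X) {L : X.Modules} (hL : RefHull.IsRef1 L) :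
    kc (Coh.structureModule X) - kc L ∈ supSub {x | δ x ≤ δ (genericPoint ↥X) - 1} := by
  obtain ⟨W, -, hW, h⟩ := KRef1.sub_mem_supSub hX hδ hL
  have hW' : W ⊆ {x | δ x ≤ δ (genericPoint ↥X) - 1} := fun x hx => by
    have := KRef1.lt_delta_of_specializes hδ (genericPoint_specializes x) fun e => hW (e ▸ hx)
    show δ x ≤ δ (genericPoint ↥X) - 1
    omega
  have h' := neg_mem (supSub_mono hW' h)
  rw [neg_sub] at h'
  exact h'

/-- The map back to `K₀(Coh X)`. -/
noncomputable def ofLe (a : ℤ) : KZero.K0sub (Cyc.CohLe δ a) →+ SGA6.Kcoh X :=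
  liftSub (Cyc.CohLe δ a) kc fun S hS h₁ h₂ h₃ => clSub_rel S hS h₁.1 h₂.1 h₃.1

theorem refTensor_sub_mem (hX : Pi1.IsNormalScheme X) {L₁ L₂ : X.Modules} (h₁ : RefHull.IsRef1 L₁)
    (h₂ : RefHull.IsRef1 L₂) :
    (kc L₁ + kc L₂) - (kc (RefPow.refTensor L₁ L₂) + kc (Coh.structureModule X)) ∈
      supSub {x | δ x ≤ δ (genericPoint ↥X) - 2} := by
  have h := KRef1.toQuot_refTensor_add hX hδ h₁ h₂ rfl
  unfold Cyc.toK0CohQuot at h
  rw [← QuotientAddGroup.mk_add, ← QuotientAddGroup.mk_add, eq_comm,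
    QuotientAddGroup.eq_iff_sub_mem] at h
  have key : ∀ e ∈ AddSubgroup.closure {c : KZero.K0sub (Cyc.CohLe δ (δ (genericPoint ↥X))) |
      ∃ F : X.Modules, Cyc.CohLe δ (δ (genericPoint ↥X) - 2) F ∧
        c = KZero.clSub (Cyc.CohLe δ (δ (genericPoint ↥X))) F},
      ofLe (δ := δ) _ e ∈ supSub {x | δ x ≤ δ (genericPoint ↥X) - 2} := by
    intro e he
    induction he using AddSubgroup.closure_induction with
    | mem c hc =>
      obtain ⟨F, hF, rfl⟩ := hc
      rw [show ofLe (δ := δ) _ (KZero.clSub (Cyc.CohLe δ (δ (genericPoint ↥X))) F) = kc F from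
        liftSub_clSub _ _ ⟨hF.1, fun x _ => KRef1.delta_le_gen hδ x⟩]
      exact mem_supSub hF.1 fun x hx => hF.2 x (not_subsingleton_iff_nontrivial.1 hx)
    | zero => rw [map_zero]; exact zero_mem _
    | add p q _ _ hp hq => rw [map_add]; exact add_mem hp hq
    | neg p _ hp => rw [map_neg]; exact neg_mem hp
  have c : ∀ {G : X.Modules}, Coh.IsCoh G →
      ofLe (δ := δ) _ (KZero.clSub (Cyc.CohLe δ (δ (genericPoint ↥X))) G) = kc G := fun hG =>
    liftSub_clSub _ _ ⟨hG, fun x _ => KRef1.delta_le_gen hδ x⟩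
  have h' := key _ h
  rwa [map_sub, map_add, map_add, c h₁.1, c h₂.1, c Groth.QCohMod.isCoh_unit,
    c (isCoh_ddual (isCoh_tensorMod h₁.1 h₂.1))] at h'

end Ref

end Groth.Misc13.KC1
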