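import Groth.Prelude.Def_RefPow
import Groth.Prelude.Def_Cyc
import Groth.Agent.Misc13.KC1
import Groth.Agent.EulerDeg.Coherent
import Groth.Agent.Inter.Vanishing
import Groth.Agent.Variety2.DimPoints
import Groth.Agent.Variety2.DimScheme
import Groth.Agent.Variety2.ProjBasics

/-!
The intersection numbers `FGA.intNum` as Euler characteristics of products of first Chern class
operators on `K₀(Coh X)`.
-/

set_option autoImplicit false
universe u

open CategoryTheory CategoryTheory.Limits AlgebraicGeometry TopologicalSpace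

namespace Groth.Misc13.KInt

open Groth.Misc13.KNilp Groth.Misc13.KC1 Groth.KTheory Groth.KTheory.Devissage Groth.QCohMod Groth.RefRank

section Chi

variable (k : Type u) [Field k] {X : Scheme.{u}} [X.Over (Spec (CommRingCat.of k))]
  [IsProper (X ↘ Spec (CommRingCat.of k))] [AlgebraicGeometry.IsNoetherian X]
  {d : ℕ} (hd : topologicalKrullDim X ≤ (d : ℕ))

include hd in
omit [IsProper (X ↘ Spec (CommRingCat.of k))] [X.Over (Spec (CommRingCat.of k))] in
theorem subsingleton_HH (M : X.Modules) (n : ℕ) (hn : d < n) : Subsingleton (Coh.HH X M n) :=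
  have hN : NoetherianSpace X := inferInstance
  @Groth.Inter.Vanishing.subsingleton_H_of_dim_le X.toTopCat hN d hd (Coh.toAb M) n hn

include hd in
omit [IsProper (X ↘ Spec (CommRingCat.of k))] in
theorem eulerCharLE_eq {M : X.Modules} :
    FGA.eulerCharLE k X M d = Curv2.euler k X M := by
  rw [Groth.EulerDeg.euler_eq_sum (N := d + 1) fun n hn => subsingleton_HH hd M n (by omega)]
  rfl

include hd in
theorem eulerCharLE_add (S : ShortComplex X.Modules) (hS : S.ShortExact) (h₁ : Coh.IsCoh S.X₁)
    (h₃ : Coh.IsCoh S.X₃) :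
    FGA.eulerCharLE k X S.X₂ d = FGA.eulerCharLE k X S.X₁ d + FGA.eulerCharLE k X S.X₃ d := by
  rw [eulerCharLE_eq k hd, eulerCharLE_eq k hd, eulerCharLE_eq k hd]
  exact Groth.EulerDeg.euler_add hS (Groth.EulerDeg.finCoh k X h₁) (Groth.EulerDeg.finCoh k X h₃)

/-- The Euler characteristic on `K₀(Coh X)`. -/
noncomputable def chi : SGA6.Kcoh X →+ ℤ :=
  liftSub (fun M : X.Modules => Coh.IsCoh M) (fun G => FGA.eulerCharLE k X G d)
    fun S hS h₁ _ h₃ => eulerCharLE_add k hd S hS h₁ h₃

theorem chi_kc {G : X.Modules} (hG : Coh.IsCoh G) :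
    chi k hd (kc G) = FGA.eulerCharLE k X G d := liftSub_clSub _ _ hG

/-- Intersection numbers as Euler characteristics. -/
theorem intNum_eq {n : ℕ} (M : Fin n → X.Modules) (hM : ∀ i, PicF.IsInvertible (M i))
    {F : X.Modules} (hF : Coh.IsCoh F) :
    FGA.intNum k X d M F = chi k hd (prodC1 M hM (kc F)) := by
  rw [← altSum_eq M hM F hF, map_sum]
  refine Finset.sum_congr rfl fun I _ => ?_
  have hT : Coh.IsCoh (FGA.tensorList ((I.sort (· ≤ ·)).map M)) :=
    isCoh_of_invertible (isInvertible_tensorList _ fun N hN => by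
      obtain ⟨i, -, rfl⟩ := List.mem_map.1 hN
      exact hM _)
  rw [map_zsmul, chi_kc k hd (isCoh_tensorMod hT hF), smul_eq_mul]

end Chi

section Delta

variable (X : Scheme.{u})

/-- The height of a point in the specialization order. -/
noncomputable def dimFn : X → ℤ := fun x => ((Order.height x).toNat : ℤ)

variable {X} {k : Type u} [Field k] (f : X ⟶ Spec (CommRingCat.of k)) [LocallyOfFiniteType f]

include f in
theorem isDimFun_dimFn : Cyc.IsDimFun X (dimFn X) := by
  intro x y hxy hne
  have hlt : y < x := Groth.Variety2.Dim.lt_iff.2 ⟨hxy, hne.symm⟩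
  have hy := Groth.Variety2.Dim.height_ne_top f y
  have hx := Groth.Variety2.Dim.height_ne_top f x
  obtain ⟨a, ha⟩ := ENat.ne_top_iff_exists.1 hy
  obtain ⟨b, hb⟩ := ENat.ne_top_iff_exists.1 hx
  have h1 : Order.height y < Order.height x := Order.height_strictMono hlt (lt_top_iff_ne_top.2 hy)
  refine ⟨?_, fun hz => ?_⟩
  · simp only [dimFn]
    rw [← ha, ← hb] at h1 ⊢
    simpa using h1
  · have hcov : y ⋖ x := ⟨hlt, fun z h h' => by
      obtain ⟨h₁, h₂⟩ := Groth.Variety2.Dim.lt_iff.1 h
      obtain ⟨h₃, h₄⟩ := Groth.Variety2.Dim.lt_iff.1 h'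
      rcases hz z h₃ h₁ with e | e
      · exact h₄ e
      · exact h₂ e.symm⟩
    have h2 := Groth.Variety2.Dim.height_eq_of_covBy f hcov
    simp only [dimFn]
    rw [h2, ← ha]
    rfl

theorem dimFn_genericPoint [IrreducibleSpace X] {n : ℕ} (h : topologicalKrullDim X = (n : ℕ)) :
    dimFn X (genericPoint ↥X) = n := by
  rw [Groth.Variety2.Dim.dim_eq_height_genericPoint] at h
  have : Order.height (genericPoint ↥X) = (n : ℕ∞) := by exact_mod_cast h
  simp [dimFn, this]

end Delta

section Analysis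

open Filter Topology

theorem tendsto_affine_div (a b : ℝ) :
    Tendsto (fun m : ℕ => (a + (m : ℝ) * b) / (m : ℝ) ^ 2) atTop (𝓝 0) := by
  have h1 : Tendsto (fun m : ℕ => ((m : ℝ))⁻¹) atTop (𝓝 0) := tendsto_inv_atTop_nhds_zero_nat
  have h2 := ((h1.mul h1).const_mul a).add (h1.const_mul b)
  simp only [mul_zero, add_zero] at h2
  refine h2.congr' ?_
  filter_upwards [eventually_gt_atTop 0] with m hm
  have : (m : ℝ) ≠ 0 := by exact_mod_cast hm.ne'
  field_simp

/-- Two eventually equal limits of sequences agreeing up to an affine function. -/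
theorem eq_of_affine {u v : ℕ → ℝ} {a b x y : ℝ} (hu : Tendsto u atTop (𝓝 x))
    (hv : Tendsto v atTop (𝓝 y)) (h : ∀ m : ℕ, 0 < m → u m = v m + (a + (m : ℝ) * b) / (m : ℝ) ^ 2) :
    x = y := by
  have h2 := hv.add (tendsto_affine_div a b)
  rw [add_zero] at h2
  exact tendsto_nhds_unique (hu.congr' (by filter_upwards [eventually_gt_atTop 0] with m hm; exact h m hm)) h2

end Analysis

end Groth.Misc13.KInt
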