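import Groth.Prelude.Def_Pic
import Groth.Agent.PicAux.Pullback

/-! Functoriality of `PicF.pullCl` and of `PicF.XTmap`. -/

set_option autoImplicit false

universe u

open CategoryTheory CategoryTheory.Limits AlgebraicGeometry

noncomputable section

namespace Groth.Misc13.PicCl

theorem pullCl_comp {X Y Z : Scheme.{u}} (f : X ⟶ Y) (g : Y ⟶ Z) (c : PicF.Cl Z) :
    PicF.pullCl f (PicF.pullCl g c) = PicF.pullCl (f ≫ g) c := by
  induction c using Quot.ind with
  | mk L => exact Quot.sound ⟨(Scheme.Modules.pullbackComp f g).app L⟩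

theorem pullCl_congr {X Y : Scheme.{u}} {f g : X ⟶ Y} (h : f = g) (c : PicF.Cl Y) :
    PicF.pullCl f c = PicF.pullCl g c := by rw [h]

theorem pullCl_id {X : Scheme.{u}} (c : PicF.Cl X) : PicF.pullCl (𝟙 X) c = c := by
  induction c using Quot.ind with
  | mk L => exact Quot.sound ⟨(Scheme.Modules.pullbackId X).app L⟩

theorem pullCl_iso_cancel {X Y : Scheme.{u}} (e : X ≅ Y) (c : PicF.Cl Y) :
    PicF.pullCl e.inv (PicF.pullCl e.hom c) = c := by
  rw [pullCl_comp, pullCl_congr e.inv_hom_id, pullCl_id]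

theorem pullCl_iso_cancel' {X Y : Scheme.{u}} (e : X ≅ Y) (c : PicF.Cl X) :
    PicF.pullCl e.hom (PicF.pullCl e.inv c) = c := by
  rw [pullCl_comp, pullCl_congr e.hom_inv_id, pullCl_id]

theorem isInvertibleCl_pull {X Y : Scheme.{u}} (f : X ⟶ Y) {c : PicF.Cl Y} (h : PicF.IsInvertibleCl c) :
    PicF.IsInvertibleCl (PicF.pullCl f c) := by
  obtain ⟨L, rfl, hL⟩ := h
  exact ⟨_, rfl, Groth.PicAux.isInvertible_pullback f hL⟩

@[reassoc]
theorem XTmap_fst {X S : Scheme.{u}} (f : X ⟶ S) {T T' : Over S} (g : T' ⟶ T) :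
    PicF.XTmap f g ≫ pullback.fst f T.hom = pullback.fst f T'.hom :=
  (pullback.lift_fst _ _ _).trans (Category.comp_id _)

@[reassoc]
theorem XTmap_snd {X S : Scheme.{u}} (f : X ⟶ S) {T T' : Over S} (g : T' ⟶ T) :
    PicF.XTmap f g ≫ pullback.snd f T.hom = pullback.snd f T'.hom ≫ g.left :=
  pullback.lift_snd _ _ _

theorem XTmap_comp {X S : Scheme.{u}} (f : X ⟶ S) {T T' T'' : Over S} (g : T' ⟶ T) (h : T'' ⟶ T') :
    PicF.XTmap f (h ≫ g) = PicF.XTmap f h ≫ PicF.XTmap f g := by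
  apply pullback.hom_ext <;>
    simp only [Category.assoc, XTmap_fst, XTmap_snd, XTmap_snd_assoc, Over.comp_left]

theorem baseChange_sq {X S S' : Scheme.{u}} (f : X ⟶ S) (g : S' ⟶ S) {T T' : Over S'} (h : T' ⟶ T)
    (k : Over.mk (T'.hom ≫ g) ⟶ Over.mk (T.hom ≫ g)) (hk : k.left = h.left) :
    PicF.XTmap (pullback.snd f g) h ≫ (pullbackLeftPullbackSndIso f g T.hom).hom =
      (pullbackLeftPullbackSndIso f g T'.hom).hom ≫ PicF.XTmap f k := by
  apply pullback.hom_ext
  · rw [Category.assoc, Category.assoc, pullbackLeftPullbackSndIso_hom_fst, XTmap_fst_assoc]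
    exact ((congrArg (fun m => _ ≫ m) (XTmap_fst f k)).trans (pullbackLeftPullbackSndIso_hom_fst _ _ _)).symm
  · rw [Category.assoc, Category.assoc, pullbackLeftPullbackSndIso_hom_snd, XTmap_snd]
    refine ((congrArg (fun m => _ ≫ m) (XTmap_snd f k)).trans ?_).symm
    exact (pullbackLeftPullbackSndIso_hom_snd_assoc _ _ _ _).trans (congrArg (fun m => _ ≫ m) hk)

end Groth.Misc13.PicCl
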