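import Groth.Prelude.Def_W4c4chowquasisplitNorm
import Mathlib.AlgebraicGeometry.Morphisms.ClosedImmersion
import Mathlib.AlgebraicGeometry.Morphisms.Affine

/-! If `X` has a `k`-morphism to `Spec F` for some `F ≠ k`, the norm subgroup is everything. -/

set_option autoImplicit false

universe u

open CategoryTheory AlgebraicGeometry

namespace Groth.Misc13.NormSection

lemma residueFieldMap_id_bijective {X : Scheme.{u}} (f : X ⟶ X) (hf : f = 𝟙 X) (x : X) :
    Function.Bijective (f.residueFieldMap x) := by
  subst hf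
  rw [Scheme.residueFieldMap_id]
  exact Function.bijective_id

lemma residueDegree_eq_one_of_surjective {X Y : Scheme.{u}} (f : X ⟶ Y) (x : X)
    (h : Function.Surjective (f.residueFieldMap x)) : f.residueDegree x = 1 := by
  let := (f.residueFieldMap x).hom.toAlgebra
  exact Module.finrank_of_bijective_algebraMap ⟨(f.residueFieldMap x).hom.injective, h⟩

variable {X Y : Scheme.{u}} (s : X ⟶ Y) (p : Y ⟶ X) (hsp : s ≫ p = 𝟙 X)

include hsp in
lemma apply_section (x : X) : p (s x) = x := by
  rw [← Scheme.Hom.comp_apply, hsp]; rfl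

include hsp in
lemma residueDegree_section (x : X) : s.residueDegree x = 1 ∧ p.residueDegree (s x) = 1 := by
  have hb : Function.Bijective (p.residueFieldMap (s x) ≫ s.residueFieldMap x) := by
    rw [← Scheme.residueFieldMap_comp]
    exact residueFieldMap_id_bijective _ hsp x
  have hb2 : Function.Surjective (s.residueFieldMap x) :=
    Function.Surjective.of_comp (g := p.residueFieldMap (s x)) hb.2
  refine ⟨residueDegree_eq_one_of_surjective _ _ hb2, residueDegree_eq_one_of_surjective _ _ ?_⟩
  intro a
  obtain ⟨b, hb'⟩ := hb.2 (s.residueFieldMap x a)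
  exact ⟨b, (s.residueFieldMap x).hom.injective hb'⟩

include hsp in
/-- Push forward along a section and then along the projection gives back the cycle. -/
lemma map_map_section [QuasiCompact s] [QuasiCompact p] (δ : X → ℤ) (z : AlgebraicCycle X ℤ) :
    AlgebraicCycle.map p (δ ∘ ⇑p.base) δ (AlgebraicCycle.map s δ (δ ∘ ⇑p.base) z) = z := by
  classical
  ext x
  rw [AlgebraicCycle.map, Function.locallyFinsupp.map_apply]
  rw [finsum_eq_single _ (s x)]
  · rw [finsum_eq_if, if_pos (show s x ∈ ⇑p ⁻¹' {x} from apply_section s p hsp x),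
      AlgebraicCycle.map, Function.locallyFinsupp.map_apply]
    have hs : ⇑s ⁻¹' {s x} = {x} := Set.ext fun y => by
      refine ⟨fun h => ?_, fun h => ?_⟩
      · have := congrArg (fun w => p w) (show s y = s x from h)
        simpa [apply_section s p hsp] using this
      · rw [Set.mem_singleton_iff.1 h]; rfl
    rw [hs, finsum_mem_singleton]
    simp [AlgebraicCycle.mapCoeff, apply_section s p hsp, residueDegree_section s p hsp x]
  · intro y hy
    rw [finsum_eq_if]
    split_ifs with h
    · rw [AlgebraicCycle.map, Function.locallyFinsupp.map_apply,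
        finsum_mem_of_eqOn_zero, zero_mul]
      intro w hw
      exfalso
      apply hy
      have h1 : s w = y := hw
      have h2 : p y = x := h
      rw [← h1, apply_section s p hsp] at h2
      rw [← h2, h1]
    · rfl

lemma map_section_mem [QuasiCompact s] (hsp : s ≫ p = 𝟙 X) (δ : X → ℤ) (j : ℤ)
    (z : AlgebraicCycle X ℤ) (hz : z ∈ Cyc.Zk X δ j) :
    AlgebraicCycle.map s δ (δ ∘ ⇑p.base) z ∈ Cyc.Zk Y (δ ∘ ⇑p.base) j := by
  intro y hy
  rw [AlgebraicCycle.map, Function.locallyFinsupp.map_apply, finsum_mem_of_eqOn_zero]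
  intro w hw
  have h1 : s w = y := hw
  have h2 : δ w ≠ j := fun h => hy (by
    show δ (p y) = j
    rw [← h1, apply_section s p hsp]; exact h)
  simp [hz w h2]

/-- A morphism to `Spec F` over `k` kills all conormed Chow groups. -/
theorem normSubgroup_eq_top (k : Type u) [Field k] (K : Type u) [Field K] [Algebra k K]
    (F : IntermediateField k K) [FiniteDimensional k F] (hF : F ≠ ⊥)
    (X : Scheme.{u}) [X.Over (Spec (CommRingCat.of k))] (g : X ⟶ Spec (CommRingCat.of F))
    (hg : g ≫ Spec.map (CommRingCat.ofHom (algebraMap k F)) = X ↘ Spec (CommRingCat.of k))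
    (δ : X → ℤ) (j : ℤ) : QsChow.normSubgroup k K X δ j = ⊤ := by
  let s : X ⟶ Curv2.bc k X F := Limits.pullback.lift (𝟙 X) g (by rw [Category.id_comp, hg])
  have hsp : s ≫ Curv2.bcFst k X F = 𝟙 X := Limits.pullback.lift_fst _ _ _
  have : IsClosedImmersion (s ≫ Curv2.bcFst k X F) := by rw [hsp]; infer_instance
  have : IsClosedImmersion s := IsClosedImmersion.of_comp s (Curv2.bcFst k X F)
  refine (AddSubgroup.eq_top_iff' _).2 fun c => ?_
  obtain ⟨⟨z, hz⟩, rfl⟩ := QuotientAddGroup.mk_surjective c
  refine AddSubgroup.subset_closure ⟨F, inferInstance, hF,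
    AlgebraicCycle.map s δ (δ ∘ ⇑(Curv2.bcFst k X F).base) z,
    map_section_mem s _ hsp δ j z hz, ?_, ?_⟩
  · rw [map_map_section s _ hsp δ z]; exact hz
  · exact congrArg (QuotientAddGroup.mk (s := ChowOps.ratTriv X δ j))
      (Subtype.ext (map_map_section s _ hsp δ z).symm)

end Groth.Misc13.NormSection
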