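import Mathlib.LinearAlgebra.Matrix.Determinant.Basic
import Mathlib.LinearAlgebra.Alternating.Basic
import Mathlib.LinearAlgebra.StdBasis
import Mathlib.Data.Finset.Sort
import Mathlib.LinearAlgebra.Matrix.ToLin

set_option autoImplicit false

universe u

namespace Groth.Misc13.CauchyBinet

open Matrix

variable {R : Type u} [CommRing R] {e r : ℕ}

theorem alt_sum_apply {ι : Type*} (s : Finset ι) (g : ι → (Fin r → R) [⋀^Fin e]→ₗ[R] R)
    (v : Fin e → Fin r → R) : (∑ i ∈ s, g i) v = ∑ i ∈ s, g i v := by
  classical
  induction s using Finset.induction_on with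
  | empty => simp
  | insert a s ha ih => rw [Finset.sum_insert ha, Finset.sum_insert ha, AlternatingMap.add_apply, ih]

/-- Cauchy–Binet. -/
theorem det_mul_eq_sum (P : Matrix (Fin e) (Fin r) R) (Q : Matrix (Fin r) (Fin e) R) :
    (P * Q).det = ∑ S : {s : Finset (Fin r) // s.card = e},
      (P.submatrix id (S.1.orderEmbOfFin S.2)).det * (Q.submatrix (S.1.orderEmbOfFin S.2) id).det := by
  classical
  let L : (Fin r → R) [⋀^Fin e]→ₗ[R] R := Matrix.detRowAlternating.compLinearMap Q.vecMulLinear
  let Rt : (Fin r → R) [⋀^Fin e]→ₗ[R] R := ∑ S : {s : Finset (Fin r) // s.card = e},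
    (Q.submatrix (S.1.orderEmbOfFin S.2) id).det •
      Matrix.detRowAlternating.compLinearMap (LinearMap.funLeft R R (S.1.orderEmbOfFin S.2))
  have h : L = Rt := by
    refine (Pi.basisFun R (Fin r)).ext_alternating fun v hv => ?_
    have hL : L (fun i => Pi.basisFun R (Fin r) (v i)) = (Q.submatrix v id).det := by
      change Matrix.det (fun i => Matrix.vecMul (Pi.basisFun R (Fin r) (v i)) Q) = _
      congr 1
      ext i j
      simp [Matrix.single_one_vecMul]
    have hR : ∀ S : {s : Finset (Fin r) // s.card = e},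
        Matrix.detRowAlternating.compLinearMap (LinearMap.funLeft R R (S.1.orderEmbOfFin S.2))
          (fun i => Pi.basisFun R (Fin r) (v i)) = ((1 : Matrix (Fin r) (Fin r) R).submatrix v (S.1.orderEmbOfFin S.2)).det := by
      intro S
      change Matrix.det _ = _
      congr 1
      ext i j
      simp [Matrix.one_apply, Pi.single_apply, eq_comm]
    have hRS : ∀ S : {s : Finset (Fin r) // s.card = e},
        ((Q.submatrix (S.1.orderEmbOfFin S.2) id).det •
          Matrix.detRowAlternating.compLinearMap (LinearMap.funLeft R R (S.1.orderEmbOfFin S.2)))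
          (fun i => Pi.basisFun R (Fin r) (v i)) = (Q.submatrix (S.1.orderEmbOfFin S.2) id).det *
          ((1 : Matrix (Fin r) (Fin r) R).submatrix v (S.1.orderEmbOfFin S.2)).det :=
      fun S => congrArg ((Q.submatrix (S.1.orderEmbOfFin S.2) id).det * ·) (hR S)
    rw [hL]
    simp only [Rt, alt_sum_apply]
    rw [Finset.sum_congr rfl fun S _ => hRS S]
    set S₀ : {s : Finset (Fin r) // s.card = e} :=
      ⟨Finset.univ.image v, by rw [Finset.card_image_of_injective _ hv]; simp⟩
    rw [Finset.sum_eq_single S₀]
    · choose σ hσ using fun i => (show v i ∈ Set.range (S₀.1.orderEmbOfFin S₀.2) by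
        rw [Finset.range_orderEmbOfFin]; exact Finset.mem_coe.mpr (Finset.mem_image_of_mem v (Finset.mem_univ i)))
      have hσi : Function.Injective σ := fun a b hab => hv (by rw [← hσ a, ← hσ b, hab])
      let τ : Equiv.Perm (Fin e) := Equiv.ofBijective σ (Finite.injective_iff_bijective.mp hσi)
      have hv' : v = fun i => S₀.1.orderEmbOfFin S₀.2 (τ i) := funext fun i => (hσ i).symm
      have e1 : Q.submatrix v id = (Q.submatrix (S₀.1.orderEmbOfFin S₀.2) id).submatrix τ id := by
        rw [hv']; rfl
      have e2 : (1 : Matrix (Fin r) (Fin r) R).submatrix v (S₀.1.orderEmbOfFin S₀.2) =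
          (1 : Matrix (Fin e) (Fin e) R).submatrix τ id := by
        ext i j
        rw [hv']
        simp [Matrix.one_apply]
      rw [e1, e2, Matrix.det_permute, Matrix.det_permute, Matrix.det_one]
      ring
    · intro S _ hne
      obtain ⟨i, hi⟩ : ∃ i, v i ∉ S.1 := by
        by_contra! hall
        refine hne (Subtype.ext (Finset.eq_of_subset_of_card_le ?_ (le_of_eq ?_)).symm)
        · intro x hx
          obtain ⟨i, -, rfl⟩ := Finset.mem_image.mp hx
          exact hall i
        · rw [S.2, S₀.2]
      rw [Matrix.det_eq_zero_of_row_eq_zero (A := (1 : Matrix (Fin r) (Fin r) R).submatrix v _) i, mul_zero]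
      intro j
      rw [Matrix.submatrix_apply, Matrix.one_apply_ne]
      intro he
      exact hi (he ▸ Finset.orderEmbOfFin_mem _ _ _)
    · simp
  have h1 := congrArg (fun F : (Fin r → R) [⋀^Fin e]→ₗ[R] R => F (fun i => P i)) h
  simp only [Rt, alt_sum_apply] at h1
  refine Eq.trans ?_ (h1.trans (Finset.sum_congr rfl fun S _ => ?_))
  · rfl
  · exact mul_comm _ _

end Groth.Misc13.CauchyBinet
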