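import Groth.Agent.Misc13.NumPairing
import Groth.Agent.FBaseGeom.Dim
import Groth.Agent.Inter.Kleiman
import Groth.Agent.Divisors.EffCartierDim
import Groth.Agent.Pic13Aux.NumTriv

/-!
# Nef classes on surfaces and numerical connectedness
-/

set_option autoImplicit false

universe u

open CategoryTheory CategoryTheory.Limits AlgebraicGeometry TopologicalSpace

namespace Groth.Misc13.SurfNef

open Groth.Inter Groth.PicAux

variable (k : Type u) [Field k] {X : Scheme.{u}} [X.Over (Spec (CommRingCat.of k))]
  [IsProper (X ↘ Spec (CommRingCat.of k))]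

omit [IsProper (X ↘ Spec (CommRingCat.of k))] in
/-- The degree on a coherent module as a difference. -/
theorem delta_one (L F : X.Modules) : delta k [L] F =
    Curv2.euler k X F - Curv2.euler k X (CohB1.tensorMod F L) := by
  rw [delta_cons, delta_nil, delta_nil, EulerDeg.euler_congr k (Inter.tensor_comm L F).some]

/-- A sign on integral curves propagates to modules of dimension at most one. -/
theorem nonneg_one {M : X.Modules} (hM : PicF.IsInvertible M)
    (h : ∀ C : X.IdealSheafData, IsIntegral C.subscheme → topologicalKrullDim (C.support : Set X) = 1 →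
      Curv2.euler k X (CohB1.tensorMod (ClSub.quotMod C) M) - Curv2.euler k X (ClSub.quotMod C) ≤ 0) :
    Nonneg k [M] := by
  refine nonneg_of_integral k (by simpa using hM) fun ξ hξ => ?_
  have hd : topologicalKrullDim ((IntMult.ptIdeal ξ).support : Set X) = 1 :=
    (dim_support_ptIdeal ξ).trans (hξ.trans rfl)
  have h1 := h (IntMult.ptIdeal ξ) (CohTwo.isIntegral_closure_subscheme rfl) hd
  rw [delta_one]
  change Curv2.euler k X (CohB1.tensorMod (Cyc.closureStructureSheaf ξ) M) -
    Curv2.euler k X (Cyc.closureStructureSheaf ξ) ≤ 0 at h1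
  linarith

/-- A nef class orthogonal to a class of positive square is numerically trivial. -/
theorem numTrivial_of_orth [IsIntegral X] (hdim : topologicalKrullDim X = 2) {A D N : X.Modules}
    (hA : CohB1.IsAmple A) (hD : PicF.IsInvertible D) (hN : PicF.IsInvertible N) (hDD : 0 < pair k D D)
    (hDN : pair k D N = 0)
    (hnef : ∀ C : X.IdealSheafData, IsIntegral C.subscheme → topologicalKrullDim (C.support : Set X) = 1 →
      0 ≤ Curv2.euler k X (CohB1.tensorMod (ClSub.quotMod C) N) - Curv2.euler k X (ClSub.quotMod C))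
    {F : X.Modules} (hF : Coh.IsCoh F) (hFd : topologicalKrullDim (CohB1.support F) ≤ ((1 : ℕ) : WithBot ℕ∞)) :
    delta k [N] F = 0 := by
  have hNo : IsNoetherian X := isNoetherian k
  obtain ⟨N', hN', hNN'⟩ := exists_isInverseOf hN
  have hn1 : Nonneg k [N'] := by
    refine nonneg_of_integral k (by simpa using hN') fun ξ hξ => ?_
    have hc := KTheory.Devissage.isCoh_closureStructureSheaf ξ
    have hcd : topologicalKrullDim (CohB1.support (Cyc.closureStructureSheaf ξ)) ≤ ((1 : ℕ) : WithBot ℕ∞) :=
      (LocCohTransform.topologicalKrullDim_mono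
        (KTheory.Devissage.support_closureStructureSheaf_subset ξ)).trans hξ.le
    have e := delta_inverse_cons k hN hNN' (l := []) (by simp) hc (by simpa using hcd)
    have h1 := hnef (IntMult.ptIdeal ξ) (CohTwo.isIntegral_closure_subscheme rfl)
      ((dim_support_ptIdeal ξ).trans (hξ.trans rfl))
    rw [delta_one] at e
    change 0 ≤ Curv2.euler k X (CohB1.tensorMod (Cyc.closureStructureSheaf ξ) N) -
      Curv2.euler k X (Cyc.closureStructureSheaf ξ) at h1
    linarith
  have hsq : 0 ≤ pair k N' N' := kleiman k 2 X A N N' hA hN hNN' hn1 _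
    (isCoh_of_isInvertible (EulerDeg.isInvertible_structureModule X))
    (by simpa using dim_support_le (X := X) hdim.le (Coh.structureModule X))
  rw [pair_inverse_inverse k hdim.le hN hNN' hN hNN'] at hsq
  exact HodgeDim.delta_eq_zero_of_curveZero k hN
    (fun z _ hz => HodgeProper.main k hdim hD hN hDD (by rw [pair_comm k]; exact hDN) hsq z hz) hF hFd

include k in
/-- The support of a nonzero effective Cartier divisor on an integral surface has dimension one. -/
theorem dim_support_effCartier [IsIntegral X] (hdim : topologicalKrullDim X = 2) {D : X.IdealSheafData}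
    (hD : BlowUp.IsEffCartierIdeal D) (hne : D ≠ ⊤) :
    topologicalKrullDim (D.support : Set X) = ((1 : ℕ) : WithBot ℕ∞) := by
  have hNo : IsNoetherian X := isNoetherian k
  have hkey : ∀ ξ ∈ (D.support : Set X), (∀ y ∈ (D.support : Set X), y ⤳ ξ → y = ξ) →
      topologicalKrullDim (closure ({ξ} : Set X)) = ((1 : ℕ) : WithBot ℕ∞) := fun ξ hξ hmax => by
    have h := Variety2.Dim.ringKrullDim_stalk_add_height (X ↘ Spec (CommRingCat.of k)) ξ
    rw [Divisors.dim_stalk_eq_one_of_maximal_support hD hξ hmax, hdim] at h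
    rw [Variety2.Dim.dim_closure_singleton]
    obtain ⟨a, ha⟩ := ENat.ne_top_iff_exists.1
      (Variety2.Dim.height_ne_top (X ↘ Spec (CommRingCat.of k)) ξ)
    rw [← ha] at h ⊢
    have h' : ((1 + a : ℕ) : WithBot ℕ∞) = ((2 : ℕ) : WithBot ℕ∞) := by push_cast; exact h
    have : 1 + a = 2 := by exact_mod_cast h'
    exact_mod_cast (show a = 1 by omega)
  have hmax : ∀ x ∈ (D.support : Set X), ∃ ξ ∈ (D.support : Set X),
      (∀ y ∈ (D.support : Set X), y ⤳ ξ → y = ξ) ∧ ξ ⤳ x := by
    intro x hx
    have : QuasiSober (D.support : Set X) :=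
      D.support.isClosed.isClosedEmbedding_subtypeVal.quasiSober
    obtain ⟨g, hg, -, hgm⟩ := FBaseGeom.exists_maximal_specializes (⟨x, hx⟩ : (D.support : Set X))
    exact ⟨g.1, g.2, fun y hy hyg => congrArg Subtype.val (hgm ⟨y, hy⟩ (subtype_specializes_iff _ _ |>.2 hyg)),
      hg.map continuous_subtype_val⟩
  obtain ⟨x, hx⟩ : (D.support : Set X).Nonempty := by
    by_contra h
    rw [Set.not_nonempty_iff_eq_empty] at h
    exact hne ((Scheme.IdealSheafData.support_eq_bot_iff D).1 (TopologicalSpace.Closeds.ext h))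
  obtain ⟨ξ, hξ, hξm, -⟩ := hmax x hx
  refine le_antisymm ?_ ((hkey ξ hξ hξm).symm.le.trans (LocCohTransform.topologicalKrullDim_mono
    (closure_minimal (Set.singleton_subset_iff.2 hξ) D.support.isClosed)))
  rw [Variety2.Dim.dim_closed D.support.isClosed]
  refine iSup₂_le fun y hy => ?_
  obtain ⟨ξ', h1, h2, h3⟩ := hmax y hy
  rw [← Variety2.Dim.dim_closure_singleton, ← hkey ξ' h1 h2]
  exact LocCohTransform.topologicalKrullDim_mono (closure_minimal
    (Set.singleton_subset_iff.2 h3.mem_closure) isClosed_closure)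

/-- The ideal of a nonzero effective Cartier divisor is not numerically trivial. -/
theorem eq_top_of_numTrivial [IsIntegral X] {D : X.IdealSheafData} (hD : BlowUp.IsEffCartierIdeal D)
    (hnum : Pic13.IsNumEquivZero k X (ClSub.idealMod D)) : D = ⊤ := by
  have hNo : IsNoetherian X := isNoetherian k
  have hI := isInvertible_idealMod hD
  obtain ⟨L, hL, hIL⟩ := exists_isInverseOf hI
  have hLnum : Pic13.IsNumEquivZero k X L := NumPairing.isNumEquivZero_of_delta k hL fun F hF hFd => by
    have h := delta_inverse_cons k hI hIL (l := []) (by simp) hF (by simpa using hFd)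
    rw [NumPairing.delta_cons_of_numEquivZero k hI hnum (l := []) (by simp) hF (by simpa using hFd)] at h
    linarith
  have hS := shortExact_idealMod_twist D hL
  let f := ((DCoh.tensorRightMod L).map (ClSub.idealModι D))
  let μ : CohB1.tensorMod (Coh.structureModule X) L ≅ L := (tensor_one L).some
  let s : Coh.structureModule X ⟶ L := hIL.some.inv ≫ f ≫ μ.hom
  have hs : s ≠ 0 := fun h => by
    have hf : f = 0 := by
      have h' : hIL.some.inv ≫ f ≫ μ.hom = hIL.some.inv ≫ 0 ≫ μ.hom := by rw [zero_comp, comp_zero]; exact h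
      exact (cancel_mono μ.hom).1 ((cancel_epi hIL.some.inv).1 h')
    have : Mono f := hS.mono_f
    rw [hf] at this
    have hz : IsZero (CohB1.tensorMod (ClSub.idealMod D) L) :=
      @IsZero.of_mono_zero _ _ _ _ _ this
    have he := (QCohMod.isZero_iff_support_eq_empty _).1 (hz.of_iso hIL.some.symm)
    rw [HodgeDim.support_structure] at he
    exact Set.univ_nonempty.ne_empty he
  have ht : s.app ⊤ (oneSec X ⊤) ≠ 0 := fun h => hs (hom_structure_ext (by rw [h]; rfl))
  have hg := Pic13Aux.gloc_eq_top_of_numEquivZero k hL hLnum ht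
  have hiso : IsIso s := (isIso_hom_structure_iff s).2 (by
    have := Groth.PropsBasic.Ample.gen_gloc (s.app ⊤ (oneSec X ⊤)) (V := ⊤) hg.ge
    rwa [res_self] at this)
  have hfe : Epi f := by
    have h1 : s ≫ μ.inv = hIL.some.inv ≫ f := by
      change (hIL.some.inv ≫ f ≫ μ.hom) ≫ μ.inv = _
      erw [Category.assoc, Category.assoc, Iso.hom_inv_id, Category.comp_id]
      rfl
    have h2 : IsIso (hIL.some.inv ≫ f) := h1 ▸ (inferInstance : IsIso (s ≫ μ.inv))
    have : IsIso f := IsIso.of_isIso_comp_left hIL.some.inv f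
    infer_instance
  have hg0 : (DCoh.tensorRightMod L).map (ClSub.toSubscheme D) = 0 :=
    (cancel_epi f).1 (by rw [comp_zero]; exact ((ShortComplex.mk (ClSub.idealModι D) (ClSub.toSubscheme D)
      (kernel.condition (ClSub.toSubscheme D))).map (DCoh.tensorRightMod L)).zero)
  have hgepi : Epi ((DCoh.tensorRightMod L).map (ClSub.toSubscheme D)) := hS.epi_g
  rw [hg0] at hgepi
  have hz : IsZero (CohB1.tensorMod (ClSub.quotMod D) L) := @IsZero.of_epi_zero _ _ _ _ _ hgepi
  have he := (QCohMod.isZero_iff_support_eq_empty _).1 hz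
  rw [QCohMod.support_eq_of_iso (Inter.tensor_comm (ClSub.quotMod D) L).some, support_twist_eq hL,
    (support_quotMod k D).2] at he
  exact (Scheme.IdealSheafData.support_eq_bot_iff D).1 (TopologicalSpace.Closeds.ext he)

/-- Numerical connectedness of big and nef divisors. -/
theorem numConnected [IsIntegral X] (hdim : topologicalKrullDim X = 2)
    {D₁ D₂ : X.IdealSheafData} (hD₁ : BlowUp.IsEffCartierIdeal D₁) (hD₂ : BlowUp.IsEffCartierIdeal D₂)
    (hne₁ : D₁ ≠ ⊤) (hne₂ : D₂ ≠ ⊤) {I : X.Modules}
    (hI : Nonempty (I ≅ CohB1.tensorMod (ClSub.idealMod D₁) (ClSub.idealMod D₂)))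
    (hpos : 0 < pair k I I) (hnef : Nonneg k [I]) :
    0 < pair k (ClSub.idealMod D₁) (ClSub.idealMod D₂) := by
  have hNo : IsNoetherian X := isNoetherian k
  have hI₁ := isInvertible_idealMod hD₁
  have hI₂ := isInvertible_idealMod hD₂
  have hI' : PicF.IsInvertible I := isInvertible_of_iso (isInvertible_tensorMod hI₁ hI₂) hI.some.symm
  have hquot : ∀ (D : X.IdealSheafData), BlowUp.IsEffCartierIdeal D → D ≠ ⊤ → ∀ P : X.Modules,
      PicF.IsInvertible P → pair k P (ClSub.idealMod D) = delta k [P] (ClSub.quotMod D) := by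
    intro D hD _ P hP
    have hQ := (support_quotMod k D).1
    have e := delta_add k (l := [P]) (by simpa using hP) (shortExact_idealMod D)
      (isCoh_of_isInvertible (isInvertible_idealMod hD)) hQ
    change delta k [P] (Coh.structureModule X) = delta k [P] (ClSub.idealMod D) +
      delta k [P] (ClSub.quotMod D) at e
    rw [pair_comm k]
    simp only [Groth.Inter.pair]
    rw [delta_cons, delta_congr k [P] (Inter.tensor_comm (ClSub.idealMod D) (Coh.structureModule X)),
      delta_congr k [P] (Inter.tensor_one (ClSub.idealMod D)), e]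
    ring
  have hp : ∀ (D : X.IdealSheafData), BlowUp.IsEffCartierIdeal D → D ≠ ⊤ → 0 ≤ pair k I (ClSub.idealMod D) := by
    intro D hD hne
    rw [hquot D hD hne I hI']
    obtain ⟨hQ, hs⟩ := support_quotMod k D
    exact hnef _ hQ (by rw [hs, dim_support_effCartier k hdim hD hne]; simp)
  have hsum : ∀ P : X.Modules, PicF.IsInvertible P → pair k I P =
      pair k (ClSub.idealMod D₁) P + pair k (ClSub.idealMod D₂) P := fun P hP => by
    rw [pair_congr k hI P, pair_tensor k hdim.le hI₁ hI₂ hP]
  have h1 := hp D₁ hD₁ hne₁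
  have h2 := hp D₂ hD₂ hne₂
  have h3 := hsum I hI'
  rw [hsum _ hI₁] at h1
  rw [hsum _ hI₂] at h2
  rw [pair_comm k (ClSub.idealMod D₁) I, pair_comm k (ClSub.idealMod D₂) I, hsum _ hI₁, hsum _ hI₂,
    pair_comm k (ClSub.idealMod D₂) (ClSub.idealMod D₁)] at h3
  rw [pair_comm k (ClSub.idealMod D₂) (ClSub.idealMod D₁)] at h1
  set a := pair k (ClSub.idealMod D₁) (ClSub.idealMod D₁)
  set b := pair k (ClSub.idealMod D₁) (ClSub.idealMod D₂)
  set c := pair k (ClSub.idealMod D₂) (ClSub.idealMod D₂)
  by_contra hb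
  rw [not_lt] at hb
  -- the square orthogonal to `I` is nonpositive
  obtain ⟨N, hN, hpN⟩ := exists_comb k hdim.le hI₁ hI' (pair k I I) (-pair k I (ClSub.idealMod D₁))
  have h0 : pair k I N = 0 := by
    rw [pair_comm k, hpN I hI', pair_comm k (ClSub.idealMod D₁) I]; ring
  have hle : pair k N N ≤ 0 := by
    by_contra hpos'
    have hnum : Pic13.IsNumEquivZero k X N := NumPairing.isNumEquivZero_of_delta k hN
      fun F hF hFd => HodgeDim.delta_eq_zero_of_curveZero k hN
        (fun z _ hz => HodgeProper.main k hdim hI' hN hpos (by rw [pair_comm k]; exact h0)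
          (le_of_not_ge hpos') z hz) hF hFd
    refine hpos' (le_of_eq ?_)
    exact NumPairing.delta_cons_of_numEquivZero k hN hnum (l := [N]) (by simpa using hN)
      (isCoh_of_isInvertible (EulerDeg.isInvertible_structureModule X))
      (by simpa using dim_support_le (X := X) hdim.le (Coh.structureModule X))
  rw [hpN N hN, h0, mul_zero, add_zero, pair_comm k _ N, hpN _ hI₁,
    show pair k I (ClSub.idealMod D₁) = a + b by
      rw [hsum _ hI₁, pair_comm k (ClSub.idealMod D₂)], h3] at hle
  rw [h3] at hpos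
  have hstrict : ∀ (D : X.IdealSheafData), BlowUp.IsEffCartierIdeal D → D ≠ ⊤ →
      pair k I (ClSub.idealMod D) = 0 → 0 ≤ pair k (ClSub.idealMod D) (ClSub.idealMod D) → False := by
    intro D hD hne e1 e2
    have hID := isInvertible_idealMod hD
    have hnum : Pic13.IsNumEquivZero k X (ClSub.idealMod D) := NumPairing.isNumEquivZero_of_delta k hID
      fun F hF hFd => HodgeDim.delta_eq_zero_of_curveZero k hID
        (fun z _ hz => HodgeProper.main k hdim hI' hID (h3 ▸ hpos) (by rw [pair_comm k]; exact e1) e2 z hz) hF hFd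
    exact hne (eq_top_of_numTrivial k hD hnum)
  have hII : pair k I (ClSub.idealMod D₁) = a + b := by
    rw [hsum _ hI₁, pair_comm k (ClSub.idealMod D₂)]
  have hII2 : pair k I (ClSub.idealMod D₂) = b + c := by rw [hsum _ hI₂]
  -- `DD * a ≤ (a + b) ^ 2`, so `a * c ≤ b ^ 2`, with `a, c ≥ -b ≥ 0`
  have hac : a * c ≤ b * b := by
    have := mul_pos hpos hpos
    nlinarith [hle]
  rcases lt_or_eq_of_le hb with hb | hb
  · rcases eq_or_lt_of_le h1 with e1 | e1 <;> rcases eq_or_lt_of_le h2 with e2 | e2 <;> nlinarith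
  · rw [hb] at hac h1 h2
    rcases mul_nonpos_iff.1 (hac.trans_eq (by ring)) with ⟨ha, hc⟩ | ⟨ha, hc⟩
    · exact hstrict D₂ hD₂ hne₂ (by rw [hII2, hb]; linarith) (show 0 ≤ c by linarith)
    · exact hstrict D₁ hD₁ hne₁ (by rw [hII, hb]; linarith) (show 0 ≤ a by linarith)

end Groth.Misc13.SurfNef
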