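import Groth.Prelude.Def_DerSch
import Groth.Agent.KoszulLCI.TorPolynomial
import Groth.Agent.DAlg.TorDim
import Groth.Agent.RefRank.Stalk
import Mathlib.RingTheory.MvPolynomial.Localization
import Mathlib.RingTheory.Localization.LocalizationLocalization
import Mathlib.AlgebraicGeometry.AffineScheme

/-! Finite tor dimension along a factorization through affine space. -/

set_option autoImplicit false

universe u

open CategoryTheory CategoryTheory.Limits AlgebraicGeometry TensorProduct

attribute [local instance] HasDerivedCategory.standard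

namespace Groth.Misc13.TorDimFactor

open Groth.KoszulLCI Groth.DAlg

section Algebra

/-- Tor amplitude passes to a localization of a polynomial ring over the base. -/
theorem hasTorAmp_localPoly {A Q : Type u} [CommRing A] [CommRing Q] [Algebra A Q] (m : ℕ)
    [Algebra (MvPolynomial (Fin m) A) Q] [IsScalarTower A (MvPolynomial (Fin m) A) Q]
    (N : Submonoid (MvPolynomial (Fin m) A)) [IsLocalization N Q]
    (M : Type u) [AddCommGroup M] [Module A M] [Module Q M] [IsScalarTower A Q M] {a b : ℤ}
    (h : DRing.HasTorAmplitudeIn A a b (Dual.inD A M)) :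
    DRing.HasTorAmplitudeIn Q (-(((-a).toNat + m : ℕ) : ℤ)) 0 (Dual.inD Q M) := by
  let P := MvPolynomial (Fin m) A
  let _ : Module P M := Module.compHom M (algebraMap P Q)
  have : IsScalarTower P Q M := .of_algebraMap_smul fun _ _ => rfl
  have : IsScalarTower A P M := .of_algebraMap_smul fun r x => by
    show algebraMap P Q (algebraMap A P r) • x = r • x
    rw [← IsScalarTower.algebraMap_apply, algebraMap_smul]
  have h0 : DRing.HasTorAmplitudeIn A (-((-a).toNat : ℤ)) 0 (Dual.inD A M) :=
    TorAmp.mono (TorAmp.top h fun i (hi : 0 < i) => subsingleton_HD_mD _ (ne_of_gt hi))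
      (by omega) le_rfl
  have h1 := torUp_mvPolynomial m A (-a).toNat M h0
  have : Module.Flat P Q := IsLocalization.flat Q N
  have h2 := hasTorAmp_baseChange Q M h1
  have := IsLocalization.tensorProduct_compatibleSMul N Q Q M
  let e : Q ⊗[P] M ≃ₗ[Q] M :=
    LinearEquiv.ofBijective ((LinearMap.id : M →ₗ[P] M).liftBaseChange Q) ⟨by
      have key : ∀ z : Q ⊗[P] M, z = 1 ⊗ₜ ((LinearMap.id : M →ₗ[P] M).liftBaseChange Q z) := by
        intro z
        induction z using TensorProduct.induction_on with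
        | zero => simp
        | tmul q x =>
          rw [LinearMap.liftBaseChange_tmul, LinearMap.id_apply, ← TensorProduct.smul_tmul,
            smul_eq_mul, mul_one]
        | add x y hx hy => rw [map_add, TensorProduct.tmul_add, ← hx, ← hy]
      intro x y hxy
      rw [key x, key y, hxy], fun x => ⟨1 ⊗ₜ x, by simp⟩⟩
  exact hasTorAmp_congr e h2

end Algebra

section Scheme

variable {U W Y : Scheme.{u}}

/-- The tor amplitude of a morphism at a point is that of the local ring. -/
theorem hasTorAmplitudeAt_unit_iff (f : U ⟶ Y) (x : U) (a b : ℤ) :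
    DerSch.HasTorAmplitudeAt f a b (DerSch.unitCx U) x ↔
      letI := (f.stalkMap x).hom.toAlgebra
      DRing.HasTorAmplitudeIn (Y.presheaf.stalk (f x)) a b
        (Dual.inD (Y.presheaf.stalk (f x)) (U.presheaf.stalk x)) := by
  let := (f.stalkMap x).hom.toAlgebra
  let l : U.presheaf.stalk x ≃ₗ[Y.presheaf.stalk (f x)]
      ((DerSch.stalkOver f x).obj (Coh.structureModule U) : Type u) :=
    AddEquiv.toLinearEquiv
      ((Groth.RefRank.oneEquiv x).toAddEquiv : U.presheaf.stalk x ≃+
        ((DerSch.stalkOver f x).obj (Coh.structureModule U) : Type u))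
      fun r y => (Groth.RefRank.oneEquiv x).map_smul (f.stalkMap x r) y
  let e₀ : ModuleCat.of (Y.presheaf.stalk (f x)) (U.presheaf.stalk x) ≅
      (DerSch.stalkOver f x).obj (Coh.structureModule U) := l.toModuleIso
  let e : DRing.toD ((DerSch.stalkCxOver f x).obj (DerSch.unitCx U)) ≅
      Dual.inD (Y.presheaf.stalk (f x)) (U.presheaf.stalk x) :=
    DerivedCategory.Q.mapIso ((HomologicalComplex.singleMapHomologicalComplex (DerSch.stalkOver f x)
        (ComplexShape.up ℤ) 0).app (Coh.structureModule U)) ≪≫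
      ((DerivedCategory.singleFunctorIsoCompQ _ 0).app _).symm ≪≫
      (DerivedCategory.singleFunctor (ModuleCat.{u} (Y.presheaf.stalk (f x))) 0).mapIso e₀.symm
  exact ⟨fun h => TorAmp.of_iso h e, fun h => TorAmp.of_iso h e.symm⟩

/-- Local rings of an affine space over an affine open of `Y`. -/
theorem exists_isLocalization_stalk (h : W ⟶ Y) [IsAffine W] {V : Y.Opens} (hV : IsAffineOpen V)
    (hle : ⊤ ≤ h ⁻¹ᵁ V) (m : ℕ) (e : MvPolynomial (Fin m) Γ(Y, V) ≃+* Γ(W, ⊤))
    (he : e.toRingHom.comp MvPolynomial.C = (h.appLE V ⊤ hle).hom) (w : W) :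
    ∃ ψ : MvPolynomial (Fin m) (Y.presheaf.stalk (h w)) →+* W.presheaf.stalk w,
      ψ.comp MvPolynomial.C = (h.stalkMap w).hom ∧
      ∃ N : Submonoid (MvPolynomial (Fin m) (Y.presheaf.stalk (h w))),
        letI := ψ.toAlgebra
        IsLocalization N (W.presheaf.stalk w) := by
  classical
  let R : Type u := Γ(Y, V)
  let A : Type u := Y.presheaf.stalk (h w)
  let Q : Type u := W.presheaf.stalk w
  have hy : h w ∈ V := hle (show w ∈ (⊤ : W.Opens) from trivial)
  let : Algebra R A := (Y.presheaf.germ V (h w) hy).hom.toAlgebra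
  let M := (hV.primeIdealOf ⟨h w, hy⟩).asIdeal.primeCompl
  have hA : IsLocalization M A := hV.isLocalization_stalk ⟨h w, hy⟩
  let : Algebra Γ(W, ⊤) Q := (W.presheaf.germ ⊤ w trivial).hom.toAlgebra
  let q := ((isAffineOpen_top W).primeIdealOf ⟨w, trivial⟩).asIdeal
  have hQ : IsLocalization.AtPrime Q q := (isAffineOpen_top W).isLocalization_stalk ⟨w, trivial⟩
  let T : MvPolynomial (Fin m) R →+* Q := (W.presheaf.germ ⊤ w trivial).hom.comp e.toRingHom
  let : Algebra (MvPolynomial (Fin m) R) Q := T.toAlgebra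
  have hQ' : IsLocalization (q.primeCompl.map (e.symm : Γ(W, ⊤) →* MvPolynomial (Fin m) R)) Q :=
    IsLocalization.isLocalization_of_base_ringEquiv q.primeCompl Q e.symm
  let ψ : MvPolynomial (Fin m) A →+* Q :=
    MvPolynomial.eval₂Hom (h.stalkMap w).hom fun i => T (MvPolynomial.X i)
  have hψC : ψ.comp MvPolynomial.C = (h.stalkMap w).hom := MvPolynomial.eval₂Hom_comp_C _ _
  have hgerm : T.comp MvPolynomial.C = (h.stalkMap w).hom.comp (algebraMap R A) := by
    refine RingHom.ext fun r => ?_
    show W.presheaf.germ ⊤ w trivial (e.toRingHom (MvPolynomial.C r)) =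
      h.stalkMap w (Y.presheaf.germ V (h w) hy r)
    rw [Scheme.Hom.germ_stalkMap_apply, show e.toRingHom (MvPolynomial.C r) = h.appLE V ⊤ hle r from
      RingHom.congr_fun he r]
    exact TopCat.Presheaf.germ_res_apply W.presheaf (homOfLE hle) w trivial (h.app V r)
  let _ := MvPolynomial.algebraMvPolynomial (σ := Fin m) (R := R) (S := A)
  let : Algebra (MvPolynomial (Fin m) A) Q := ψ.toAlgebra
  have : IsScalarTower (MvPolynomial (Fin m) R) (MvPolynomial (Fin m) A) Q := by
    refine .of_algebraMap_eq' (MvPolynomial.ringHom_ext (fun r => ?_) fun i => ?_)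
    · show T (MvPolynomial.C r) = ψ (MvPolynomial.map (algebraMap R A) (MvPolynomial.C r))
      rw [MvPolynomial.map_C, show ψ (MvPolynomial.C (algebraMap R A r)) = h.stalkMap w (algebraMap R A r)
        from RingHom.congr_fun hψC _]
      exact RingHom.congr_fun hgerm r
    · show T (MvPolynomial.X i) = ψ (MvPolynomial.map (algebraMap R A) (MvPolynomial.X i))
      simp [ψ]
  have hle' : M.map (MvPolynomial.C (σ := Fin m)) ≤ q.primeCompl.map (e.symm : Γ(W, ⊤) →* MvPolynomial (Fin m) R) := by
    rintro _ ⟨r, hr, rfl⟩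
    refine ⟨e (MvPolynomial.C r), fun hmem => ?_, e.symm_apply_apply _⟩
    -- the image of `r` is a unit in `Q`
    have hu : IsUnit (T (MvPolynomial.C r)) := by
      rw [show T (MvPolynomial.C r) = h.stalkMap w (algebraMap R A r) from RingHom.congr_fun hgerm r]
      exact (IsLocalization.map_units A (⟨r, hr⟩ : M)).map _
    exact (IsLocalization.AtPrime.isUnit_to_map_iff Q q (e (MvPolynomial.C r))).1 hu hmem
  exact ⟨ψ, hψC, _, IsLocalization.isLocalization_of_submonoid_le (MvPolynomial (Fin m) A) Q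
    (M.map (MvPolynomial.C (σ := Fin m))) (q.primeCompl.map (e.symm : Γ(W, ⊤) →* MvPolynomial (Fin m) R)) hle'⟩

/-- Finite tor dimension of `g ≫ h` gives it for `g` when `h` is an affine space over an open of `Y`. -/
theorem hasFiniteTorDim_factor (g : U ⟶ W) (h : W ⟶ Y) [IsAffine W] {V : Y.Opens}
    (hV : IsAffineOpen V) (hle : ⊤ ≤ h ⁻¹ᵁ V) (m : ℕ) (e : MvPolynomial (Fin m) Γ(Y, V) ≃+* Γ(W, ⊤))
    (he : e.toRingHom.comp MvPolynomial.C = (h.appLE V ⊤ hle).hom)
    (hf : DerSch.HasFiniteTorDim (g ≫ h)) : DerSch.HasFiniteTorDim g := by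
  obtain ⟨a, b, hab⟩ := hf
  refine ⟨-(((-a).toNat + m : ℕ) : ℤ), 0, fun x => (hasTorAmplitudeAt_unit_iff g x _ _).2 ?_⟩
  obtain ⟨ψ, hψ, N, hN⟩ := exists_isLocalization_stalk h hV hle m e he (g x)
  have h0 := (hasTorAmplitudeAt_unit_iff (g ≫ h) x a b).1 (hab x)
  let := (g.stalkMap x).hom.toAlgebra
  let : Algebra (MvPolynomial (Fin m) (Y.presheaf.stalk (h (g x)))) (W.presheaf.stalk (g x)) :=
    ψ.toAlgebra
  let : Algebra (Y.presheaf.stalk (h (g x))) (W.presheaf.stalk (g x)) :=
    (h.stalkMap (g x)).hom.toAlgebra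
  have : IsScalarTower (Y.presheaf.stalk (h (g x))) (MvPolynomial (Fin m) (Y.presheaf.stalk (h (g x))))
      (W.presheaf.stalk (g x)) := .of_algebraMap_eq' hψ.symm
  let : Module (Y.presheaf.stalk (h (g x))) (U.presheaf.stalk x) :=
    ((g ≫ h).stalkMap x).hom.toAlgebra.toModule
  have : IsScalarTower (Y.presheaf.stalk (h (g x))) (W.presheaf.stalk (g x)) (U.presheaf.stalk x) :=
    .of_algebraMap_smul fun r y => by
      show g.stalkMap x (h.stalkMap (g x) r) * y = (g ≫ h).stalkMap x r * y
      rw [Scheme.Hom.stalkMap_comp]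
      rfl
  exact hasTorAmp_localPoly m N (U.presheaf.stalk x) h0

end Scheme

end Groth.Misc13.TorDimFactor
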