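import Groth.Agent.Inter.Surface
import Groth.Agent.Inter.PushFormula
import Groth.Agent.Divisors.EffCartierMore
import Groth.Agent.Divisors.BlowUpBasic
import Groth.Agent.HTopHyper.BlowUpProper
import Groth.Agent.BlowUpBasics.Global
import Groth.Agent.PicAux.EffCartierLine

/-!
# The Hodge index theorem on proper irreducible surfaces
-/

set_option autoImplicit false

universe u

open CategoryTheory CategoryTheory.Limits AlgebraicGeometry TopologicalSpace Opposite

namespace Groth.Misc13.HodgeProper

open Groth.Inter Groth.PicAux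

variable (k : Type u) [Field k] {X : Scheme.{u}} [X.Over (Spec (CommRingCat.of k))]
  [IsProper (X ↘ Spec (CommRingCat.of k))]

omit [X.Over (Spec (CommRingCat.of k))] [IsProper (X ↘ Spec (CommRingCat.of k))] in
/-- The image of a point lies in the support of the direct image of the structure module. -/
theorem mem_support_push_structure {W : Scheme.{u}} (ρ : W ⟶ X) (w : W) :
    ρ w ∈ CohB1.support ((Coh.push ρ).obj (Coh.structureModule W)) := by
  intro hs
  let one : Γ((Coh.push ρ).obj (Coh.structureModule W), ⊤) := show Γ(W, ⊤) from 1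
  obtain ⟨U, hU, i₁, i₂, hUeq⟩ := TopCat.Presheaf.germ_eq
    ((Coh.push ρ).obj (Coh.structureModule W)).presheaf (ρ w) (U := ⊤) (V := ⊤) trivial trivial one 0
    (hs.elim _ _)
  rw [map_zero] at hUeq
  have hone : W.presheaf.map (homOfLE (le_top : ρ ⁻¹ᵁ U ≤ ⊤)).op (1 : Γ(W, ⊤)) = 0 := hUeq
  rw [map_one] at hone
  have hw : w ∈ ρ ⁻¹ᵁ U := hU
  exact one_ne_zero ((map_one (W.presheaf.germ _ w hw).hom).symm.trans
    ((congrArg (W.presheaf.germ _ w hw) hone).trans (map_zero _)))

/-- A projective model of the closure of a point. -/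
theorem exists_model (ξ : X) :
    ∃ (Z : Scheme.{u}) (_ : Z.Over (Spec (CommRingCat.of k))) (_ : IsProper (Z ↘ Spec (CommRingCat.of k)))
      (_ : IsIntegral Z) (ρ : Z ⟶ X) (A : Z.Modules), IsProper ρ ∧
      ρ ≫ (X ↘ Spec (CommRingCat.of k)) = Z ↘ Spec (CommRingCat.of k) ∧ CohB1.IsAmple A ∧
      topologicalKrullDim Z = topologicalKrullDim (closure ({ξ} : Set X)) ∧
      ρ (genericPoint Z) = ξ := by
  have hN : IsNoetherian X := isNoetherian k
  let i := (IntMult.ptIdeal ξ).subschemeι
  let Z := (IntMult.ptIdeal ξ).subscheme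
  letI : Z.Over (Spec (CommRingCat.of k)) := ⟨i ≫ (X ↘ Spec (CommRingCat.of k))⟩
  have : IsProper (Z ↘ Spec (CommRingCat.of k)) :=
    inferInstanceAs (IsProper (i ≫ (X ↘ Spec (CommRingCat.of k))))
  have : IsIntegral Z := CohTwo.isIntegral_closure_subscheme rfl
  have hZN : IsNoetherian Z := isNoetherian k
  let f : Z ⟶ Spec (CommRingCat.of k) := Z ↘ Spec (CommRingCat.of k)
  have hrange : Set.range i = closure ({ξ} : Set X) :=
    Groth.PropsBasic2.range_vanishingIdeal_subschemeι ⟨closure {ξ}, isClosed_closure⟩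
  obtain ⟨N, Z', μ, j, hj, hje, hμ, hsurj, ⟨U, hU, hU', hiso⟩, hred, hirr⟩ :=
    Groth.Chow.exists_chow f NoetherianSpace.finite_irreducibleComponents
  letI : Z'.Over (Spec (CommRingCat.of k)) := ⟨μ ≫ f⟩
  have : IsProper (Z' ↘ Spec (CommRingCat.of k)) := inferInstanceAs (IsProper (μ ≫ f))
  have : IrreducibleSpace Z' := hirr inferInstance
  have : IsReduced Z' := hred inferInstance
  have : IsIntegral Z' := isIntegral_of_irreducibleSpace_of_isReduced Z'
  have : QuasiCompact (μ ≫ f) := inferInstance
  let A := (Scheme.Modules.pullback j).obj (Twist.twistOver N (Spec (CommRingCat.of k)) 1)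
  have hA : CohB1.IsAmple A := Chow.isAmple_of_immersion (μ ≫ f) _ N j (Iso.refl _)
  let η := genericPoint Z'
  have hηU : μ η ∈ U :=
    (genericPoint_spec Z').mem_open_set_iff (μ ⁻¹ᵁ U).2 |>.2 (by simpa using hU'.nonempty)
  have hμη : μ η = genericPoint Z := by
    refine ((genericPoint_spec Z').image μ.continuous).eq ?_
    rw [IsGenericPoint, Set.image_univ, μ.surjective.range_eq, closure_univ]
    exact genericPoint_spec Z
  have hρη : i (μ η) = ξ := by
    rw [hμη]
    exact CohTwo.apply_genericPoint_eq i hrange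
  refine ⟨Z', inferInstance, inferInstance, inferInstance, μ ≫ i, A, inferInstance,
    Category.assoc _ _ _, hA, ?_, hρη⟩
  have hne : ((μ ⁻¹ᵁ U : Z'.Opens) : Set Z').Nonempty := ⟨η, hηU⟩
  rw [← Variety2.Dim.dim_opens (μ ≫ f) (μ ⁻¹ᵁ U) hne,
    (μ ∣_ U).homeomorph.isHomeomorph.topologicalKrullDim_eq,
    Variety2.Dim.dim_opens f U ⟨μ η, hηU⟩, dim_ptIdeal_subscheme]

/-- Modules on an irreducible space in the top dimension. -/
theorem delta_eq_length_mul {l : List X.Modules} (hl : ∀ M ∈ l, PicF.IsInvertible M) {G : X.Modules}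
    (hG : Coh.IsCoh G) {y : X} (hy : topologicalKrullDim (closure ({y} : Set X)) = (l.length : ℕ))
    (hsub : CohB1.support G ⊆ closure {y}) (hmem : y ∈ CohB1.support G) :
    ∃ n : ℕ, 0 < n ∧ delta k l G = n * delta k l (Cyc.closureStructureSheaf y) := by
  have hN : IsNoetherian X := isNoetherian k
  refine ⟨(Module.length (X.presheaf.stalk y) (G.presheaf.stalk y)).toNat, Nat.pos_of_ne_zero fun h => ?_, ?_⟩
  · rcases ENat.toNat_eq_zero.1 h with h'' | h''
    · exact hmem (Module.length_eq_zero_iff.1 h'')
    · exact KTheory.Devissage.length_stalk_ne_top hG y (fun w hw hwy =>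
        (eq_of_dim_closure (specializes_iff_mem_closure.1 hwy)
          ((LocCohTransform.topologicalKrullDim_mono (closure_minimal
            (Set.singleton_subset_iff.2 (hsub hw)) isClosed_closure)).trans hy.le) hy.ge).symm) h''
  · rw [delta_eq_sum_length k hl hG ((LocCohTransform.topologicalKrullDim_mono hsub).trans hy.le) {y}
      fun z => ?_, Finset.sum_singleton]
    rw [Finset.mem_singleton]
    exact ⟨fun hz => ⟨hz ▸ hmem, hz ▸ hy⟩, fun hz => eq_of_dim_closure (hsub hz.1) hy.le hz.2.ge⟩

omit [IsProper (X ↘ Spec (CommRingCat.of k))] in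
theorem dim_univ : topologicalKrullDim (Set.univ : Set X) = topologicalKrullDim X :=
  IsHomeomorph.topologicalKrullDim_eq _ (Homeomorph.Set.univ X).isHomeomorph

/-- Transfer to a model. -/
theorem exists_transfer [IrreducibleSpace X] (hdim : topologicalKrullDim X = 2) {W : Scheme.{u}}
    [W.Over (Spec (CommRingCat.of k))] [IsProper (W ↘ Spec (CommRingCat.of k))] (ρ : W ⟶ X) [IsProper ρ]
    (hρ : ρ ≫ (X ↘ Spec (CommRingCat.of k)) = W ↘ Spec (CommRingCat.of k))
    (hW : topologicalKrullDim W = 2) {w : W} (hw : ρ w = genericPoint X) :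
    ∃ a b : ℕ, 0 < a ∧ 0 < b ∧ ∀ A B : X.Modules, PicF.IsInvertible A → PicF.IsInvertible B →
      (b : ℤ) * pair k ((Scheme.Modules.pullback ρ).obj A) ((Scheme.Modules.pullback ρ).obj B) =
        (a : ℤ) * pair k A B := by
  have hN : IsNoetherian X := isNoetherian k
  have hN' : IsNoetherian W := isNoetherian k
  have hη : closure ({genericPoint X} : Set X) = Set.univ := genericPoint_spec X
  have hy : topologicalKrullDim (closure ({genericPoint X} : Set X)) = ((2 : ℕ) : WithBot ℕ∞) := by
    rw [hη, dim_univ, hdim]; rfl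
  have hc := isCoh_of_isInvertible (EulerDeg.isInvertible_structureModule W)
  have hO := isCoh_of_isInvertible (EulerDeg.isInvertible_structureModule X)
  have hP := isCoh_push_proper ρ hc
  have hmem : genericPoint X ∈ CohB1.support ((Coh.push ρ).obj (Coh.structureModule W)) :=
    hw ▸ mem_support_push_structure ρ w
  have hmem' : genericPoint X ∈ CohB1.support (Coh.structureModule X) := fun h => by
    have : Nontrivial ((Coh.structureModule X).presheaf.stalk (genericPoint X)) :=
      (RefRank.oneEquiv (genericPoint X)).toEquiv.nontrivial_congr.1 inferInstance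
    exact not_subsingleton _ h
  have key : ∀ {G : X.Modules}, Coh.IsCoh G → genericPoint X ∈ CohB1.support G →
      ∃ n : ℕ, 0 < n ∧ ∀ A B : X.Modules, PicF.IsInvertible A → PicF.IsInvertible B →
        delta k [A, B] G = n * delta k [A, B] (Cyc.closureStructureSheaf (genericPoint X)) := by
    intro G hG hm
    have hsub : CohB1.support G ⊆ closure {genericPoint X} := hη ▸ Set.subset_univ _
    obtain ⟨n, hn, -⟩ := delta_eq_length_mul k (l := [Coh.structureModule X, Coh.structureModule X])
      (by simp [EulerDeg.isInvertible_structureModule]) hG (by simpa using hy) hsub hm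
    refine ⟨(Module.length (X.presheaf.stalk (genericPoint X)) (G.presheaf.stalk (genericPoint X))).toNat,
      ?_, fun A B hA hB => ?_⟩
    · exact Nat.pos_of_ne_zero fun h => by
        rcases ENat.toNat_eq_zero.1 h with h'' | h''
        · exact hm (Module.length_eq_zero_iff.1 h'')
        · exact KTheory.Devissage.length_stalk_ne_top hG _ (fun w hw hwy =>
            (eq_of_dim_closure (specializes_iff_mem_closure.1 hwy)
              ((LocCohTransform.topologicalKrullDim_mono (closure_minimal
                (Set.singleton_subset_iff.2 (hsub hw)) isClosed_closure)).trans hy.le) hy.ge).symm) h''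
    · rw [delta_eq_sum_length k (l := [A, B]) (by simp [hA, hB]) hG
        (by simpa using (LocCohTransform.topologicalKrullDim_mono hsub).trans hy.le) {genericPoint X}
        fun z => ?_, Finset.sum_singleton]
      rw [Finset.mem_singleton]
      exact ⟨fun hz => ⟨hz ▸ hm, hz ▸ by simpa using hy⟩,
        fun hz => eq_of_dim_closure (hsub hz.1) hy.le (le_of_eq (by simpa using hz.2.symm))⟩
  obtain ⟨a, ha, haeq⟩ := key hP hmem
  obtain ⟨b, hb, hbeq⟩ := key hO hmem'
  refine ⟨a, b, ha, hb, fun A B hA hB => ?_⟩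
  have e := delta_pullback_eq k ρ hρ (l := [A, B]) (by simp [hA, hB]) hc (by
    simp only [List.length_cons, List.length_nil]
    exact (LocCohTransform.topologicalKrullDim_mono (Set.subset_univ _)).trans
      (by rw [dim_univ, hW]; rfl))
  simp only [List.map_cons, List.map_nil] at e
  simp only [Groth.Inter.pair, e, haeq A B hA hB, hbeq A B hA hB]
  ring

/-- On an integral projective surface a class orthogonal to a positive class, of nonnegative square,
is orthogonal to everything. -/
theorem pair_eq_zero [IsIntegral X] (hdim : topologicalKrullDim X = 2) {A : X.Modules} (hA : CohB1.IsAmple A)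
    {H L : X.Modules} (hH : PicF.IsInvertible H) (hL : PicF.IsInvertible L) (hHH : 0 < pair k H H)
    (hLH : pair k L H = 0) (hLL : 0 ≤ pair k L L) {P : X.Modules} (hP : PicF.IsInvertible P) :
    pair k L P = 0 := by
  obtain ⟨P₀, hP₀, hpP₀⟩ := exists_comb k hdim.le hP hH (pair k H H) (-pair k P H)
  have h0 : pair k P₀ H = 0 := by rw [hpP₀ H hH]; ring
  have hLL0 : pair k L L = 0 := le_antisymm
    (pair_self_nonpos k hdim hA hH hL hHH (by rw [pair_comm k]; exact hLH)) hLL
  have key : ∀ u : ℤ, 2 * u * pair k L P₀ + pair k P₀ P₀ ≤ 0 := fun u => by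
    obtain ⟨Q, hQ, hpQ⟩ := exists_comb k hdim.le hL hP₀ u 1
    have hQH : pair k H Q = 0 := by rw [pair_comm k, hpQ H hH, hLH, h0]; ring
    have h := pair_self_nonpos k hdim hA hH hQ hHH hQH
    rw [hpQ Q hQ, pair_comm k L Q, pair_comm k P₀ Q, hpQ L hL, hpQ P₀ hP₀, hLL0, pair_comm k P₀ L] at h
    linarith
  have hz : pair k L P₀ = 0 := by
    by_contra hne
    have h1 : 1 ≤ pair k L P₀ * pair k L P₀ := mul_self_pos.2 hne
    nlinarith [key ((|pair k P₀ P₀| + 1) * pair k L P₀), abs_nonneg (pair k P₀ P₀),
      neg_abs_le (pair k P₀ P₀),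
      mul_le_mul_of_nonneg_left h1 (abs_nonneg (pair k P₀ P₀))]
  rw [pair_comm k, hpP₀ L hL, pair_comm k H L, hLH] at hz
  simp only [mul_zero, add_zero, mul_eq_zero] at hz
  rw [pair_comm k]
  exact hz.resolve_left hHH.ne'

/-- The index theorem for proper irreducible surfaces. -/
theorem main [IrreducibleSpace X] (hdim : topologicalKrullDim X = 2) {H L : X.Modules}
    (hH : PicF.IsInvertible H) (hL : PicF.IsInvertible L) (hHH : 0 < pair k H H) (hLH : pair k L H = 0)
    (hLL : 0 ≤ pair k L L) (y : X) (hy : topologicalKrullDim (closure ({y} : Set X)) = ((1 : ℕ) : WithBot ℕ∞)) :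
    delta k [L] (Cyc.closureStructureSheaf y) = 0 := by
  have hN : IsNoetherian X := isNoetherian k
  let η := genericPoint X
  have hη : closure ({η} : Set X) = Set.univ := genericPoint_spec X
  have hηy : η ∉ closure ({y} : Set X) := fun h => by
    have : (Set.univ : Set X) ⊆ closure {y} :=
      hη ▸ closure_minimal (Set.singleton_subset_iff.2 h) isClosed_closure
    have h2 := (LocCohTransform.topologicalKrullDim_mono this).trans_eq hy
    rw [dim_univ, hdim] at h2
    exact absurd (show (2 : ℕ) ≤ 1 by exact_mod_cast h2) (by norm_num)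
  let I := IntMult.ptIdeal y
  have hIs : ∀ x : X, x ∈ I.support ↔ x ∈ closure ({y} : Set X) := fun x => by
    rw [← SetLike.mem_coe]
    simp only [I, IntMult.ptIdeal, Scheme.IdealSheafData.coe_support_vanishingIdeal]
    rfl
  have hηI : η ∉ I.support := fun h => hηy ((hIs η).1 h)
  -- a blow-up making the curve Cartier, and a projective model of it
  obtain ⟨X', b, hb⟩ := Groth.BlowUpBasics.exists_isBlowUp X I
  have : IsProper b := Groth.HTopHyper.isProper_of_isBlowUp hb fun U =>
    have := IsLocallyNoetherian.component_noetherian U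
    (isNoetherianRing_iff_ideal_fg _).1 inferInstance _
  letI : X'.Over (Spec (CommRingCat.of k)) := ⟨b ≫ (X ↘ Spec (CommRingCat.of k))⟩
  have : IsProper (X' ↘ Spec (CommRingCat.of k)) :=
    inferInstanceAs (IsProper (b ≫ (X ↘ Spec (CommRingCat.of k))))
  have hiso := Groth.Divisors.isIso_morphismRestrict_compl hb
  have hηU : η ∈ Groth.Divisors.complOpens I := hηI
  obtain ⟨⟨η', hη'U⟩, hη'⟩ := (b ∣_ Groth.Divisors.complOpens I).homeomorph.surjective ⟨η, hηU⟩
  have hbη : b η' = η := by
    have e := congrArg Subtype.val hη'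
    exact (morphismRestrict_base_coe b _ _).symm.trans e
  have hh : Order.height η' = Order.height η := by
    have hz : b.fiberι η ((b.fiberHomeo η).symm ⟨η', hbη⟩) = η' := by
      simp [← Scheme.Hom.fiberHomeo_apply]
    have hadd := Variety2.Dim.height_fiber_add (X' ↘ Spec (CommRingCat.of k))
      (X ↘ Spec (CommRingCat.of k)) b rfl η ((b.fiberHomeo η).symm ⟨η', hbη⟩)
    have : Subsingleton (b.fiber η) := by
      refine @Function.Injective.subsingleton _ _ _ (b.fiberHomeo η).injective ⟨?_⟩
      rintro ⟨p, hp⟩ ⟨q, hq⟩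
      have hpU : b p ∈ Groth.Divisors.complOpens I := by rw [show b p = η from hp]; exact hηU
      have hqU : b q ∈ Groth.Divisors.complOpens I := by rw [show b q = η from hq]; exact hηU
      have hp' : ((b ∣_ Groth.Divisors.complOpens I) (⟨p, hpU⟩ : (b ⁻¹ᵁ Groth.Divisors.complOpens I))).1 = b p :=
        morphismRestrict_base_coe b _ _
      have hq' : ((b ∣_ Groth.Divisors.complOpens I) (⟨q, hqU⟩ : (b ⁻¹ᵁ Groth.Divisors.complOpens I))).1 = b q :=
        morphismRestrict_base_coe b _ _
      have e : (⟨p, hpU⟩ : (b ⁻¹ᵁ Groth.Divisors.complOpens I)) = ⟨q, hqU⟩ :=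
        (b ∣_ Groth.Divisors.complOpens I).homeomorph.injective
          (Subtype.ext (hp'.trans ((hp.trans hq.symm).trans hq'.symm)))
      have e' : p = q := congrArg (Subtype.val : ↥(b ⁻¹ᵁ Groth.Divisors.complOpens I) → X') e
      exact Subtype.ext e'
    rw [hz, (Variety2.Dim.height_eq_zero_iff _).2 (Set.subsingleton_of_subsingleton.isClosed), zero_add] at hadd
    exact hadd.symm
  have hd' : topologicalKrullDim (closure ({η'} : Set X')) = 2 := by
    rw [Variety2.Dim.dim_closure_singleton, hh, ← Variety2.Dim.dim_closure_singleton, hη, dim_univ, hdim]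
  obtain ⟨W, instW, hWp, hWi, μ, A, hμp, hμ, hA, hWd, hμη⟩ := exists_model k η'
  let ρ := μ ≫ b
  have hρ : ρ ≫ (X ↘ Spec (CommRingCat.of k)) = W ↘ Spec (CommRingCat.of k) := by
    rw [Category.assoc]; exact hμ
  have hρη : ρ (genericPoint W) = η := by
    show b (μ (genericPoint W)) = η
    rw [hμη, hbη]
  have : Surjective ρ := ⟨fun x => by
    have hc : closure ({η} : Set X) ⊆ Set.range ρ :=
      closure_minimal (Set.singleton_subset_iff.2 ⟨_, hρη⟩) ρ.isClosedMap.isClosed_range
    exact hc (hη ▸ Set.mem_univ x)⟩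
  have hWd2 : topologicalKrullDim W = 2 := hWd.trans hd'
  obtain ⟨a, c, ha, hc, hT⟩ := exists_transfer k hdim ρ hρ hWd2 hρη
  have hHH' : 0 < pair k ((Scheme.Modules.pullback ρ).obj H) ((Scheme.Modules.pullback ρ).obj H) := by
    have := hT H H hH hH
    have : (0 : ℤ) < (a : ℤ) * pair k H H := mul_pos (by exact_mod_cast ha) hHH
    by_contra hle
    nlinarith [(Nat.cast_nonneg c : (0 : ℤ) ≤ c)]
  have hLH' : pair k ((Scheme.Modules.pullback ρ).obj L) ((Scheme.Modules.pullback ρ).obj H) = 0 := by
    have := hT L H hL hH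
    rw [hLH, mul_zero, mul_eq_zero] at this
    exact this.resolve_left (by exact_mod_cast hc.ne')
  have hLL' : 0 ≤ pair k ((Scheme.Modules.pullback ρ).obj L) ((Scheme.Modules.pullback ρ).obj L) := by
    have := hT L L hL hL
    by_contra hlt
    nlinarith [mul_nonneg (Int.natCast_nonneg a) hLL, (by exact_mod_cast hc : (0 : ℤ) < c)]
  let D := I.comap ρ
  have hD : BlowUp.IsEffCartierIdeal D := by
    have hD' : BlowUp.IsEffCartierIdeal ((I.comap b).comap μ) := by
      refine Groth.Divisors.isEffCartierIdeal_comap_reduced μ hb.1 fun ξ hξ => ?_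
      obtain rfl : genericPoint W = ξ := hξ _ (genericPoint_specializes ξ)
      rw [hμη]
      exact (Groth.Divisors.not_mem_comap_support_iff η').2 (hbη.symm ▸ hηI)
    rwa [← Scheme.IdealSheafData.comap_comp] at hD'
  have hE := Groth.PicAux.isInvertible_idealMod hD
  have hρL := isInvertible_pullback ρ hL
  have hz := pair_eq_zero k hWd2 hA (isInvertible_pullback ρ hH) hρL hHH' hLH' hLL' hE
  rw [pair_comm k] at hz
  simp only [Groth.Inter.pair] at hz
  rw [delta_cons] at hz
  let j := D.subschemeι
  have hOD := isCoh_of_isInvertible (EulerDeg.isInvertible_structureModule D.subscheme)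
  have hWN : IsNoetherian W := isNoetherian k
  have hQc : Coh.IsCoh (ClSub.quotMod D) := Groth.CohTwo.isCoh_push j hOD
  have hIc := isCoh_of_isInvertible hE
  have hadd := delta_add k (l := [(Scheme.Modules.pullback ρ).obj L]) (by simpa using hρL)
    (Groth.PicAux.shortExact_idealMod D) hIc hQc
  have hId : delta k [(Scheme.Modules.pullback ρ).obj L] (CohB1.tensorMod (ClSub.idealMod D)
      (Coh.structureModule W)) = delta k [(Scheme.Modules.pullback ρ).obj L] (ClSub.idealMod D) :=
    delta_congr k _ ⟨(tensor_comm _ _).some ≪≫ (tensor_one _).some⟩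
  have hQ : delta k [(Scheme.Modules.pullback ρ).obj L] (ClSub.quotMod D) = 0 := by
    change delta k _ (Coh.structureModule W) = delta k _ (ClSub.idealMod D) +
      delta k _ (ClSub.quotMod D) at hadd
    rw [hId] at hz
    linarith
  -- push the exceptional divisor down
  have hDsub : ∀ z : D.subscheme, ρ (j z) ∈ closure ({y} : Set X) := fun z => by
    have h1 : j z ∈ D.support := by
      rw [← SetLike.mem_coe, ← Scheme.IdealSheafData.range_subschemeι]; exact ⟨z, rfl⟩
    rw [Scheme.IdealSheafData.support_comap] at h1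
    exact (hIs _).1 h1
  have hQs : CohB1.support (ClSub.quotMod D) ⊆ Set.range j := Groth.CohTwo.support_push_subset j _
  have hQd : topologicalKrullDim (CohB1.support (ClSub.quotMod D)) ≤ ((1 : ℕ) : WithBot ℕ∞) := by
    have hlt := LocCohTransform.topologicalKrullDim_lt_of_ssubset (Set.subset_univ (Set.range j))
      (fun h => by
        obtain ⟨z, hz'⟩ := h (Set.mem_univ (genericPoint W))
        exact hηy (hρη ▸ hz' ▸ hDsub z))
      j.isClosedEmbedding.isClosed_range isClosed_univ (IrreducibleSpace.isIrreducible_univ W)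
      (by rw [dim_univ, hWd2]; exact WithBot.coe_lt_coe.2 (ENat.natCast_lt_top 2))
    rw [dim_univ, hWd2] at hlt
    exact (LocCohTransform.topologicalKrullDim_mono hQs).trans
      (lt_natCast_succ_iff.1 (hlt.trans_eq rfl))
  have e := delta_pullback_eq k ρ hρ (l := [L]) (by simpa using hL) hQc (by simpa using hQd)
  simp only [List.map_cons, List.map_nil] at e
  have hPc : Coh.IsCoh ((Coh.push ρ).obj (ClSub.quotMod D)) := isCoh_push_proper ρ hQc
  have hPsub : CohB1.support ((Coh.push ρ).obj (ClSub.quotMod D)) ⊆ closure {y} := fun x hx => by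
    obtain ⟨w, hw, rfl⟩ := support_push_subset' ρ _ (CohTwo.isClosed_support _ hQc) hx
    obtain ⟨z, rfl⟩ := hQs hw
    exact hDsub z
  have hPmem : y ∈ CohB1.support ((Coh.push ρ).obj (ClSub.quotMod D)) := by
    obtain ⟨w, hw⟩ := ρ.surjective y
    have hwD : w ∈ Set.range j := by
      rw [Scheme.IdealSheafData.range_subschemeι, Scheme.IdealSheafData.support_comap]
      exact (hIs _).2 (hw ▸ subset_closure rfl)
    obtain ⟨z, rfl⟩ := hwD
    have h1 := mem_support_push_structure (j ≫ ρ) z
    rw [show (j ≫ ρ) z = y from hw] at h1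
    exact (QCohMod.support_eq_of_iso ((Scheme.Modules.pushforwardComp j ρ).app _)).symm.subset h1
  obtain ⟨n, hn, hn'⟩ := delta_eq_length_mul k (l := [L]) (by simpa using hL) hPc
    (by simpa using hy) hPsub hPmem
  rw [e, hn', mul_eq_zero] at hQ
  exact hQ.resolve_left (by exact_mod_cast hn.ne')

/-- The form with an intersection number on a closed curve. -/
theorem delta_push_eq_zero [IrreducibleSpace X] (hdim : topologicalKrullDim X = 2) {H L : X.Modules}
    (hH : PicF.IsInvertible H) (hL : PicF.IsInvertible L) (hHH : 0 < pair k H H) (hLH : pair k L H = 0)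
    (hLL : 0 ≤ pair k L L) {Y : Scheme.{u}} (ι : Y ⟶ X) [IsClosedImmersion ι] [IsIntegral Y]
    (hY : topologicalKrullDim Y = 1) : delta k [L] ((Coh.push ι).obj (Coh.structureModule Y)) = 0 := by
  have hN : IsNoetherian X := isNoetherian k
  have : IsLocallyNoetherian Y := LocallyOfFiniteType.isLocallyNoetherian ι
  let y := ι (genericPoint Y)
  have hr : Set.range ι = closure ({y} : Set X) := by
    have h := (genericPoint_spec Y).image ι.continuous
    rw [Set.image_univ, ι.isClosedEmbedding.isClosed_range.closure_eq] at h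
    exact h.symm
  have hy : topologicalKrullDim (closure ({y} : Set X)) = ((1 : ℕ) : WithBot ℕ∞) := by
    rw [← hr, ← IsHomeomorph.topologicalKrullDim_eq _
      ι.isClosedEmbedding.toIsEmbedding.toHomeomorph.isHomeomorph, hY]
    rfl
  obtain ⟨n, -, hn⟩ := delta_eq_length_mul k (l := [L]) (by simpa using hL)
    (Groth.CohTwo.isCoh_push ι (isCoh_of_isInvertible (EulerDeg.isInvertible_structureModule Y)))
    (by simpa using hy) ((Groth.CohTwo.support_push_subset ι _).trans hr.le)
    (mem_support_push_structure ι (genericPoint Y))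
  rw [hn, main k hdim hH hL hHH hLH hLL y hy, mul_zero]

end Groth.Misc13.HodgeProper
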