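import Groth.Agent.Misc13.PencilBC
import Groth.Agent.Inter.NakaiCor
import Groth.Agent.Inter.NumPullback
import Groth.Agent.Ega2Proj.AmpleBasic
import Groth.Agent.Ega2Proj.RelAmple
import Groth.Agent.Inter.Growth3
import Groth.Agent.Pi1Ample.FiniteAffine

/-!
# The Hodge index theorem in any dimension: numerical triviality
-/

set_option autoImplicit false

universe u

open CategoryTheory CategoryTheory.Limits AlgebraicGeometry TopologicalSpace Opposite

namespace Groth.Misc13.HodgeDim

open Groth.Inter Groth.PicAux Groth.PropsBasic.Ample Groth.HilbStab Groth.Misc13.PencilBC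
open Groth.CohBase (toSec resFun_toSec)

section Aux

variable {X : Scheme.{u}}

/-- Near a frame the pencil section is an explicit function. -/
theorem gloc_pencil {X' : Scheme.{u}} (π : X' ⟶ X) {M : X.Modules} {V : X.Opens} {e : Γ(M, V)}
    (he : Gen M V e) {s₀ s₁ : Γ(M, (⊤ : X.Opens))} {a₀ a₁ : Γ(X, V)}
    (h₀ : res M le_top s₀ = a₀ • e) (h₁ : res M le_top s₁ = a₁ • e) (T : Γ(X', π ⁻¹ᵁ ⊤)) :
    gloc (X := X') (L := (Scheme.Modules.pullback π).obj M) (pullSec π M s₁ - T • pullSec π M s₀) ⊓ π ⁻¹ᵁ V =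
      X'.basicOpen (π.app V a₁ - resX X' (π.preimage_mono le_top) T * π.app V a₀) := by
  refine gloc_inf_eq_basicOpen (he.pull π) ?_
  have h : ∀ (s : Γ(M, (⊤ : X.Opens))) (a : Γ(X, V)), res M le_top s = a • e →
      res ((Scheme.Modules.pullback π).obj M) (π.preimage_mono le_top) (pullSec π M s) =
        π.app V a • pullSec π M e := fun s a hs => by
    rw [res_pullSec π M le_top s, hs, pullSec_smul]
  change res ((Scheme.Modules.pullback π).obj M) (π.preimage_mono le_top) _ = _
  rw [sub_smul, mul_smul, ← h s₀ a₀ h₀, ← h s₁ a₁ h₁, ← res_smul]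
  exact map_sub (((Scheme.Modules.pullback π).obj M).presheaf.map (homOfLE (π.preimage_mono le_top)).op).hom _ _

end Aux

variable (k : Type u) [Field k] {X : Scheme.{u}} [X.Over (Spec (CommRingCat.of k))]
  [IsProper (X ↘ Spec (CommRingCat.of k))]

/-- `L` has degree zero on the curves inside the closure of a point. -/
def CurveZero (L : X.Modules) (S : Set X) : Prop :=
  ∀ z : X, z ∈ S → topologicalKrullDim (closure ({z} : Set X)) = ((1 : ℕ) : WithBot ℕ∞) →
    delta k [L] (Cyc.closureStructureSheaf z) = 0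

omit [IsProper (X ↘ Spec (CommRingCat.of k))] in
theorem support_structure [Nonempty X] : CohB1.support (Coh.structureModule X) = Set.univ :=
  Set.eq_univ_of_forall fun x h => by
    have : Nontrivial ((Coh.structureModule X).presheaf.stalk x) :=
      (RefRank.oneEquiv x).toEquiv.nontrivial_congr.1 inferInstance
    exact not_subsingleton _ h

/-- Passing to the closure of a point. -/
theorem closure_model (ξ : X) :
    ∃ (W : Scheme.{u}) (_ : W.Over (Spec (CommRingCat.of k))) (_ : IsProper (W ↘ Spec (CommRingCat.of k)))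
      (_ : IsIntegral W) (ι : W ⟶ X), topologicalKrullDim W = topologicalKrullDim (closure ({ξ} : Set X)) ∧
      (∀ B : X.Modules, IsAmpleInv B → IsAmpleInv ((Scheme.Modules.pullback ι).obj B)) ∧
      (∀ l : List X.Modules, (∀ N ∈ l, PicF.IsInvertible N) →
        delta k (l.map (Scheme.Modules.pullback ι).obj) (Coh.structureModule W) =
          delta k l (Cyc.closureStructureSheaf ξ)) ∧
      ∀ L : X.Modules, PicF.IsInvertible L →
        CurveZero k ((Scheme.Modules.pullback ι).obj L) Set.univ → CurveZero k L (closure {ξ}) := by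
  have hN : IsNoetherian X := isNoetherian k
  let ι := (IntMult.ptIdeal ξ).subschemeι
  let W := (IntMult.ptIdeal ξ).subscheme
  letI : W.Over (Spec (CommRingCat.of k)) := ⟨ι ≫ (X ↘ Spec (CommRingCat.of k))⟩
  have : IsProper (W ↘ Spec (CommRingCat.of k)) :=
    inferInstanceAs (IsProper (ι ≫ (X ↘ Spec (CommRingCat.of k))))
  have : IsIntegral W := CohTwo.isIntegral_closure_subscheme rfl
  have hWN : IsNoetherian W := isNoetherian k
  refine ⟨W, inferInstance, inferInstance, inferInstance, ι, dim_ptIdeal_subscheme ξ, ?_, ?_, ?_⟩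
  · rintro B ⟨A, hA, hAB⟩
    exact ⟨_, Chow.isAmple_pullback_of_isAffineHom ι hA, isInverseOf_pullback ι hAB⟩
  · intro l hl
    exact (delta_push k ι rfl l hl (Coh.structureModule W)).symm
  · intro L hL h z hz hzd
    have hrange : Set.range ι = closure ({ξ} : Set X) :=
      Groth.PropsBasic2.range_vanishingIdeal_subschemeι ⟨closure {ξ}, isClosed_closure⟩
    obtain ⟨w, hw⟩ : z ∈ Set.range ι := hrange.ge hz
    have hwd : topologicalKrullDim (closure ({w} : Set W)) = ((1 : ℕ) : WithBot ℕ∞) := by
      rw [(ι.isClosedEmbedding.isEmbedding.homeomorphImage (closure {w})).isHomeomorph.topologicalKrullDim_eq,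
        ← ι.isClosedEmbedding.closure_image_eq, Set.image_singleton, hw, hzd]
    have hc : Coh.IsCoh (Cyc.closureStructureSheaf w) := KTheory.Devissage.isCoh_closureStructureSheaf w
    have e := delta_push k ι rfl [L] (by simpa using hL) (Cyc.closureStructureSheaf w)
    rw [List.map_cons, List.map_nil, h w trivial hwd] at e
    have hP : Coh.IsCoh ((Coh.push ι).obj (Cyc.closureStructureSheaf w)) := Groth.CohTwo.isCoh_push ι hc
    have hsub : CohB1.support ((Coh.push ι).obj (Cyc.closureStructureSheaf w)) ⊆ closure {z} := fun x hx => by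
      obtain ⟨w', hw', rfl⟩ := support_push_subset' ι _ (CohTwo.isClosed_support _ hc) hx
      have := (KTheory.Devissage.support_closureStructureSheaf_subset w hw')
      exact hw ▸ (Set.image_singleton (f := ι) (a := w) ▸
        image_closure_subset_closure_image ι.continuous ⟨w', this, rfl⟩)
    have hmem : z ∈ CohB1.support ((Coh.push ι).obj (Cyc.closureStructureSheaf w)) := by
      let j := (IntMult.ptIdeal w).subschemeι
      obtain ⟨q, hq⟩ : w ∈ Set.range j := (Groth.PropsBasic2.range_vanishingIdeal_subschemeι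
        ⟨closure {w}, isClosed_closure⟩).ge (subset_closure rfl)
      have h1 := HodgeProper.mem_support_push_structure (j ≫ ι) q
      rw [show (j ≫ ι) q = z from (congrArg ι hq).trans hw] at h1
      exact (QCohMod.support_eq_of_iso ((Scheme.Modules.pushforwardComp j ι).app _)).symm.subset h1
    obtain ⟨n, hn, hn'⟩ := HodgeProper.delta_eq_length_mul k (l := [L]) (by simpa using hL) hP
      (by simpa using hzd) hsub hmem
    rw [hn', mul_eq_zero] at e
    exact e.resolve_left (by exact_mod_cast hn.ne')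

/-- Dimensions in an irreducible scheme away from the generic point. -/
theorem dim_lt_of_ne [IrreducibleSpace X] {d : ℕ} (hdim : topologicalKrullDim X = ((d + 1 : ℕ) : WithBot ℕ∞))
    {x : X} (hx : x ≠ genericPoint X) :
    topologicalKrullDim (closure ({x} : Set X)) ≤ (d : ℕ) := by
  refine lt_natCast_succ_iff.1 ((LocCohTransform.topologicalKrullDim_lt_of_ssubset (Set.subset_univ _)
    (fun h => hx ?_) isClosed_closure isClosed_univ (IrreducibleSpace.isIrreducible_univ X)
    (by rw [HodgeProper.dim_univ, hdim]; exact WithBot.coe_lt_coe.2 (ENat.natCast_lt_top _))).trans_eq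
    (by rw [HodgeProper.dim_univ, hdim]))
  exact (Specializes.antisymm (specializes_iff_mem_closure.2 (h (Set.mem_univ (genericPoint X))))
    (genericPoint_specializes x)).eq

set_option maxHeartbeats 1600000 in
/-- Cutting by a generic member of a pencil through a curve. -/
theorem step [IsIntegral X] {d : ℕ} (hdim : topologicalKrullDim X = ((d + 3 : ℕ) : WithBot ℕ∞))
    {B : X.Modules} (hB : IsAmpleInv B) (y : X)
    (hy : topologicalKrullDim (closure ({y} : Set X)) = ((1 : ℕ) : WithBot ℕ∞)) :
    ∃ (ζ : ↥(Y k X)) (n m : ℕ), topologicalKrullDim (closure ({ζ} : Set (Y k X))) = ((d + 2 : ℕ) : WithBot ℕ∞) ∧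
      0 < n ∧ 0 < m ∧
      (∀ l : List X.Modules, (∀ N ∈ l, PicF.IsInvertible N) → l.length = d + 2 →
        (n : ℤ) * delta (RatFunc k) (l.map (Scheme.Modules.pullback (g k X)).obj) (Cyc.closureStructureSheaf ζ) =
          m * delta k (B :: l) (Coh.structureModule X)) ∧
      ∀ L : X.Modules, PicF.IsInvertible L →
        CurveZero (RatFunc k) ((Scheme.Modules.pullback (g k X)).obj L) (closure {ζ}) →
        delta k [L] (Cyc.closureStructureSheaf y) = 0 := by
  classical
  have hBamp := hB
  obtain ⟨A, hA, hAB⟩ := hB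
  have hBi : PicF.IsInvertible B := hBamp.isInvertible
  have hN : IsNoetherian X := isNoetherian k
  have := isIntegral k X
  have hYN : IsNoetherian (Y k X) := isNoetherian (RatFunc k)
  let W : X.Opens := ⟨(closure ({y} : Set X))ᶜ, isClosed_closure.isOpen_compl⟩
  have hW : ∀ x : X, ¬ topologicalKrullDim (closure ({x} : Set X)) ≤ ((1 : ℕ) : WithBot ℕ∞) → x ∈ W :=
    fun x hx hxy => hx ((LocCohTransform.topologicalKrullDim_mono
      (closure_minimal (Set.singleton_subset_iff.2 hxy) isClosed_closure)).trans hy.le)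
  have hηW : genericPoint X ∈ W := hW _ fun h => by
    rw [(genericPoint_spec X).def, HodgeProper.dim_univ, hdim] at h
    exact absurd (show d + 3 ≤ 1 by exact_mod_cast h) (by omega)
  obtain ⟨N₀, t₀, ht₀a, ht₀, ht₀W⟩ := Groth.Ega2Proj.exists_affine_gloc_between_of_isAmple hA W
    {genericPoint X} (by simpa using hηW)
  let E : Set X := {x | x ∉ gloc t₀ ∧ topologicalKrullDim (closure ({x} : Set X)) = ((d + 2 : ℕ) : WithBot ℕ∞)}
  have hne : ∀ x : X, x ∉ gloc t₀ → x ≠ genericPoint X := fun x hx h => hx (h ▸ ht₀ _ (Finset.mem_singleton_self _))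
  have hE : E.Finite := (DivisorLength.finite_maximal_points ((gloc t₀).2.isClosed_compl)).subset
    fun x hx => ⟨hx.1, fun w hw hwx => (eq_of_dim_closure hwx.mem_closure
      (dim_lt_of_ne hdim (hne w hw)) hx.2.ge).symm⟩
  obtain ⟨N₁, t₁, -, ht₁, ht₁W⟩ := Groth.Ega2Proj.exists_affine_gloc_between_of_isAmple hA W hE.toFinset
    (fun x hx => hW x fun h => by
      rw [(hE.mem_toFinset.1 hx).2] at h
      exact absurd (show d + 2 ≤ 1 by exact_mod_cast h) (by omega))
  let n' : ULift.{u} Bool → ℕ := fun b => bif b.down then N₁ else N₀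
  let t' : ∀ b : ULift.{u} Bool, Γ(CohB1.tensorPow A (n' b + 1), (⊤ : X.Opens)) := fun b =>
    match b with
    | ⟨true⟩ => t₁
    | ⟨false⟩ => t₀
  obtain ⟨N, hNs⟩ := exists_common_power_finset hA.1 Finset.univ n' t'
  obtain ⟨s₀, hs₀⟩ := hNs ⟨false⟩ (Finset.mem_univ _)
  obtain ⟨s₁, hs₁⟩ := hNs ⟨true⟩ (Finset.mem_univ _)
  change gloc s₀ = gloc t₀ at hs₀
  change gloc s₁ = gloc t₁ at hs₁
  rw [← hs₀] at ht₀a ht₀W
  rw [← hs₁] at ht₁W
  let M := CohB1.tensorPow A (N + 1)
  have hM : PicF.IsInvertible M := isInvertible_tensorPow hA.1 _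
  have hbase : ∀ x : X, x ∉ gloc s₀ → x ∉ gloc s₁ →
      topologicalKrullDim (closure ({x} : Set X)) ≤ ((d + 1 : ℕ) : WithBot ℕ∞) := fun x h0 h1 => by
    rw [hs₀] at h0
    refine lt_natCast_succ_iff.1 (lt_of_le_of_ne (dim_lt_of_ne hdim (hne x h0)) fun h => h1 ?_)
    rw [hs₁]
    exact ht₁ x (hE.mem_toFinset.2 ⟨h0, h⟩)
  -- the section of the pencil
  let gM := (Scheme.Modules.pullback (g k X)).obj M
  have hgM : PicF.IsInvertible gM := isInvertible_pullback _ hM
  let T : Γ(Y k X, g k X ⁻¹ᵁ ⊤) := toSec (RatFunc k) (g k X ⁻¹ᵁ ⊤) RatFunc.X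
  let σ : Γ(gM, (⊤ : (Y k X).Opens)) := pullSec (g k X) M s₁ - T • pullSec (g k X) M s₀
  have hT : ∀ V : X.Opens, resX (Y k X) ((g k X).preimage_mono le_top) T =
      toSec (RatFunc k) (g k X ⁻¹ᵁ V) RatFunc.X := fun V =>
    resFun_toSec (RatFunc k) ((g k X).preimage_mono le_top) RatFunc.X
  -- away from the frame of `s₀`
  have haway : ∀ z : ↥(Y k X), z ∉ g k X ⁻¹ᵁ gloc s₀ → (z ∈ gloc σ ↔ z ∈ g k X ⁻¹ᵁ gloc s₁) := by
    intro z hz
    obtain ⟨V, e, -, hzV, he⟩ := exists_affine_gen_mem hM (g k X z)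
    obtain ⟨a₀, h₀⟩ := he.exists_coeff le_rfl (res M le_top s₀)
    obtain ⟨a₁, h₁⟩ := he.exists_coeff le_rfl (res M le_top s₁)
    rw [res_self] at h₀ h₁
    have hp := gloc_pencil (g k X) he h₀ h₁ T
    have e0 := gloc_inf_eq_basicOpen he h₀
    have e1 := gloc_inf_eq_basicOpen he h₁
    have hn0 : z ∉ (Y k X).basicOpen ((g k X).app V a₀) := by
      rw [← Scheme.preimage_basicOpen, ← e0]
      exact fun h => hz h.1
    have hσ : z ∈ gloc σ ↔ z ∈ (Y k X).basicOpen ((g k X).app V a₁ -
        resX (Y k X) ((g k X).preimage_mono le_top) T * (g k X).app V a₀) :=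
      ⟨fun h => hp ▸ ⟨h, hzV⟩, fun h => (hp.symm.le h).1⟩
    have hs : z ∈ g k X ⁻¹ᵁ gloc s₁ ↔ z ∈ (Y k X).basicOpen ((g k X).app V a₁) := by
      rw [← Scheme.preimage_basicOpen, ← e1]
      exact ⟨fun h => ⟨h, hzV⟩, fun h => h.1⟩
    rw [hσ, hs, (Y k X).mem_basicOpen _ z hzV, (Y k X).mem_basicOpen _ z hzV, map_sub, map_mul]
    rw [(Y k X).mem_basicOpen _ z hzV] at hn0
    have hnu : (Y k X).presheaf.germ (g k X ⁻¹ᵁ V) z hzV
        (resX (Y k X) ((g k X).preimage_mono le_top) T) *
        (Y k X).presheaf.germ (g k X ⁻¹ᵁ V) z hzV ((g k X).app V a₀) ∈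
          IsLocalRing.maximalIdeal ((Y k X).presheaf.stalk z) := Ideal.mul_mem_left _ _ hn0
    exact ⟨fun h => not_not.1 fun hn => (IsLocalRing.mem_maximalIdeal _).1
        (Ideal.sub_mem _ ((IsLocalRing.mem_maximalIdeal _).2 hn) hnu) h,
      fun h => not_not.1 fun hn => (IsLocalRing.mem_maximalIdeal _).1
        (by simpa using Ideal.add_mem _ ((IsLocalRing.mem_maximalIdeal _).2 hn) hnu) h⟩
  -- the affine part
  set U := gloc s₀
  have he₀ : Gen M U (res M le_top s₀) := gen_gloc s₀ le_rfl
  obtain ⟨f, hf⟩ := he₀.exists_coeff le_rfl (res M le_top s₁)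
  rw [res_self] at hf
  set c := (g k X).app U f - toSec (RatFunc k) (g k X ⁻¹ᵁ U) RatFunc.X with hc
  have hin : gloc σ ⊓ g k X ⁻¹ᵁ U = (Y k X).basicOpen c := by
    rw [gloc_pencil (g k X) he₀ (s₁ := s₁) (one_smul _ _).symm hf T, map_one, mul_one, hT U]
  have hηU : Nonempty U := ⟨⟨genericPoint X, hs₀ ▸ ht₀ _ (Finset.mem_singleton_self _)⟩⟩
  obtain ⟨w₀, hw₀⟩ := basicOpen_nonempty k X ht₀a hηU f
  have hw₀σ : w₀ ∈ gloc σ := (hin.symm.le hw₀).1
  have hσ0 : σ ≠ 0 := fun h => by
    rw [h, ← zero_smul Γ(Y k X, ⊤) σ, Groth.Ega2Proj.gloc_smul hgM, Scheme.basicOpen_zero] at hw₀σ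
    exact hw₀σ.1
  have hgen : genericPoint (Y k X) ∈ gloc σ :=
    (genericPoint_spec (Y k X)).mem_open_set_iff (gloc σ).2 |>.2 ⟨w₀, trivial, hw₀σ⟩
  have hdY : topologicalKrullDim (Y k X) = ((d + 3 : ℕ) : WithBot ℕ∞) := (dim_eq k X).trans hdim
  have hZd : ∀ z : ↥(Y k X), z ∉ gloc σ →
      topologicalKrullDim (closure ({z} : Set (Y k X))) ≤ ((d + 2 : ℕ) : WithBot ℕ∞) :=
    fun z hz => dim_lt_of_ne hdY fun h => hz (h ▸ hgen)
  have hlow : ∀ z : ↥(Y k X), z ∉ gloc σ → z ∉ g k X ⁻¹ᵁ U →
      topologicalKrullDim (closure ({z} : Set (Y k X))) ≤ ((d + 1 : ℕ) : WithBot ℕ∞) := fun z hz hzU => by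
    have h := hbase (g k X z) hzU fun h => hz ((haway z hzU).2 h)
    rw [Variety2.Dim.dim_closure_singleton] at h ⊢
    exact (WithBot.coe_le_coe.2 (height_le k X (subset_closure rfl))).trans h
  have hkrull : ∀ z : ↥(Y k X), z ∉ gloc σ → ∃ p, p ⤳ z ∧ p ∈ g k X ⁻¹ᵁ U ∧
      p ∉ (Y k X).basicOpen c ∧
      topologicalKrullDim (closure ({p} : Set (Y k X))) = ((d + 2 : ℕ) : WithBot ℕ∞) := by
    intro z hz
    obtain ⟨p, hpz, hpσ, hpd⟩ := exists_height_specializes (K := RatFunc k) hgM σ hz
    have hge : ((d + 2 : ℕ) : WithBot ℕ∞) ≤ topologicalKrullDim (closure ({p} : Set (Y k X))) := by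
      rw [hdY, ← Variety2.Dim.dim_closure_singleton] at hpd
      by_contra hlt
      rw [not_le] at hlt
      have := add_le_add (lt_natCast_succ_iff.1 hlt) (le_refl (1 : WithBot ℕ∞))
      exact absurd (hpd.trans this) (by exact_mod_cast (show ¬ (d + 3 ≤ d + 1 + 1) by omega))
    have hpU : p ∈ g k X ⁻¹ᵁ U := by
      by_contra h
      exact absurd (hge.trans (hlow p hpσ h)) (by exact_mod_cast (show ¬ (d + 2 ≤ d + 1) by omega))
    exact ⟨p, hpz, hpU, fun h => hpσ (hin.symm.le h).1, le_antisymm (hZd p hpσ) hge⟩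
  have hvan : ∀ z : ↥(Y k X), g k X z ∈ closure ({y} : Set X) → z ∉ gloc σ := fun z hz h => by
    have h1 : z ∉ g k X ⁻¹ᵁ U := fun h' => ht₀W h' hz
    exact ht₁W ((haway z h1).1 h) hz
  obtain ⟨z₀, hz₀⟩ := FBaseGeom.surjective_bcπ (X ↘ Spec (CommRingCat.of k)) (RatFunc k) y
  have hz₀' : g k X z₀ = y := hz₀
  obtain ⟨p₀, -, hp₀U, hp₀c, hp₀d⟩ := hkrull z₀ (hvan z₀ (hz₀'.symm ▸ subset_closure rfl))
  obtain ⟨ζ, hζU, hζc, hζ⟩ := exists_generic k X ht₀a f hp₀U hp₀c
  have hζσ : ζ ∉ gloc σ := fun h => hζc (hin ▸ ⟨h, hζU⟩)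
  have hp : ∀ p ∈ g k X ⁻¹ᵁ U, p ∉ (Y k X).basicOpen c →
      topologicalKrullDim (closure ({p} : Set (Y k X))) = ((d + 2 : ℕ) : WithBot ℕ∞) → p = ζ :=
    fun p h1 h2 h3 => eq_of_dim_closure (hζ p h1 h2).mem_closure (hZd ζ hζσ) h3.ge
  have hζd : topologicalKrullDim (closure ({ζ} : Set (Y k X))) = ((d + 2 : ℕ) : WithBot ℕ∞) :=
    hp p₀ hp₀U hp₀c hp₀d ▸ hp₀d
  have hZ : ∀ z : ↥(Y k X), z ∉ gloc σ → z ∈ closure ({ζ} : Set (Y k X)) := fun z hz => by
    obtain ⟨p, hpz, hpU, hpc, hpd⟩ := hkrull z hz
    exact specializes_iff_mem_closure.1 (hp p hpU hpc hpd ▸ hpz)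
  -- the difference along the member of the pencil
  let O := Coh.structureModule (Y k X)
  have hOi : PicF.IsInvertible O := EulerDeg.isInvertible_structureModule _
  have hO : Coh.IsCoh O := isCoh_of_isInvertible hOi
  have hOM : Coh.IsCoh (CohB1.tensorMod O gM) := isCoh_of_isInvertible (isInvertible_tensorMod hOi hgM)
  have : Mono (mulSec σ O) := mono_mulSec_of_ne_zero hgM hσ0 hOi
  let Q := cokernel (mulSec σ O)
  have hQ : Coh.IsCoh Q := QCohMod.isCoh_cokernel (M := O) _ hOM
  have hQs : CohB1.support Q ⊆ closure {ζ} := fun z hz =>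
    hZ z (support_cokernel_mulSec_subset σ O hz)
  let n := (Module.length ((Y k X).presheaf.stalk ζ) (Q.presheaf.stalk ζ)).toNat
  have hOX : Coh.IsCoh (Coh.structureModule X) := isCoh_of_isInvertible (EulerDeg.isInvertible_structureModule X)
  have hform : ∀ l : List X.Modules, (∀ N ∈ l, PicF.IsInvertible N) → l.length = d + 2 →
      (n : ℤ) * delta (RatFunc k) (l.map (Scheme.Modules.pullback (g k X)).obj) (Cyc.closureStructureSheaf ζ) =
        (N + 1 : ℕ) * delta k (B :: l) (Coh.structureModule X) := by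
    intro l hl hlen
    set l' := l.map (Scheme.Modules.pullback (g k X)).obj with hl'def
    have hl' : ∀ P ∈ l', PicF.IsInvertible P := by
      simp only [l', List.mem_map]
      rintro _ ⟨P, hP, rfl⟩
      exact isInvertible_pullback _ (hl P hP)
    have hlen' : l'.length = d + 2 := by simp [l', hlen]
    have hQd : topologicalKrullDim (CohB1.support Q) ≤ (l'.length : ℕ) := by
      rw [hlen']; exact (LocCohTransform.topologicalKrullDim_mono hQs).trans hζd.le
    have hsum : delta (RatFunc k) l' Q = n * delta (RatFunc k) l' (Cyc.closureStructureSheaf ζ) := by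
      by_cases hmem : ζ ∈ CohB1.support Q
      · rw [delta_eq_sum_length (RatFunc k) hl' hQ hQd {ζ} fun z => ?_, Finset.sum_singleton]
        rw [Finset.mem_singleton, hlen']
        exact ⟨fun h => h ▸ ⟨hmem, hζd⟩, fun h => eq_of_dim_closure (hQs h.1) hζd.le h.2.ge⟩
      · have hlt : topologicalKrullDim (CohB1.support Q) < (l'.length : ℕ) := by
          rw [hlen', ← hζd]
          exact LocCohTransform.topologicalKrullDim_lt_of_ssubset hQs (fun h => hmem (h (subset_closure rfl)))
            (CohTwo.isClosed_support _ hQ) isClosed_closure isIrreducible_singleton.closure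
            (hζd ▸ WithBot.coe_lt_coe.2 (ENat.natCast_lt_top _))
        rw [delta_eq_zero (RatFunc k) _ hl' _ hQ hlt,
          show n = 0 by
            simp only [n]
            rw [Module.length_eq_zero_iff.2 (not_not.1 hmem)]; rfl]
        simp
    have hadd : delta (RatFunc k) l' (CohB1.tensorMod O gM) = delta (RatFunc k) l' O + delta (RatFunc k) l' Q :=
      delta_add (RatFunc k) hl' (CohTwo.cokerSeq_shortExact (mulSec σ O)) hO hQ
    rw [delta_congr (RatFunc k) l' (Inter.tensor_comm O gM), delta_twist (RatFunc k) gM l' O] at hadd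
    have hbc : delta (RatFunc k) (gM :: l') O = delta k (M :: l) (Coh.structureModule X) := by
      rw [← delta_bc k X (M :: l) (by simpa [hM] using hl) _ hOX, List.map_cons]
      exact (delta_congr (RatFunc k) _ (pullback_structure_iso (g k X))).symm
    have hdX : topologicalKrullDim (CohB1.support (Coh.structureModule X)) ≤ ((l.length + 1 : ℕ) : WithBot ℕ∞) := by
      rw [support_structure, HodgeProper.dim_univ, hdim, hlen]
    rw [hbc, delta_pow_cons k hA.1 hl hOX hdX, delta_inverse_cons k hA.1 hAB hl hOX hdX] at hadd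
    rw [← hsum]
    linarith
  have hnpos : 0 < n := by
    refine Nat.pos_of_ne_zero fun hn => ?_
    have h := hform (List.replicate (d + 2) B) (fun P hP => (List.eq_of_mem_replicate hP).symm ▸ hBi)
      List.length_replicate
    rw [hn, Nat.cast_zero, zero_mul] at h
    have hpos := delta_pos k (B :: List.replicate (d + 2) B) (fun P hP => by
      rcases List.mem_cons.1 hP with rfl | hP
      · exact hBamp
      · exact (List.eq_of_mem_replicate hP).symm ▸ hBamp) _ hOX (by
      rw [support_structure, HodgeProper.dim_univ, hdim]; simp [add_assoc])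
    exact absurd h (ne_of_lt (mul_pos (by positivity) hpos))
  refine ⟨ζ, n, N + 1, hζd, hnpos, N.succ_pos, hform, fun L hL hL0 => ?_⟩
  -- the curve
  have hOy := KTheory.Devissage.isCoh_closureStructureSheaf y
  have hgL := isInvertible_pullback (g k X) hL
  have hF := Groth.HilbStab.BC.isCoh_pullback (g := g k X) hOy
  have hFs : CohB1.support ((Scheme.Modules.pullback (g k X)).obj (Cyc.closureStructureSheaf y)) ⊆
      g k X ⁻¹' closure {y} := by
    have := hOy.1
    rw [QCohMod.support_pullback _ _ hOy.2]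
    exact Set.preimage_mono (KTheory.Devissage.support_closureStructureSheaf_subset y)
  rw [← delta_bc k X [L] (by simpa using hL) _ hOy, List.map_cons, List.map_nil]
  refine Inter.additive_eq_zero (fun G => delta (RatFunc k) [(Scheme.Modules.pullback (g k X)).obj L] G)
    (fun S hS c₁ _ c₃ => delta_add (RatFunc k) (by simpa using hgL) hS c₁ c₃)
    (CohTwo.isClosed_support _ hF) (fun z hz => ?_) hF subset_rfl
  have hzy : g k X z ∈ closure ({y} : Set X) := hFs (hz (subset_closure rfl))
  have hzd : topologicalKrullDim (closure ({z} : Set (Y k X))) ≤ ((1 : ℕ) : WithBot ℕ∞) := by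
    rw [Variety2.Dim.dim_closure_singleton] at hy ⊢
    exact (WithBot.coe_le_coe.2 (height_le k X hzy)).trans hy.le
  by_cases h1 : topologicalKrullDim (closure ({z} : Set (Y k X))) = ((1 : ℕ) : WithBot ℕ∞)
  · exact hL0 z (hZ z (hvan z hzy)) h1
  · exact delta_eq_zero (RatFunc k) [_] (by simpa using hgL) _ (KTheory.Devissage.isCoh_closureStructureSheaf z)
      (lt_of_le_of_lt (LocCohTransform.topologicalKrullDim_mono
        (KTheory.Devissage.support_closureStructureSheaf_subset z)) (lt_of_le_of_ne hzd h1))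

/-- The theorem on integral schemes over any field. -/
theorem curveZero_integral : ∀ (d : ℕ) (k : Type u) [Field k] (X : Scheme.{u})
    [X.Over (Spec (CommRingCat.of k))] [IsProper (X ↘ Spec (CommRingCat.of k))] [IsIntegral X],
    topologicalKrullDim X = ((d + 2 : ℕ) : WithBot ℕ∞) → ∀ B L : X.Modules, IsAmpleInv B → PicF.IsInvertible L →
      delta k (L :: List.replicate (d + 1) B) (Coh.structureModule X) = 0 →
      0 ≤ delta k (L :: L :: List.replicate d B) (Coh.structureModule X) →
      CurveZero k L Set.univ := by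
  intro d
  induction d with
  | zero =>
    intro k _ X _ _ _ hdim B L hB hL h1 h2 z _ hz
    have hdim' : topologicalKrullDim X = 2 := hdim.trans rfl
    have hpos : 0 < pair k B B := delta_pos k [B, B] (by simp [hB]) _
      (isCoh_of_isInvertible (EulerDeg.isInvertible_structureModule X))
      (by rw [support_structure, HodgeProper.dim_univ, hdim]; rfl)
    exact HodgeProper.main k hdim' hB.isInvertible hL hpos h1 h2 z hz
  | succ d ih =>
    intro k _ X _ _ _ hdim B L hB hL h1 h2 y _ hy
    have hBi := hB.isInvertible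
    obtain ⟨ζ, n, m, hζd, hn, hm, hform, hcurve⟩ := step k (d := d) hdim hB y hy
    refine hcurve L hL ?_
    obtain ⟨W, _, _, _, ι, hWd, hamp, hdel, hW⟩ := closure_model (RatFunc k) ζ
    have hgL := isInvertible_pullback (g k X) hL
    have hBY : IsAmpleInv ((Scheme.Modules.pullback (g k X)).obj B) := by
      obtain ⟨A, hA, hAB⟩ := hB
      exact ⟨_, Groth.HilbStab.BC.isAmple_pullback (isBC k X) hA, isInverseOf_pullback _ hAB⟩
    refine hW _ hgL (ih (RatFunc k) W (hWd.trans hζd) _ _ (hamp _ hBY) (isInvertible_pullback _ hgL) ?_ ?_)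
    · have e1 := hdel ((L :: List.replicate (d + 1) B).map (Scheme.Modules.pullback (g k X)).obj) (by
        rintro P hP
        obtain ⟨P', hP', rfl⟩ := List.mem_map.1 hP
        refine isInvertible_pullback _ ?_
        rcases List.mem_cons.1 hP' with rfl | hP'
        exacts [hL, (List.eq_of_mem_replicate hP').symm ▸ hBi])
      have e2 := hform (L :: List.replicate (d + 1) B) (by
        rintro P hP'
        rcases List.mem_cons.1 hP' with rfl | hP'
        exacts [hL, (List.eq_of_mem_replicate hP').symm ▸ hBi]) (by simp)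
      rw [← e1, delta_perm k (List.Perm.swap L B (List.replicate (d + 1) B)) (Coh.structureModule X),
        ← List.replicate_succ, h1, mul_zero, mul_eq_zero] at e2
      simpa using e2.resolve_left (by exact_mod_cast hn.ne')
    · have e1 := hdel ((L :: L :: List.replicate d B).map (Scheme.Modules.pullback (g k X)).obj) (by
        rintro P hP
        obtain ⟨P', hP', rfl⟩ := List.mem_map.1 hP
        refine isInvertible_pullback _ ?_
        rcases List.mem_cons.1 hP' with rfl | hP'
        · exact hL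
        rcases List.mem_cons.1 hP' with rfl | hP'
        exacts [hL, (List.eq_of_mem_replicate hP').symm ▸ hBi])
      have e2 := hform (L :: L :: List.replicate d B) (by
        rintro P hP'
        rcases List.mem_cons.1 hP' with rfl | hP'
        · exact hL
        rcases List.mem_cons.1 hP' with rfl | hP'
        exacts [hL, (List.eq_of_mem_replicate hP').symm ▸ hBi]) (by simp)
      have hperm : (B :: L :: L :: List.replicate d B).Perm (L :: L :: List.replicate (d + 1) B) :=
        (List.Perm.swap L B _).trans ((List.Perm.swap L B _).cons L)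
      rw [← e1, delta_perm k hperm (Coh.structureModule X)] at e2
      have h4 : (0 : ℤ) ≤ (m : ℤ) * delta k (L :: L :: List.replicate (d + 1) B) (Coh.structureModule X) :=
        mul_nonneg (Int.natCast_nonneg m) h2
      rw [← e2] at h4
      simpa using nonneg_of_mul_nonneg_right h4 (Int.natCast_pos.2 hn)

/-- The theorem on irreducible schemes. -/
theorem main [IrreducibleSpace X] {d : ℕ} (hdim : topologicalKrullDim X = ((d + 2 : ℕ) : WithBot ℕ∞))
    {B L : X.Modules} (hB : IsAmpleInv B) (hL : PicF.IsInvertible L)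
    (h1 : delta k (L :: List.replicate (d + 1) B) (Coh.structureModule X) = 0)
    (h2 : 0 ≤ delta k (L :: L :: List.replicate d B) (Coh.structureModule X)) :
    CurveZero k L Set.univ := by
  have hN : IsNoetherian X := isNoetherian k
  have hη : closure ({genericPoint X} : Set X) = Set.univ := genericPoint_spec X
  obtain ⟨W, _, _, _, ι, hWd, hamp, hdel, hW⟩ := closure_model k (genericPoint X)
  have hηd : topologicalKrullDim (closure ({genericPoint X} : Set X)) = ((d + 2 : ℕ) : WithBot ℕ∞) := by
    rw [hη, HodgeProper.dim_univ, hdim]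
  have hO := isCoh_of_isInvertible (EulerDeg.isInvertible_structureModule X)
  have key : ∀ l : List X.Modules, (∀ N ∈ l, PicF.IsInvertible N) → l.length = d + 2 →
      ∃ n : ℕ, 0 < n ∧ delta k l (Coh.structureModule X) =
        n * delta k (l.map (Scheme.Modules.pullback ι).obj) (Coh.structureModule W) := by
    intro l hl hlen
    rw [hdel l hl]
    exact HodgeProper.delta_eq_length_mul k hl hO (by rw [hlen]; exact hηd) (hη ▸ Set.subset_univ _)
      (by rw [support_structure]; trivial)
  have hBi := hB.isInvertible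
  refine hη ▸ hW L hL (curveZero_integral d k W (hWd.trans hηd) _ _ (hamp B hB) (isInvertible_pullback ι hL) ?_ ?_)
  · obtain ⟨n, hn, e⟩ := key (L :: List.replicate (d + 1) B) (by
      rintro P hP'
      rcases List.mem_cons.1 hP' with rfl | hP'
      exacts [hL, (List.eq_of_mem_replicate hP').symm ▸ hBi]) (by simp)
    rw [h1] at e
    simpa using (mul_eq_zero.1 e.symm).resolve_left (by exact_mod_cast hn.ne')
  · obtain ⟨n, hn, e⟩ := key (L :: L :: List.replicate d B) (by
      rintro P hP'
      rcases List.mem_cons.1 hP' with rfl | hP'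
      · exact hL
      rcases List.mem_cons.1 hP' with rfl | hP'
      exacts [hL, (List.eq_of_mem_replicate hP').symm ▸ hBi]) (by simp)
    rw [e] at h2
    simpa using nonneg_of_mul_nonneg_right h2 (Int.natCast_pos.2 hn)

/-- Degree zero on all coherent modules of dimension at most one. -/
theorem delta_eq_zero_of_curveZero {L : X.Modules} (hL : PicF.IsInvertible L) (h : CurveZero k L Set.univ)
    {F : X.Modules} (hF : Coh.IsCoh F)
    (hd : topologicalKrullDim (CohB1.support F) ≤ ((1 : ℕ) : WithBot ℕ∞)) : delta k [L] F = 0 := by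
  have hN : IsNoetherian X := isNoetherian k
  refine Inter.additive_eq_zero (fun G => delta k [L] G)
    (fun S hS c₁ _ c₃ => delta_add k (by simpa using hL) hS c₁ c₃)
    (CohTwo.isClosed_support F hF) (fun z hz => ?_) hF subset_rfl
  have hzd := (LocCohTransform.topologicalKrullDim_mono hz).trans hd
  by_cases h1 : topologicalKrullDim (closure ({z} : Set X)) = ((1 : ℕ) : WithBot ℕ∞)
  · exact h z trivial h1
  · exact delta_eq_zero k [L] (by simpa using hL) _ (KTheory.Devissage.isCoh_closureStructureSheaf z)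
      (lt_of_le_of_lt (LocCohTransform.topologicalKrullDim_mono
        (KTheory.Devissage.support_closureStructureSheaf_subset z)) (lt_of_le_of_ne hzd h1))

end Groth.Misc13.HodgeDim
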