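import Groth.Prelude.Def_DefoSh
import Groth.Prelude.Def_KoszTw
import Groth.Agent.QCohMod.Stalk
import Groth.Agent.QCohMod.TensorStalk
import Groth.Agent.PicAux.TensorLift
import Groth.Agent.KTheory.LocFree
import Mathlib.RingTheory.LocalRing.Module
import Mathlib.RingTheory.Artinian.Ring

/-!
# Deformations of a module: basic facts

* morphisms of deformations over a fixed Artinian ring are isomorphisms;
* over `k[ε]`, multiplication by `ε` gives a short exact sequence `E → D → E`, which stays exact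
  after tensoring when `E` is finite locally free.
-/

universe u

open CategoryTheory CategoryTheory.Limits AlgebraicGeometry TopologicalSpace Opposite
open scoped TensorProduct

namespace Groth.Misc13.DefoBase

/-! ### Commutative algebra -/

section Algebra

variable {A : Type u} [CommRing A] [IsLocalRing A] [IsArtinianRing A]
  {M : Type u} [AddCommGroup M] [Module A M]

open IsLocalRing

lemma eq_top_of_sup_smul_top {N : Submodule A M}
    (h : N ⊔ maximalIdeal A • (⊤ : Submodule A M) = ⊤) : N = ⊤ := by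
  obtain ⟨n, hn⟩ : IsNilpotent (maximalIdeal A) := by
    rw [← IsLocalRing.jacobson_eq_maximalIdeal ⊥ bot_ne_top]
    exact IsArtinianRing.isNilpotent_jacobson_bot
  have key : ∀ i : ℕ, N ⊔ maximalIdeal A ^ i • (⊤ : Submodule A M) = ⊤ := by
    intro i
    induction i with
    | zero => simp
    | succ i ih =>
      refine top_le_iff.1 (ih.ge.trans (sup_le le_sup_left ?_))
      conv_lhs => rw [← h, Submodule.smul_sup]
      refine sup_le (Submodule.smul_le.2 fun r _ v hv => ?_) ?_
      · exact Submodule.mem_sup_left (N.smul_mem r hv)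
      · rw [← Submodule.smul_assoc, smul_eq_mul, ← pow_succ]
        exact le_sup_right
  simpa [hn] using key n

/-- A map of flat modules over an Artinian local ring that is bijective modulo the maximal ideal is bijective. -/
lemma bijective_of_mod_maximalIdeal {M' : Type u} [AddCommGroup M'] [Module A M'] [Module.Flat A M']
    (φ : M →ₗ[A] M') (hsurj : ∀ y, ∃ x, φ x - y ∈ maximalIdeal A • (⊤ : Submodule A M'))
    (hinj : ∀ x, φ x ∈ maximalIdeal A • (⊤ : Submodule A M') →
      x ∈ maximalIdeal A • (⊤ : Submodule A M)) :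
    Function.Bijective φ := by
  refine ⟨?_, ?_⟩
  · let k := ResidueField A
    obtain ⟨s, hs⟩ : ∃ s : Set (k ⊗[A] M), LinearIndependent k ((↑) : s → k ⊗[A] M) ∧
        Submodule.span k s = ⊤ := by
      let b := Module.Basis.ofVectorSpace k (k ⊗[A] M)
      refine ⟨Set.range b, b.linearIndependent.linearIndepOn_id, b.span_eq⟩
    choose w hw using fun i : s => TensorProduct.mk_surjective A M k IsLocalRing.residue_surjective (i : k ⊗[A] M)
    have hker : ∀ {N : Type u} [AddCommGroup N] [Module A N] (y : N),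
        TensorProduct.mk A k N 1 y = 0 ↔ y ∈ maximalIdeal A • (⊤ : Submodule A N) := by
      intro N _ _ y
      rw [← LinearMap.mem_ker]
      erw [LinearMap.ker_tensorProductMk]
    have hspan : Submodule.span A (Set.range w) = ⊤ := by
      apply eq_top_of_sup_smul_top
      refine top_le_iff.1 fun y _ => ?_
      have hy : TensorProduct.mk A k M 1 y ∈ Submodule.span k s := hs.2 ▸ Submodule.mem_top
      rw [← Submodule.mem_toAddSubgroup] at hy
      have : TensorProduct.mk A k M 1 y ∈
          (Submodule.span A (Set.range w)).map (TensorProduct.mk A k M 1) := by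
        rw [Submodule.map_span, ← Set.range_comp]
        have hr : (TensorProduct.mk A k M 1) ∘ w = ((↑) : s → k ⊗[A] M) := funext hw
        rw [hr, Subtype.range_coe]
        refine Submodule.span_induction (p := fun z _ => z ∈ Submodule.span A s)
          (fun z hz => Submodule.subset_span hz) (zero_mem _) (fun _ _ _ _ h1 h2 => add_mem h1 h2) ?_ hy
        intro c z _ hz
        obtain ⟨c, rfl⟩ := IsLocalRing.residue_surjective c
        rw [← IsLocalRing.ResidueField.algebraMap_eq, algebraMap_smul]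
        exact Submodule.smul_mem _ c hz
      obtain ⟨z, hz, hzy⟩ := this
      have : y - z ∈ maximalIdeal A • (⊤ : Submodule A M) := (hker _).1 (by rw [map_sub, hzy, sub_self])
      rw [← add_sub_cancel z y]
      exact Submodule.add_mem_sup hz this
    have hli : LinearIndependent A (φ ∘ w) := by
      apply Module.IsLocalRing.linearIndependent_of_flat
      have hr : TensorProduct.mk A k M' 1 ∘ (φ ∘ w) =
          (φ.baseChange k) ∘ ((↑) : s → k ⊗[A] M) := by
        funext i
        simp only [Function.comp_apply, ← hw i]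
        exact (LinearMap.baseChange_tmul φ (1 : k) (w i)).symm
      change LinearIndependent k (TensorProduct.mk A k M' 1 ∘ (φ ∘ w))
      rw [hr]
      refine hs.1.map' _ ?_
      rw [LinearMap.ker_eq_bot']
      intro z hz
      obtain ⟨x, rfl⟩ := TensorProduct.mk_surjective A M k IsLocalRing.residue_surjective z
      rw [TensorProduct.mk_apply, LinearMap.baseChange_tmul] at hz
      exact (hker _).2 (hinj x ((hker _).1 hz))
    refine (injective_iff_map_eq_zero φ).2 fun x hx => ?_
    obtain ⟨c, rfl⟩ := (Finsupp.mem_span_range_iff_exists_finsupp).1 (hspan.ge (Submodule.mem_top (x := x)))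
    have h0 : Finsupp.linearCombination A (φ ∘ w) c = 0 := by
      rw [← hx, Finsupp.linearCombination_apply, map_finsuppSum]
      simp
    rw [linearIndependent_iff.1 hli c h0]
    simp
  · rw [← LinearMap.range_eq_top]
    apply eq_top_of_sup_smul_top
    refine top_le_iff.1 fun y _ => ?_
    obtain ⟨x, hx⟩ := hsurj y
    rw [show y = φ x - (φ x - y) by abel]
    exact sub_mem (Submodule.mem_sup_left ⟨x, rfl⟩) (Submodule.mem_sup_right hx)

end Algebra

variable {X : Scheme.{u}}

/-! ### Stalks -/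

section Stalk

variable {M N P : X.Modules}

lemma isIso_of_bijective (φ : M ⟶ N) (h : ∀ x, Function.Bijective (RefHull.stalkMapₗ φ x)) : IsIso φ :=
  Groth.QCohMod.isIso_of_stalk φ fun x => (ConcreteCategory.isIso_iff_bijective _).2 (h x)

lemma mono_of_injective (φ : M ⟶ N) (h : ∀ x, Function.Injective (RefHull.stalkMapₗ φ x)) : Mono φ :=
  (Groth.QCohMod.mono_iff_stalk φ).2 h

lemma epi_of_surjective (φ : M ⟶ N) (h : ∀ x, Function.Surjective (RefHull.stalkMapₗ φ x)) : Epi φ :=
  (Groth.QCohMod.epi_iff_stalk φ).2 h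

lemma shortExact_of_stalk (f : M ⟶ N) (g : N ⟶ P) (w : f ≫ g = 0)
    (hf : ∀ x, Function.Injective (RefHull.stalkMapₗ f x))
    (hg : ∀ x, Function.Surjective (RefHull.stalkMapₗ g x))
    (h : ∀ x (v : N.presheaf.stalk x), RefHull.stalkMapₗ g x v = 0 → ∃ u, RefHull.stalkMapₗ f x u = v) :
    (ShortComplex.mk f g w).ShortExact where
  exact := (Groth.QCohMod.exact_iff_stalk _).2 fun x => by
    rw [ShortComplex.ab_exact_iff]
    exact fun v hv => h x v hv
  mono_f := mono_of_injective f hf
  epi_g := epi_of_surjective g hg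

end Stalk

/-! ### Tensor products -/

section Tensor

variable {M M' M'' N N' : X.Modules}

open Groth.PicAux in
lemma tensorMap_add_left (f g : M ⟶ M') (h : N ⟶ N') :
    KoszTw.tensorMap (f + g) h = KoszTw.tensorMap f h + KoszTw.tensorMap g h := by
  refine tensor_hom_ext fun W a b => ?_
  change _ = (KoszTw.tensorMap f h).app W (tmulSec a b) + (KoszTw.tensorMap g h).app W (tmulSec a b)
  rw [tensorMap_app_tmulSec, tensorMap_app_tmulSec, tensorMap_app_tmulSec, ← tmulSec_add_left]
  rfl

/-- `- ⊗ N` as an additive map on morphisms. -/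
noncomputable def rightTensor (N : X.Modules) : (M ⟶ M') →+ (CohB1.tensorMod M N ⟶ CohB1.tensorMod M' N) :=
  AddMonoidHom.mk' (fun f => KoszTw.tensorMap f (𝟙 N)) fun f g => tensorMap_add_left f g _

lemma tensorMap_zero_left (N : X.Modules) : KoszTw.tensorMap (0 : M ⟶ M') (𝟙 N) = 0 :=
  (rightTensor N).map_zero

lemma tensorMap_sub_left (f g : M ⟶ M') :
    KoszTw.tensorMap (f - g) (𝟙 N) = KoszTw.tensorMap f (𝟙 N) - KoszTw.tensorMap g (𝟙 N) :=
  (rightTensor N).map_sub f g

lemma tensorMap_comp_left (f : M ⟶ M') (g : M' ⟶ M'') :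
    KoszTw.tensorMap (f ≫ g) (𝟙 N) = KoszTw.tensorMap f (𝟙 N) ≫ KoszTw.tensorMap g (𝟙 N) := by
  rw [← KoszTw.tensorMap_comp, Category.id_comp]

open Groth.PicAux in
lemma tensorMap_smulMod {k : Type u} [CommRing k] [X.Over (Spec (CommRingCat.of k))] (c : k)
    (M N : X.Modules) :
    KoszTw.tensorMap (Formal.smulMod k M c) (𝟙 N) = Formal.smulMod k (CohB1.tensorMod M N) c := by
  refine tensor_hom_ext fun W a b => ?_
  rw [tensorMap_app_tmulSec, Formal.smulMod, Formal.smulMod, KLin.smulModΓ_app_apply,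
    KLin.smulModΓ_app_apply, ← tmulSec_smul_left]
  rfl

lemma tensorMap_smul_left {k : Type u} [CommRing k] [X.Over (Spec (CommRingCat.of k))] (c : k)
    (f : M ⟶ M') : KoszTw.tensorMap (c • f) (𝟙 N) = c • KoszTw.tensorMap f (𝟙 N) := by
  rw [KLin.smul_def, KLin.smul_def, tensorMap_comp_left, tensorMap_smulMod]

open Groth.QCohMod in
lemma stalk_tensorMap (f : M ⟶ M') (N : X.Modules) (x : X)
    (z : M.presheaf.stalk x ⊗[X.presheaf.stalk x] N.presheaf.stalk x) :
    RefHull.stalkMapₗ (KoszTw.tensorMap f (𝟙 N)) x (stalkTensorEquiv M N x z) =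
      stalkTensorEquiv M' N x ((RefHull.stalkMapₗ f x).rTensor _ z) := by
  induction z using TensorProduct.induction_on with
  | zero => simp
  | tmul s t =>
    obtain ⟨W, hx, a, b, rfl, rfl⟩ := exists_common_germ x s t
    rw [stalkTensorEquiv_tmul, LinearMap.rTensor_tmul]
    erw [RefHull.stalkMapₗ_germ, RefHull.stalkMapₗ_germ]
    erw [Groth.PicAux.tensorMap_app_tmulSec]
    exact (stalkTensorEquiv_tmul M' N x hx _ _).symm
  | add a b ha hb => simp only [map_add, ha, hb]

end Tensor

/-! ### Deformations -/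

variable {k : Type u} [Field k] [X.Over (Spec (CommRingCat.of k))] {E : X.Modules}

section general

variable {A : ArtFun.Art k k}

/-- A morphism of deformations over a fixed Artinian ring is an isomorphism. -/
theorem isIso_of_comm (D D' : DefoSh.Defo E A) (φ : D.sheaf ⟶ D'.sheaf)
    (hact : ∀ a : A, D.act a ≫ φ = φ ≫ D'.act a) (hπ : φ ≫ D'.π = D.π) : IsIso φ := by
  refine isIso_of_bijective φ fun p => ?_
  let _ := D.stalkMod p
  let _ := D'.stalkMod p
  have := D'.flat p
  let φp : D.sheaf.presheaf.stalk p →ₗ[A] D'.sheaf.presheaf.stalk p :=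
    { toFun := RefHull.stalkMapₗ φ p
      map_add' := map_add _
      map_smul' := fun a v => by
        change RefHull.stalkMapₗ φ p (RefHull.stalkMapₗ (D.act a) p v) =
          RefHull.stalkMapₗ (D'.act a) p (RefHull.stalkMapₗ φ p v)
        rw [← DefoSh.stalkMapₗ_comp_apply, ← DefoSh.stalkMapₗ_comp_apply, hact] }
  have hπp : ∀ v, RefHull.stalkMapₗ D'.π p (φp v) = RefHull.stalkMapₗ D.π p v := fun v => by
    change RefHull.stalkMapₗ D'.π p (RefHull.stalkMapₗ φ p v) = _
    rw [← DefoSh.stalkMapₗ_comp_apply, hπ]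
  refine bijective_of_mod_maximalIdeal φp (fun y => ?_) fun x hx => D.ker_le p x ?_
  · obtain ⟨x, hx⟩ := D.surj p (RefHull.stalkMapₗ D'.π p y)
    exact ⟨x, D'.ker_le p _ (by rw [map_sub, hπp, hx, sub_self])⟩
  · rw [← hπp]
    refine Submodule.smul_induction_on hx (fun a ha v _ => ?_) fun u v hu hv => by rw [map_add, hu, hv, add_zero]
    change RefHull.stalkMapₗ D'.π p (RefHull.stalkMapₗ (D'.act a) p v) = 0
    rw [← DefoSh.stalkMapₗ_comp_apply, D'.act_π a ((ArtFun.Art.mem_maximalIdeal_iff _ a).1 ha),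
      DefoSh.stalkMapₗ_zero_apply]

end general

section dual

variable (D : DefoSh.Defo E (ArtFun.Art.dual k k))

lemma epi_π : Epi D.π := epi_of_surjective _ D.surj

lemma act_eps_π : D.act (DualNumber.eps : DualNumber k) ≫ D.π = 0 := D.act_π _ rfl

lemma ker_π_stalk (p : X) (v : D.sheaf.presheaf.stalk p) (hv : RefHull.stalkMapₗ D.π p v = 0) :
    ∃ w, RefHull.stalkMapₗ (D.act (DualNumber.eps : DualNumber k)) p w = v := by
  let _ := D.stalkMod p
  have h := D.ker_le p v hv
  refine Submodule.smul_induction_on h (fun a ha w _ => ?_) ?_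
  · let a' : DualNumber k := a
    let ε : ArtFun.Art.dual k k := (DualNumber.eps : DualNumber k)
    let c : ArtFun.Art.dual k k := algebraMap k (DualNumber k) a'.snd
    refine ⟨c • w, ?_⟩
    change ε • (c • w) = a • w
    rw [← mul_smul]
    congr 1
    have ha' : a'.fst = 0 := (ArtFun.Art.mem_maximalIdeal_iff _ a).1 ha
    change (DualNumber.eps : DualNumber k) * algebraMap k (DualNumber k) a'.snd = a'
    refine TrivSqZeroExt.ext ?_ ?_ <;> simp [TrivSqZeroExt.algebraMap_eq_inl', ha']
  · rintro u w ⟨u', rfl⟩ ⟨w', rfl⟩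
    exact ⟨u' + w', map_add _ _ _⟩

lemma act_eps_eps :
    D.act (DualNumber.eps : DualNumber k) ≫ D.act (DualNumber.eps : DualNumber k) = 0 := by
  rw [← End.mul_def]
  erw [← map_mul, DualNumber.eps_mul_eps, map_zero]

lemma exists_ι : ∃ ι : E ⟶ D.sheaf, D.π ≫ ι = D.act (DualNumber.eps : DualNumber k) := by
  have := epi_π D
  refine ⟨Abelian.epiDesc D.π (D.act (DualNumber.eps : DualNumber k)) ?_, Abelian.comp_epiDesc _ _ _⟩
  let S := ShortComplex.mk (D.act (DualNumber.eps : DualNumber k)) D.π (act_eps_π D)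
  have hS : S.Exact := (Groth.QCohMod.exact_iff_stalk _).2 fun x => by
    rw [ShortComplex.ab_exact_iff]
    exact fun v hv => ker_π_stalk D x v hv
  have := hS.epi_toCycles
  let g : kernel D.π ⟶ S.cycles := S.liftCycles (kernel.ι D.π) (kernel.condition _)
  have h0 : S.iCycles ≫ D.act (DualNumber.eps : DualNumber k) = 0 := by
    rw [← cancel_epi S.toCycles, ← Category.assoc, S.toCycles_i, comp_zero]
    exact act_eps_eps D
  calc kernel.ι D.π ≫ D.act (DualNumber.eps : DualNumber k)
      = g ≫ S.iCycles ≫ D.act (DualNumber.eps : DualNumber k) := by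
        rw [← Category.assoc, ShortComplex.liftCycles_i]
    _ = 0 := by rw [h0, comp_zero]

variable {D} (ι : E ⟶ D.sheaf) (hι : D.π ≫ ι = D.act (DualNumber.eps : DualNumber k))
include hι

lemma ι_π : ι ≫ D.π = 0 := by
  have := epi_π D
  rw [← cancel_epi D.π, ← Category.assoc, hι, comp_zero, act_eps_π]

lemma ι_eps : ι ≫ D.act (DualNumber.eps : DualNumber k) = 0 := by
  rw [← hι, ← Category.assoc, ι_π ι hι, zero_comp]

/-- The action of a dual number. -/
lemma act_eq (a : DualNumber k) :
    D.act a = Formal.smulMod k D.sheaf a.fst + a.snd • (D.π ≫ ι) := by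
  have ha : a = algebraMap k (DualNumber k) a.fst + a.snd • DualNumber.eps := by
    refine TrivSqZeroExt.ext ?_ ?_ <;> simp [TrivSqZeroExt.algebraMap_eq_inl']
  rw [← DefoSh.Defo.act_algebraMap D a.fst, hι]
  conv_lhs => rw [ha]
  erw [map_add, map_smul]
  rfl

lemma ι_injective (p : X) : Function.Injective (RefHull.stalkMapₗ ι p) := by
  refine (injective_iff_map_eq_zero _).2 fun v hv => ?_
  obtain ⟨w, rfl⟩ := D.surj p v
  let _ := D.stalkMod p
  have := D.flat p
  let A : Type u := ArtFun.Art.dual k k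
  let ε : ArtFun.Art.dual k k := (DualNumber.eps : DualNumber k)
  let e : ArtFun.Art.dual k k →ₗ[ArtFun.Art.dual k k] ArtFun.Art.dual k k :=
    LinearMap.lsmul _ _ ε
  have hex : Function.Exact e e := by
    intro y
    constructor
    · intro hy
      let y' : DualNumber k := y
      have hy' : (DualNumber.eps : DualNumber k) * y' = 0 := hy
      have h1 : y'.fst = 0 := by simpa using congrArg TrivSqZeroExt.snd hy'
      refine ⟨(TrivSqZeroExt.inl y'.snd : DualNumber k), ?_⟩
      change (DualNumber.eps : DualNumber k) * TrivSqZeroExt.inl y'.snd = y'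
      refine TrivSqZeroExt.ext ?_ ?_ <;> simp [h1]
    · rintro ⟨z, rfl⟩
      change ε * (ε * z) = 0
      rw [← mul_assoc]
      erw [DualNumber.eps_mul_eps]
      exact zero_mul z
  have h := Module.Flat.rTensor_exact (M := D.sheaf.presheaf.stalk p) hex
  have hε : ε • w = 0 := by
    change RefHull.stalkMapₗ (D.act (DualNumber.eps : DualNumber k)) p w = 0
    rw [← hι, DefoSh.stalkMapₗ_comp_apply]
    exact hv
  have h1 : e.rTensor (D.sheaf.presheaf.stalk p) ((1 : ArtFun.Art.dual k k) ⊗ₜ w) = 0 := by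
    rw [LinearMap.rTensor_tmul]
    change (ε * 1) ⊗ₜ w = 0
    rw [show ε * 1 = ε • (1 : ArtFun.Art.dual k k) from rfl, TensorProduct.smul_tmul, hε, TensorProduct.tmul_zero]
  obtain ⟨z, hz⟩ := (h _).1 h1
  have h2 : ∀ z, TensorProduct.lid _ _ (e.rTensor (D.sheaf.presheaf.stalk p) z) =
      ε • TensorProduct.lid _ _ z := by
    intro z
    induction z using TensorProduct.induction_on with
    | zero => simp
    | tmul a b => simp [e, mul_smul]
    | add a b ha hb => simp only [map_add, smul_add, ha, hb]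
  have h3 := congrArg (TensorProduct.lid _ _) hz
  rw [h2, TensorProduct.lid_tmul, one_smul] at h3
  rw [← h3]
  change RefHull.stalkMapₗ D.π p (RefHull.stalkMapₗ (D.act (DualNumber.eps : DualNumber k)) p _) = 0
  rw [← DefoSh.stalkMapₗ_comp_apply, act_eps_π, DefoSh.stalkMapₗ_zero_apply]

lemma exact_stalk (p : X) (v : D.sheaf.presheaf.stalk p) (hv : RefHull.stalkMapₗ D.π p v = 0) :
    ∃ u, RefHull.stalkMapₗ ι p u = v := by
  obtain ⟨w, rfl⟩ := ker_π_stalk D p v hv
  exact ⟨RefHull.stalkMapₗ D.π p w, by rw [← DefoSh.stalkMapₗ_comp_apply, hι]⟩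

/-- `0 → E → D → E → 0`. -/
lemma shortExact_defo : (ShortComplex.mk ι D.π (ι_π ι hι)).ShortExact :=
  shortExact_of_stalk _ _ _ (ι_injective ι hι) D.surj (exact_stalk ι hι)

/-- `0 → E ⊗ N → D ⊗ N → E ⊗ N → 0` for `E` finite locally free. -/
lemma shortExact_defo_tensor (hE : FlatMod.IsFinLocFree E) (N : X.Modules) :
    (ShortComplex.mk (KoszTw.tensorMap ι (𝟙 N)) (KoszTw.tensorMap D.π (𝟙 N))
      (by rw [← tensorMap_comp_left, ι_π ι hι, tensorMap_zero_left])).ShortExact := by
  have hsplit : ∀ p : X, ∃ σ : E.presheaf.stalk p →ₗ[X.presheaf.stalk p] D.sheaf.presheaf.stalk p,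
      RefHull.stalkMapₗ D.π p ∘ₗ σ = LinearMap.id := fun p => by
    have := Groth.KTheory.LocFree.free_stalk hE p
    exact Module.projective_lifting_property _ _ (D.surj p)
  have hexact : ∀ p : X, Function.Exact (RefHull.stalkMapₗ ι p) (RefHull.stalkMapₗ D.π p) := fun p v =>
    ⟨exact_stalk ι hι p v, fun ⟨u, hu⟩ => by
      rw [← hu, ← DefoSh.stalkMapₗ_comp_apply, ι_π ι hι, DefoSh.stalkMapₗ_zero_apply]⟩
  refine shortExact_of_stalk _ _ _ (fun p => ?_) (fun p => ?_) fun p v hv => ?_
  · obtain ⟨σ, hσ⟩ := hsplit p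
    obtain ⟨-, r, hr⟩ := ((hexact p).split_tfae'.out 0 1 rfl rfl).1 ⟨ι_injective ι hι p, σ, hσ⟩
    intro a b hab
    obtain ⟨a, rfl⟩ := (Groth.QCohMod.stalkTensorEquiv E N p).surjective a
    obtain ⟨b, rfl⟩ := (Groth.QCohMod.stalkTensorEquiv E N p).surjective b
    rw [stalk_tensorMap, stalk_tensorMap, EmbeddingLike.apply_eq_iff_eq] at hab
    have := congrArg (r.rTensor _) hab
    rw [← LinearMap.comp_apply, ← LinearMap.comp_apply, ← LinearMap.rTensor_comp, hr, LinearMap.rTensor_id] at this
    exact congrArg _ this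
  · intro a
    obtain ⟨a, rfl⟩ := (Groth.QCohMod.stalkTensorEquiv E N p).surjective a
    obtain ⟨b, rfl⟩ := LinearMap.rTensor_surjective (N.presheaf.stalk p) (D.surj p) a
    exact ⟨_, stalk_tensorMap D.π N p b⟩
  · obtain ⟨v, rfl⟩ := (Groth.QCohMod.stalkTensorEquiv D.sheaf N p).surjective v
    erw [stalk_tensorMap, LinearEquiv.map_eq_zero_iff] at hv
    obtain ⟨u, rfl⟩ := (rTensor_exact (N.presheaf.stalk p) (hexact p) (D.surj p) v).1 hv
    exact ⟨_, stalk_tensorMap ι N p u⟩

end dual

end Groth.Misc13.DefoBase
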