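import Mathlib.Algebra.Lie.Basis.Base
import Mathlib.Algebra.Lie.Semisimple.Defs
import Mathlib.Algebra.Lie.Semisimple.Basic
import Mathlib.Algebra.Lie.CartanCriterion
import Mathlib.Algebra.Lie.Solvable
import Mathlib.FieldTheory.IsAlgClosed.Basic
import Mathlib.LinearAlgebra.QuadraticForm.Basic
import Mathlib.Tactic.LinearCombination

/-!
Borel stable subspaces of a simple Lie algebra near the highest root.
-/

set_option autoImplicit false
set_option linter.style.haveILetI false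
set_option linter.unusedSectionVars false

open LieAlgebra LieModule

namespace Groth.Misc13.Adj

universe u v w

variable {ι : Type u} {K : Type v} {L : Type w} [Fintype ι] [Field K] [CharZero K]
  [IsAlgClosed K] [LieRing L] [LieAlgebra K L] [FiniteDimensional K L] [LieAlgebra.IsSimple K L]
  {H : LieSubalgebra K L} [H.IsCartanSubalgebra] (b : LieAlgebra.Basis ι H)

/-- eigenvector with eigen-functional `χ` -/
def Wt (H : LieSubalgebra K L) (x : L) (χ : Module.Dual K H) : Prop := ∀ h : H, ⁅(h : L), x⁆ = χ h • x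

theorem mem_root_iff {x : L} {χ : Module.Dual K H} : x ∈ rootSpace H χ ↔ Wt H x χ := by
  constructor
  · exact fun hx h => IsKilling.lie_eq_smul_of_mem_rootSpace hx h
  · intro hx
    rw [rootSpace, mem_genWeightSpace]
    exact fun h => ⟨1, by simp [hx h]⟩

theorem Wt.lie {x y : L} {χ ψ : Module.Dual K H} (hx : Wt H x χ) (hy : Wt H y ψ) : Wt H ⁅x, y⁆ (χ + ψ) := fun h => by
  rw [leibniz_lie, hx h, hy h, smul_lie, lie_smul, LinearMap.add_apply, add_smul]

theorem Wt.smul {x : L} {χ : Module.Dual K H} (hx : Wt H x χ) (c : K) : Wt H (c • x) χ := fun h => by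
  rw [lie_smul, hx h, smul_comm]

theorem Wt.eq {x : L} {χ ψ : Module.Dual K H} (hx : Wt H x χ) (hy : Wt H x ψ) (h0 : x ≠ 0) : χ = ψ :=
  LinearMap.ext fun h => smul_left_injective K h0 ((hx h).symm.trans (hy h))

theorem wt_e (i : ι) : Wt H (b.e i) (b.baseSupp i) := fun h => (b.baseSupp_apply_smul_e i h).symm

theorem wt_f (i : ι) : Wt H (b.f i) (-b.baseSupp i) := fun h => by
  rw [LinearMap.neg_apply, neg_smul, b.baseSupp_apply_smul_f, neg_neg]
  rfl

theorem A_self (i : ι) : b.A i i = 2 := by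
  haveI : IsAddTorsionFree L := .of_isTorsionFree K L
  exact b.A_diag_eq_two i

theorem lie_h_eq {y : L} {χ : Module.Dual K H} (hy : Wt H y χ) (i : ι) : ⁅b.h i, y⁆ = χ (b.h' i) • y := hy (b.h' i)

theorem e_f_self (i : ι) {y : L} {χ : Module.Dual K H} (hy : Wt H y χ) :
    ⁅b.e i, ⁅b.f i, y⁆⁆ = χ (b.h' i) • y + ⁅b.f i, ⁅b.e i, y⁆⁆ := by
  rw [leibniz_lie, (b.sl2 i).lie_e_f, lie_h_eq b hy]

theorem e_f_ne {i k : ι} (h : i ≠ k) (y : L) : ⁅b.e i, ⁅b.f k, y⁆⁆ = ⁅b.f k, ⁅b.e i, y⁆⁆ := by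
  rw [leibniz_lie, b.lie_e_f_ne i k h, zero_lie, zero_add]

section words

/-- iterated lowering -/
def word (v : L) : List ι → L
  | [] => v
  | i :: l => ⁅b.f i, word v l⁆

/-- the weight of a word -/
noncomputable def wt (χ : Module.Dual K H) : List ι → Module.Dual K H
  | [] => χ
  | i :: l => -b.baseSupp i + wt χ l

theorem wt_word {v : L} {χ : Module.Dual K H} (hv : Wt H v χ) : ∀ l, Wt H (word b v l) (wt b χ l)
  | [] => hv
  | i :: l => (wt_f b i).lie (wt_word hv l)

theorem wt_eq [DecidableEq ι] (χ : Module.Dual K H) : ∀ l, wt b χ l = χ - ∑ i, (l.count i : K) • b.baseSupp i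
  | [] => by simp [wt]
  | i :: l => by
    rw [wt, wt_eq χ l]
    have h : ∀ k, ((List.count k (i :: l) : ℕ) : K) • b.baseSupp k =
        (List.count k l : K) • b.baseSupp k + (if k = i then b.baseSupp k else 0) := fun k => by
      rw [List.count_cons]
      by_cases hk : k = i
      · subst hk; simp [add_smul]
      · simp [hk, Ne.symm hk]
    simp only [h, Finset.sum_add_distrib, Finset.sum_ite_eq', Finset.mem_univ, if_true]
    abel

theorem perm_of_wt_eq {χ : Module.Dual K H} {l l' : List ι} (h : wt b χ l = wt b χ l') : l.Perm l' := by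
  classical
  rw [wt_eq, wt_eq, sub_right_inj] at h
  exact List.perm_iff_count.2 fun i =>
    Nat.cast_injective (Fintype.linearIndependent_iffₛ.mp b.linearIndependent_baseSupp _ _ h i)

theorem wt_append (χ : Module.Dual K H) : ∀ l l', wt b χ (l ++ l') = wt b (wt b χ l') l
  | [], _ => rfl
  | i :: l, l' => by rw [List.cons_append, wt, wt_append χ l l', wt]

/-- the subspace spanned by the words -/
def span' (v : L) : Submodule K L := Submodule.span K (Set.range (word b v))

theorem f_mem (v : L) (i : ι) {y : L} (hy : y ∈ span' b v) : ⁅b.f i, y⁆ ∈ span' b v := by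
  induction hy using Submodule.span_induction with
  | mem x hx => obtain ⟨l, rfl⟩ := hx; exact Submodule.subset_span ⟨i :: l, rfl⟩
  | zero => simp
  | add x y _ _ hx hy => rw [lie_add]; exact add_mem hx hy
  | smul c x _ hx => rw [lie_smul]; exact Submodule.smul_mem _ c hx

theorem e_mem {v : L} {χ : Module.Dual K H} (hv : Wt H v χ) (hk : ∀ i, ⁅b.e i, v⁆ = 0) (i : ι) {y : L}
    (hy : y ∈ span' b v) : ⁅b.e i, y⁆ ∈ span' b v := by
  induction hy using Submodule.span_induction with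
  | mem x hx =>
    obtain ⟨l, rfl⟩ := hx
    induction l with
    | nil => rw [word, hk]; exact zero_mem _
    | cons k l ih =>
      rw [word]
      by_cases h : i = k
      · subst h
        rw [e_f_self b i (wt_word b hv l)]
        exact add_mem (Submodule.smul_mem _ _ (Submodule.subset_span ⟨l, rfl⟩)) (f_mem b v i ih)
      · rw [e_f_ne b h]; exact f_mem b v k ih
  | zero => simp
  | add x y _ _ hx hy => rw [lie_add]; exact add_mem hx hy
  | smul c x _ hx => rw [lie_smul]; exact Submodule.smul_mem _ c hx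

theorem span_eq_top {v : L} {χ : Module.Dual K H} (hv : Wt H v χ) (hk : ∀ i, ⁅b.e i, v⁆ = 0) (hv0 : v ≠ 0) :
    span' b v = ⊤ := by
  let S : LieSubalgebra K L :=
    { carrier := {x | ∀ y ∈ span' b v, ⁅x, y⁆ ∈ span' b v}
      zero_mem' := fun y _ => by simp
      add_mem' := fun {x x'} hx hx' y hy => by rw [add_lie]; exact add_mem (hx y hy) (hx' y hy)
      smul_mem' := fun c {x} hx y hy => by rw [smul_lie]; exact Submodule.smul_mem _ c (hx y hy)
      lie_mem' := fun {x x'} hx hx' y hy => by rw [lie_lie]; exact sub_mem (hx _ (hx' y hy)) (hx' _ (hx y hy)) }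
  have hS : ∀ x : L, x ∈ S := fun x => by
    have hle : LieSubalgebra.lieSpan K L (Set.range b.e ∪ Set.range b.f) ≤ S := by
      rw [LieSubalgebra.lieSpan_le]
      rintro _ (⟨i, rfl⟩ | ⟨i, rfl⟩) <;> intro y hy
      exacts [e_mem b hv hk i hy, f_mem b v i hy]
    rw [b.span_ef] at hle
    exact hle (LieSubalgebra.mem_top x)
  let I : LieIdeal K L := { toSubmodule := span' b v, lie_mem := fun {x y} hy => hS x y hy }
  rcases LieAlgebra.IsSimple.eq_bot_or_eq_top I with h | h
  · refine absurd ?_ hv0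
    have : v ∈ I := Submodule.subset_span (R := K) (s := Set.range (word b v)) ⟨[], rfl⟩
    rw [h] at this
    simpa using this
  · rw [eq_top_iff]
    intro x _
    have : x ∈ I := by rw [h]; exact LieSubmodule.mem_top x
    exact this

theorem rootSpace_le_span {v : L} {χ : Module.Dual K H} (hv : Wt H v χ) (hk : ∀ i, ⁅b.e i, v⁆ = 0) (hv0 : v ≠ 0)
    (ψ : H → K) :
    (rootSpace H ψ : Submodule K L) ≤ Submodule.span K (word b v '' {l | ⇑(wt b χ l) = ψ}) := by
  intro x hx
  have hxt : x ∈ Submodule.span K (Set.range (word b v)) := (span_eq_top b hv hk hv0).ge Submodule.mem_top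
  rw [← Set.image_univ, ← Set.union_compl_self {l | ⇑(wt b χ l) = ψ}, Set.image_union, Submodule.span_union,
    Submodule.mem_sup] at hxt
  obtain ⟨y, hy, z, hz, rfl⟩ := hxt
  have hy' : y ∈ (rootSpace H ψ : Submodule K L) := by
    refine (Submodule.span_le.2 ?_) hy
    rintro _ ⟨l, hl, rfl⟩
    rw [← (show ⇑(wt b χ l) = ψ from hl)]
    exact mem_root_iff.2 (wt_word b hv l)
  have hz1 : z ∈ (rootSpace H ψ : Submodule K L) := by simpa using sub_mem hx hy'
  have hz2 : z ∈ ⨆ (φ : H → K) (_ : φ ≠ ψ), (rootSpace H φ : Submodule K L) := by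
    refine (Submodule.span_le.2 ?_) hz
    rintro _ ⟨l, hl, rfl⟩
    exact Submodule.mem_iSup_of_mem _ (Submodule.mem_iSup_of_mem (show ⇑(wt b χ l) ≠ ψ from hl) (mem_root_iff.2 (wt_word b hv l)))
  have hind := LieSubmodule.iSupIndep_toSubmodule.2 (LieModule.iSupIndep_genWeightSpace K H L)
  have hz0 : z = 0 := (Submodule.disjoint_def.1 (hind ψ)) z hz1 hz2
  rw [hz0, add_zero]
  exact hy

theorem exists_word {v : L} {χ : Module.Dual K H} (hv : Wt H v χ) (hk : ∀ i, ⁅b.e i, v⁆ = 0) (hv0 : v ≠ 0)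
    {x : L} {ψ : H → K} (hx : x ∈ rootSpace H ψ) (hx0 : x ≠ 0) : ∃ l, ⇑(wt b χ l) = ψ := by
  by_contra! h
  have := rootSpace_le_span b hv hk hv0 ψ hx
  rw [show {l | ⇑(wt b χ l) = ψ} = ∅ from Set.eq_empty_of_forall_notMem fun l hl => h l hl, Set.image_empty,
    Submodule.span_empty, Submodule.mem_bot] at this
  exact hx0 this

end words

section highest

variable (ρ : Module.Dual K H) {v : L} (hv : Wt H v ρ) (hk : ∀ i, ⁅b.e i, v⁆ = 0) (hv0 : v ≠ 0)

include hv hk hv0 in
theorem weight_eq_of_killed {x : L} {χ : Module.Dual K H} (hx : Wt H x χ) (hxk : ∀ i, ⁅b.e i, x⁆ = 0) (hx0 : x ≠ 0) :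
    χ = ρ := by
  obtain ⟨l, hl⟩ := exists_word b hv hk hv0 (mem_root_iff.2 hx) hx0
  obtain ⟨l', hl'⟩ := exists_word b hx hxk hx0 (mem_root_iff.2 hv) hv0
  have hl2 : wt b ρ l = χ := DFunLike.coe_injective hl
  have hl3 : wt b χ l' = ρ := DFunLike.coe_injective hl'
  have h : wt b ρ (l' ++ l) = wt b ρ [] := by rw [wt_append, hl2, hl3, wt]
  have := (perm_of_wt_eq b h).eq_nil
  rw [List.append_eq_nil_iff] at this
  rw [← hl2, this.2, wt]

include hv hk hv0 in
theorem eq_zero_of_killed {x : L} {χ : Module.Dual K H} (hx : Wt H x χ) (hne : χ ≠ ρ) (hxk : ∀ i, ⁅b.e i, x⁆ = 0) :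
    x = 0 := by
  by_contra h
  exact hne (weight_eq_of_killed b ρ hv hk hv0 hx hxk h)

include hv hk hv0 in
theorem wt_space_le {χ : Module.Dual K H} (s : Submodule K L)
    (h : ∀ l, wt b ρ l = χ → word b v l ∈ s) {x : L} (hx : Wt H x χ) : x ∈ s := by
  refine (Submodule.span_le.2 ?_) (rootSpace_le_span b hv hk hv0 χ (mem_root_iff.2 hx))
  rintro _ ⟨l, hl, rfl⟩
  exact h l (DFunLike.coe_injective hl)

include hv hk hv0 in
theorem mem_span_v {x : L} (hx : Wt H x ρ) : x ∈ Submodule.span K {v} := by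
  refine wt_space_le b ρ hv hk hv0 _ (fun l hl => ?_) hx
  have : l = [] := (perm_of_wt_eq b (hl.trans (show ρ = wt b ρ [] from rfl))).eq_nil
  subst this
  exact Submodule.mem_span_singleton_self _

include hv hk hv0 in
theorem mem_span_fv {i : ι} {x : L} (hx : Wt H x (ρ - b.baseSupp i)) : x ∈ Submodule.span K {⁅b.f i, v⁆} := by
  refine wt_space_le b ρ hv hk hv0 _ (fun l hl => ?_) hx
  have : l = [i] := List.perm_singleton.1 (perm_of_wt_eq b (hl.trans (show ρ - b.baseSupp i = wt b ρ [i] by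
    simp [wt, sub_eq_neg_add])))
  subst this
  exact Submodule.mem_span_singleton_self _

end highest

theorem sub_ne (ρ : Module.Dual K H) (i : ι) : ρ - b.baseSupp i ≠ ρ := fun h =>
  b.linearIndependent_baseSupp.ne_zero i (by simpa using h)

section setting

variable (ρ : Module.Dual K H) (j : ι) (hN : ∀ i, ρ (b.h' i) ≠ 0 ↔ i = j) (hj : ρ (b.h' j) = 1)
  {v : L} (hv : Wt H v ρ) (hk : ∀ i, ⁅b.e i, v⁆ = 0) (hv0 : v ≠ 0)

/-- `[f_j, v]` -/
abbrev uu (v : L) : L := ⁅b.f j, v⁆
/-- `[f_i, [f_j, v]]` -/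
abbrev ww (v : L) (i : ι) : L := ⁅b.f i, ⁅b.f j, v⁆⁆

include hv in
theorem wt_u : Wt H (uu b j v) (ρ - b.baseSupp j) := by
  rw [sub_eq_neg_add]; exact (wt_f b j).lie hv

include hv in
theorem wt_w (i : ι) : Wt H (ww b j v i) (ρ - b.baseSupp j - b.baseSupp i) := by
  rw [sub_eq_neg_add _ (b.baseSupp i)]; exact (wt_f b i).lie (wt_u b ρ j hv)

include hj hv hk in
theorem e_u : ⁅b.e j, uu b j v⁆ = v := by rw [e_f_self b j hv, hj, one_smul, hk, lie_zero, add_zero]

include hk in
theorem e_u_ne {i : ι} (h : i ≠ j) : ⁅b.e i, uu b j v⁆ = 0 := by rw [e_f_ne b h, hk, lie_zero]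

include hj hv hk hv0 in
theorem u_ne_zero : uu b j v ≠ 0 := fun h => hv0 (by rw [← e_u b ρ j hj hv hk, h, lie_zero])

include hN hv hk hv0 in
theorem f_v_eq_zero {i : ι} (h : i ≠ j) : ⁅b.f i, v⁆ = 0 := by
  refine eq_zero_of_killed b ρ hv hk hv0 ((wt_f b i).lie hv) ?_ fun k => ?_
  · rw [← sub_eq_neg_add]; exact sub_ne b ρ i
  · by_cases hki : k = i
    · subst hki
      rw [e_f_self b k hv, hk, lie_zero, add_zero, not_not.1 (fun hne => h ((hN k).1 hne)), zero_smul]
    · rw [e_f_ne b hki, hk, lie_zero]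

include hv hk hv0 in
theorem mem_span_ww_pair {i : ι} {x : L} (hx : Wt H x (ρ - b.baseSupp j - b.baseSupp i)) :
    x ∈ Submodule.span K {ww b j v i, ⁅b.f j, ⁅b.f i, v⁆⁆} := by
  classical
  refine wt_space_le b ρ hv hk hv0 _ (fun l hl => ?_) hx
  have hp : l.Perm [i, j] := perm_of_wt_eq b (hl.trans (show _ = wt b ρ [i, j] by simp [wt]; abel))
  match l, hp with
  | [], hp => simp at hp
  | [a], hp => simp [List.perm_singleton] at hp
  | a :: c :: d :: l, hp => exact absurd hp.length_eq (by simp)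
  | [a, c], hp =>
    have ha : a = i ∨ a = j := by simpa using hp.subset (List.mem_cons_self (a := a) (l := [c]))
    rcases ha with rfl | rfl
    · have hc : [c] = [j] := List.perm_singleton.1 ((List.perm_cons _).1 hp)
      simp only [List.cons.injEq, and_true] at hc
      subst hc
      exact Submodule.subset_span (Set.mem_insert _ _)
    · have hc : [c] = [i] := List.perm_singleton.1 ((List.perm_cons _).1 (hp.trans (List.Perm.swap _ _ _)))
      simp only [List.cons.injEq, and_true] at hc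
      subst hc
      exact Submodule.subset_span (Set.mem_insert_of_mem _ rfl)

theorem sub_sub_ne (i : ι) : ρ - b.baseSupp j - b.baseSupp i ≠ ρ := by
  classical
  intro h
  have h' : wt b ρ [i, j] = wt b ρ [] := by simp [wt]; linear_combination (norm := abel) h
  simpa using (perm_of_wt_eq b h').length_eq

include hj hv hk hv0 in
theorem ww_self : ww b j v j = 0 := by
  refine eq_zero_of_killed b ρ hv hk hv0 (wt_w b ρ j hv j) (sub_sub_ne b ρ j j) fun k => ?_
  by_cases hkj : k = j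
  · subst hkj
    rw [e_f_self b k (wt_u b ρ k hv), e_u b ρ k hj hv hk, LinearMap.sub_apply, hj, b.baseSupp_apply_h', A_self]
    push_cast
    module
  · rw [e_f_ne b hkj, e_u_ne b j hk hkj, lie_zero]

include hN hv hk hv0 in
theorem mem_span_ww {i : ι} (hij : i ≠ j) {x : L} (hx : Wt H x (ρ - b.baseSupp j - b.baseSupp i)) :
    x ∈ Submodule.span K {ww b j v i} := by
  have := mem_span_ww_pair b ρ j hv hk hv0 hx
  rw [f_v_eq_zero b ρ j hN hv hk hv0 hij, lie_zero, Set.pair_comm, Submodule.span_insert_zero] at this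
  exact this

include hN hj hv hk in
theorem e_ww {i : ι} (hij : i ≠ j) : ⁅b.e i, ww b j v i⁆ = (-(b.A j i : K)) • uu b j v := by
  rw [e_f_self b i (wt_u b ρ j hv), e_u_ne b j hk hij, lie_zero, add_zero, LinearMap.sub_apply,
    not_not.1 (fun hne => hij ((hN i).1 hne)), b.baseSupp_apply_h', zero_sub]

include hN hj hv hk hv0 in
theorem e_ww_ne {i k : ι} (hij : i ≠ j) (hki : k ≠ i) : ⁅b.e k, ww b j v i⁆ = 0 := by
  rw [e_f_ne b hki]
  by_cases hkj : k = j
  · subst hkj; rw [e_u b ρ k hj hv hk, f_v_eq_zero b ρ k hN hv hk hv0 hij]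
  · rw [e_u_ne b j hk hkj, lie_zero]

include hN hj hv hk hv0 in
theorem ww_adj {i : ι} (hij : i ≠ j) (hne : ww b j v i ≠ 0) : b.A j i ≠ 0 ∧ b.A i j ≠ 0 := by
  refine ⟨fun h => hne ?_, fun h => hne ?_⟩
  · refine eq_zero_of_killed b ρ hv hk hv0 (wt_w b ρ j hv i) (sub_sub_ne b ρ j i) fun k => ?_
    by_cases hki : k = i
    · subst hki; rw [e_ww b ρ j hN hj hv hk hij, h]; simp
    · exact e_ww_ne b ρ j hN hj hv hk hv0 hij hki
  · have P : IsSl2Triple.HasPrimitiveVectorWith (b.sl2 j) (b.f i) (0 : K) :=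
      { ne_zero := (b.sl2 i).f_ne_zero
        lie_h := by rw [b.lie_h_f, h, zero_smul]; simp
        lie_e := b.lie_e_f_ne j i hij.symm }
    have h0 := P.pow_toEnd_f_eq_zero_of_eq_nat (n := 0) (by simp)
    simp only [zero_add, pow_one, toEnd_apply_apply] at h0
    show ⁅b.f i, ⁅b.f j, v⁆⁆ = 0
    rw [leibniz_lie, f_v_eq_zero b ρ j hN hv hk hv0 hij, lie_zero, add_zero, ← lie_skew (b.f i) (b.f j), h0, neg_zero, zero_lie]

/-- stability under the Borel -/
def Stable (W : Submodule K L) : Prop :=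
  ∀ x ∈ H.toSubmodule ⊔ (b.borelUpper : Submodule K L), ∀ w ∈ W, ⁅x, w⁆ ∈ W

theorem e_mem_borel (i : ι) : b.e i ∈ H.toSubmodule ⊔ (b.borelUpper : Submodule K L) :=
  Submodule.mem_sup_right (show b.e i ∈ LieSubalgebra.lieSpan K L (Set.range b.e) from LieSubalgebra.subset_lieSpan ⟨i, rfl⟩)

variable {W : Submodule K L} (hW : Stable b W)

include hv hk hv0 hW in
theorem exists_next (U : Submodule K L) (hU : ¬ W ≤ U) :
    ∃ w χ, w ∈ W ∧ Wt H w χ ∧ w ∉ U ∧ ∀ i, ⁅b.e i, w⁆ ∈ W ∧ ⁅b.e i, w⁆ ∈ U := by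
  classical
  let W' : LieSubmodule K H L :=
    { toSubmodule := W, lie_mem := fun {x y} hy => hW x (Submodule.mem_sup_left x.2) y hy }
  have hex : ∃ n l, ∃ w ∈ W, Wt H w (wt b ρ l) ∧ w ∉ U ∧ l.length = n := by
    by_contra! hc
    refine hU ?_
    have hdec : (W : Submodule K L) ≤ ⨆ χ : H → K, W ⊓ (rootSpace H χ : Submodule K L) := by
      intro x hx
      have htop : (⟨x, hx⟩ : W') ∈ ⨆ χ : H → K, genWeightSpace W' χ := by
        rw [iSup_genWeightSpace_eq_top K H W']; exact LieSubmodule.mem_top _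
      refine LieSubmodule.iSup_induction (motive := fun y : W' => (y : L) ∈ ⨆ χ : H → K, W ⊓ (rootSpace H χ : Submodule K L))
        _ htop (fun χ y hy => Submodule.mem_iSup_of_mem χ ⟨y.2, ?_⟩) ?_ fun y z hy hz => ?_
      · exact map_genWeightSpace_le W'.incl ⟨y, hy, rfl⟩
      · exact zero_mem _
      · exact add_mem hy hz
    refine hdec.trans (iSup_le fun χ x ⟨hxW, hxχ⟩ => ?_)
    by_cases hx0 : x = 0
    · rw [hx0]; exact zero_mem _
    obtain ⟨l, hl⟩ := exists_word b hv hk hv0 hxχ hx0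
    by_contra hxU
    have hxw : Wt H x (wt b ρ l) := mem_root_iff.1 (by rw [hl]; exact hxχ)
    exact hc l.length l x hxW hxw hxU rfl
  obtain ⟨l, w, hwW, hw, hwU, hlen⟩ := Nat.find_spec hex
  refine ⟨w, wt b ρ l, hwW, hw, hwU, fun i => ⟨hW _ (e_mem_borel b i) w hwW, ?_⟩⟩
  by_contra hne
  have hne0 : ⁅b.e i, w⁆ ≠ 0 := fun h => hne (by rw [h]; exact zero_mem _)
  have hw' := (wt_e b i).lie hw
  obtain ⟨l', hl'⟩ := exists_word b hv hk hv0 (mem_root_iff.2 hw') hne0
  have hl2 : wt b ρ l' = b.baseSupp i + wt b ρ l := DFunLike.coe_injective hl'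
  have hperm : l.Perm (i :: l') := perm_of_wt_eq b (show _ = wt b ρ (i :: l') by rw [wt, hl2, neg_add_cancel_left])
  refine Nat.find_min hex (m := l'.length) ?_ ⟨l', _, hW _ (e_mem_borel b i) w hwW, hl2 ▸ hw', hne, rfl⟩
  rw [← hlen, hperm.length_eq]
  simp

include hv hk hv0 hW in
theorem v_mem (hW0 : W ≠ ⊥) : v ∈ W := by
  obtain ⟨w, χ, hwW, hw, hwU, he⟩ := exists_next b ρ hv hk hv0 hW ⊥ (by simpa using hW0)
  have hw0 : w ≠ 0 := by simpa using hwU
  obtain rfl := weight_eq_of_killed b ρ hv hk hv0 hw (fun i => (Submodule.mem_bot K).1 (he i).2) hw0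
  obtain ⟨c, rfl⟩ := Submodule.mem_span_singleton.1 (mem_span_v b _ hv hk hv0 hw)
  have hc : c ≠ 0 := fun h => hw0 (by rw [h, zero_smul])
  simpa [smul_smul, inv_mul_cancel₀ hc] using W.smul_mem c⁻¹ hwW

include hN hv hk hv0 hW in
theorem u_mem (hW2 : 2 ≤ Module.finrank K W) : uu b j v ∈ W := by
  have hU : ¬ W ≤ Submodule.span K {v} := fun h => by
    have := Submodule.finrank_mono h
    rw [finrank_span_singleton hv0] at this
    omega
  obtain ⟨w, χ, hwW, hw, hwU, he⟩ := exists_next b ρ hv hk hv0 hW _ hU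
  have hw0 : w ≠ 0 := fun h => hwU (by rw [h]; exact zero_mem _)
  obtain ⟨i, hi⟩ : ∃ i, ⁅b.e i, w⁆ ≠ 0 := by
    by_contra! h
    obtain rfl := weight_eq_of_killed b ρ hv hk hv0 hw h hw0
    exact hwU (mem_span_v b _ hv hk hv0 hw)
  obtain ⟨c, hc⟩ := Submodule.mem_span_singleton.1 (he i).2
  have hρ : b.baseSupp i + χ = ρ := ((wt_e b i).lie hw).eq (hc ▸ hv.smul c) hi
  have hχ : Wt H w (ρ - b.baseSupp i) := by rwa [← hρ, add_sub_cancel_left]
  obtain ⟨d, hd⟩ := Submodule.mem_span_singleton.1 (mem_span_fv b ρ hv hk hv0 hχ)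
  by_cases hij : i = j
  · subst hij
    have hd0 : d ≠ 0 := fun h => hw0 (by rw [← hd, h, zero_smul])
    have := W.smul_mem d⁻¹ hwW
    rwa [← hd, smul_smul, inv_mul_cancel₀ hd0, one_smul] at this
  · exact absurd (by rw [← hd, f_v_eq_zero b ρ j hN hv hk hv0 hij, smul_zero]) hw0

include hj hv hk hv0 in
theorem finrank_vu : Module.finrank K (Submodule.span K {v, uu b j v}) = 2 := by
  have hu0 := u_ne_zero b ρ j hj hv hk hv0
  have hli : LinearIndependent K ![v, uu b j v] := by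
    rw [LinearIndependent.pair_iff' hv0]
    intro c hc
    exact sub_ne b ρ j ((hc ▸ hv.smul c).eq (wt_u b ρ j hv) hu0).symm
  have := finrank_span_eq_card hli
  rw [Matrix.range_cons_cons_empty] at this
  simpa using this

include hN hj hv hk hv0 hW in
theorem exists_w (hW3 : Module.finrank K W = 3) :
    ∃ i, i ≠ j ∧ ww b j v i ≠ 0 ∧ W = Submodule.span K {v, uu b j v, ww b j v i} := by
  have hW0 : W ≠ ⊥ := fun h => by subst h; simp at hW3
  have hvW := v_mem b ρ hv hk hv0 hW hW0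
  have huW := u_mem b ρ j hN hv hk hv0 hW (by omega)
  have hU : ¬ W ≤ Submodule.span K {v, uu b j v} := fun h => by
    have := Submodule.finrank_mono h
    rw [finrank_vu b ρ j hj hv hk hv0] at this
    omega
  obtain ⟨w, χ, hwW, hw, hwU, he⟩ := exists_next b ρ hv hk hv0 hW _ hU
  have hw0 : w ≠ 0 := fun h => hwU (by rw [h]; exact zero_mem _)
  obtain ⟨i, hi⟩ : ∃ i, ⁅b.e i, w⁆ ≠ 0 := by
    by_contra! h
    obtain rfl := weight_eq_of_killed b ρ hv hk hv0 hw h hw0
    exact hwU (Submodule.span_mono (Set.singleton_subset_iff.2 (Set.mem_insert _ _)) (mem_span_v b _ hv hk hv0 hw))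
  have hy := (wt_e b i).lie hw
  obtain ⟨c, d, hcd⟩ := Submodule.mem_span_pair.1 (he i).2
  have hcases : b.baseSupp i + χ = ρ ∨ b.baseSupp i + χ = ρ - b.baseSupp j := by
    by_cases hd : d = 0
    · exact Or.inl (hy.eq (by rw [← hcd, hd, zero_smul, add_zero]; exact hv.smul c) hi)
    refine Or.inr ?_
    by_contra hne
    obtain ⟨h, hh⟩ : ∃ h, (b.baseSupp i + χ) h ≠ (ρ - b.baseSupp j) h := by
      by_contra! hh; exact hne (LinearMap.ext hh)
    have h1 := hy h
    rw [← hcd, lie_add, lie_smul, lie_smul, hv h, wt_u b ρ j hv h] at h1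
    set ψ := (b.baseSupp i + χ) h
    have h2 : (d * ((ρ - b.baseSupp j) h - ψ)) • uu b j v = (c * (ψ - ρ h)) • v := by
      linear_combination (norm := module) h1
    have h3 := hy.eq (χ := b.baseSupp i + χ) (ψ := b.baseSupp i + χ)
    by_cases hc' : c * (ψ - ρ h) = 0
    · rw [hc', zero_smul, smul_eq_zero] at h2
      rcases h2 with h2 | h2
      · exact mul_ne_zero hd (sub_ne_zero.2 (Ne.symm hh)) h2
      · exact u_ne_zero b ρ j hj hv hk hv0 h2
    · have h4 : Wt H v (ρ - b.baseSupp j) := by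
        have := (wt_u b ρ j hv).smul ((c * (ψ - ρ h))⁻¹ * (d * ((ρ - b.baseSupp j) h - ψ)))
        rwa [← smul_smul, h2, smul_smul, inv_mul_cancel₀ hc', one_smul] at this
      exact sub_ne b ρ j (h4.eq hv hv0)
  rcases hcases with hρ | hρ
  · refine absurd ?_ hwU
    have hχ : Wt H w (ρ - b.baseSupp i) := by rwa [← hρ, add_sub_cancel_left]
    have hm := mem_span_fv b ρ hv hk hv0 hχ
    by_cases hij : i = j
    · obtain ⟨c', hc'⟩ := Submodule.mem_span_singleton.1 hm
      rw [← hc', hij]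
      exact Submodule.smul_mem _ _ (Submodule.subset_span (Set.mem_insert_of_mem _ rfl))
    · rw [f_v_eq_zero b ρ j hN hv hk hv0 hij] at hm
      simp at hm
      exact absurd hm hw0
  · have hχ : Wt H w (ρ - b.baseSupp j - b.baseSupp i) := by rwa [← hρ, add_sub_cancel_left]
    by_cases hij : i = j
    · subst hij
      have hm := mem_span_ww_pair b ρ i hv hk hv0 hχ
      rw [show ⁅b.f i, ⁅b.f i, v⁆⁆ = 0 from ww_self b ρ i hj hv hk hv0] at hm
      rw [Set.pair_comm, Submodule.span_insert_zero, show ww b i v i = 0 from ww_self b ρ i hj hv hk hv0,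
        Submodule.span_zero_singleton, Submodule.mem_bot] at hm
      exact absurd hm hw0
    obtain ⟨a, ha⟩ := Submodule.mem_span_singleton.1 (mem_span_ww b ρ j hN hv hk hv0 hij hχ)
    have ha0 : a ≠ 0 := fun h => hw0 (by rw [← ha, h, zero_smul])
    have hne : ww b j v i ≠ 0 := fun h => hw0 (by rw [← ha, h, smul_zero])
    refine ⟨i, hij, hne, ?_⟩
    have hwwW : ww b j v i ∈ W := by
      have := W.smul_mem a⁻¹ hwW
      rwa [← ha, smul_smul, inv_mul_cancel₀ ha0, one_smul] at this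
    have hle : Submodule.span K {v, uu b j v, ww b j v i} ≤ W := by
      simp [Submodule.span_le, Set.insert_subset_iff, hvW, huW, hwwW]
    refine (Submodule.eq_of_le_of_finrank_le hle ?_).symm
    rw [hW3]
    have hlt : Submodule.span K {v, uu b j v} < Submodule.span K {v, uu b j v, ww b j v i} := by
      refine lt_of_le_not_ge (Submodule.span_mono (by simp [Set.insert_subset_iff])) fun h => hwU ?_
      rw [← ha]
      exact Submodule.smul_mem _ _ (h (Submodule.subset_span (by simp)))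
    have := Submodule.finrank_lt_finrank_of_lt hlt
    rw [finrank_vu b ρ j hj hv hk hv0] at this
    omega

include hj hv hk in
theorem stable_vu : Stable b (Submodule.span K {v, uu b j v}) := by
  intro x hx w hw
  obtain ⟨c, d, rfl⟩ := Submodule.mem_span_pair.1 hw
  obtain ⟨h, hh, n, hn, rfl⟩ := Submodule.mem_sup.1 hx
  have key : ∀ y ∈ ({v, uu b j v} : Set L), ∀ n ∈ LieSubalgebra.lieSpan K L (Set.range b.e),
      ⁅n, y⁆ ∈ Submodule.span K {v, uu b j v} := by
    let S : LieSubalgebra K L :=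
      { carrier := {x | ∀ y ∈ Submodule.span K {v, uu b j v}, ⁅x, y⁆ ∈ Submodule.span K {v, uu b j v}}
        zero_mem' := fun y _ => by simp
        add_mem' := fun {x x'} hx hx' y hy => by rw [add_lie]; exact add_mem (hx y hy) (hx' y hy)
        smul_mem' := fun c {x} hx y hy => by rw [smul_lie]; exact Submodule.smul_mem _ c (hx y hy)
        lie_mem' := fun {x x'} hx hx' y hy => by rw [lie_lie]; exact sub_mem (hx _ (hx' y hy)) (hx' _ (hx y hy)) }
    have hle : LieSubalgebra.lieSpan K L (Set.range b.e) ≤ S := by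
      rw [LieSubalgebra.lieSpan_le]
      rintro _ ⟨i, rfl⟩ y hy
      obtain ⟨c, d, rfl⟩ := Submodule.mem_span_pair.1 hy
      rw [lie_add, lie_smul, lie_smul, hk, smul_zero, zero_add]
      refine Submodule.smul_mem _ _ ?_
      by_cases hij : i = j
      · rw [hij, e_u b ρ j hj hv hk]; exact Submodule.subset_span (Set.mem_insert _ _)
      · rw [e_u_ne b j hk hij]; exact zero_mem _
    exact fun y hy n hn => hle hn y (Submodule.subset_span hy)
  rw [add_lie]
  refine add_mem ?_ ?_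
  · rw [lie_add, lie_smul, lie_smul, hv ⟨h, hh⟩, wt_u b ρ j hv ⟨h, hh⟩]
    exact add_mem (Submodule.smul_mem _ _ (Submodule.smul_mem _ _ (Submodule.subset_span (Set.mem_insert _ _))))
      (Submodule.smul_mem _ _ (Submodule.smul_mem _ _ (Submodule.subset_span (Set.mem_insert_of_mem _ rfl))))
  · rw [lie_add, lie_smul, lie_smul]
    exact add_mem (Submodule.smul_mem _ _ (key v (Set.mem_insert _ _) n hn))
      (Submodule.smul_mem _ _ (key _ (Set.mem_insert_of_mem _ rfl) n hn))

end setting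

theorem exists_hw (ρ : Module.Dual K H) (hρ : rootSpace H ρ ≠ ⊥) (htop : ∀ i, rootSpace H (ρ + b.baseSupp i) = ⊥) :
    ∃ v : L, Wt H v ρ ∧ (∀ i, ⁅b.e i, v⁆ = 0) ∧ v ≠ 0 := by
  obtain ⟨v, hv, hv0⟩ := (Submodule.ne_bot_iff (rootSpace H ρ : Submodule K L)).1 (by simpa using hρ)
  refine ⟨v, mem_root_iff.1 hv, fun i => ?_, hv0⟩
  have h := (wt_e b i).lie (mem_root_iff.1 hv)
  rw [add_comm] at h
  have h' := mem_root_iff.2 h
  rw [show ⇑(ρ + b.baseSupp i) = ⇑ρ + ⇑(b.baseSupp i) from rfl, htop i] at h'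
  exact (LieSubmodule.mem_bot _).1 h'

variable (ρ : Module.Dual K H) (j : ι) (hN : ∀ i, ρ (b.h' i) ≠ 0 ↔ i = j) (hj : ρ (b.h' j) = 1)
  {v : L} (hv : Wt H v ρ) (hk : ∀ i, ⁅b.e i, v⁆ = 0) (hv0 : v ≠ 0)

include hv hk hv0 in
theorem rootSpace_rho : (rootSpace H ρ : Submodule K L) = Submodule.span K {v} :=
  le_antisymm (fun x hx => mem_span_v b ρ hv hk hv0 (mem_root_iff.1 hx))
    ((Submodule.span_singleton_le_iff_mem _ _).2 (mem_root_iff.2 hv))

theorem coe_sub' (f g : Module.Dual K H) : ⇑(f - g) = ⇑f - ⇑g := rfl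

include hv hk hv0 in
theorem rootSpace_u : (rootSpace H (ρ - b.baseSupp j) : Submodule K L) = Submodule.span K {uu b j v} := by
  rw [← coe_sub']
  exact le_antisymm (fun x hx => mem_span_fv b ρ hv hk hv0 (mem_root_iff.1 hx))
    ((Submodule.span_singleton_le_iff_mem _ _).2 (mem_root_iff.2 (wt_u b ρ j hv)))

include hN hv hk hv0 in
theorem rootSpace_w {i : ι} (hij : i ≠ j) :
    (rootSpace H (ρ - b.baseSupp j - b.baseSupp i) : Submodule K L) = Submodule.span K {ww b j v i} := by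
  rw [← coe_sub', ← coe_sub']
  exact le_antisymm (fun x hx => mem_span_ww b ρ j hN hv hk hv0 hij (mem_root_iff.1 hx))
    ((Submodule.span_singleton_le_iff_mem _ _).2 (mem_root_iff.2 (wt_w b ρ j hv i)))

end Groth.Misc13.Adj
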