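import Groth.Agent.Misc13.AdjBorel

/-!
The subalgebra generated by `L_ρ`, `L_{-ρ}`, `L_{ρ-α_j}` and its radical.
-/

set_option autoImplicit false
set_option linter.style.haveILetI false
set_option linter.unusedSectionVars false

open LieAlgebra LieModule

namespace Groth.Misc13.Adj

universe u v w

variable {ι : Type u} {K : Type v} {L : Type w} [Fintype ι] [Field K] [CharZero K]
  [IsAlgClosed K] [LieRing L] [LieAlgebra K L] [FiniteDimensional K L] [LieAlgebra.IsSimple K L]
  {H : LieSubalgebra K L} [H.IsCartanSubalgebra] (b : LieAlgebra.Basis ι H)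

theorem neg_root_ne_bot {y : L} {χ : Module.Dual K H} (hy : Wt H y χ) (hy0 : y ≠ 0) :
    ∃ z : L, Wt H z (-χ) ∧ z ≠ 0 := by
  let α : Weight K H L := ⟨⇑χ, fun e => hy0 (by
    have := mem_root_iff.2 hy
    rw [rootSpace, e] at this
    exact (LieSubmodule.mem_bot _).1 this)⟩
  obtain ⟨z, hz, hz0⟩ := (-α).exists_ne_zero
  exact ⟨z, mem_root_iff.1 (show z ∈ rootSpace H ⇑(-χ) from hz), hz0⟩

theorem mem_span_of_wt {χ : Module.Dual K H} (hχ : χ ≠ 0) {y z : L} (hy : Wt H y χ) (hy0 : y ≠ 0) (hz : Wt H z χ) :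
    z ∈ Submodule.span K {y} := by
  let α : Weight K H L := ⟨⇑χ, fun e => hy0 (by
    have := mem_root_iff.2 hy
    rw [rootSpace, e] at this
    exact (LieSubmodule.mem_bot _).1 this)⟩
  have h1 : Module.finrank K (rootSpace H α) = 1 :=
    IsKilling.finrank_rootSpace_eq_one α (fun h => hχ (LinearMap.ext fun x => congrFun h x))
  have h2 : Submodule.span K {y} = (rootSpace H ⇑χ : Submodule K L) :=
    Submodule.eq_of_le_of_finrank_le ((Submodule.span_singleton_le_iff_mem _ _).2 (mem_root_iff.2 hy))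
      (by rw [finrank_span_singleton hy0]; exact h1.le)
  rw [h2]
  exact mem_root_iff.2 hz

theorem wt_shift (χ : Module.Dual K H) : ∀ l, wt b χ l = χ + wt b 0 l
  | [] => by simp [wt]
  | i :: l => by rw [wt, wt, wt_shift χ l]; abel

variable (ρ : Module.Dual K H) (j : ι) (hN : ∀ i, ρ (b.h' i) ≠ 0 ↔ i = j) (hj : ρ (b.h' j) = 1)

include hN hj in
theorem exists_table (hρ : rootSpace H ρ ≠ ⊥) (htop : ∀ i, rootSpace H (ρ + b.baseSupp i) = ⊥) :
    ∃ (v η x u f : L) (hη : η ∈ H),
      ρ ⟨η, hη⟩ = 2 ∧ v ≠ 0 ∧ x ≠ 0 ∧ u ≠ 0 ∧ f ≠ 0 ∧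
      (rootSpace H ρ : Submodule K L) = Submodule.span K {v} ∧
      (rootSpace H ⇑(-ρ) : Submodule K L) = Submodule.span K {x} ∧
      (rootSpace H ⇑(ρ - b.baseSupp j) : Submodule K L) = Submodule.span K {u} ∧
      (rootSpace H ⇑(-b.baseSupp j) : Submodule K L) = Submodule.span K {f} ∧
      ⁅η, v⁆ = (2 : K) • v ∧ ⁅η, x⁆ = (-2 : K) • x ∧ ⁅η, u⁆ = u ∧ ⁅η, f⁆ = -f ∧
      ⁅v, x⁆ = η ∧ ⁅v, u⁆ = 0 ∧ ⁅v, f⁆ = -u ∧ ⁅x, u⁆ = -f ∧ ⁅x, f⁆ = 0 ∧ ⁅u, f⁆ = 0 := by
  let α : Weight K H L := ⟨⇑ρ, hρ⟩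
  have hρ0 : ρ ≠ 0 := fun h => by rw [h] at hj; simp at hj
  obtain ⟨η, v, x, ht, hvρ, hxρ⟩ := IsKilling.exists_isSl2Triple_of_weight_isNonZero (α := α)
    (fun h => hρ0 (LinearMap.ext fun x => congrFun h x))
  have hv : Wt H v ρ := mem_root_iff.1 hvρ
  have hx : Wt H x (-ρ) := mem_root_iff.1 (show x ∈ rootSpace H ⇑(-ρ) from hxρ)
  have hv0 := ht.e_ne_zero
  have hk : ∀ i, ⁅b.e i, v⁆ = 0 := fun i => by
    have h := mem_root_iff.2 ((wt_e b i).lie hv)
    rw [show ⇑(b.baseSupp i + ρ) = ⇑ρ + ⇑(b.baseSupp i) from funext fun y => add_comm _ _, htop i] at h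
    exact (LieSubmodule.mem_bot _).1 h
  have hηH : η ∈ H := by
    have h := mem_root_iff.2 (hv.lie hx)
    rw [ht.lie_e_f, add_neg_cancel, show ⇑(0 : Module.Dual K H) = (0 : H → K) from rfl, rootSpace_zero_eq] at h
    exact h
  have hρη : ρ ⟨η, hηH⟩ = 2 := by
    have h := hv ⟨η, hηH⟩
    rw [show ⁅((⟨η, hηH⟩ : H) : L), v⁆ = (2 : K) • v from ht.lie_h_e_smul K] at h
    exact (smul_left_injective K hv0 h).symm
  have hu : Wt H (uu b j v) (ρ - b.baseSupp j) := wt_u b ρ j hv
  have hf : Wt H (b.f j) (-b.baseSupp j) := wt_f b j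
  have hu0 := u_ne_zero b ρ j hj hv hk hv0
  -- the three vanishing brackets
  have hxf : ⁅x, b.f j⁆ = 0 := by
    by_contra hne
    obtain ⟨z, hz, hz0⟩ := neg_root_ne_bot (hx.lie hf) hne
    have h := mem_root_iff.2 hz
    rw [show ⇑(-(-ρ + -b.baseSupp j)) = ⇑ρ + ⇑(b.baseSupp j) from funext fun y => by simp; ring, htop j] at h
    exact hz0 ((LieSubmodule.mem_bot _).1 h)
  have hvu : ⁅v, uu b j v⁆ = 0 := by
    by_contra hne
    obtain ⟨l, hl⟩ := exists_word b hv hk hv0 (mem_root_iff.2 (hv.lie hu)) hne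
    have hη0 : (η : L) ∈ rootSpace H (0 : H → K) := by rw [rootSpace_zero_eq]; exact hηH
    obtain ⟨l0, hl0⟩ := exists_word b hv hk hv0 hη0 ht.h_ne_zero
    have h0 : wt b ρ l0 = 0 := DFunLike.coe_injective (hl0.trans rfl)
    have hl' : wt b ρ l = ρ + (ρ - b.baseSupp j) := DFunLike.coe_injective hl
    have h1 : wt b ρ (l ++ l0) = wt b ρ [j] := by
      rw [wt_append, h0]
      have := wt_shift b ρ l
      rw [hl'] at this
      simp only [wt]
      linear_combination (norm := abel) -this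
    have hp := perm_of_wt_eq b h1
    have hl0' : l0 ≠ [] := fun h => hρ0 (by rw [h, wt] at h0; exact h0)
    have hlen := hp.length_eq
    rw [List.length_append, List.length_singleton] at hlen
    have : l = [] := List.length_eq_zero_iff.1 (by
      have := List.length_pos_of_ne_nil hl0'
      omega)
    subst this
    rw [List.nil_append, List.perm_singleton] at hp
    subst hp
    simp only [wt] at h0 hl'
    exact b.linearIndependent_baseSupp.ne_zero j (by
      have : ρ = b.baseSupp j := by linear_combination (norm := abel) h0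
      have h2 := congrArg (fun t : Module.Dual K H => t (b.h' j)) this
      simp only [hj, b.baseSupp_apply_h', A_self] at h2
      norm_num at h2)
  have huf : ⁅uu b j v, b.f j⁆ = 0 := by
    rw [← lie_skew, show ⁅b.f j, uu b j v⁆ = 0 from ww_self b ρ j hj hv hk hv0, neg_zero]
  have hvf : ⁅v, b.f j⁆ = -uu b j v := (lie_skew v (b.f j)).symm
  have hxu : ⁅x, uu b j v⁆ = (-(b.baseSupp j ⟨η, hηH⟩)) • b.f j := by
    have h := hf ⟨η, hηH⟩
    rw [show ((⟨η, hηH⟩ : H) : L) = ⁅v, x⁆ from ht.lie_e_f.symm, lie_lie, hxf, lie_zero, zero_sub, hvf, lie_neg, neg_neg] at h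
    rw [h, LinearMap.neg_apply]
  have hαη : b.baseSupp j ⟨η, hηH⟩ = 1 := by
    have h := hu ⟨η, hηH⟩
    rw [show ((⟨η, hηH⟩ : H) : L) = ⁅v, x⁆ from ht.lie_e_f.symm, lie_lie, hvu, lie_zero, sub_zero, hxu, lie_smul, hvf,
      smul_neg, neg_smul, neg_neg, LinearMap.sub_apply, hρη] at h
    have := smul_left_injective K hu0 h
    linear_combination this / 2
  refine ⟨v, η, x, uu b j v, b.f j, hηH, hρη, hv0, ht.f_ne_zero, hu0, (b.sl2 j).f_ne_zero,
    rootSpace_rho b ρ hv hk hv0, ?_, ?_, ?_, ht.lie_h_e_smul K, ?_, ?_, ?_, ht.lie_e_f, hvu, hvf, ?_, hxf, huf⟩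
  · exact le_antisymm (fun z hz => mem_span_of_wt (neg_ne_zero.2 hρ0) hx ht.f_ne_zero (mem_root_iff.1 hz))
      ((Submodule.span_singleton_le_iff_mem _ _).2 (mem_root_iff.2 hx))
  · exact le_antisymm (fun z hz => mem_span_fv b ρ hv hk hv0 (mem_root_iff.1 hz))
      ((Submodule.span_singleton_le_iff_mem _ _).2 (mem_root_iff.2 hu))
  · exact le_antisymm (fun z hz => mem_span_of_wt (neg_ne_zero.2 (b.linearIndependent_baseSupp.ne_zero j)) hf
      (b.sl2 j).f_ne_zero (mem_root_iff.1 hz)) ((Submodule.span_singleton_le_iff_mem _ _).2 (mem_root_iff.2 hf))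
  · rw [ht.lie_lie_smul_f K, neg_smul]
  · have h := hu ⟨η, hηH⟩
    rw [LinearMap.sub_apply, hρη, hαη, show (2 : K) - 1 = 1 by norm_num, one_smul] at h
    exact h
  · have h := hf ⟨η, hηH⟩
    rw [LinearMap.neg_apply, hαη, neg_smul, one_smul] at h
    exact h
  · rw [hxu, hαη, neg_smul, one_smul]

include hN hj in
theorem radical_conclusion (hρ : rootSpace H ρ ≠ ⊥) (htop : ∀ i, rootSpace H (ρ + b.baseSupp i) = ⊥)
    (A : LieSubalgebra K L)
    (hA : A = LieSubalgebra.lieSpan K L
      ((rootSpace H ρ : Set L) ∪ (rootSpace H ⇑(-ρ) : Set L) ∪ (rootSpace H ⇑(ρ - b.baseSupp j) : Set L))) :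
    Module.finrank K A = 5 ∧ Module.finrank K (LieAlgebra.radical K A) = 2 ∧
      (LieAlgebra.radical K A).toSubmodule.map (A.incl : A →ₗ⁅K⁆ L).toLinearMap =
        (rootSpace H ⇑(ρ - b.baseSupp j) : Submodule K L) ⊔ (rootSpace H ⇑(-b.baseSupp j) : Submodule K L) := by
  obtain ⟨v, η, x, u, f, hηH, -, hv0, hx0, hu0, hf0, hRv, hRx, hRu, hRf, ev, ex, eu, ef, vx, vu, vf, xu, xf, uf⟩ :=
    exists_table b ρ j hN hj hρ htop
  have hη0 : η ≠ 0 := fun h => by rw [h, zero_lie, eq_comm] at eu; exact hu0 eu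
  have ev' : ⁅v, η⁆ = -((2 : K) • v) := by rw [← lie_skew, ev]
  have ex' : ⁅x, η⁆ = -((-2 : K) • x) := by rw [← lie_skew, ex]
  have eu' : ⁅u, η⁆ = -u := by rw [← lie_skew, eu]
  have ef' : ⁅f, η⁆ = f := by rw [← lie_skew, ef, neg_neg]
  have vx' : ⁅x, v⁆ = -η := by rw [← lie_skew, vx]
  have vu' : ⁅u, v⁆ = 0 := by rw [← lie_skew, vu, neg_zero]
  have vf' : ⁅f, v⁆ = u := by rw [← lie_skew, vf, neg_neg]
  have xu' : ⁅u, x⁆ = f := by rw [← lie_skew, xu, neg_neg]
  have xf' : ⁅f, x⁆ = 0 := by rw [← lie_skew, xf, neg_zero]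
  have uf' : ⁅f, u⁆ = 0 := by rw [← lie_skew, uf, neg_zero]
  set G : Fin 5 → L := ![v, η, x, u, f]
  set S : Submodule K L := Submodule.span K (Set.range G)
  have hG : ∀ k, G k ∈ S := fun k => Submodule.subset_span ⟨k, rfl⟩
  have mv : v ∈ S := hG 0
  have mη : η ∈ S := hG 1
  have mx : x ∈ S := hG 2
  have mu : u ∈ S := hG 3
  have mf : f ∈ S := hG 4
  have table : ∀ k l, ⁅G k, G l⁆ ∈ S := by
    intro k l
    fin_cases k <;> fin_cases l <;>
      simp [G, lie_self, ev, ex, eu, ef, vx, vu, vf, xu, xf, uf, ev', ex', eu', ef', vx', vu', vf', xu', xf', uf',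
        S.smul_mem, mv, mη, mx, mu, mf]
  let S' : LieSubalgebra K L :=
    { S with
      lie_mem' := fun {a c} ha hc => by
        induction ha using Submodule.span_induction with
        | mem a ha =>
          obtain ⟨k, rfl⟩ := ha
          induction hc using Submodule.span_induction with
          | mem c hc => obtain ⟨l, rfl⟩ := hc; exact table k l
          | zero => simp
          | add p q _ _ hp hq => rw [lie_add]; exact S.add_mem hp hq
          | smul t p _ hp => rw [lie_smul]; exact S.smul_mem t hp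
        | zero => simp
        | add p q _ _ hp hq => rw [add_lie]; exact S.add_mem hp hq
        | smul t p _ hp => rw [smul_lie]; exact S.smul_mem t hp }
  have hAS : A.toSubmodule = S := by
    refine le_antisymm ?_ ?_
    · have hle : A ≤ S' := by
        rw [hA, LieSubalgebra.lieSpan_le]
        rintro z ((hz | hz) | hz)
        · have h : z ∈ (rootSpace H ρ : Submodule K L) := hz
          rw [hRv] at h
          exact (Submodule.span_singleton_le_iff_mem _ _).2 mv h
        · have h : z ∈ (rootSpace H ⇑(-ρ) : Submodule K L) := hz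
          rw [hRx] at h
          exact (Submodule.span_singleton_le_iff_mem _ _).2 mx h
        · have h : z ∈ (rootSpace H ⇑(ρ - b.baseSupp j) : Submodule K L) := hz
          rw [hRu] at h
          exact (Submodule.span_singleton_le_iff_mem _ _).2 mu h
      exact fun z hz => hle hz
    · have av : v ∈ A := by
        rw [hA]; exact LieSubalgebra.subset_lieSpan (Or.inl (Or.inl (hRv.ge (Submodule.mem_span_singleton_self v))))
      have ax : x ∈ A := by
        rw [hA]; exact LieSubalgebra.subset_lieSpan (Or.inl (Or.inr (hRx.ge (Submodule.mem_span_singleton_self x))))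
      have au : u ∈ A := by
        rw [hA]; exact LieSubalgebra.subset_lieSpan (Or.inr (hRu.ge (Submodule.mem_span_singleton_self u)))
      rw [Submodule.span_le]
      rintro _ ⟨k, rfl⟩
      fin_cases k
      exacts [av, show η ∈ A from vx ▸ A.lie_mem av ax, ax, au, show f ∈ A from xu' ▸ A.lie_mem au ax]
  have hli : LinearIndependent K G := by
    refine Module.End.eigenvectors_linearIndependent' (LieAlgebra.ad K L η) ![2, 0, -2, 1, -1] ?_ G fun k => ?_
    · intro a c h
      fin_cases a <;> fin_cases c <;> first | rfl | norm_num at h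
    · refine ⟨Module.End.mem_eigenspace_iff.2 ?_, ?_⟩
      · fin_cases k <;> simp [G, ev, ex, eu, ef]
      · fin_cases k <;> simp [G, hv0, hη0, hx0, hu0, hf0]
  refine ⟨?_, ?_⟩
  · show Module.finrank K A.toSubmodule = 5
    rw [hAS, finrank_span_eq_card hli]
    rfl
  -- the radical
  have inA : ∀ {z : L}, z ∈ S → z ∈ A := fun hz => by rw [← LieSubalgebra.mem_toSubmodule, hAS]; exact hz
  let V' : A := ⟨v, inA mv⟩
  let E' : A := ⟨η, inA mη⟩
  let X' : A := ⟨x, inA mx⟩
  let U' : A := ⟨u, inA mu⟩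
  let F' : A := ⟨f, inA mf⟩
  have hspan : ∀ z : A, ∃ a c d p q : K, z = a • V' + c • E' + d • X' + p • U' + q • F' := by
    intro z
    have hz : (z : L) ∈ S := hAS ▸ z.2
    obtain ⟨co, hco⟩ := (Submodule.mem_span_range_iff_exists_fun K).1 hz
    refine ⟨co 0, co 1, co 2, co 3, co 4, Subtype.ext ?_⟩
    rw [← hco, Fin.sum_univ_five]
    rfl
  have Iclosed : ∀ z : A, ∀ p q : K, ∃ p' q' : K, ⁅z, p • U' + q • F'⁆ = p' • U' + q' • F' := by
    intro z p q
    obtain ⟨a, c, d, p', q', rfl⟩ := hspan z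
    refine ⟨c * p - a * q, -c * q - d * p, Subtype.ext ?_⟩
    simp only [LieSubalgebra.coe_bracket, AddMemClass.coe_add, SetLike.val_smul, V', E', X', U', F', add_lie, lie_add,
      smul_lie, lie_smul, eu, ef, vu, vf, xu, xf, uf, uf', lie_self, smul_zero, ZeroMemClass.coe_zero]
    module
  let I : LieIdeal K A :=
    { toSubmodule := Submodule.span K {U', F'}
      lie_mem := fun {z y} hy => by
        obtain ⟨p, q, rfl⟩ := Submodule.mem_span_pair.1 hy
        obtain ⟨p', q', h⟩ := Iclosed z p q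
        exact Submodule.mem_span_pair.2 ⟨p', q', h.symm⟩ }
  haveI : IsLieAbelian I := ⟨fun y z => by
    obtain ⟨p, q, hy⟩ := Submodule.mem_span_pair.1 y.2
    obtain ⟨p', q', hz⟩ := Submodule.mem_span_pair.1 z.2
    apply Subtype.ext
    show ⁅(y : A), (z : A)⁆ = 0
    rw [← hy, ← hz]
    apply Subtype.ext
    simp [U', F', uf, uf']⟩
  have hIJ : I ≤ radical K A := (LieIdeal.solvable_iff_le_radical K A I).1 inferInstance
  set J := radical K A with hJ
  have hnot : J ≠ ⊤ := by
    intro htopJ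
    obtain ⟨k, hk⟩ := IsSolvable.solvable (R := K) (L := J)
    rw [LieIdeal.derivedSeries_eq_bot_iff, htopJ, ← derivedSeries_def] at hk
    have h1 : derivedSeries K A 1 = ⊤ := by
      rw [eq_top_iff]
      intro z _
      rw [derivedSeries_def, derivedSeriesOfIdeal_succ, derivedSeriesOfIdeal_zero]
      set D : LieIdeal K A := ⁅(⊤ : LieIdeal K A), (⊤ : LieIdeal K A)⁆
      have hb : ∀ y y' : A, ⁅y, y'⁆ ∈ D := fun y y' =>
        LieSubmodule.lie_mem_lie (LieSubmodule.mem_top y) (LieSubmodule.mem_top y')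
      obtain ⟨a, c, d, p, q, rfl⟩ := hspan z
      have gv : V' ∈ D := by
        have := D.smul_mem (2⁻¹ : K) (hb E' V')
        rwa [show ⁅E', V'⁆ = (2 : K) • V' from Subtype.ext ev, smul_smul, inv_mul_cancel₀ two_ne_zero, one_smul] at this
      have gx : X' ∈ D := by
        have := D.smul_mem ((-2)⁻¹ : K) (hb E' X')
        rwa [show ⁅E', X'⁆ = (-2 : K) • X' from Subtype.ext ex, smul_smul, inv_mul_cancel₀ (by norm_num), one_smul] at this
      have ge : E' ∈ D := (show ⁅V', X'⁆ = E' from Subtype.ext vx) ▸ hb V' X'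
      have gu : U' ∈ D := (show ⁅E', U'⁆ = U' from Subtype.ext eu) ▸ hb E' U'
      have gf : F' ∈ D := (show ⁅U', X'⁆ = F' from Subtype.ext xu') ▸ hb U' X'
      exact add_mem (add_mem (add_mem (add_mem (D.smul_mem a gv) (D.smul_mem c ge)) (D.smul_mem d gx)) (D.smul_mem p gu)) (D.smul_mem q gf)
    rw [LieIdeal.derivedSeries_eq_top k h1] at hk
    haveI : Nontrivial A := ⟨⟨E', 0, fun h => hη0 (congrArg Subtype.val h)⟩⟩
    exact top_ne_bot hk
  have hU : U' ∈ J := hIJ (Submodule.subset_span (Set.mem_insert _ _))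
  have hF : F' ∈ J := hIJ (Submodule.subset_span (Set.mem_insert_of_mem _ rfl))
  have hE : ∀ c : K, c • E' ∈ J → c = 0 := by
    intro c hc
    by_contra hc0
    have he : E' ∈ J := by simpa [smul_smul, inv_mul_cancel₀ hc0] using J.smul_mem c⁻¹ hc
    have gv : V' ∈ J := by
      have := J.smul_mem (-(2⁻¹) : K) (J.lie_mem (x := V') he)
      rwa [show ⁅V', E'⁆ = -((2 : K) • V') from Subtype.ext ev', smul_neg, neg_smul, neg_neg, smul_smul,
        inv_mul_cancel₀ two_ne_zero, one_smul] at this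
    have gx : X' ∈ J := by
      have := J.smul_mem (2⁻¹ : K) (J.lie_mem (x := X') he)
      rwa [show ⁅X', E'⁆ = -((-2 : K) • X') from Subtype.ext ex', neg_smul, neg_neg, smul_smul,
        inv_mul_cancel₀ two_ne_zero, one_smul] at this
    refine hnot (eq_top_iff.2 fun z _ => ?_)
    obtain ⟨a, c', d, p, q, rfl⟩ := hspan z
    exact add_mem (add_mem (add_mem (add_mem (J.smul_mem a gv) (J.smul_mem c' he)) (J.smul_mem d gx)) (J.smul_mem p hU)) (J.smul_mem q hF)
  have hle : ∀ z ∈ J, ∃ p q : K, z = p • U' + q • F' := by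
    intro z hz
    obtain ⟨a, c, d, p, q, rfl⟩ := hspan z
    have hw : a • V' + c • E' + d • X' ∈ J := by
      have := sub_mem hz (add_mem (J.smul_mem p hU) (J.smul_mem q hF))
      convert this using 1
      abel
    have h1 : ⁅E', a • V' + c • E' + d • X'⁆ = (2 * a) • V' - (2 * d) • X' := Subtype.ext (by
      simp [V', E', X', lie_add, ev, ex, lie_self]; module)
    have h2 : ⁅E', (2 * a) • V' - (2 * d) • X'⁆ = (4 * a) • V' + (4 * d) • X' := Subtype.ext (by
      simp [V', E', X', lie_sub, ev, ex]; module)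
    have m1 := J.lie_mem (x := E') hw
    rw [h1] at m1
    have m2 := J.lie_mem (x := E') m1
    rw [h2] at m2
    have mc : c • E' ∈ J := by
      have := sub_mem hw (J.smul_mem (4⁻¹ : K) m2)
      convert this using 1
      have h4 : (4 : K)⁻¹ * 4 = 1 := inv_mul_cancel₀ (by norm_num)
      rw [smul_add, smul_smul, smul_smul, ← mul_assoc, ← mul_assoc, h4, one_mul, one_mul]
      abel
    obtain rfl := hE c mc
    have ma : a • V' ∈ J := by
      have hh : a • V' = (4⁻¹ : K) • ((2 * a) • V' - (2 * d) • X') + (8⁻¹ : K) • ((4 * a) • V' + (4 * d) • X') := by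
        match_scalars <;> ring
      rw [hh]
      exact add_mem (J.smul_mem (4⁻¹ : K) m1) (J.smul_mem (8⁻¹ : K) m2)
    have md : d • X' ∈ J := by
      simpa using sub_mem hw ma
    have ha : a = 0 := hE a (by
      have := J.lie_mem (x := X') (J.smul_mem (-1 : K) ma)
      rwa [show ⁅X', (-1 : K) • a • V'⁆ = a • E' from Subtype.ext (by simp [X', E', V', vx', vx]) ] at this)
    have hd : d = 0 := hE d (by
      have := J.lie_mem (x := V') md
      rwa [show ⁅V', d • X'⁆ = d • E' from Subtype.ext (by simp [X', E', V', vx]) ] at this)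
    refine ⟨p, q, ?_⟩
    subst ha hd
    simp
  have hJeq : J.toSubmodule = Submodule.span K {U', F'} := by
    refine le_antisymm (fun z hz => ?_) (Submodule.span_le.2 (by simp [Set.insert_subset_iff, hU, hF]))
    obtain ⟨p, q, rfl⟩ := hle z hz
    exact Submodule.mem_span_pair.2 ⟨p, q, rfl⟩
  refine ⟨?_, ?_⟩
  · show Module.finrank K J.toSubmodule = 2
    rw [hJeq]
    have hli2 : LinearIndependent K ![U', F'] := by
      refine LinearIndependent.of_comp A.toSubmodule.subtype ?_
      have := hli.comp ![(3 : Fin 5), 4] (by intro a c; fin_cases a <;> fin_cases c <;> simp)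
      convert this using 1
      ext k; fin_cases k <;> rfl
    have := finrank_span_eq_card hli2
    rw [Matrix.range_cons_cons_empty] at this
    simpa using this
  · rw [hJeq, Submodule.map_span, Set.image_insert_eq, Set.image_singleton, hRu, hRf, ← Submodule.span_insert]
    rfl

end Groth.Misc13.Adj
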