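import Mathlib.Algebra.BigOperators.Group.Finset.Basic
import Mathlib.Data.Nat.Choose.Basic
import Mathlib.Data.Nat.Factorial.Basic
import Mathlib.Algebra.BigOperators.Intervals
import Mathlib.Algebra.BigOperators.Ring.Finset
import Mathlib.Data.Nat.Choose.Sum
import Mathlib.Tactic.Ring
import Mathlib.Tactic.LinearCombination

set_option autoImplicit false

namespace Groth.Misc13.AltSum

/-- `Σ_j (-1)^(n-j) C(n,j) j^k`. -/
def T (n k : ℕ) : ℤ := ∑ j ∈ Finset.range (n + 1), (-1 : ℤ) ^ (n - j) * (n.choose j : ℤ) * (j : ℤ) ^ k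

theorem absorb (n j : ℕ) : (j : ℤ) * ((n + 1).choose j : ℤ) = (n + 1) * (((n + 1).choose j : ℤ) - (n.choose j : ℤ)) := by
  cases j with
  | zero => simp
  | succ i =>
    have h1 := Nat.add_one_mul_choose_eq n i
    have h1' : ((n + 1) * n.choose i : ℤ) = ((n + 1).choose (i + 1) : ℤ) * (i + 1) := by exact_mod_cast h1
    have h2 : ((n + 1).choose (i + 1) : ℤ) = n.choose i + n.choose (i + 1) := by exact_mod_cast Nat.choose_succ_succ' n i
    push_cast
    linear_combination (-1 : ℤ) * h1' - ((n : ℤ) + 1) * h2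

theorem T_succ_succ (n k : ℕ) : T (n + 1) (k + 1) = (n + 1) * (T (n + 1) k + T n k) := by
  unfold T
  have h : ∀ j ∈ Finset.range (n + 2), (-1 : ℤ) ^ (n + 1 - j) * ((n + 1).choose j : ℤ) * (j : ℤ) ^ (k + 1) =
      (n + 1) * ((-1 : ℤ) ^ (n + 1 - j) * ((n + 1).choose j : ℤ) * (j : ℤ) ^ k) -
      (n + 1) * ((-1 : ℤ) ^ (n + 1 - j) * (n.choose j : ℤ) * (j : ℤ) ^ k) := by
    intro j _
    linear_combination ((-1 : ℤ) ^ (n + 1 - j) * (j : ℤ) ^ k) * absorb n j
  rw [Finset.sum_congr rfl h, Finset.sum_sub_distrib, ← Finset.mul_sum, ← Finset.mul_sum, mul_add]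
  rw [Finset.sum_range_succ (n := n + 1) (f := fun j => (-1 : ℤ) ^ (n + 1 - j) * (n.choose j : ℤ) * (j : ℤ) ^ k)]
  simp only [Nat.choose_succ_self, Nat.cast_zero, mul_zero, zero_mul, add_zero]
  have h2 : ∀ j ∈ Finset.range (n + 1), (-1 : ℤ) ^ (n + 1 - j) * (n.choose j : ℤ) * (j : ℤ) ^ k =
      -((-1 : ℤ) ^ (n - j) * (n.choose j : ℤ) * (j : ℤ) ^ k) := by
    intro j hj
    rw [show n + 1 - j = n - j + 1 by have := Finset.mem_range.mp hj; omega, pow_succ]; ring
  rw [Finset.sum_congr rfl h2, Finset.sum_neg_distrib]; ring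

theorem T_zero_left (k : ℕ) : T 0 k = if k = 0 then 1 else 0 := by
  cases k <;> simp [T]

theorem T_zero_right (n : ℕ) : T (n + 1) 0 = 0 := by
  have h := (Commute.all (1 : ℤ) (-1)).add_pow (n + 1)
  simp only [add_neg_cancel, zero_pow (Nat.succ_ne_zero n), one_pow, one_mul] at h
  simp only [T, pow_zero, mul_one]
  exact h.symm

theorem T_lt {n k : ℕ} (h : k < n) : T n k = 0 := by
  induction k generalizing n with
  | zero => obtain ⟨m, rfl⟩ : ∃ m, n = m + 1 := ⟨n - 1, by omega⟩; exact T_zero_right m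
  | succ k ih =>
    obtain ⟨m, rfl⟩ : ∃ m, n = m + 1 := ⟨n - 1, by omega⟩
    rw [T_succ_succ, ih (by omega), ih (by omega)]; ring

theorem T_self (n : ℕ) : T n n = n.factorial := by
  induction n with
  | zero => simp [T_zero_left]
  | succ n ih => rw [T_succ_succ, T_lt (Nat.lt_succ_self n), ih, Nat.factorial_succ]; push_cast; ring

theorem T_succ_self (n : ℕ) : T n (n + 1) = (((n + 1).choose 2 * n.factorial : ℕ) : ℤ) := by
  induction n with
  | zero => simp [T_zero_left]
  | succ n ih =>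
    rw [T_succ_succ, T_self, ih, show (n + 1 + 1).choose 2 = (n + 1) + (n + 1).choose 2 by
      rw [Nat.choose_succ_succ (n + 1) 1, Nat.choose_one_right], Nat.factorial_succ]
    push_cast; ring

end Groth.Misc13.AltSum
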