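import Groth.Prelude.Def_CohB1
import Groth.Agent.PicAux.GenLocusOps
import Groth.Agent.PicAux.Powers
import Mathlib.AlgebraicGeometry.Morphisms.Proper
import Mathlib.AlgebraicGeometry.Noetherian

/-! Base loci of powers of an invertible module and the stable base locus. -/

set_option autoImplicit false

universe u

open CategoryTheory AlgebraicGeometry TopologicalSpace

namespace Groth.Misc13.BaseLocus

variable {X : Scheme.{u}}

/-- The base locus of a module. -/
def Bs (M : X.Modules) : Set X :=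
  {x : X | ∀ s : Coh.structureModule X ⟶ M, x ∉ CohB1.genLocus M s}

/-- The stable base locus. -/
def SBs (L : X.Modules) : Set X :=
  {x : X | ∀ m : ℕ, 0 < m → ∀ s : Coh.structureModule X ⟶ CohB1.tensorPow L m,
    x ∉ CohB1.genLocus (CohB1.tensorPow L m) s}

lemma Bs_isClosed (M : X.Modules) : IsClosed (Bs M) := by
  have : Bs M = (⋃ s : Coh.structureModule X ⟶ M, (CohB1.genLocus M s : Set X))ᶜ := by
    ext x; simp [Bs]
  rw [this]
  exact (isOpen_iUnion fun s => (CohB1.genLocus M s).isOpen).isClosed_compl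

lemma Bs_iso {M N : X.Modules} (e : M ≅ N) : Bs N ⊆ Bs M := by
  intro x hx s hs
  exact hx (s ≫ e.hom) (by rw [Groth.PicAux.genLocus_comp_iso]; exact hs)

lemma Bs_iso_eq {M N : X.Modules} (e : M ≅ N) : Bs N = Bs M :=
  (Bs_iso e).antisymm (Bs_iso e.symm)

variable {L : X.Modules}

lemma Bs_mul_subset (hL : PicF.IsInvertible L) (m : ℕ) {k : ℕ} (hk : 0 < k) :
    Bs (CohB1.tensorPow L (m * k)) ⊆ Bs (CohB1.tensorPow L m) := by
  rw [Bs_iso_eq (Groth.PicAux.tensorPow_mul L m k).some.symm]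
  intro x hx s hs
  obtain ⟨j, rfl⟩ : ∃ j, k = j + 1 := ⟨k - 1, by omega⟩
  exact hx (SecTwist.powHom s (j + 1))
    (by rw [Groth.PicAux.genLocus_powHom (Groth.PicAux.isInvertible_tensorPow hL m)]; exact hs)

lemma SBs_eq_iInter (L : X.Modules) :
    SBs L = ⋂ m : {m : ℕ // 0 < m}, Bs (CohB1.tensorPow L m.1) := by
  ext x; simp [SBs, Bs]

lemma SBs_subset (L : X.Modules) {m : ℕ} (hm : 0 < m) : SBs L ⊆ Bs (CohB1.tensorPow L m) :=
  fun _ hx s => hx m hm s

lemma exists_SBs_eq [NoetherianSpace X] (hL : PicF.IsInvertible L) :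
    ∃ n₀ : ℕ, 0 < n₀ ∧ ∀ k : ℕ, 0 < k → SBs L = Bs (CohB1.tensorPow L (k * n₀)) := by
  classical
  let S : Set (Closeds X) :=
    Set.range fun m : {m : ℕ // 0 < m} => ⟨Bs (CohB1.tensorPow L m.1), Bs_isClosed _⟩
  obtain ⟨C, ⟨⟨n₀, hn₀⟩, rfl⟩, hmin⟩ := (wellFounded_lt (α := Closeds X)).has_min S
    ⟨_, ⟨1, Nat.one_pos⟩, rfl⟩
  have h0 : SBs L = Bs (CohB1.tensorPow L n₀) := by
    refine (SBs_subset L hn₀).antisymm fun x hx m hm s => ?_
    have hsub : Bs (CohB1.tensorPow L (n₀ * m)) ⊆ Bs (CohB1.tensorPow L n₀) :=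
      Bs_mul_subset hL n₀ hm
    have heq : Bs (CohB1.tensorPow L (n₀ * m)) = Bs (CohB1.tensorPow L n₀) := by
      by_contra hne
      refine hmin ⟨Bs (CohB1.tensorPow L (n₀ * m)), Bs_isClosed _⟩
        ⟨⟨n₀ * m, Nat.mul_pos hn₀ hm⟩, rfl⟩ ?_
      exact lt_of_le_of_ne hsub fun h => hne (congrArg (fun c : Closeds X => (c : Set X)) h)
    rw [← heq, mul_comm] at hx
    exact Bs_mul_subset hL m hn₀ hx s
  refine ⟨n₀, hn₀, fun k hk => (SBs_subset L (Nat.mul_pos hk hn₀)).antisymm ?_⟩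
  rw [h0, mul_comm]
  exact Bs_mul_subset hL n₀ hk

lemma SBs_tensorPow (hL : PicF.IsInvertible L) {p : ℕ} (hp : 0 < p) :
    SBs (CohB1.tensorPow L p) = SBs L := by
  ext x
  constructor
  · intro hx m hm
    have h1 : x ∈ Bs (CohB1.tensorPow (CohB1.tensorPow L p) m) := fun s => hx m hm s
    rw [Bs_iso_eq (Groth.PicAux.tensorPow_mul L p m).some, mul_comm] at h1
    exact Bs_mul_subset hL m hp h1
  · intro hx m hm
    have h1 : x ∈ Bs (CohB1.tensorPow L (p * m)) := SBs_subset L (Nat.mul_pos hp hm) hx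
    rw [← Bs_iso_eq (Groth.PicAux.tensorPow_mul L p m).some] at h1
    exact h1

lemma noetherianSpace_of_lft {k : Type u} [Field k] (X : Scheme.{u})
    (f : X ⟶ Spec (CommRingCat.of k)) [LocallyOfFiniteType f] [QuasiCompact f] :
    NoetherianSpace X := by
  have : IsLocallyNoetherian X := LocallyOfFiniteType.isLocallyNoetherian f
  have : CompactSpace X := QuasiCompact.compactSpace_of_compactSpace f
  have : IsNoetherian X := {}
  infer_instance

end Groth.Misc13.BaseLocus
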