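import Groth.Agent.Ega2Proj.AmpleBasic
import Groth.Agent.PicAux.TwistExtend
import Groth.Agent.PicAux.GenLocusOps
import Groth.Agent.PicAux.Powers
import Groth.Prelude.Def_Coh
import Mathlib.AlgebraicGeometry.FunctionField

/-! A big invertible module has exponent one. -/

set_option autoImplicit false

universe u

open CategoryTheory AlgebraicGeometry TopologicalSpace Opposite

namespace Groth.Misc13.BigExponent

open Groth.PicAux

variable {X : Scheme.{u}}

lemma gen_powSec {L : X.Modules} {W : X.Opens} {s : Γ(L, W)} (hs : Gen L W s) :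
    ∀ n : ℕ, Gen (CohB1.tensorPow L n) W (powSec s n)
  | 0 => gen_oneSec W
  | n + 1 => (gen_powSec hs n).tensor hs

/-- `M` has a nonzero global section. -/
def HasSec (M : X.Modules) : Prop := ∃ t : Γ(M, ⊤), t ≠ 0

lemma hasSec_map {M N : X.Modules} (φ : M ⟶ N) [Mono φ] (h : HasSec M) : HasSec N := by
  obtain ⟨t, ht⟩ := h
  refine ⟨φ.app ⊤ t, fun h0 => ht ?_⟩
  have h1 : homOfSection t ≫ φ = homOfSection (0 : Γ(M, ⊤)) ≫ φ := by
    refine hom_structure_ext ?_
    show φ.app ⊤ ((homOfSection t).app ⊤ (oneSec X ⊤)) =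
      φ.app ⊤ ((homOfSection (0 : Γ(M, ⊤))).app ⊤ (oneSec X ⊤))
    rw [homOfSection_one, homOfSection_one, map_zero]
    exact h0
  have h2 := congrArg (fun ψ : Coh.structureModule X ⟶ M => ψ.app ⊤ (oneSec X ⊤)) ((cancel_mono φ).1 h1)
  simpa using h2

lemma hasSec_iso {M N : X.Modules} (e : M ≅ N) (h : HasSec M) : HasSec N :=
  hasSec_map e.hom h

variable [IsIntegral X]

lemma genLocus_nonempty_iff {L : X.Modules} (hL : PicF.IsInvertible L) (t : Γ(L, ⊤)) :
    (CohB1.genLocus L (homOfSection t) : Set X).Nonempty ↔ t ≠ 0 := by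
  constructor
  · rintro ⟨x, hx⟩ rfl
    have hg := (le_genLocus_iff (homOfSection (0 : Γ(L, ⊤))) _).1 le_rfl
    rw [gsec_homOfSection, res_zero] at hg
    have : Nonempty (CohB1.genLocus L (homOfSection (0 : Γ(L, ⊤)))) := ⟨⟨x, hx⟩⟩
    exact one_ne_zero ((hg _ le_rfl).1
      (a₁ := (1 : Γ(X, CohB1.genLocus L (homOfSection (0 : Γ(L, ⊤)))))) (a₂ := 0) (by simp))
  · intro ht
    by_contra hne
    have hbot : CohB1.genLocus L (homOfSection t) = ⊥ :=
      Opens.ext (Set.not_nonempty_iff_eq_empty.1 hne)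
    obtain ⟨U, e, hU, -, he⟩ := exists_gen_cover hL
    refine ht (res_ext U (fun i => le_top) hU.ge fun i => ?_)
    obtain ⟨c, hc⟩ := (he i).exists_coeff le_rfl (res L (le_top : U i ≤ ⊤) t)
    rw [res_self] at hc
    have hb := genLocus_inf_eq_basicOpen (s := homOfSection t) (he i) (by rw [gsec_homOfSection]; exact hc)
    rw [hbot, bot_inf_eq, eq_comm, basicOpen_eq_bot_iff] at hb
    rw [hc, hb, zero_smul, res_zero]

lemma hasSec_iff {L : X.Modules} (hL : PicF.IsInvertible L) :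
    HasSec L ↔ ∃ s : Coh.structureModule X ⟶ L, (CohB1.genLocus L s : Set X).Nonempty := by
  constructor
  · rintro ⟨t, ht⟩
    exact ⟨homOfSection t, (genLocus_nonempty_iff hL t).2 ht⟩
  · rintro ⟨s, hs⟩
    refine ⟨gsec s, (genLocus_nonempty_iff hL _).1 ?_⟩
    rwa [genLocus_congr (gsec_homOfSection (gsec s))]

lemma hasSec_tensor {L M : X.Modules} (hL : PicF.IsInvertible L) (hM : PicF.IsInvertible M)
    (h : HasSec L) (h' : HasSec M) : HasSec (CohB1.tensorMod L M) := by
  obtain ⟨a, ha⟩ := (hasSec_iff hL).1 h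
  obtain ⟨b, hb⟩ := (hasSec_iff hM).1 h'
  refine (hasSec_iff (isInvertible_tensorMod hL hM)).2 ⟨SecTwist.tmulHom a b, ?_⟩
  rw [genLocus_tmulHom hL hM]
  exact nonempty_preirreducible_inter (CohB1.genLocus L a).isOpen (CohB1.genLocus M b).isOpen ha hb

lemma hasSec_structure : HasSec (Coh.structureModule X) := by
  refine ⟨oneSec X ⊤, fun h => ?_⟩
  have : Nonempty (⊤ : X.Opens) := ⟨⟨genericPoint X, trivial⟩⟩
  exact one_ne_zero (α := Γ(X, ⊤)) (congrArg toFun h)

variable {L : X.Modules}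

lemma hasSec_pow_add (hL : PicF.IsInvertible L) {a b : ℕ} (ha : HasSec (CohB1.tensorPow L a))
    (hb : HasSec (CohB1.tensorPow L b)) : HasSec (CohB1.tensorPow L (a + b)) :=
  hasSec_iso (tensorPow_add L a b).some.symm
    (hasSec_tensor (isInvertible_tensorPow hL a) (isInvertible_tensorPow hL b) ha hb)

lemma hasSec_pow_mul (hL : PicF.IsInvertible L) {a : ℕ} (ha : HasSec (CohB1.tensorPow L a)) :
    ∀ k : ℕ, HasSec (CohB1.tensorPow L (a * k))
  | 0 => hasSec_structure
  | k + 1 => hasSec_pow_add hL (hasSec_pow_mul hL ha k) ha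

/-- Two consecutive exponents give all large exponents. -/
lemma hasSec_of_consecutive (hL : PicF.IsInvertible L) {r : ℕ} (h : HasSec (CohB1.tensorPow L r))
    (h' : HasSec (CohB1.tensorPow L (r + 1))) (m : ℕ) (hm : r * r ≤ m) :
    HasSec (CohB1.tensorPow L m) := by
  rcases Nat.eq_zero_or_pos r with rfl | hr
  · simpa using hasSec_pow_mul hL h' m
  · have hq : r ≤ m / r := (Nat.le_div_iff_mul_le hr).2 hm
    have hb : m % r < r := Nat.mod_lt m hr
    have hd : r * (m / r) + m % r = m := Nat.div_add_mod m r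
    have hsplit : m = r * (m / r - m % r) + (r + 1) * (m % r) := by
      rw [Nat.mul_sub, add_mul, one_mul]
      have : r * (m % r) ≤ r * (m / r) := Nat.mul_le_mul_left r (by omega)
      omega
    rw [hsplit]
    exact hasSec_pow_add hL (hasSec_pow_mul hL h _) (hasSec_pow_mul hL h' _)

/-- For `H` ample and `N` invertible some ample power of `H` has, also after twisting by `N`,
a nonzero section. -/
lemma exists_ample_hasSec [QuasiSeparatedSpace X] {H : X.Modules} (hH : CohB1.IsAmple H)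
    {N : X.Modules} (hN : PicF.IsInvertible N) :
    ∃ A : X.Modules, CohB1.IsAmple A ∧ HasSec A ∧ HasSec (CohB1.tensorMod N A) := by
  have := hH.2.1
  obtain ⟨n, s, hxs, hV⟩ := hH.2.2 (genericPoint X)
  set x := genericPoint X
  have hP : PicF.IsInvertible (CohB1.tensorPow H (n + 1)) := isInvertible_tensorPow hH.1 _
  set V := CohB1.genLocus (CohB1.tensorPow H (n + 1)) s with hVdef
  have : N.IsQuasicoherent := isQCoh_of_isInvertible hN
  -- a section over `V` generating near `x`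
  obtain ⟨W, e, hxW, he⟩ := (isInvertible_iff_exists_gen N).1 hN x
  obtain ⟨g, hg, hxg⟩ := hV.exists_basicOpen_le (V := W) ⟨x, hxW⟩ hxs
  obtain ⟨m, t, ht⟩ := Groth.QCohMod.exists_pow_smul_eq_res N hV g (res N hg e)
  obtain ⟨j, hj, t', ht'⟩ := exists_twist_eq_res hP s N t
  refine ⟨CohB1.tensorPow (CohB1.tensorPow H (n + 1)) j, ?_, ?_, ?_⟩
  · exact (Groth.Ega2Proj.isAmple_tensorPow_iff hP j hj).1
      ((Groth.Ega2Proj.isAmple_tensorPow_iff hH.1 (n + 1) n.succ_pos).1 hH)
  · obtain ⟨i, rfl⟩ : ∃ i, j = i + 1 := ⟨j - 1, by omega⟩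
    refine (hasSec_iff (isInvertible_tensorPow hP _)).2 ⟨SecTwist.powHom s (i + 1), ?_⟩
    rw [genLocus_powHom hP]
    exact ⟨x, hxs⟩
  · refine ⟨t', fun h0 => ?_⟩
    rw [h0, res_zero, twist_eq] at ht'
    have hle : X.basicOpen g ≤ V := X.basicOpen_le g
    have h1 := congrArg (res _ hle) ht'
    rw [res_zero, res_tmulSec, res_powSec, res_res] at h1
    have hgs : Gen _ V (res _ (le_top : V ≤ ⊤) (gsec s)) := (le_genLocus_iff s V).1 le_rfl
    have hgt : Gen N (X.basicOpen g) (res N hle t) := by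
      rw [show res N hle t = resX X hle g ^ m • res N hg e from ht]
      exact (he.res hg).smul_unit (IsUnit.pow m (RingedSpace.isUnit_res_basicOpen _ g))
    have hgen := hgt.tensor (gen_powSec (hgs.res hle) j)
    rw [res_res] at hgen
    have : Nonempty (X.basicOpen g) := ⟨⟨x, hxg⟩⟩
    exact one_ne_zero ((hgen _ le_rfl).1 (a₁ := (1 : Γ(X, X.basicOpen g))) (a₂ := 0)
      (by simp [res_self, ← h1]))

theorem exists_forall_hasSec [QuasiSeparatedSpace X] {H : X.Modules} (hH : CohB1.IsAmple H)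
    (hL : PicF.IsInvertible L)
    (hbig : ∀ A : X.Modules, CohB1.IsAmple A →
      ∃ (m : ℕ) (φ : A ⟶ CohB1.tensorPow L m), 0 < m ∧ Mono φ) :
    ∃ m₁ : ℕ, ∀ m : ℕ, m₁ ≤ m → HasSec (CohB1.tensorPow L m) := by
  obtain ⟨N, hN, hLN⟩ := exists_isInverseOf hL
  obtain ⟨A, hA, hsA, hsNA⟩ := exists_ample_hasSec hH hN
  obtain ⟨p, φ, hp, hφ⟩ := hbig A hA
  obtain ⟨r, rfl⟩ : ∃ r, p = r + 1 := ⟨p - 1, by omega⟩
  have := isEquivalence_tensorRightMod_of_isInvertible hN
  have h1 : HasSec (CohB1.tensorMod A N) := hasSec_iso (exists_braiding N A).choose hsNA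
  have h1' : HasSec ((DCoh.tensorRightMod N).obj A) := h1
  have h2' : HasSec ((DCoh.tensorRightMod N).obj (CohB1.tensorPow L (r + 1))) :=
    hasSec_map ((DCoh.tensorRightMod N).map φ) h1'
  have h2 : HasSec (CohB1.tensorMod (CohB1.tensorPow L (r + 1)) N) := h2'
  have h3 : HasSec (CohB1.tensorPow L r) :=
    hasSec_iso ((exists_associator _ L N).choose ≪≫
      PicGrp.tensorModIso (Iso.refl _) hLN.some ≪≫ SecTwist.unitorR _) h2
  exact ⟨r * r, hasSec_of_consecutive hL h3 (hasSec_map φ hsA)⟩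

omit [IsIntegral X] in
lemma nontrivial_HH (M : X.Modules) (h : HasSec M) : Nontrivial (Coh.HH X M 0) := by
  obtain ⟨t, ht⟩ := h
  let e : Coh.HH X M 0 ≃+ (Coh.toAb M).obj.obj (op ⊤) :=
    Sheaf.H.equiv₀ (Coh.toAb M) Limits.isTerminalTop
  exact ⟨⟨e.symm t, 0, fun h0 =>
    ht ((e.apply_symm_apply t).symm.trans ((congrArg e h0).trans (map_zero e)))⟩⟩

end Groth.Misc13.BigExponent
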