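import Groth.Agent.Inter.Big
import Groth.Agent.Misc13.BigExponent
import Groth.Prelude.Def_NumR
import Mathlib.Analysis.Convex.Topology
import Mathlib.Topology.Algebra.Module.FiniteDimension

/-!
# Big invertible modules and the big cone
-/

set_option autoImplicit false
set_option linter.unusedSectionVars false

universe u

open CategoryTheory CategoryTheory.Limits AlgebraicGeometry TopologicalSpace Opposite

namespace Groth.Misc13.BigNum

open Groth.Inter Groth.PicAux Groth.HilbStab Groth.PropsBasic.Ample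

variable (k : Type u) [Field k] {X : Scheme.{u}} [X.Over (Spec (CommRingCat.of k))]
  [IsProper (X ↘ Spec (CommRingCat.of k))] [IsIntegral X]

/-- Bigness as in the statements. -/
def IsBigA (L : X.Modules) : Prop :=
  ∀ A : X.Modules, CohB1.IsAmple A → ∃ (m : ℕ) (φ : A ⟶ CohB1.tensorPow L m), 0 < m ∧ Mono φ

include k in
theorem bigA_of_hasAmpleSub {L : X.Modules} (hL : PicF.IsInvertible L) (h : HasAmpleSub L) : IsBigA L := by
  intro A hA
  obtain ⟨ν, B, φ, hν, hB, hφ⟩ := h
  obtain ⟨A', hA', hAA'⟩ := exists_isInverseOf hA.1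
  obtain ⟨p, hp⟩ := exists_section_twist k hB hA'
  obtain ⟨s, hs⟩ := hp (p + 1) p.le_succ
  let e : CohB1.tensorMod A' (CohB1.tensorPow B (p + 1)) ≅ CohB1.tensorMod (CohB1.tensorPow B (p + 1)) A' :=
    (tensor_comm _ _).some
  have hs' : e.hom.app ⊤ s ≠ 0 := fun h0 => hs (by
    have h1 := congr(($(e.hom_inv_id)).app ⊤ s)
    simp only [Scheme.Modules.Hom.comp_app, ConcreteCategory.comp_apply] at h1
    rw [h0, map_zero] at h1
    exact h1.symm)
  obtain ⟨ψ, hψ⟩ := exists_mono_of_section (isInvertible_tensorPow hB.1 (p + 1)) hA.1 hAA' hs'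
  obtain ⟨χ, hχ⟩ := exists_mono_pow hB.1 (isInvertible_tensorPow hL ν) φ (p + 1)
  exact ⟨ν * (p + 1), ψ ≫ χ ≫ (tensorPow_mul' L ν (p + 1)).some.hom, Nat.mul_pos hν p.succ_pos,
    @mono_comp _ _ _ _ _ ψ hψ _ (@mono_comp _ _ _ _ _ χ hχ _ inferInstance)⟩

omit [X.Over (Spec (CommRingCat.of k))] [IsProper (X ↘ Spec (CommRingCat.of k))] [IsIntegral X] in
theorem hasAmpleSub_of_bigA {H L : X.Modules} (hH : CohB1.IsAmple H) (h : IsBigA L) : HasAmpleSub L := by
  obtain ⟨m, φ, hm, hφ⟩ := h H hH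
  exact ⟨m, H, φ, hm, hH, hφ⟩

include k in
theorem bigA_iff {H L : X.Modules} (hH : CohB1.IsAmple H) (hL : PicF.IsInvertible L) :
    IsBigA L ↔ HasAmpleSub L :=
  ⟨hasAmpleSub_of_bigA hH, bigA_of_hasAmpleSub k hL⟩

/-- Bigness and growth of sections. -/
theorem growth_iff {n : ℕ} (hn : topologicalKrullDim X = (n : WithBot ℕ∞)) {H L : X.Modules}
    (hH : CohB1.IsAmple H) (hL : PicF.IsInvertible L) :
    HasAmpleSub L ↔ ∃ C : ℝ, 0 < C ∧ ∃ m₁ : ℕ, ∀ m : ℕ, m₁ ≤ m →
      C * (m : ℝ) ^ n ≤ (Module.finrank k (Coh.HH X (CohB1.tensorPow L m) 0) : ℝ) := by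
  have : QuasiSeparatedSpace X := quasiSeparatedSpace_of_quasiSeparated (X ↘ Spec (CommRingCat.of k))
  constructor
  · intro h
    obtain ⟨ν, a, hν, ha, hg⟩ := growth_of_hasAmpleSub k hn hL h
    obtain ⟨m₁, hm₁⟩ := BigExponent.exists_forall_hasSec hH hL (bigA_of_hasAmpleSub k hL h)
    refine ⟨1 / ((a : ℝ) * (2 * ν : ℝ) ^ n), by positivity, 2 * (ν + m₁), fun m hm => ?_⟩
    let μ := (m - m₁) / ν
    have h1 : ν * μ ≤ m - m₁ := Nat.mul_div_le _ _
    have h2 : m - m₁ < ν * (μ + 1) := Nat.lt_mul_div_succ _ hν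
    rw [Nat.mul_succ] at h2
    have hμ : 1 ≤ μ := (Nat.one_le_div_iff hν).2 (by omega)
    have hr : m₁ ≤ m - ν * μ := by omega
    obtain ⟨t, ht⟩ := hm₁ (m - ν * μ) hr
    have := mono_mulSec_of_ne_zero (isInvertible_tensorPow hL (m - ν * μ)) ht
      (isInvertible_tensorPow hL (ν * μ))
    have hc : Coh.IsCoh (CohB1.tensorMod (CohB1.tensorPow L (ν * μ)) (CohB1.tensorPow L (m - ν * μ))) :=
      isCoh_of_isInvertible (isInvertible_tensorMod (isInvertible_tensorPow hL _) (isInvertible_tensorPow hL _))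
    have h3 := finrank_h0_le_of_mono k (mulSec t (CohB1.tensorPow L (ν * μ))) hc
    rw [← finrank_h0_congr k (tensorPow_add L (ν * μ) (m - ν * μ)).some,
      Nat.add_sub_cancel' (show ν * μ ≤ m by omega)] at h3
    have h4 : m ^ n ≤ (2 * ν) ^ n * μ ^ n := by
      rw [← mul_pow]; exact Nat.pow_le_pow_left (by rw [mul_assoc]; omega) n
    have h5 : m ^ n ≤ a * (2 * ν) ^ n * Module.finrank k (Coh.HH X (CohB1.tensorPow L m) 0) :=
      h4.trans ((Nat.mul_le_mul_left _ ((hg μ hμ).trans (Nat.mul_le_mul_left a h3))).trans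
        (le_of_eq (by ring)))
    rw [div_mul_eq_mul_div, one_mul, div_le_iff₀ (by positivity), mul_comm]
    exact_mod_cast h5
  · rintro ⟨C, hC, m₁, hm₁⟩
    refine hasAmpleSub_of_growth k hn hH hL ⟨m₁ + 1, ⌈1 / C⌉₊, Nat.succ_pos _,
      Nat.ceil_pos.2 (by positivity), fun μ hμ => ?_⟩
    have h1 := hm₁ ((m₁ + 1) * μ) (le_trans (Nat.le_succ _) (Nat.le_mul_of_pos_right _ hμ))
    have h2 : ((μ : ℝ)) ^ n ≤ ((((m₁ + 1) * μ : ℕ) : ℝ)) ^ n := by
      gcongr; exact Nat.le_mul_of_pos_left μ (Nat.succ_pos _)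
    have h3 : ((((m₁ + 1) * μ : ℕ) : ℝ)) ^ n ≤
        (1 / C) * (Module.finrank k (Coh.HH X (CohB1.tensorPow L ((m₁ + 1) * μ)) 0) : ℝ) := by
      rw [div_mul_eq_mul_div, one_mul, le_div_iff₀ hC, mul_comm]; exact h1
    have h4 := h2.trans (h3.trans (mul_le_mul_of_nonneg_right (Nat.le_ceil (1 / C)) (Nat.cast_nonneg _)))
    exact_mod_cast h4

include k in
theorem hasAmpleSub_of_ample {A : X.Modules} (hA : CohB1.IsAmple A) : HasAmpleSub A :=
  let e : CohB1.tensorPow A 1 ≅ A := (tensor_one A).some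
  ⟨1, A, e.inv, one_pos, hA, inferInstance⟩

omit [IsProper (X ↘ Spec (CommRingCat.of k))] in
include k in
/-- Twisting a big module by a module with a section. -/
theorem hasAmpleSub_tensor {L E : X.Modules} (hL : PicF.IsInvertible L) (hE : PicF.IsInvertible E)
    (h : HasAmpleSub L) (hs : BigExponent.HasSec E) : HasAmpleSub (CohB1.tensorMod L E) := by
  obtain ⟨ν, A, φ, hν, hA, hφ⟩ := h
  obtain ⟨t, ht⟩ : BigExponent.HasSec (CohB1.tensorPow E ν) := by
    have h1 : BigExponent.HasSec (CohB1.tensorPow E 1) := BigExponent.hasSec_iso (tensor_one E).some.symm hs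
    simpa using BigExponent.hasSec_pow_mul hE h1 ν
  have := mono_mulSec_of_ne_zero (isInvertible_tensorPow hE ν) ht (isInvertible_tensorPow hL ν)
  exact ⟨ν, A, φ ≫ mulSec t (CohB1.tensorPow L ν) ≫ (tensorPow_tensorMod' L E ν).some.inv, hν, hA,
    @mono_comp _ _ _ _ _ φ hφ _ (@mono_comp _ _ _ _ _ _ this _ inferInstance)⟩

include k in
/-- Large powers of a big module stay big after any twist. -/
theorem exists_twist_big {L M : X.Modules} (hL : PicF.IsInvertible L) (hM : PicF.IsInvertible M)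
    (h : HasAmpleSub L) :
    ∃ n : ℕ, 0 < n ∧ HasAmpleSub (CohB1.tensorMod (CohB1.tensorPow L n) M) := by
  obtain ⟨ν, A, φ, hν, hA, hφ⟩ := h
  obtain ⟨q, hq⟩ := exists_section_twist k hA hM
  obtain ⟨s, hs⟩ := hq q le_rfl
  let G := CohB1.tensorPow A q
  have hT : PicF.IsInvertible (CohB1.tensorMod M G) := isInvertible_tensorMod hM (isInvertible_tensorPow hA.1 q)
  have m0 := mono_mulSec_of_ne_zero hT hs hA.1
  obtain ⟨χ, hχ⟩ := exists_mono_pow hA.1 (isInvertible_tensorPow hL ν) φ (q + 1)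
  let i1 : CohB1.tensorMod A (CohB1.tensorMod M G) ≅ CohB1.tensorMod (CohB1.tensorPow A (q + 1)) M :=
    (tensor_congr ⟨Iso.refl A⟩ (tensor_comm M G)).some ≪≫ (tensor_assoc A G M).some.symm ≪≫
      (tensor_congr (tensor_comm A G) ⟨Iso.refl M⟩).some
  let g := (DCoh.tensorRightMod M).map (χ ≫ (tensorPow_mul' L ν (q + 1)).some.hom)
  have hc : Mono (χ ≫ (tensorPow_mul' L ν (q + 1)).some.hom) := @mono_comp _ _ _ _ _ χ hχ _ inferInstance
  have mg : Mono g := (shortExact_tensorRightMod hM (@CohTwo.cokerSeq_shortExact _ _ _ _ hc)).mono_f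
  let i2 : CohB1.tensorPow (CohB1.tensorMod (CohB1.tensorPow L (ν * (q + 1))) M) 1 ≅
      CohB1.tensorMod (CohB1.tensorPow L (ν * (q + 1))) M := (tensor_one _).some
  have m2 : Mono i2.inv := inferInstance
  refine ⟨ν * (q + 1), Nat.mul_pos hν q.succ_pos, 1, A, mulSec s A ≫ i1.hom ≫ g ≫ i2.inv, one_pos, hA, ?_⟩
  exact @mono_comp _ _ _ _ _ _ m0 _ (@mono_comp _ _ _ _ _ _ inferInstance _
    (@mono_comp _ _ _ _ _ g mg _ m2))

omit [X.Over (Spec (CommRingCat.of k))] [IsProper (X ↘ Spec (CommRingCat.of k))] [IsIntegral X] in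
theorem hasSection_iff (M : X.Modules) : NumR.HasSection M ↔ BigExponent.HasSec M := by
  constructor
  · rintro ⟨s, hs⟩
    refine ⟨s.app ⊤ (oneSec X ⊤), fun h0 => hs (hom_structure_ext ?_)⟩
    rw [h0]; rfl
  · rintro ⟨t, ht⟩
    refine ⟨homOfSection t, fun h0 => ht ?_⟩
    rw [← homOfSection_one t, h0]; rfl

section Cones

variable [PicGrp.Law X]

omit [IsProper (X ↘ Spec (CommRingCat.of k))] [IsIntegral X] in
theorem clR_tensor {L M : X.Modules} (hL : PicF.IsInvertible L) (hM : PicF.IsInvertible M) :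
    NumR.clR k X (CohB1.tensorMod L M) (isInvertible_tensorMod hL hM) =
      NumR.clR k X L hL + NumR.clR k X M hM := by
  have h : PicGrp.cls (CohB1.tensorMod L M) (isInvertible_tensorMod hL hM) =
      PicGrp.cls L hL * PicGrp.cls M hM :=
    Subtype.ext (PicGrp.cls_mul_cls_val hL hM).symm
  simp only [NumR.clR_def, NumR.cl, h, ofMul_mul, map_add]

omit [IsProper (X ↘ Spec (CommRingCat.of k))] [IsIntegral X] in
theorem clR_pow {L : X.Modules} (hL : PicF.IsInvertible L) (n : ℕ) :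
    NumR.clR k X (CohB1.tensorPow L n) (isInvertible_tensorPow hL n) = (n : ℝ) • NumR.clR k X L hL := by
  have h : PicGrp.cls (CohB1.tensorPow L n) (isInvertible_tensorPow hL n) = PicGrp.cls L hL ^ n :=
    Subtype.ext (PicGrp.cls_pow_val hL n).symm
  rw [NumR.clR_def, NumR.clR_def, NumR.cl, NumR.cl, h, ofMul_pow, map_nsmul, map_nsmul, Nat.cast_smul_eq_nsmul]

omit [IsProper (X ↘ Spec (CommRingCat.of k))] [IsIntegral X] in
theorem clR_congr {L M : X.Modules} (hL : PicF.IsInvertible L) (hM : PicF.IsInvertible M) (e : L ≅ M) :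
    NumR.clR k X L hL = NumR.clR k X M hM := by
  simp only [NumR.clR_def, NumR.cl, (PicGrp.cls_eq_cls_iff hL hM).2 ⟨e⟩]

/-- The cone of big classes. -/
noncomputable abbrev bigCone : ConvexCone ℝ (NumR.N1R k X) :=
  NumR.coneOf k X (fun L : X.Modules => ∀ A : X.Modules, CohB1.IsAmple A →
    ∃ (m : ℕ) (φ : A ⟶ CohB1.tensorPow L m), 0 < m ∧ Mono φ)

omit [IsIntegral X] [IsProper (X ↘ Spec (CommRingCat.of k))] in
theorem mem_coneOf {P : X.Modules → Prop} {L : X.Modules} (hL : PicF.IsInvertible L) (h : P L) :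
    NumR.clR k X L hL ∈ NumR.coneOf k X P :=
  ConvexCone.subset_hull ⟨L, hL, h, rfl⟩

theorem ample_le_big : NumR.ampleCone k X ≤ bigCone k :=
  ConvexCone.hull_min (by
    rintro _ ⟨A, hA, hAa, rfl⟩
    exact mem_coneOf k hA (bigA_of_hasAmpleSub k hA (hasAmpleSub_of_ample k hAa)))

variable {H : X.Modules} (hH : CohB1.IsAmple H)

include hH in
theorem big_add_eff {x e : NumR.N1R k X} (hx : x ∈ bigCone k) (he : e ∈ NumR.effCone k X) :
    x + e ∈ bigCone k := by
  let T : ConvexCone ℝ (NumR.N1R k X) :=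
    { carrier := {e | ∀ y ∈ bigCone k, y + e ∈ bigCone k}
      smul_mem' := fun c hc e he y hy => by
        have h := (bigCone k).smul_mem hc (he _ ((bigCone k).smul_mem (inv_pos.2 hc) hy))
        rwa [smul_add, smul_smul, mul_inv_cancel₀ hc.ne', one_smul] at h
      add_mem' := fun e he e' he' y hy => by rw [← add_assoc]; exact he' _ (he _ hy) }
  suffices h : NumR.effCone k X ≤ T from h he x hx
  refine ConvexCone.hull_min ?_
  rintro _ ⟨E, hE, hEs, rfl⟩ y hy
  let G : ConvexCone ℝ (NumR.N1R k X) :=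
    { carrier := {y | ∀ s : ℝ, 0 < s → y + s • NumR.clR k X E hE ∈ bigCone k}
      smul_mem' := fun c hc y hy s hs => by
        have h := (bigCone k).smul_mem hc (hy (s / c) (div_pos hs hc))
        rwa [smul_add, smul_smul, mul_div_cancel₀ _ hc.ne'] at h
      add_mem' := fun y hy y' hy' s hs => by
        have h := (bigCone k).add_mem (hy (s / 2) (half_pos hs)) (hy' (s / 2) (half_pos hs))
        rwa [add_add_add_comm, ← add_smul, add_halves] at h }
  suffices hG : bigCone k ≤ G by simpa using hG hy 1 one_pos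
  refine ConvexCone.hull_min ?_
  rintro _ ⟨L, hL, hLb, rfl⟩ s hs
  obtain ⟨n, hn⟩ := exists_nat_gt s
  have hn0 : (0 : ℝ) < n := hs.trans hn
  obtain ⟨t, ht⟩ : BigExponent.HasSec (CohB1.tensorPow E n) := by
    have h1 : BigExponent.HasSec (CohB1.tensorPow E 1) :=
      BigExponent.hasSec_iso (tensor_one E).some.symm ((hasSection_iff E).1 hEs)
    simpa using BigExponent.hasSec_pow_mul hE h1 n
  have hEn := isInvertible_tensorPow hE n
  have hb := hasAmpleSub_tensor k hL hEn (hasAmpleSub_of_bigA hH hLb) ⟨t, ht⟩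
  have h1 : NumR.clR k X L hL + (n : ℝ) • NumR.clR k X E hE ∈ bigCone k := by
    rw [← clR_pow, ← clR_tensor]
    exact mem_coneOf k _ (bigA_of_hasAmpleSub k (isInvertible_tensorMod hL hEn) hb)
  have h2 := (bigCone k).add_mem ((bigCone k).smul_mem (div_pos hs hn0) h1)
    ((bigCone k).smul_mem (sub_pos.2 ((div_lt_one hn0).2 hn)) (mem_coneOf k hL hLb))
  rwa [smul_add, smul_smul, div_mul_cancel₀ _ hn0.ne', add_right_comm, ← add_smul,
    add_sub_cancel, one_smul] at h2

include hH in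
theorem exists_decomp {L : X.Modules} (hL : PicF.IsInvertible L) (h : IsBigA L) :
    ∃ a ∈ NumR.ampleCone k X, NumR.clR k X L hL - a ∈ NumR.effCone k X := by
  obtain ⟨ν, A, φ, hν, hA, hφ⟩ := hasAmpleSub_of_bigA hH h
  obtain ⟨A', hA', hAA'⟩ := exists_isInverseOf hA.1
  have hν' : (0 : ℝ) < ν := Nat.cast_pos.2 hν
  refine ⟨(ν : ℝ)⁻¹ • NumR.clR k X A hA.1, (NumR.ampleCone k X).smul_mem (inv_pos.2 hν') (mem_coneOf k hA.1 hA), ?_⟩
  have hG := isInvertible_tensorMod (isInvertible_tensorPow hL ν) hA'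
  have hsec : NumR.HasSection (CohB1.tensorMod (CohB1.tensorPow L ν) A') := by
    let g := (DCoh.tensorRightMod A').map φ
    have mg : Mono g := (shortExact_tensorRightMod hA' (@CohTwo.cokerSeq_shortExact _ _ _ φ hφ)).mono_f
    refine (hasSection_iff _).2 (@BigExponent.hasSec_map _ _ _ g mg ?_)
    exact BigExponent.hasSec_iso hAA'.some.symm BigExponent.hasSec_structure
  have h1 := (NumR.effCone k X).smul_mem (inv_pos.2 hν')
    (mem_coneOf k hG hsec : NumR.clR k X _ hG ∈ NumR.effCone k X)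
  have hz : NumR.clR k X A hA.1 + NumR.clR k X A' hA' = 0 := by
    rw [← clR_tensor, NumR.clR_def, NumR.cl, (PicGrp.cls_eq_one_iff _).2 hAA', ofMul_one, map_zero, map_zero]
  rw [clR_tensor k (isInvertible_tensorPow hL ν) hA', clR_pow, eq_neg_of_add_eq_zero_right hz,
    ← sub_eq_add_neg, smul_sub, smul_smul, inv_mul_cancel₀ hν'.ne', one_smul] at h1
  exact h1

include hH in
theorem mem_big_iff (x : NumR.N1R k X) :
    x ∈ bigCone k ↔ ∃ a ∈ NumR.ampleCone k X, x - a ∈ NumR.effCone k X := by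
  refine ⟨fun hx => ?_, fun ⟨a, ha, he⟩ => by
    simpa using big_add_eff k hH (ample_le_big k ha) he⟩
  let S : ConvexCone ℝ (NumR.N1R k X) :=
    { carrier := {y | ∃ a ∈ NumR.ampleCone k X, y - a ∈ NumR.effCone k X}
      smul_mem' := fun c hc y ⟨a, ha, he⟩ => ⟨c • a, (NumR.ampleCone k X).smul_mem hc ha, by
        rw [← smul_sub]; exact (NumR.effCone k X).smul_mem hc he⟩
      add_mem' := fun y ⟨a, ha, he⟩ y' ⟨a', ha', he'⟩ => ⟨a + a', (NumR.ampleCone k X).add_mem ha ha', by
        rw [add_sub_add_comm]; exact (NumR.effCone k X).add_mem he he'⟩ }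
  refine (ConvexCone.hull_min (C := S) ?_) hx
  rintro _ ⟨L, hL, hLb, rfl⟩
  exact exists_decomp k hH hL hLb

include hH in
theorem ample_le_eff : NumR.ampleCone k X ≤ NumR.effCone k X := by
  refine ConvexCone.hull_min ?_
  rintro _ ⟨A, hA, hAa, rfl⟩
  obtain ⟨p, hp⟩ := exists_section_twist k hAa (EulerDeg.isInvertible_structureModule X)
  obtain ⟨s, hs⟩ := hp (p + 1) p.le_succ
  have h : NumR.HasSection (CohB1.tensorPow A (p + 1)) :=
    (hasSection_iff _).2 (BigExponent.hasSec_iso (tensor_one _).some ⟨s, hs⟩)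
  have h1 := (NumR.effCone k X).smul_mem (c := ((p + 1 : ℕ) : ℝ)⁻¹) (by positivity)
    (mem_coneOf k (isInvertible_tensorPow hA (p + 1)) h : _ ∈ NumR.effCone k X)
  rwa [clR_pow, smul_smul, inv_mul_cancel₀ (by positivity), one_smul] at h1

include hH in
theorem big_le_eff : bigCone k ≤ NumR.effCone k X := fun x hx => by
  obtain ⟨a, ha, he⟩ := (mem_big_iff k hH x).1 hx
  simpa using (NumR.effCone k X).add_mem (ample_le_eff k hH ha) he

include hH in
theorem exists_big_perturb {x : NumR.N1R k X} (hx : x ∈ bigCone k) {M : X.Modules}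
    (hM : PicF.IsInvertible M) :
    ∃ ε : ℝ, 0 < ε ∧ ∀ t : ℝ, |t| ≤ ε → x + t • NumR.clR k X M hM ∈ bigCone k := by
  let P : ConvexCone ℝ (NumR.N1R k X) :=
    { carrier := {y | y ∈ bigCone k ∧ ∃ ε : ℝ, 0 < ε ∧ ∀ t : ℝ, |t| ≤ ε → y + t • NumR.clR k X M hM ∈ bigCone k}
      smul_mem' := fun c hc y ⟨hy, ε, hε, h⟩ => ⟨(bigCone k).smul_mem hc hy, c * ε, mul_pos hc hε, fun t ht => by
        have h1 := (bigCone k).smul_mem hc (h (t / c) (by
          rw [abs_div, abs_of_pos hc, div_le_iff₀ hc]; linarith [mul_comm c ε]))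
        rwa [smul_add, smul_smul, mul_div_cancel₀ _ hc.ne'] at h1⟩
      add_mem' := fun y ⟨hy, ε, hε, h⟩ y' ⟨hy', _⟩ => ⟨(bigCone k).add_mem hy hy', ε, hε, fun t ht => by
        rw [add_right_comm]; exact (bigCone k).add_mem (h t ht) hy'⟩ }
  refine ((ConvexCone.hull_min (C := P) ?_) hx).2
  rintro _ ⟨L, hL, hLb, rfl⟩
  refine ⟨mem_coneOf k hL hLb, ?_⟩
  obtain ⟨M', hM', hMM'⟩ := exists_isInverseOf hM
  have key : ∀ {N : X.Modules} (hN : PicF.IsInvertible N), ∃ ε : ℝ, 0 < ε ∧ ∀ t : ℝ, 0 ≤ t → t ≤ ε →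
      NumR.clR k X L hL + t • NumR.clR k X N hN ∈ bigCone k := by
    intro N hN
    obtain ⟨n, hn, hb⟩ := exists_twist_big k hL hN (hasAmpleSub_of_bigA hH hLb)
    have hn0 : (0 : ℝ) < n := Nat.cast_pos.2 hn
    have h0 : (n : ℝ) • NumR.clR k X L hL + NumR.clR k X N hN ∈ bigCone k := by
      rw [← clR_pow, ← clR_tensor]
      exact mem_coneOf k _ (bigA_of_hasAmpleSub k (isInvertible_tensorMod (isInvertible_tensorPow hL n) hN) hb)
    refine ⟨1 / (2 * n), by positivity, fun t ht ht' => ?_⟩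
    rcases ht.eq_or_lt with rfl | ht0
    · simpa using mem_coneOf k hL hLb
    have h1 : 0 < 1 - t * n := by
      rw [le_div_iff₀ (by positivity)] at ht'; nlinarith
    have h2 := (bigCone k).add_mem ((bigCone k).smul_mem ht0 h0)
      ((bigCone k).smul_mem h1 (mem_coneOf k hL hLb))
    rwa [smul_add, smul_smul, add_right_comm, ← add_smul, add_sub_cancel, one_smul] at h2
  obtain ⟨e₁, he₁, h₁⟩ := key hM
  obtain ⟨e₂, he₂, h₂⟩ := key hM'
  refine ⟨min e₁ e₂, lt_min he₁ he₂, fun t ht => ?_⟩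
  rcases le_or_gt 0 t with h | h
  · exact h₁ t h ((le_abs_self t).trans (ht.trans (min_le_left _ _)))
  · have hz : NumR.clR k X M hM + NumR.clR k X M' hM' = 0 := by
      rw [← clR_tensor, NumR.clR_def, NumR.cl, (PicGrp.cls_eq_one_iff _).2 hMM', ofMul_one, map_zero, map_zero]
    have h3 := h₂ (-t) (by linarith) ((neg_le_abs t).trans (ht.trans (min_le_right _ _)))
    rwa [eq_neg_of_add_eq_zero_right hz, neg_smul, smul_neg, neg_neg] at h3

include hH in
theorem isOpen_big [Module.Finite ℝ (NumR.N1R k X)] : IsOpen ((bigCone k (X := X)) : Set (NumR.N1R k X)) := by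
  classical
  obtain ⟨n, b, hb⟩ : ∃ (n : ℕ) (b : Module.Basis (Fin n) ℝ (NumR.N1R k X)), ∀ j,
      ∃ (M : X.Modules) (hM : PicF.IsInvertible M), b j = NumR.clR k X M hM := by
    let b₀ := Module.Basis.ofSpan (K := ℝ) (V := NumR.N1R k X) (NumR.span_clR (k := k) (X := X)).ge
    have := Module.Finite.finite_basis b₀
    refine ⟨_, b₀.reindex (Finite.equivFin _), fun j => ?_⟩
    rw [Module.Basis.reindex_apply]
    exact Module.Basis.ofSpan_subset (K := ℝ) (NumR.span_clR (k := k) (X := X)).ge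
      (Set.mem_range_self (f := b₀) ((Finite.equivFin _).symm j))
  let φ : NumR.N1R k X →ₗ[ℝ] (Fin n → ℝ) := b.equivFun.toLinearMap
  have hφ : Continuous φ := IsModuleTopology.continuous_of_linearMap φ
  rw [isOpen_iff_mem_nhds]
  intro x hx
  have hε : ∀ j, ∃ ε : ℝ, 0 < ε ∧ ∀ t : ℝ, |t| ≤ ε → x + t • b j ∈ bigCone k := fun j => by
    obtain ⟨M, hM, e⟩ := hb j
    rw [e]; exact exists_big_perturb k hH hx hM
  choose ε hεpos hε using hε
  have hmem : ∀ᶠ y in nhds x, ∀ j, |(n : ℝ) * φ (y - x) j| ≤ ε j := by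
    rw [Filter.eventually_all]
    intro j
    have hc : Continuous fun y => |(n : ℝ) * φ (y - x) j| := by
      have : Continuous fun y => φ (y - x) := by
        have : (fun y => φ (y - x)) = fun y => φ y - φ x := by funext y; rw [map_sub]
        rw [this]; exact hφ.sub continuous_const
      exact (continuous_const.mul ((continuous_apply j).comp this)).abs
    refine (hc.tendsto x).eventually (eventually_le_nhds ?_)
    simpa using hεpos j
  refine Filter.mem_of_superset hmem fun y hy => ?_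
  have hsum : ∀ s : Finset _, ∀ z : NumR.N1R k X,
      (∀ j ∈ s, |(n : ℝ) * φ z j| ≤ ε j) →
      (s.card : ℝ) • x + (n : ℝ) • ∑ j ∈ s, φ z j • b j ∈ ((bigCone k (X := X)) : Set (NumR.N1R k X)) ∨ s = ∅ := by
    intro s z hz
    induction s using Finset.induction_on with
    | empty => exact Or.inr rfl
    | insert j s hj ih =>
      left
      have h1 := hε j _ (hz j (Finset.mem_insert_self j s))
      rw [Finset.sum_insert hj, Finset.card_insert_of_notMem hj, Nat.cast_succ, add_smul, one_smul,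
        smul_add, smul_smul]
      rcases ih fun i hi => hz i (Finset.mem_insert_of_mem hi) with h2 | rfl
      · have h3 := (bigCone k).add_mem h1 h2
        show _ ∈ bigCone k
        convert h3 using 1
        abel
      · simpa using h1
  rcases hsum Finset.univ (y - x) (fun j _ => hy j) with h | h
  · have hsum' : ∑ j, φ (y - x) j • b j = y - x := b.sum_equivFun (y - x)
    rw [hsum', Finset.card_univ, Fintype.card_fin, ← smul_add, add_sub_cancel] at h
    rcases Nat.eq_zero_or_pos n with rfl | h0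
    · have e : y - x = 0 := b.repr.injective (Subsingleton.elim _ _)
      rwa [sub_eq_zero.1 e]
    · have h4 := (bigCone k).smul_mem (c := (n : ℝ)⁻¹) (by positivity) h
      rwa [smul_smul, inv_mul_cancel₀ (by positivity), one_smul] at h4
  · have : IsEmpty _ := Finset.univ_eq_empty_iff.1 h
    have e : y - x = 0 := b.repr.injective (Subsingleton.elim _ _)
    rwa [sub_eq_zero.1 e]

include hH in
theorem interior_psef [Module.Finite ℝ (NumR.N1R k X)] :
    ((bigCone k (X := X)) : Set (NumR.N1R k X)) = interior (NumR.psefCone k X) ∧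
      NumR.psefCone k X = closure ((bigCone k (X := X)) : Set (NumR.N1R k X)) := by
  have hneg : ContinuousNeg (NumR.N1R k X) := ⟨by simpa using (continuous_const_smul (-1 : ℝ) : Continuous fun x : NumR.N1R k X => (-1 : ℝ) • x)⟩
  have : IsTopologicalAddGroup (NumR.N1R k X) := {}
  have hHb : NumR.clR k X H hH.1 ∈ bigCone k := ample_le_big k (mem_coneOf k hH.1 hH)
  have hcl : NumR.psefCone k X = closure ((bigCone k (X := X)) : Set (NumR.N1R k X)) := by
    refine le_antisymm (closure_minimal (fun e he => ?_) isClosed_closure) (closure_mono (big_le_eff k hH))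
    refine mem_closure_of_tendsto (f := fun n : ℕ => ((n : ℝ) + 1)⁻¹ • NumR.clR k X H hH.1 + e)
      (b := Filter.atTop) ?_ (Filter.Eventually.of_forall fun n => big_add_eff k hH
        ((bigCone k).smul_mem (by positivity) hHb) he)
    have h0 : Filter.Tendsto (fun n : ℕ => ((n : ℝ) + 1)⁻¹) Filter.atTop (nhds 0) := by
      simpa [one_div] using tendsto_one_div_add_atTop_nhds_zero_nat (𝕜 := ℝ)
    simpa using (h0.smul_const (NumR.clR k X H hH.1)).add_const e
  have ho := isOpen_big k hH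
  refine ⟨?_, hcl⟩
  rw [hcl, (bigCone k).convex.interior_closure_eq_interior_of_nonempty_interior
    ⟨NumR.clR k X H hH.1, by rw [ho.interior_eq]; exact hHb⟩, ho.interior_eq]

end Cones

end Groth.Misc13.BigNum
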