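import Groth.Agent.EulerDeg.GenericRank
import Groth.Agent.KTheory.ClosureSheaf
import Groth.Agent.Misc13.KC1
import Groth.Agent.Inter.Push
import Groth.Agent.ProjFormula.Natural
import Mathlib.AlgebraicGeometry.IdealSheaf.IrreducibleComponent

/-!
Euler characteristic of a twist by a locally free sheaf on a scheme of dimension one, componentwise.
-/

set_option autoImplicit false
universe u

open CategoryTheory CategoryTheory.Limits AlgebraicGeometry TopologicalSpace

namespace Groth.Misc13.CIDiscEuler

open Groth.Misc13.KNilp Groth.Misc13.KC1 Groth.KTheory Groth.KTheory.Devissage Groth.EulerDeg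

variable {X : Scheme.{u}}

/-- A component all of whose subspaces have dimension one: proper specializations are closed. -/
theorem closed_of_dim (hdim : ∀ Z ∈ irreducibleComponents (X : Type u), topologicalKrullDim Z = 1)
    (z w : X) (h : z ⤳ w) (hne : w ≠ z) : IsClosed ({w} : Set X) := by
  let Z' : Set X := irreducibleComponent z
  have hZ' := irreducibleComponent_mem_irreducibleComponents z
  have hzm : z ∈ Z' := mem_irreducibleComponent
  have hwm : w ∈ Z' := h.mem_closed isClosed_irreducibleComponent hzm
  have hd := hdim Z' hZ'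
  by_contra hw
  have : QuasiSober Z' := isClosed_irreducibleComponent.isClosedEmbedding_subtypeVal.quasiSober
  have hw' : ¬ IsClosed ({⟨w, hwm⟩} : Set Z') := fun hc => hw (by
    have := isClosed_irreducibleComponent.isClosedEmbedding_subtypeVal.isClosedMap _ hc
    simpa using this)
  have hspec : (⟨z, hzm⟩ : Z') ⤳ ⟨w, hwm⟩ := (subtype_specializes_iff _ _).2 h
  exact hne (congrArg Subtype.val (@Groth.EulerDeg.eq_of_specializes_of_not_isClosed
    (TopCat.of Z') (inferInstanceAs (T0Space Z')) (inferInstanceAs (QuasiSober Z'))
    hd.le ⟨w, hwm⟩ ⟨z, hzm⟩ hw' hspec).symm)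

variable (k : Type u) [Field k] [X.Over (Spec (CommRingCat.of k))]
  [IsProper (X ↘ Spec (CommRingCat.of k))] [AlgebraicGeometry.IsNoetherian X]

/-- The generic point of a component. -/
noncomputable def gen (Z : irreducibleComponents (X : Type u)) : X := Z.2.1.genericPoint

omit [AlgebraicGeometry.IsNoetherian X] in
theorem closure_gen (Z : irreducibleComponents (X : Type u)) : closure ({gen Z} : Set X) = Z.1 := by
  have := Z.2.1.isGenericPoint_genericPoint (isClosed_of_mem_irreducibleComponents Z.1 Z.2)
  exact this.def

omit [AlgebraicGeometry.IsNoetherian X] in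
theorem eq_of_specializes_gen (Z : irreducibleComponents (X : Type u)) {z : X} (h : z ⤳ gen Z) :
    z = gen Z := by
  have hle : Z.1 ⊆ closure ({z} : Set X) := by
    rw [← closure_gen Z]
    exact closure_minimal (Set.singleton_subset_iff.2 (specializes_iff_mem_closure.1 h)) isClosed_closure
  have := Z.2.2 (isIrreducible_singleton.closure) hle
  exact (h.antisymm (specializes_iff_mem_closure.2 (by
    rw [closure_gen]; exact this (subset_closure rfl)))).eq

theorem length_ne_top (Z : irreducibleComponents (X : Type u)) {G : X.Modules} (hG : Coh.IsCoh G) :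
    Module.length (X.presheaf.stalk (gen Z)) (G.presheaf.stalk (gen Z)) ≠ ⊤ :=
  length_stalk_ne_top hG _ fun _ _ hz => eq_of_specializes_gen Z hz

/-- The multiplicity of a coherent module along a component. -/
noncomputable def mult (Z : irreducibleComponents (X : Type u)) (G : X.Modules) : ℤ :=
  ((Module.length (X.presheaf.stalk (gen Z)) (G.presheaf.stalk (gen Z))).toNat : ℤ)

theorem mult_rel (Z : irreducibleComponents (X : Type u)) (S : ShortComplex X.Modules)
    (hS : S.ShortExact) (h₁ : Coh.IsCoh S.X₁) (h₃ : Coh.IsCoh S.X₃) :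
    mult Z S.X₂ = mult Z S.X₁ + mult Z S.X₃ := by
  have h := hS.map_of_exact (Groth.QCohMod.stalk (gen Z))
  have e := Module.length_eq_add_of_exact (RefHull.stalkMapₗ S.f (gen Z)) (RefHull.stalkMapₗ S.g (gen Z))
    ((AddCommGrpCat.mono_iff_injective _).1 h.mono_f) ((AddCommGrpCat.epi_iff_surjective _).1 h.epi_g)
    ((ShortComplex.ab_exact_iff_function_exact _).1 h.exact)
  have n₁ := length_ne_top Z h₁
  have n₃ := length_ne_top Z h₃
  simp only [mult, e, ENat.toNat_add n₁ n₃]
  push_cast
  ring

/-- The components through their ideals. -/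
theorem radical_eq (Z : irreducibleComponents (X : Type u)) :
    (X.irreducibleComponentIdeal Z.1 Z.2).radical = IntMult.ptIdeal (gen Z) := by
  rw [← Scheme.IdealSheafData.vanishingIdeal_support, IntMult.ptIdeal]
  congr 1
  exact Closeds.ext (closure_gen Z).symm

/-- The degree on a component. -/
noncomputable def degOn (E : X.Modules) (n : ℕ) (I : X.IdealSheafData) : ℤ :=
  @Curv2.deg k _ I.subscheme ⟨I.subschemeι ≫ (X ↘ Spec (CommRingCat.of k))⟩
    ((Scheme.Modules.pullback I.subschemeι).obj E) n

omit [IsProper (X ↘ Spec (CommRingCat.of k))] [AlgebraicGeometry.IsNoetherian X] in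
theorem defect_closureStructureSheaf {E : X.Modules} {n : ℕ} (hE : FlatMod.IsFinLocFreeOfRank n E)
    (y : X) : tensorDefect k E n (Cyc.closureStructureSheaf y) = degOn k E n (IntMult.ptIdeal y) := by
  let I := IntMult.ptIdeal y
  let ι := I.subschemeι
  let _ : I.subscheme.Over (Spec (CommRingCat.of k)) := ⟨ι ≫ (X ↘ Spec (CommRingCat.of k))⟩
  have hf := Groth.LocFree.isFinLocFree_of_rank hE
  have e1 : CohB1.tensorMod E ((Coh.push ι).obj (Coh.structureModule I.subscheme)) ≅
      (Coh.push ι).obj (CohB1.tensorMod ((Scheme.Modules.pullback ι).obj E) (Coh.structureModule I.subscheme)) :=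
    (Groth.ProjFormula.pfIso ι E hf).app (Coh.structureModule I.subscheme)
  have e2 : CohB1.tensorMod ((Scheme.Modules.pullback ι).obj E) (Coh.structureModule I.subscheme) ≅
      (Scheme.Modules.pullback ι).obj E :=
    (Groth.PicAux.exists_braiding _ _).choose ≪≫ (Groth.PicAux.exists_leftUnitor _).choose
  change Curv2.euler k X (CohB1.tensorMod E ((Coh.push ι).obj (Coh.structureModule I.subscheme))) -
    n * Curv2.euler k X ((Coh.push ι).obj (Coh.structureModule I.subscheme)) = _
  rw [euler_congr k (e1 ≪≫ (Coh.push ι).mapIso e2), Groth.Inter.euler_push k ι rfl,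
    Groth.Inter.euler_push k ι rfl]
  rfl

/-- The componentwise formula. -/
theorem main (hdim : ∀ z w : X, z ⤳ w → w ≠ z → IsClosed ({w} : Set X)) {n : ℕ} {E : X.Modules}
    (hE : FlatMod.IsFinLocFreeOfRank n E) {F : X.Modules} (hF : Coh.IsCoh F) :
    Curv2.euler k X (CohB1.tensorMod E F) =
      (∑ᶠ Z : irreducibleComponents (X : Type u),
        mult Z F * degOn k E n (X.irreducibleComponentIdeal Z.1 Z.2).radical) +
        (n : ℤ) * Curv2.euler k X F := by
  have : Finite (irreducibleComponents (X : Type u)) :=
    TopologicalSpace.NoetherianSpace.finite_irreducibleComponents.to_subtype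
  let _ := Fintype.ofFinite (irreducibleComponents (X : Type u))
  rw [finsum_eq_sum_of_fintype]
  simp only [radical_eq]
  let R : X.Modules → ℤ := fun G => tensorDefect k E n G -
    ∑ Z : irreducibleComponents (X : Type u), mult Z G * degOn k E n (IntMult.ptIdeal (gen Z))
  have hrel : ∀ S : ShortComplex X.Modules, S.ShortExact → Coh.IsCoh S.X₁ → Coh.IsCoh S.X₂ →
      Coh.IsCoh S.X₃ → R S.X₂ = R S.X₁ + R S.X₃ := fun S hS h₁ h₂ h₃ => by
    simp only [R, tensorDefect_add k hE hS h₁ h₂ h₃, mult_rel _ S hS h₁ h₃, add_mul,
      Finset.sum_add_distrib]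
    ring
  let Φ : KZero.K0sub (cohSupp (Set.univ : Set X)) →+ ℤ :=
    liftSub (cohSupp (Set.univ : Set X)) R fun S hS h₁ h₂ h₃ => hrel S hS h₁.1 h₂.1 h₃.1
  have hker : Φ.ker = ⊤ := by
    refine closure_eq_top Set.univ isClosed_univ _ fun y _ => ?_
    have hc := isCoh_closureStructureSheaf (x := y)
    have hs := support_closureStructureSheaf_subset (x := y)
    refine ⟨_, hc, hs, length_closureStructureSheaf (x := y), ?_⟩
    rw [AddMonoidHom.mem_ker, show Φ (KZero.clSub _ _) = R _ from liftSub_clSub _ _ ⟨hc, Set.subset_univ _⟩]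
    have hzero : ∀ Z : irreducibleComponents (X : Type u), gen Z ≠ y →
        mult Z (Cyc.closureStructureSheaf y) = 0 := fun Z hne => by
      have : Subsingleton ((Cyc.closureStructureSheaf y).presheaf.stalk (gen Z)) := by
        by_contra h
        exact hne (eq_of_specializes_gen Z (specializes_iff_mem_closure.2 (hs h))).symm
      simp [mult, Module.length_eq_zero]
    by_cases hy : IsClosed ({y} : Set X)
    · have h0 : tensorDefect k E n (Cyc.closureStructureSheaf y) = 0 :=
        tensorDefect_of_supportedAtClosed k hE hc fun x hx => by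
          have h := hs (show x ∈ CohB1.support _ from hx)
          rw [hy.closure_eq, Set.mem_singleton_iff] at h
          exact h ▸ hy
      simp only [R, h0]
      rw [Finset.sum_eq_zero fun Z _ => ?_, sub_zero]
      by_cases he : gen Z = y
      · -- a component reduced to a point is excluded by the curve case
        subst he
        rw [← defect_closureStructureSheaf k hE, h0, mul_zero]
      · rw [hzero Z he, zero_mul]
    · have hcomp : closure ({y} : Set X) ∈ irreducibleComponents (X : Type u) := by
        refine ⟨isIrreducible_singleton.closure, fun S hS hle => ?_⟩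
        have hS' := hS.closure
        have hy' : hS'.genericPoint ⤳ y := (hS'.isGenericPoint_genericPoint isClosed_closure).specializes
          (subset_closure (hle (subset_closure rfl)))
        have he : y = hS'.genericPoint := by_contra fun hne => hy (hdim _ y hy' hne)
        rw [he, (hS'.isGenericPoint_genericPoint isClosed_closure).def]
        exact subset_closure
      set Z₀ : irreducibleComponents (X : Type u) := ⟨_, hcomp⟩
      have hgen : gen Z₀ = y :=
        IsGenericPoint.eq (show IsGenericPoint (gen Z₀) (closure ({y} : Set X)) from closure_gen Z₀)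
          isGenericPoint_closure
      simp only [R]
      rw [Finset.sum_eq_single Z₀ (fun Z _ hne => ?_) (fun h => absurd (Finset.mem_univ _) h), hgen,
        defect_closureStructureSheaf k hE]
      · have : mult Z₀ (Cyc.closureStructureSheaf y) = 1 := by
          rw [mult, hgen, length_closureStructureSheaf (x := y)]; rfl
        rw [this, one_mul, sub_self]
      · rw [hzero Z (fun he => hne (Subtype.ext (by rw [← closure_gen Z, he]))), zero_mul]
  have h : KZero.clSub (cohSupp (Set.univ : Set X)) F ∈ Φ.ker := hker ▸ AddSubgroup.mem_top _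
  rw [AddMonoidHom.mem_ker, show Φ (KZero.clSub _ _) = R F from liftSub_clSub _ _ ⟨hF, Set.subset_univ _⟩] at h
  simp only [R, tensorDefect] at h
  linarith

end Groth.Misc13.CIDiscEuler
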