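import Groth.Agent.Gorenstein.Regular
import Groth.Agent.Gorenstein.RingEquiv
import Mathlib.RingTheory.Regular.Flat
import Mathlib.RingTheory.RegularLocalRing.Defs
import Mathlib.RingTheory.Localization.Ideal

/-!
A quotient of a regular ring by a weakly regular sequence of length two is Gorenstein.
-/

set_option autoImplicit false
set_option linter.style.haveILetI false

universe u

open RingTheory.Sequence Pointwise

namespace Groth.Misc13.CIGor

variable {R : Type u} [CommRing R]

theorem weaklyRegular_pair_iff (a b : R) :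
    IsWeaklyRegular R [a, b] ↔
      IsSMulRegular R a ∧ ∀ u : R, b * u ∈ Ideal.span {a} → u ∈ Ideal.span {a} := by
  rw [isWeaklyRegular_cons_iff, isWeaklyRegular_cons_iff]
  simp only [IsWeaklyRegular.nil, and_true]
  refine and_congr_right fun _ => ?_
  have hsub : (a • ⊤ : Submodule R R) = (Ideal.span {a} : Ideal R) := by
    rw [← Submodule.ideal_span_singleton_smul, Ideal.smul_eq_mul, Ideal.mul_top]
  show IsSMulRegular (R ⧸ (a • ⊤ : Submodule R R)) b ↔ _
  rw [isSMulRegular_quotient_iff_mem_of_smul_mem, hsub]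
  rfl

theorem exists_injLT_quotient_pair {A : Type u} [CommRing A] [IsRegularLocalRing A] {a b : A}
    (ha : a ∈ IsLocalRing.maximalIdeal A) (hb : b ∈ IsLocalRing.maximalIdeal A)
    (hreg : IsWeaklyRegular A [a, b]) :
    ∃ n, GrothGoren.InjLT (A ⧸ (Ideal.span {a, b} : Ideal A)) (A ⧸ (Ideal.span {a, b} : Ideal A)) n := by
  obtain ⟨h1, h2⟩ := (weaklyRegular_pair_iff a b).1 hreg
  have h0 := GrothGoren.exists_injLT_of_regular _ A le_rfl
  haveI := Groth.Ega4Algebra1.isLocalRing_quotient_of_le (Ideal.span {a})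
    ((Ideal.span_singleton_le_iff_mem _).2 ha)
  have h3 := (GrothGoren.exists_injLT_quotient_iff A ha h1).1 h0
  set A1 := A ⧸ Ideal.span {a}
  set b' : A1 := Ideal.Quotient.mk _ b
  have hb' : b' ∈ IsLocalRing.maximalIdeal A1 := by
    rw [IsLocalRing.mem_maximalIdeal, mem_nonunits_iff]
    intro hu
    obtain ⟨c, hc⟩ := hu.exists_right_inv
    obtain ⟨c, rfl⟩ := Ideal.Quotient.mk_surjective c
    rw [← map_mul, ← map_one (Ideal.Quotient.mk (Ideal.span {a})), Ideal.Quotient.eq] at hc
    have h1' : b * c - 1 ∈ IsLocalRing.maximalIdeal A := (Ideal.span_singleton_le_iff_mem _).2 ha hc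
    have := Ideal.sub_mem _ (Ideal.mul_mem_right c _ hb) h1'
    rw [sub_sub_cancel] at this
    exact (IsLocalRing.maximalIdeal.isMaximal A).ne_top ((Ideal.eq_top_iff_one _).2 this)
  have hb'reg : IsSMulRegular A1 b' := by
    intro x y hxy
    obtain ⟨x, rfl⟩ := Ideal.Quotient.mk_surjective x
    obtain ⟨y, rfl⟩ := Ideal.Quotient.mk_surjective y
    simp only [smul_eq_mul, b', ← map_mul] at hxy
    rw [Ideal.Quotient.eq, ← mul_sub] at hxy
    exact Ideal.Quotient.eq.2 (h2 _ hxy)
  haveI := Groth.Ega4Algebra1.isLocalRing_quotient_of_le (Ideal.span {b'})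
    ((Ideal.span_singleton_le_iff_mem _).2 hb')
  have h4 := (GrothGoren.exists_injLT_quotient_iff A1 hb' hb'reg).1 h3
  have hmap : (Ideal.span {b} : Ideal A).map (Ideal.Quotient.mk (Ideal.span {a})) = Ideal.span {b'} := by
    rw [Ideal.map_span, Set.image_singleton]
  have hsup : (Ideal.span {a} : Ideal A) ⊔ Ideal.span {b} = Ideal.span {a, b} := by
    rw [← Ideal.span_union, Set.singleton_union]
  exact (GrothGoren.exists_injLT_iff_of_ringEquiv
    (((Ideal.quotEquivOfEq hmap.symm).trans (DoubleQuot.quotQuotEquivQuotSup _ _)).trans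
      (Ideal.quotEquivOfEq hsup))).1 h4

theorem isGorensteinRing_quotient' [IsRegularRing R] {a b : R} (hreg : IsWeaklyRegular R [a, b])
    {J : Ideal R} (hJ : J = Ideal.span {a, b}) :
    LocCoh.IsGorensteinRing (R ⧸ J) := by
  constructor
  intro p hp
  refine (GrothGoren.isGorenstein_iff _).2 ?_
  haveI : p.IsPrime := hp
  set q : Ideal R := p.comap (Ideal.Quotient.mk J)
  haveI : q.IsPrime := Ideal.IsPrime.comap _
  let A := Localization.AtPrime q
  have hJq : J ≤ q := fun x hx => by
    rw [Ideal.mem_comap, Ideal.Quotient.eq_zero_iff_mem.2 hx]; exact p.zero_mem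
  have hmem : ∀ x ∈ ({a, b} : Set R), algebraMap R A x ∈ IsLocalRing.maximalIdeal A := fun x hx =>
    (IsLocalization.AtPrime.to_map_mem_maximal_iff A q x).2 (hJq (hJ ▸ Ideal.subset_span hx))
  have h := exists_injLT_quotient_pair (hmem a (Or.inl rfl)) (hmem b (Or.inr rfl))
    (hreg.of_isLocalization A q.primeCompl)
  have hJA : J.map (algebraMap R A) = Ideal.span {algebraMap R A a, algebraMap R A b} := by
    rw [hJ, Ideal.map_span, Set.image_pair]
  have hsub : Algebra.algebraMapSubmonoid (R ⧸ J) q.primeCompl = p.primeCompl := by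
    ext x
    constructor
    · rintro ⟨y, hy, rfl⟩; exact hy
    · intro hx
      obtain ⟨y, rfl⟩ := Ideal.Quotient.mk_surjective x
      exact ⟨y, hx, rfl⟩
  haveI : IsLocalization p.primeCompl (A ⧸ J.map (algebraMap R A)) := by
    rw [← hsub]; infer_instance
  exact (GrothGoren.exists_injLT_iff_of_ringEquiv ((Ideal.quotEquivOfEq hJA.symm).trans
    (IsLocalization.algEquiv p.primeCompl (A ⧸ J.map (algebraMap R A)) (Localization.AtPrime p)).toRingEquiv)).1 h

theorem isGorensteinRing_quotient [IsRegularRing R] {a b : R} (hreg : IsWeaklyRegular R [a, b]) :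
    LocCoh.IsGorensteinRing (R ⧸ (Ideal.span {a, b} : Ideal R)) :=
  isGorensteinRing_quotient' hreg rfl

end Groth.Misc13.CIGor
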