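import Mathlib.RepresentationTheory.Homological.GroupCohomology.LowDegree
import Mathlib.RepresentationTheory.Rep.Basic
import Mathlib.Algebra.Homology.ShortComplex.ModuleCat
import Mathlib.Algebra.Homology.ShortComplex.ShortExact
import Mathlib.GroupTheory.GroupAction.Quotient

/-!
`H¹(Γ', Λ) = 0` for all subgroups iff every extension of a permutation lattice by `Λ` splits.
-/

set_option autoImplicit false
set_option linter.style.haveILetI false
set_option linter.unusedSectionVars false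

open CategoryTheory MonoidAlgebra

namespace Groth.Misc13.Coflasque

variable {k : Type} [CommRing k] {Γ : Type} [Group Γ] (Λ : Rep k Γ)

theorem exists_eq_of_isZero (Γ' : Subgroup Γ)
    (h : Limits.IsZero (groupCohomology (Rep.res Γ'.subtype Λ) 1)) (c : Γ' → Λ.V)
    (hc : ∀ a b : Γ', c (a * b) = Λ.ρ (a : Γ) (c b) + c a) :
    ∃ m : Λ.V, ∀ a : Γ', c a = Λ.ρ (a : Γ) m - m := by
  let f : groupCohomology.cocycles₁ (Rep.res Γ'.subtype Λ) :=
    ⟨c, (groupCohomology.mem_cocycles₁_iff (A := Rep.res Γ'.subtype Λ) c).2 hc⟩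
  haveI := ModuleCat.subsingleton_of_isZero h
  have h0 : groupCohomology.H1π (Rep.res Γ'.subtype Λ) f = 0 := Subsingleton.elim _ _
  obtain ⟨m, hm⟩ := (groupCohomology.H1π_eq_zero_iff f).1 h0
  exact ⟨m, fun a => (congrFun hm a).symm⟩

theorem isZero_of_exists_eq (Γ' : Subgroup Γ)
    (h : ∀ c : Γ' → Λ.V, (∀ a b : Γ', c (a * b) = Λ.ρ (a : Γ) (c b) + c a) →
      ∃ m : Λ.V, ∀ a : Γ', c a = Λ.ρ (a : Γ) m - m) :
    Limits.IsZero (groupCohomology (Rep.res Γ'.subtype Λ) 1) := by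
  haveI : Subsingleton (groupCohomology.H1 (Rep.res Γ'.subtype Λ)) := by
    refine subsingleton_of_forall_eq 0 fun x => ?_
    induction x using groupCohomology.H1_induction_on with
    | h f =>
      obtain ⟨m, hm⟩ := h f ((groupCohomology.mem_cocycles₁_iff (A := Rep.res Γ'.subtype Λ) _).1 f.2)
      exact (groupCohomology.H1π_eq_zero_iff f).2 ⟨m, funext fun a => (hm a).symm⟩
  exact ModuleCat.isZero_of_subsingleton (groupCohomology.H1 (Rep.res Γ'.subtype Λ))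

theorem exact_apply {E : ShortComplex (Rep k Γ)} (hE : E.ShortExact) (v : E.X₂.V) (hv : E.g.hom v = 0) :
    ∃ w : E.X₁.V, E.f.hom w = v := by
  have h := (hE.exact.map (forget₂ (Rep k Γ) (ModuleCat k)))
  rw [ShortComplex.moduleCat_exact_iff] at h
  exact h v hv

theorem splitting_of_isZero (h : ∀ Γ' : Subgroup Γ, Limits.IsZero (groupCohomology (Rep.res Γ'.subtype Λ) 1))
    (X : Type) [MulAction Γ X] (E : ShortComplex (Rep k Γ)) (hE : E.ShortExact) (e₁ : E.X₁ ≅ Λ)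
    (e₃ : E.X₃ ≅ Rep.ofMulAction k Γ X) : Nonempty E.Splitting := by
  classical
  let i : Λ ⟶ E.X₂ := e₁.inv ≫ E.f
  let π : E.X₂ ⟶ Rep.ofMulAction k Γ X := E.g ≫ e₃.hom
  haveI := hE.mono_f
  haveI := hE.epi_g
  have hi : Function.Injective i.hom := (Rep.mono_iff_injective i).1 inferInstance
  have hπ : Function.Surjective π.hom := (Rep.epi_iff_surjective π).1 inferInstance
  have hex : ∀ v, π.hom v = 0 → ∃ l, i.hom l = v := by
    intro v hv
    have hv' : E.g.hom v = 0 := by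
      have h2 := congrArg e₃.inv.hom hv
      rw [map_zero, show π.hom v = e₃.hom.hom (E.g.hom v) from rfl, Rep.inv_hom_apply] at h2
      exact h2
    obtain ⟨w, hw⟩ := exact_apply hE v hv'
    refine ⟨e₁.hom.hom w, ?_⟩
    show E.f.hom (e₁.inv.hom (e₁.hom.hom w)) = v
    rw [Rep.inv_hom_apply, hw]
  have hπρ : ∀ (γ : Γ) v (x : X), π.hom v = single x (1 : k) → π.hom (E.X₂.ρ γ v) = single (γ • x) (1 : k) := by
    intro γ v x hv
    rw [Rep.hom_comm_apply, hv]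
    exact Representation.ofMulAction_single γ x 1
  -- invariant lift over each point
  have hfix : ∀ x : X, ∃ v, π.hom v = single x (1 : k) ∧ ∀ γ : Γ, γ • x = x → E.X₂.ρ γ v = v := by
    intro x
    obtain ⟨v, hv⟩ := hπ (single x (1 : k))
    have hd : ∀ a : MulAction.stabilizer Γ x, ∃ l, i.hom l = E.X₂.ρ (a : Γ) v - v := fun a => hex _ (by
      rw [map_sub, hπρ _ _ _ hv, MulAction.mem_stabilizer_iff.1 a.2, hv, sub_self])
    choose c hc using hd
    obtain ⟨m, hm⟩ := exists_eq_of_isZero Λ _ (h _) c fun a b => hi (by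
      rw [map_add, Rep.hom_comm_apply, hc, hc, hc, Subgroup.coe_mul, map_sub, map_mul, Module.End.mul_apply]
      abel)
    refine ⟨v - i.hom m, ?_, fun γ hγ => ?_⟩
    · rw [map_sub, hv, show π.hom (i.hom m) = e₃.hom.hom ((E.f ≫ E.g).hom (e₁.inv.hom m)) from rfl, E.zero]
      simp
    · have h1 := hc ⟨γ, hγ⟩
      rw [hm, map_sub, Rep.hom_comm_apply] at h1
      rw [map_sub, sub_eq_sub_iff_sub_eq_sub]
      exact h1.symm
  choose v hv hvfix using hfix
  let r : X → X := fun x => (Quotient.mk (MulAction.orbitRel Γ X) x).out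
  have hr : ∀ x, ∃ γ : Γ, γ • r x = x := fun x => by
    obtain ⟨γ, hγ⟩ := MulAction.orbitRel_apply.1 (Quotient.mk_out (s := MulAction.orbitRel Γ X) x)
    exact ⟨γ⁻¹, by rw [inv_smul_eq_iff]; exact hγ.symm⟩
  choose γ₀ hγ₀ using hr
  let w : X → E.X₂.V := fun x => E.X₂.ρ (γ₀ x) (v (r x))
  have hrsmul : ∀ (γ : Γ) x, r (γ • x) = r x := fun γ x => by
    show (Quotient.mk _ (γ • x)).out = (Quotient.mk _ x).out
    rw [Quotient.sound (s := MulAction.orbitRel Γ X) (MulAction.orbitRel_apply.2 ⟨γ, rfl⟩)]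
  have hw : ∀ (γ : Γ) x, E.X₂.ρ γ (w x) = w (γ • x) := by
    intro γ x
    show E.X₂.ρ γ (E.X₂.ρ (γ₀ x) (v (r x))) = E.X₂.ρ (γ₀ (γ • x)) (v (r (γ • x)))
    rw [hrsmul]
    have h1 := hvfix (r x) ((γ₀ (γ • x))⁻¹ * γ * γ₀ x) (by
      rw [mul_smul, mul_smul, hγ₀, inv_smul_eq_iff]
      conv_lhs => rw [← hγ₀ (γ • x), hrsmul])
    have h2 := congrArg (E.X₂.ρ (γ₀ (γ • x))) h1
    rw [← Module.End.mul_apply, ← map_mul, ← mul_assoc, mul_inv_cancel_left, map_mul, Module.End.mul_apply] at h2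
    exact h2
  let s₀ : k[X] →ₗ[k] E.X₂.V :=
    Finsupp.lift E.X₂.V k X w ∘ₗ (MonoidAlgebra.coeffLinearEquiv _).toLinearMap
  have hs₀ : ∀ x a, s₀ (single x a) = a • w x := fun x a => by simp [s₀]
  let s : Rep.ofMulAction k Γ X ⟶ E.X₂ := Rep.ofHom ⟨s₀, fun γ => by
    ext x
    simp [hs₀, hw, Representation.ofMulAction_single]⟩
  have hπw : ∀ x, π.hom (w x) = single x (1 : k) := fun x => by
    rw [hπρ _ _ _ (hv _), hγ₀]
  have hs : s ≫ π = 𝟙 _ := by
    apply Rep.hom_ext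
    apply Representation.IntertwiningMap.toLinearMap_injective
    apply MonoidAlgebra.lhom_ext'
    intro x
    apply LinearMap.ext_ring
    show π.hom (s₀ (single x (1 : k))) = single x (1 : k)
    rw [hs₀, one_smul, hπw]
  refine ⟨ShortComplex.Splitting.ofExactOfSection E hE.exact (e₃.hom ≫ s) ?_ hE.mono_f⟩
  rw [Category.assoc, ← cancel_mono e₃.hom, Category.assoc, Category.assoc, show s ≫ E.g ≫ e₃.hom = 𝟙 _ from hs,
    Category.comp_id, Category.id_comp]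

/-- the transferred cocycle -/
noncomputable def ext' (Γ' : Subgroup Γ) (c : Γ' → Λ.V) (γ : Γ) (x : Γ ⧸ Γ') : Λ.V :=
  Λ.ρ (γ • x).out (c ⟨((γ • x).out)⁻¹ * γ * x.out, by
    rw [mul_assoc, ← QuotientGroup.eq, QuotientGroup.out_eq']
    show γ • x = ((γ * x.out : Γ) : Γ ⧸ Γ')
    conv_lhs => rw [← QuotientGroup.out_eq' x]
    rfl⟩)

theorem exists_eq_of_splitting [Finite Γ]
    (h : ∀ (X : Type) [MulAction Γ X] [Finite X] (E : ShortComplex (Rep k Γ)),
      E.ShortExact → Nonempty (E.X₁ ≅ Λ) → Nonempty (E.X₃ ≅ Rep.ofMulAction k Γ X) → Nonempty E.Splitting)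
    (Γ' : Subgroup Γ) (c : Γ' → Λ.V) (hc : ∀ a b : Γ', c (a * b) = Λ.ρ (a : Γ) (c b) + c a) :
    ∃ m : Λ.V, ∀ a : Γ', c a = Λ.ρ (a : Γ) m - m := by
  classical
  have hmul : ∀ (γ δ : Γ) (x : Γ ⧸ Γ'),
      ext' Λ Γ' c (γ * δ) x = Λ.ρ γ (ext' Λ Γ' c δ x) + ext' Λ Γ' c γ (δ • x) := by
    intro γ δ x
    simp only [ext', mul_smul]
    set a : Γ' := ⟨_, _⟩ with ha
    set b : Γ' := ⟨_, _⟩ with hb
    set d : Γ' := ⟨_, _⟩ with hd
    rw [show a = d * b from Subtype.ext (by simp only [ha, hb, hd, Subgroup.coe_mul]; group), hc, map_add,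
      ← Module.End.mul_apply, ← map_mul, ← Module.End.mul_apply (Λ.ρ γ), ← map_mul]
    congr 2
    simp only [hd]
    group
  let T : Γ → k[Γ ⧸ Γ'] →ₗ[k] Λ.V := fun γ =>
    Finsupp.lift Λ.V k (Γ ⧸ Γ') (ext' Λ Γ' c γ) ∘ₗ (MonoidAlgebra.coeffLinearEquiv _).toLinearMap
  have hT : ∀ γ x a, T γ (single x a) = a • ext' Λ Γ' c γ x := fun γ x a => by simp [T]
  let P := Representation.ofMulAction k Γ (Γ ⧸ Γ')
  have hTmul : ∀ γ δ v, T (γ * δ) v = Λ.ρ γ (T δ v) + T γ (P δ v) := by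
    intro γ δ v
    have : T (γ * δ) = (Λ.ρ γ).comp (T δ) + (T γ).comp (P δ) := by
      ext x
      simp [hT, P, Representation.ofMulAction_single, hmul]
    exact LinearMap.congr_fun this v
  let ρ₂ : Representation k Γ (Λ.V × k[Γ ⧸ Γ']) :=
    { toFun := fun γ => ((Λ.ρ γ).comp (LinearMap.fst k _ _) + (T γ).comp (LinearMap.snd k _ _)).prod
        ((P γ).comp (LinearMap.snd k _ _))
      map_one' := by
        apply LinearMap.ext
        rintro ⟨l, v⟩
        have h1 := hTmul 1 1 v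
        simp only [mul_one, map_one, Module.End.one_apply, left_eq_add] at h1
        simp [h1]
      map_mul' := fun γ δ => by
        apply LinearMap.ext
        rintro ⟨l, v⟩
        simp [hTmul, map_add, add_assoc] }
  let inl : Λ ⟶ Rep.of ρ₂ := Rep.ofHom ⟨LinearMap.inl k _ _, fun γ => by ext l <;> simp [ρ₂]⟩
  let snd : Rep.of ρ₂ ⟶ Rep.ofMulAction k Γ (Γ ⧸ Γ') := Rep.ofHom ⟨LinearMap.snd k _ _, fun γ => by ext <;> simp [ρ₂, P]⟩
  let E : ShortComplex (Rep k Γ) := ShortComplex.mk inl snd (by ext l; simp [inl, snd])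
  have hE : E.ShortExact :=
    { exact := by
        rw [← ShortComplex.exact_map_iff_of_faithful _ (forget₂ (Rep k Γ) (ModuleCat k)), ShortComplex.moduleCat_exact_iff]
        rintro ⟨l, v⟩ (hv : v = 0)
        exact ⟨l, Prod.ext rfl hv.symm⟩
      mono_f := (Rep.mono_iff_injective inl).2 fun a b hab => congrArg Prod.fst hab
      epi_g := (Rep.epi_iff_surjective snd).2 fun v => ⟨(0, v), rfl⟩ }
  obtain ⟨spl⟩ := h (Γ ⧸ Γ') E hE ⟨Iso.refl _⟩ ⟨Iso.refl _⟩
  let x₀ : Γ ⧸ Γ' := ((1 : Γ) : Γ ⧸ Γ')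
  let z : Λ.V × k[Γ ⧸ Γ'] := spl.s.hom (single x₀ (1 : k))
  have hz2 : z.2 = single x₀ (1 : k) := DFunLike.congr_fun (congrArg Rep.Hom.hom spl.s_g) (single x₀ (1 : k))
  let s₀ : Γ' := ⟨x₀.out, by
    have := QuotientGroup.out_eq' x₀
    rwa [show x₀ = ((1 : Γ) : Γ ⧸ Γ') from rfl, QuotientGroup.eq, mul_one, Γ'.inv_mem_iff] at this⟩
  refine ⟨-(z.1 + c s₀), fun a => ?_⟩
  have hx : (a : Γ) • x₀ = x₀ := by
    show (((a : Γ) * 1 : Γ) : Γ ⧸ Γ') = ((1 : Γ) : Γ ⧸ Γ')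
    rw [QuotientGroup.eq, mul_one, mul_one]
    exact Γ'.inv_mem a.2
  have h1 : ρ₂ (a : Γ) z = z := by
    rw [← Rep.hom_comm_apply spl.s]
    show spl.s.hom (P (a : Γ) (single x₀ (1 : k))) = _
    rw [show P (a : Γ) (single x₀ (1 : k)) = single x₀ (1 : k) by rw [Representation.ofMulAction_single, hx]]
  have h2 : Λ.ρ (a : Γ) z.1 + T (a : Γ) z.2 = z.1 := congrArg Prod.fst h1
  rw [hz2, hT, one_smul, ext'] at h2
  have h3 : c (⟨((a : Γ) • x₀).out⁻¹ * a * x₀.out, by rw [hx]; exact Γ'.mul_mem (Γ'.mul_mem (Γ'.inv_mem s₀.2) a.2) s₀.2⟩) =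
      c (s₀⁻¹ * a * s₀) := congrArg c (Subtype.ext (by simp [hx, s₀]))
  have key : ∀ v, Λ.ρ (s₀ : Γ) (Λ.ρ (s₀ : Γ)⁻¹ v) = v := fun v => by
    rw [← Module.End.mul_apply, ← map_mul, mul_inv_cancel, map_one, Module.End.one_apply]
  rw [h3, hx, hc, hc, show x₀.out = (s₀ : Γ) from rfl, map_add, map_add, Subgroup.coe_mul, Subgroup.coe_inv,
    map_mul, Module.End.mul_apply, key, key] at h2
  have h4 : Λ.ρ (s₀ : Γ) (c s₀⁻¹) + c s₀ = 0 := by
    have hone : c 1 = 0 := by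
      have := hc 1 1
      simp only [mul_one, OneMemClass.coe_one, map_one, Module.End.one_apply] at this
      simpa using this
    rw [← hc, mul_inv_cancel, hone]
  have h5 : Λ.ρ (s₀ : Γ) (c s₀⁻¹) = -c s₀ := eq_neg_of_add_eq_zero_left h4
  rw [h5] at h2
  rw [map_neg, map_add, ← sub_eq_zero]
  rw [← sub_eq_zero] at h2
  rw [← h2]
  abel

end Groth.Misc13.Coflasque
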