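import Groth.Prelude.Def_DefoConn
import Groth.Prelude.Def_DefoSh2
import Groth.Agent.Misc13.DefoBase

/-!
# Connections as morphisms of abelian sheaves, and their deformations
-/

universe u

open CategoryTheory CategoryTheory.Limits AlgebraicGeometry TopologicalSpace Opposite

namespace Groth.Misc13.DefoBase

variable {X : Scheme.{u}}

/-- The underlying map of abelian sheaves. -/
noncomputable abbrev ab {M N : X.Modules} (f : M ⟶ N) : Coh.toAb M ⟶ Coh.toAb N :=
  (SheafOfModules.toSheaf X.ringCatSheaf).map f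

lemma ab_ext {M N : X.Modules} {φ ψ : Coh.toAb M ⟶ Coh.toAb N}
    (h : ∀ U e, ConnSh.secApp φ U e = ConnSh.secApp ψ U e) : φ = ψ := by
  apply Sheaf.hom_ext
  ext U e
  exact h U.unop e

lemma ab_injective {M N : X.Modules} : Function.Injective (ab : (M ⟶ N) → _) := fun _ _ h =>
  (SheafOfModules.toSheaf X.ringCatSheaf).map_injective h

lemma ab_comp {M N P : X.Modules} (f : M ⟶ N) (g : N ⟶ P) : ab (f ≫ g) = ab f ≫ ab g :=
  Functor.map_comp _ f g

lemma ab_id (M : X.Modules) : ab (𝟙 M) = 𝟙 (Coh.toAb M) := CategoryTheory.Functor.map_id _ M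

lemma ab_add {M N : X.Modules} (f g : M ⟶ N) : ab (f + g) = ab f + ab g :=
  (SheafOfModules.toSheaf X.ringCatSheaf).map_add

lemma ab_sub {M N : X.Modules} (f g : M ⟶ N) : ab (f - g) = ab f - ab g :=
  (SheafOfModules.toSheaf X.ringCatSheaf).map_sub

lemma ab_zero {M N : X.Modules} : ab (0 : M ⟶ N) = 0 :=
  (SheafOfModules.toSheaf X.ringCatSheaf).map_zero M N

lemma secApp_ab {M N : X.Modules} (f : M ⟶ N) (U : X.Opens) (e : M.val.obj (op U)) :
    ConnSh.secApp (ab f) U e = f.app U e := rfl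

lemma secApp_comp {M N P : X.Modules} (φ : Coh.toAb M ⟶ Coh.toAb N) (ψ : Coh.toAb N ⟶ Coh.toAb P)
    (U : X.Opens) (e : M.val.obj (op U)) :
    ConnSh.secApp (φ ≫ ψ) U e = ConnSh.secApp ψ U (ConnSh.secApp φ U e) := rfl

lemma secApp_add {M N : X.Modules} (φ ψ : Coh.toAb M ⟶ Coh.toAb N) (U : X.Opens) (e : M.val.obj (op U)) :
    ConnSh.secApp (φ + ψ) U e = ConnSh.secApp φ U e + ConnSh.secApp ψ U e := rfl

lemma secApp_sub {M N : X.Modules} (φ ψ : Coh.toAb M ⟶ Coh.toAb N) (U : X.Opens) (e : M.val.obj (op U)) :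
    ConnSh.secApp (φ - ψ) U e = ConnSh.secApp φ U e - ConnSh.secApp ψ U e := rfl

/-- An additive map of abelian sheaves that is linear on sections is linear. -/
lemma exists_ab_eq {M N : X.Modules} (φ : Coh.toAb M ⟶ Coh.toAb N)
    (h : ∀ (U : X.Opens) (t : Γ(X, U)) (e : M.val.obj (op U)),
      ConnSh.secApp φ U (t • e) = t • ConnSh.secApp φ U e) : ∃ f : M ⟶ N, ab f = φ :=
  ⟨⟨PresheafOfModules.homMk φ.hom fun U s m => h U.unop s m⟩, ab_ext fun _ _ => rfl⟩

section conn

variable {M M' M'' N : X.Modules}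

/-- `f ⊗ 1`. -/
noncomputable abbrev T (N : X.Modules) (f : M ⟶ M') : CohB1.tensorMod M N ⟶ CohB1.tensorMod M' N :=
  KoszTw.tensorMap f (𝟙 N)

lemma horizontal_iff {c : Coh.toAb M ⟶ Coh.toAb (CohB1.tensorMod M N)}
    {c' : Coh.toAb M' ⟶ Coh.toAb (CohB1.tensorMod M' N)} (φ : M ⟶ M') :
    ConnSh.IsHorizontal c c' φ ↔ ab φ ≫ c' = c ≫ ab (T N φ) := by
  constructor
  · exact fun h => ab_ext fun U e => h U e
  · intro h U e
    exact congr(ConnSh.secApp $h U e)

variable {S : Scheme.{u}} {f : X ⟶ S} {δ : OmegaSh.Der f N}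

lemma exists_ab_eq_sub {E : X.Modules} {c c' : Coh.toAb E ⟶ Coh.toAb (CohB1.tensorMod E N)}
    (hc : ConnSh.IsConn δ E c) (hc' : ConnSh.IsConn δ E c') : ∃ d, ab d = c - c' := by
  refine exists_ab_eq _ fun U t e => ?_
  rw [secApp_sub, secApp_sub, hc U t e, hc' U t e, smul_sub]
  abel

lemma isConn_add {E : X.Modules} {c : Coh.toAb E ⟶ Coh.toAb (CohB1.tensorMod E N)}
    (hc : ConnSh.IsConn δ E c) (d : E ⟶ CohB1.tensorMod E N) : ConnSh.IsConn δ E (c + ab d) := by
  intro U t e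
  rw [secApp_add, secApp_add, hc U t e, secApp_ab, secApp_ab]
  erw [Scheme.Modules.Hom.app_smul]
  refine Eq.trans ?_ (congrArg (· + _) (smul_add t _ _).symm)
  abel

end conn

section scalar

variable {k : Type u} [CommRing k] [X.Over (Spec (CommRingCat.of k))] {N : X.Modules}
  (δ : OmegaSh.Der (X ↘ Spec (CommRingCat.of k)) N)

/-- A derivation over `k` kills `k`. -/
lemma der_scalar (c : k) (U : X.Opens) :
    δ.app U (X.presheaf.map (homOfLE (le_top : U ≤ ⊤)).op
      (Coh.toGlobal (X ↘ Spec (CommRingCat.of k)) c)) = 0 := by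
  have h0 : δ.app ⊤ (Coh.toGlobal (X ↘ Spec (CommRingCat.of k)) c) = 0 :=
    δ.d_app (X := op ⊤) _
  rw [OmegaSh.Der.app_apply]
  erw [δ.d_map]
  erw [h0]
  exact map_zero _

/-- A connection commutes with the scalars. -/
lemma conn_smulMod {E : X.Modules} {c : Coh.toAb E ⟶ Coh.toAb (CohB1.tensorMod E N)}
    (hc : ConnSh.IsConn δ E c) (a : k) :
    ab (Formal.smulMod k E a) ≫ c = c ≫ ab (Formal.smulMod k (CohB1.tensorMod E N) a) := by
  refine ab_ext fun U e => ?_
  rw [secApp_comp, secApp_comp, secApp_ab, secApp_ab, Formal.smulMod, Formal.smulMod]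
  erw [KLin.smulModΓ_app_apply, KLin.smulModΓ_app_apply, hc U _ e, der_scalar]
  exact (congrArg _ (Groth.PicAux.tmulSec_zero_right (L := E) (M := N) e)).trans (add_zero _)

end scalar

variable {k : Type u} [Field k] [X.Over (Spec (CommRingCat.of k))] {Ω' E : X.Modules}
  {δ : OmegaSh.Der (X ↘ Spec (CommRingCat.of k)) Ω'}
  {nabla : Coh.toAb E ⟶ Coh.toAb (CohB1.tensorMod E Ω')}

/-- A connection is horizontal for the action of `k[ε]` as soon as it commutes with `π ≫ ι`. -/
lemma act_horizontal_of_eps (D : DefoSh.Defo E (ArtFun.Art.dual k k)) (ι : E ⟶ D.sheaf)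
    (hι : D.π ≫ ι = D.act (DualNumber.eps : DualNumber k))
    {c : Coh.toAb D.sheaf ⟶ Coh.toAb (CohB1.tensorMod D.sheaf Ω')} (hc : ConnSh.IsConn δ D.sheaf c)
    (h : ab (D.π ≫ ι) ≫ c = c ≫ ab (T Ω' (D.π ≫ ι))) (a : ArtFun.Art.dual k k) :
    ConnSh.IsHorizontal c c (D.act a) := by
  let a' : DualNumber k := a
  rw [horizontal_iff, show D.act a = _ from act_eq ι hι a']
  simp only [KLin.smul_def, T, tensorMap_add_left, tensorMap_smulMod, tensorMap_comp_left] at h ⊢
  simp only [ab_add, ab_comp, Preadditive.add_comp, Preadditive.comp_add, Category.assoc] at h ⊢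
  rw [conn_smulMod δ hc]
  congr 1
  rw [h, ← Category.assoc (ab _) c, conn_smulMod δ hc, Category.assoc]

end Groth.Misc13.DefoBase

namespace Groth.Misc13.DefoBase

section maps

variable {X : Scheme.{u}} {k : Type u} [Field k] [X.Over (Spec (CommRingCat.of k))] {E : X.Modules}
  {D : DefoSh.Defo E (ArtFun.Art.dual k k)} {ι : E ⟶ D.sheaf}
  (hι : D.π ≫ ι = D.act (DualNumber.eps : DualNumber k))
include hι

/-- A map commuting with `π ≫ ι` commutes with the action. -/
lemma act_comm_of_eps (g : D.sheaf ⟶ D.sheaf) (h : (D.π ≫ ι) ≫ g = g ≫ D.π ≫ ι)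
    (a : ArtFun.Art.dual k k) : D.act a ≫ g = g ≫ D.act a := by
  let a' : DualNumber k := a
  rw [show D.act a = _ from act_eq ι hι a', Preadditive.add_comp, Preadditive.comp_add,
    Linear.smul_comp, Linear.comp_smul, h]
  congr 1
  exact (KLin.comp_smulModΓ g _).symm

/-- A map killed by `π` on the right and by `ι` on the left factors as `π ≫ _ ≫ ι`. -/
lemma exists_factor {N N' N'' : X.Modules} (d : D.sheaf ⟶ N') (a : N ⟶ N') (b : N' ⟶ N'')
    (w : a ≫ b = 0) (hab : (ShortComplex.mk a b w).ShortExact) (hd : d ≫ b = 0) (hd' : ι ≫ d = 0) :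
    ∃ φ : E ⟶ N, D.π ≫ φ ≫ a = d := by
  have := hab.mono_f
  have := epi_π D
  let S := ShortComplex.mk ι D.π (ι_π ι hι)
  have hS : S.ShortExact := shortExact_defo ι hι
  let d' : D.sheaf ⟶ N := hab.exact.lift d hd
  have hl : d' ≫ a = d := hab.exact.lift_f d hd
  have h0 : ι ≫ d' = 0 := by
    rw [← cancel_mono a, Category.assoc, hl, hd', zero_comp]
  have : Epi S.g := hS.epi_g
  refine ⟨hS.exact.desc d' h0, ?_⟩
  rw [← Category.assoc]
  exact (congrArg (· ≫ a) (hS.exact.g_desc d' h0)).trans hl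

end maps

lemma epi_ab {X : Scheme.{u}} {M N : X.Modules} (f : M ⟶ N) [Epi f] : Epi (ab f) := by
  have : PreservesColimitsOfShape WalkingSpan (Groth.QCohMod.toAbFunctor X) :=
    Groth.QCohMod.preservesColimitsOfShape_toSheaf X.ringCatSheaf WalkingSpan
  have := preservesEpimorphisms_of_preservesColimitsOfShape (Groth.QCohMod.toAbFunctor X)
  exact Functor.map_epi (Groth.QCohMod.toAbFunctor X) f

end Groth.Misc13.DefoBase
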