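import Groth.Agent.Misc13.DefoConnBase
import Groth.Agent.SGA7.Ext1
import Mathlib.RingTheory.TensorProduct.Basic
import Mathlib.RingTheory.Flat.Stability

/-!
# First-order deformations and `Ext¹(E, E)`
-/

universe u

open CategoryTheory CategoryTheory.Limits CategoryTheory.Abelian AlgebraicGeometry Opposite
open scoped TensorProduct

namespace Groth.Misc13.DefoBase

/-- Over `k[ε]`, a module in which `ker ε = im ε` is flat. -/
lemma flat_of_ker_eps {k : Type u} [Field k] {M : Type u} [AddCommGroup M] [Module (DualNumber k) M]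
    (h : ∀ v : M, (DualNumber.eps : DualNumber k) • v = 0 → ∃ w, (DualNumber.eps : DualNumber k) • w = v) :
    Module.Flat (DualNumber k) M := by
  let _ : Module k M := Module.compHom M (algebraMap k (DualNumber k))
  have : IsScalarTower k (DualNumber k) M := IsScalarTower.of_compHom k (DualNumber k) M
  let ε : DualNumber k := DualNumber.eps
  let L : M →ₗ[k] M := (LinearMap.lsmul (DualNumber k) M ε).restrictScalars k
  obtain ⟨V, hV⟩ := Submodule.exists_isCompl (LinearMap.range L)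
  let f := LinearMap.liftBaseChange (DualNumber k) V.subtype
  have hnorm : ∀ z : DualNumber k ⊗[k] V, ∃ a b : V, z = 1 ⊗ₜ a + ε ⊗ₜ b := by
    intro z
    induction z using TensorProduct.induction_on with
    | zero => exact ⟨0, 0, by simp⟩
    | tmul c v =>
      refine ⟨TrivSqZeroExt.fst c • v, TrivSqZeroExt.snd c • v, ?_⟩
      rw [TensorProduct.tmul_smul, TensorProduct.tmul_smul, TensorProduct.smul_tmul', TensorProduct.smul_tmul',
        ← TensorProduct.add_tmul]
      congr 1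
      refine TrivSqZeroExt.ext ?_ ?_ <;> simp [ε]
    | add x y hx hy =>
      obtain ⟨a, b, rfl⟩ := hx
      obtain ⟨a', b', rfl⟩ := hy
      exact ⟨a + a', b + b', by rw [TensorProduct.tmul_add, TensorProduct.tmul_add]; abel⟩
  have hf : ∀ a b : V, f (1 ⊗ₜ a + ε ⊗ₜ b) = (a : M) + ε • (b : M) := fun a b => by
    simp [f]
  have hzero : ∀ a : V, (a : M) ∈ LinearMap.range L → a = 0 := fun a ha =>
    Subtype.ext ((Submodule.eq_bot_iff _).1 hV.inf_eq_bot (a : M) ⟨ha, a.2⟩)
  have hbij : Function.Bijective f := by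
    refine ⟨(injective_iff_map_eq_zero f).2 fun z hz => ?_, fun m => ?_⟩
    · obtain ⟨a, b, rfl⟩ := hnorm z
      rw [hf] at hz
      obtain rfl : a = 0 := hzero a ⟨-(b : M), by
        show ε • -(b : M) = _
        rw [smul_neg, neg_eq_iff_add_eq_zero, add_comm]; exact hz⟩
      simp only [ZeroMemClass.coe_zero, zero_add] at hz
      obtain rfl : b = 0 := hzero b (h _ hz)
      simp
    · obtain ⟨v, y, hv, ⟨w, rfl⟩, rfl⟩ : ∃ v y, v ∈ V ∧ y ∈ LinearMap.range L ∧ v + y = m := by
        obtain ⟨y, hy, v, hv, rfl⟩ := Submodule.mem_sup.1 (hV.sup_eq_top.ge (Submodule.mem_top (x := m)))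
        exact ⟨v, y, hv, hy, add_comm v y⟩
      obtain ⟨y', hy', v', hv', rfl⟩ := Submodule.mem_sup.1 (hV.sup_eq_top.ge (Submodule.mem_top (x := w)))
      obtain ⟨w', rfl⟩ := hy'
      refine ⟨1 ⊗ₜ ⟨v, hv⟩ + ε ⊗ₜ ⟨v', hv'⟩, ?_⟩
      rw [hf]
      show v + ε • v' = v + ε • (ε • w' + v')
      rw [smul_add, ← mul_smul, show ε * ε = 0 from DualNumber.eps_mul_eps, zero_smul, zero_add]
  exact Module.Flat.of_linearEquiv (LinearEquiv.ofBijective f hbij).symm

variable {k : Type u} [Field k] {X : Scheme.{u}} [X.Over (Spec (CommRingCat.of k))] {E : X.Modules}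

/-- `p ≫ i` as an element of the ring `End S`. -/
noncomputable def extEnd {S : X.Modules} (i : E ⟶ S) (p : S ⟶ E) : End S := p ≫ i

lemma extEnd_mul_self {S : X.Modules} (i : E ⟶ S) (p : S ⟶ E) (w : i ≫ p = 0) :
    extEnd i p * extEnd i p = 0 := by
  show (p ≫ i) ≫ p ≫ i = 0
  rw [Category.assoc, ← Category.assoc i, w, zero_comp, comp_zero]

/-- `a + bε ↦ a + b (p ≫ i)`. -/
noncomputable def extAct {S : X.Modules} (i : E ⟶ S) (p : S ⟶ E) (w : i ≫ p = 0) :
    DualNumber k →ₐ[k] End S :=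
  DualNumber.lift ⟨(Algebra.ofId k (End S), extEnd i p), extEnd_mul_self i p w,
    fun a => (Algebra.commutes a (extEnd i p)).symm⟩

lemma extAct_apply {S : X.Modules} (i : E ⟶ S) (p : S ⟶ E) (w : i ≫ p = 0) (z : DualNumber k) :
    extAct i p w z = z.fst • (1 : End S) + z.snd • extEnd i p := by
  change algebraMap k (End S) z.fst + (algebraMap k (End S) z.snd) * extEnd i p = _
  rw [Algebra.algebraMap_eq_smul_one, Algebra.algebraMap_eq_smul_one, smul_mul_assoc, one_mul]

lemma extAct_eps {S : X.Modules} (i : E ⟶ S) (p : S ⟶ E) (w : i ≫ p = 0) :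
    extAct (k := k) i p w (DualNumber.eps : DualNumber k) = extEnd i p :=
  DualNumber.lift_apply_eps _

lemma extAct_eps_stalk {S : X.Modules} (i : E ⟶ S) (p : S ⟶ E) (w : i ≫ p = 0) (x : X)
    (v : S.presheaf.stalk x) :
    RefHull.stalkMapₗ (extAct (k := k) i p w (DualNumber.eps : DualNumber k) : S ⟶ S) x v =
      RefHull.stalkMapₗ i x (RefHull.stalkMapₗ p x v) := by
  rw [extAct_eps]
  exact DefoSh.stalkMapₗ_comp_apply x p i v

lemma exists_preimage_eps {S : X.Modules} (i : E ⟶ S) (p : S ⟶ E) (w : i ≫ p = 0)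
    (hS : (ShortComplex.mk i p w).ShortExact) (x : X) (v : S.presheaf.stalk x)
    (hv : RefHull.stalkMapₗ p x v = 0) :
    ∃ v' : S.presheaf.stalk x, RefHull.stalkMapₗ i x (RefHull.stalkMapₗ p x v') = v := by
  have hex := (Groth.QCohMod.exact_iff_stalk _).1 hS.exact x
  rw [ShortComplex.ab_exact_iff] at hex
  obtain ⟨u, hu⟩ := hex v hv
  have hsurj : Function.Surjective (RefHull.stalkMapₗ p x) := (Groth.QCohMod.epi_iff_stalk p).1 hS.epi_g x
  obtain ⟨v', hv'⟩ := hsurj u
  exact ⟨v', (congrArg (RefHull.stalkMapₗ i x) hv').trans hu⟩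

/-- The deformation defined by an extension of `E` by `E`. -/
noncomputable def ofExtension (S : X.Modules) (i : E ⟶ S) (p : S ⟶ E) (w : i ≫ p = 0)
    (hS : (ShortComplex.mk i p w).ShortExact) : DefoSh.Defo E (ArtFun.Art.dual k k) where
  sheaf := S
  act := extAct i p w
  π := p
  act_π a ha := by
    let a' : DualNumber k := a
    have ha' : a'.fst = 0 := ha
    change (extAct (k := k) i p w a' : S ⟶ S) ≫ p = 0
    rw [extAct_apply, ha']
    show ((0 : k) • 𝟙 S + a'.snd • (p ≫ i)) ≫ p = 0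
    rw [zero_smul, zero_add, Linear.smul_comp, Category.assoc, w, comp_zero, smul_zero]
  surj := fun x => (Groth.QCohMod.epi_iff_stalk p).1 hS.epi_g x
  ker_le x v hv := by
    let _ := DefoSh.stalkModule (A := ArtFun.Art.dual k k) S (extAct (k := k) i p w).toRingHom x
    obtain ⟨v', hv'⟩ := exists_preimage_eps i p w hS x v hv
    let ε : ArtFun.Art.dual k k := (DualNumber.eps : DualNumber k)
    have hε : ε ∈ IsLocalRing.maximalIdeal (ArtFun.Art.dual k k) := by
      rw [ArtFun.Art.mem_maximalIdeal_iff]; rfl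
    have : v = ε • v' := ((extAct_eps_stalk (k := k) i p w x v').trans hv').symm
    rw [this]
    exact Submodule.smul_mem_smul hε Submodule.mem_top
  flat x := by
    let _ : Module (DualNumber k) (S.presheaf.stalk x) :=
      DefoSh.stalkModule S (extAct (k := k) i p w).toRingHom x
    change Module.Flat (DualNumber k) (S.presheaf.stalk x)
    refine flat_of_ker_eps fun v hv => ?_
    have hv0 : RefHull.stalkMapₗ i x (RefHull.stalkMapₗ p x v) = 0 :=
      (extAct_eps_stalk (k := k) i p w x v).symm.trans hv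
    have hinj : Function.Injective (RefHull.stalkMapₗ i x) := (Groth.QCohMod.mono_iff_stalk i).1 hS.mono_f x
    obtain ⟨v', hv'⟩ := exists_preimage_eps i p w hS x v (hinj (hv0.trans (map_zero _).symm))
    exact ⟨v', (extAct_eps_stalk (k := k) i p w x v').trans hv'⟩

lemma ofExtension_act_eps (S : X.Modules) (i : E ⟶ S) (p : S ⟶ E) (w : i ≫ p = 0)
    (hS : (ShortComplex.mk i p w).ShortExact) :
    p ≫ i = (ofExtension (k := k) S i p w hS).act (DualNumber.eps : DualNumber k) :=
  (extAct_eps i p w).symm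

section class_

variable [HasExt.{u} X.Modules]

/-- Extensions with the same class are isomorphic. -/
lemma exists_hom_of_extClass_eq {A B M M' : X.Modules} {i : A ⟶ M} {p : M ⟶ B} {w : i ≫ p = 0}
    {i' : A ⟶ M'} {p' : M' ⟶ B} {w' : i' ≫ p' = 0} (h : (ShortComplex.mk i p w).ShortExact)
    (h' : (ShortComplex.mk i' p' w').ShortExact) (e : h.extClass = h'.extClass) :
    ∃ θ : M ⟶ M', i ≫ θ = i' ∧ θ ≫ p' = p := by
  have h0 : h.extClass.comp (Ext.mk₀ i') (add_zero 1) = 0 := by
    rw [e]; exact h'.extClass_comp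
  obtain ⟨x₂, hx₂⟩ := Ext.contravariant_sequence_exact₁ h M' (Ext.mk₀ i') (by rfl) h0
  obtain ⟨θ, rfl⟩ := (Ext.mk₀_bijective M M').2 x₂
  rw [Ext.mk₀_comp_mk₀] at hx₂
  have hθ : i ≫ θ = i' := (Ext.mk₀_bijective A M').1 hx₂
  have hk : i ≫ θ ≫ p' = 0 := by rw [← Category.assoc, hθ, w']
  have : Epi (ShortComplex.mk i p w).g := h.epi_g
  let ψ : B ⟶ B := h.exact.desc (θ ≫ p') hk
  have hψ : p ≫ ψ = θ ≫ p' := h.exact.g_desc (θ ≫ p') hk
  let φ : ShortComplex.mk i p w ⟶ ShortComplex.mk i' p' w' :=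
    { τ₁ := 𝟙 A
      τ₂ := θ
      τ₃ := ψ
      comm₁₂ := by
        show 𝟙 A ≫ i' = i ≫ θ
        rw [Category.id_comp, hθ]
      comm₂₃ := hψ.symm }
  have hn : h.extClass.comp (Ext.mk₀ (𝟙 A)) (add_zero 1) = (Ext.mk₀ ψ).comp h'.extClass (zero_add 1) :=
    ShortComplex.ShortExact.extClass_naturality h h' φ
  rw [Ext.comp_mk₀_id, e] at hn
  have h1 : (Ext.mk₀ (ψ - 𝟙 B)).comp h'.extClass (zero_add 1) = 0 := by
    rw [sub_eq_add_neg, Ext.mk₀_add, Ext.mk₀_neg, Ext.add_comp, Ext.neg_comp, ← hn, Ext.mk₀_id_comp,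
      add_neg_cancel]
  obtain ⟨y, hy⟩ := Ext.covariant_sequence_exact₃ B h' (Ext.mk₀ (ψ - 𝟙 B)) (zero_add 1) h1
  obtain ⟨χ, rfl⟩ := (Ext.mk₀_bijective B M').2 y
  rw [Ext.mk₀_comp_mk₀] at hy
  have hχ : χ ≫ p' = ψ - 𝟙 B := (Ext.mk₀_bijective B B).1 hy
  refine ⟨θ - p ≫ χ, ?_, ?_⟩
  · rw [Preadditive.comp_sub, ← Category.assoc, w, zero_comp, sub_zero, hθ]
  · rw [Preadditive.sub_comp, Category.assoc, hχ, Preadditive.comp_sub, hψ, Category.comp_id, sub_sub_cancel]

/-- The class of a split extension vanishes. -/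
lemma extClass_eq_zero_of_section {A B M : X.Modules} {i : A ⟶ M} {p : M ⟶ B} {w : i ≫ p = 0}
    (h : (ShortComplex.mk i p w).ShortExact) (s : B ⟶ M) (hs : s ≫ p = 𝟙 B) : h.extClass = 0 := by
  calc h.extClass = (Ext.mk₀ (s ≫ p)).comp h.extClass (zero_add 1) := by
        rw [hs, Ext.mk₀_id_comp]
    _ = (Ext.mk₀ s).comp ((Ext.mk₀ p).comp h.extClass (zero_add 1)) (zero_add 1) := by
        rw [← Ext.mk₀_comp_mk₀_assoc]
    _ = 0 := by
        rw [show (Ext.mk₀ p).comp h.extClass (zero_add 1) = 0 from h.comp_extClass]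
        exact Ext.comp_zero _ _ _ _ _

lemma extClass_congr {D : DefoSh.Defo E (ArtFun.Art.dual k k)} {j j' : E ⟶ D.sheaf}
    (hj : D.π ≫ j = D.act (DualNumber.eps : DualNumber k))
    (hj' : D.π ≫ j' = D.act (DualNumber.eps : DualNumber k)) (h : j = j') :
    (shortExact_defo j hj).extClass = (shortExact_defo j' hj').extClass := by
  subst h
  rfl

lemma extClass_ofExtension (S : X.Modules) (i : E ⟶ S) (p : S ⟶ E) (w : i ≫ p = 0)
    (hS : (ShortComplex.mk i p w).ShortExact) :
    (shortExact_defo (D := ofExtension (k := k) S i p w hS) i (ofExtension_act_eps S i p w hS)).extClass =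
      hS.extClass := rfl

lemma extClass_trivDual (j : E ⟶ (DefoSh.Defo.trivDual k E).sheaf)
    (hj : (DefoSh.Defo.trivDual k E).π ≫ j =
      (DefoSh.Defo.trivDual k E).act (DualNumber.eps : DualNumber k)) :
    (shortExact_defo j hj).extClass = 0 := by
  let M : X.Modules := E ⊞ E
  exact extClass_eq_zero_of_section (M := M) (i := (j : E ⟶ M)) (p := (biprod.fst : E ⊞ E ⟶ E))
    (w := ι_π j hj) (shortExact_defo j hj) (biprod.inl : E ⟶ E ⊞ E) biprod.inl_fst

end class_

end Groth.Misc13.DefoBase
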