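import Groth.Agent.Misc13.DefoBase
import Groth.Prelude.Def_DefoSh2
import Groth.Agent.CohBase.AffineHomCriterion
import Groth.Agent.LocFree.Basic

/-!
# First-order deformations of vector bundles are locally trivial
-/

universe u

open CategoryTheory CategoryTheory.Limits AlgebraicGeometry TopologicalSpace Opposite

namespace Groth.Misc13.DefoBase

open Groth.PicAux

variable {X : Scheme.{u}}

/-- An epimorphism onto a vector bundle splits locally. -/
lemma exists_local_section {M E : X.Modules} (p : M ⟶ E) [Epi p] (hE : FlatMod.IsFinLocFree E) (x : X) :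
    ∃ (V : X.Opens), x ∈ V ∧ ∃ σ : E.restrict V.ι ⟶ M.restrict V.ι,
      σ ≫ (Scheme.Modules.restrictFunctor V.ι).map p = 𝟙 _ := by
  obtain ⟨U, n, s, hxU, hs⟩ := exists_basis_of_isFinLocFree hE x
  obtain ⟨V, hV, t, hxV, ht⟩ := Groth.KTheory.LocFree.exists_lift (g := p) hxU s
  have hs' := hs.res' hV
  rw [basis'_iff_restrict] at hs'
  obtain ⟨d, hd⟩ := hs'.exists_split
  let h : Fin n → (Coh.structureModule (V : Scheme.{u}) ⟶ M.restrict V.ι) := fun i =>
    homOfSection (res M (Scheme.Opens.ι_image_le V ⊤) (t i) : Γ(M, V.ι ''ᵁ ⊤))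
  have key : ∀ i, h i ≫ (Scheme.Modules.restrictFunctor V.ι).map p = d.s i := fun i => by
    refine hom_structure_ext ?_
    rw [hd i]
    show p.app (V.ι ''ᵁ ⊤) ((h i).app ⊤ (oneSec _ ⊤)) = _
    erw [homOfSection_one]
    rw [app_res, ht i]
  refine ⟨V, hxV, ∑ i, d.p i ≫ h i, ?_⟩
  rw [Preadditive.sum_comp]
  simp only [Category.assoc, key]
  exact d.total

/-- Restrictions of scalars commute with all morphisms of the restrictions. -/
lemma restrict_smulModΓ_comm {M N : X.Modules} {U : X.Opens} (r : Coh.Γtop X)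
    (g : M.restrict U.ι ⟶ N.restrict U.ι) :
    (Scheme.Modules.restrictFunctor U.ι).map (Formal.smulModΓ M r) ≫ g =
      g ≫ (Scheme.Modules.restrictFunctor U.ι).map (Formal.smulModΓ N r) := by
  refine Scheme.Modules.hom_ext _ _ fun W => ?_
  ext m
  let a : Γ(X, U.ι ''ᵁ W) := X.presheaf.map (homOfLE (le_top : U.ι ''ᵁ W ≤ ⊤)).op r
  let mX : Γ(M, U.ι ''ᵁ W) := m
  let gm : Γ(N, U.ι ''ᵁ W) := g.app W m
  have e1 : (Formal.smulModΓ M r).app (U.ι ''ᵁ W) mX = a • mX := KLin.smulModΓ_app_apply M r _ mX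
  have e2 : (Formal.smulModΓ N r).app (U.ι ''ᵁ W) gm = a • gm := KLin.smulModΓ_app_apply N r _ gm
  show g.app W ((Formal.smulModΓ M r).app (U.ι ''ᵁ W) mX) = (Formal.smulModΓ N r).app (U.ι ''ᵁ W) gm
  rw [e1, e2]
  let aU : Γ((U : Scheme.{u}), W) := a
  let mU : Γ(M.restrict U.ι, W) := m
  have e3 : (aU • mU : Γ(M.restrict U.ι, W)) = (a • mX : Γ(M, U.ι ''ᵁ W)) := restrict_smul U W a mX
  have e4 : (aU • g.app W mU : Γ(N.restrict U.ι, W)) = (a • gm : Γ(N, U.ι ''ᵁ W)) :=
    restrict_smul U W a gm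
  rw [← e4, ← e3]
  exact Scheme.Modules.Hom.app_smul g aU mU

end Groth.Misc13.DefoBase
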