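import Groth.Agent.CohBase.HomPull
import Groth.Agent.RefRank.Stalk
import Groth.Agent.QCohMod.Pullback
import Groth.Agent.QCohMod.PullbackQCoh
import Groth.Agent.PicAux.PicLaw
import Mathlib.Algebra.Module.FinitePresentation

/-!
The dual and the reflexive hull of a coherent module commute with flat pullback.
-/

set_option autoImplicit false
universe u

open CategoryTheory CategoryTheory.Limits AlgebraicGeometry TopologicalSpace Opposite
open scoped TensorProduct
open Groth.PicAux (pullSec pullSec_map tmulSec)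
open Groth.QCohMod (germ exists_germ pullGerm pullGerm_germ pullStalkHom pullStalkHom_tmul pullStalkEquiv
  stalkAlg)
open Groth.RefRank (secToLin germ_secToLin oneEquiv evalStalk_bijective isCoh_dual)
open Groth.CohTwo.SheafHomIso (toHomSh toHomSh_app currySec_val curryStalk_germ evalHom evalHom_tmulSec)

namespace Groth.Misc13.DualPull

variable {W X : Scheme.{u}}

/-- The stalk of a curried morphism, evaluated on a germ. -/
theorem evalStalk_toHomSh {F G H : X.Modules} (β : CohB1.tensorMod F H ⟶ G) {x : X} {U : X.Opens}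
    (hx : x ∈ U) (m : Γ(F, U)) (b : Γ(H, U)) :
    RefHull.evalStalk F G x (RefHull.stalkMapₗ (toHomSh β) x (germ H x hx b)) (germ F x hx m) =
      germ G x hx (β.app U (tmulSec m b)) := by
  have h1 : RefHull.stalkMapₗ (toHomSh β) x (germ H x hx b) =
      germ (RefHull.homSh F G) x hx ((toHomSh β).app U b) :=
    RefHull.stalkMapₗ_germ (toHomSh β) x hx b
  rw [h1, toHomSh_app]
  refine (congrArg (fun φ : RefHull.StalkHom F G x => φ (germ F x hx m))
    (RefHull.evalStalk_germ F G x hx _)).trans ?_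
  exact curryStalk_germ β hx m b

variable (g : W ⟶ X) (F : X.Modules)

local notation "g*" => Scheme.Modules.pullback g
local notation "𝒪" => Coh.structureModule

/-- `g^* O_X ≅ O_W`. -/
noncomputable def oneIso : (g*).obj (𝒪 X) ≅ 𝒪 W :=
  (Groth.PicAux.pullback_structure_iso g).some

/-- `g^*(F^∨) ⟶ (g^*F)^∨`. -/
noncomputable def comp : (g*).obj (RefHull.dual F) ⟶ RefHull.dual ((g*).obj F) :=
  toHomSh (Groth.CohBase.HomPull.pairMap g F (𝒪 X) ≫ (oneIso g).hom)

/-- The comparison on generators. -/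
theorem eval_comp (y : W) (h : (RefHull.dual F).presheaf.stalk (g y)) (t : F.presheaf.stalk (g y)) :
    RefHull.evalStalk ((g*).obj F) (𝒪 W) y
        (RefHull.stalkMapₗ (comp g F) y (pullGerm g (RefHull.dual F) y h)) (pullGerm g F y t) =
      RefHull.stalkMapₗ (oneIso g).hom y
        (pullGerm g (𝒪 X) y (RefHull.evalStalk F (𝒪 X) (g y) h t)) := by
  obtain ⟨U₀, hy₀, h₀, rfl⟩ := exists_germ (RefHull.dual F) (g y) h
  obtain ⟨U₁, hy₁, m₁, rfl⟩ := exists_germ F (g y) t
  have hy : g y ∈ U₀ ⊓ U₁ := ⟨hy₀, hy₁⟩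
  rw [← Groth.QCohMod.germ_res (RefHull.dual F) (inf_le_left : U₀ ⊓ U₁ ≤ U₀) (g y) hy h₀,
    ← Groth.QCohMod.germ_res F (inf_le_right : U₀ ⊓ U₁ ≤ U₁) (g y) hy m₁]
  generalize Groth.QCohMod.res (RefHull.dual F) (inf_le_left : U₀ ⊓ U₁ ≤ U₀) h₀ = h
  generalize Groth.QCohMod.res F (inf_le_right : U₀ ⊓ U₁ ≤ U₁) m₁ = m
  generalize U₀ ⊓ U₁ = U at hy h m
  have e1 : RefHull.evalStalk F (𝒪 X) (g y) (germ (RefHull.dual F) (g y) hy h) (germ F (g y) hy m) =
      germ (𝒪 X) (g y) hy (secToLin h m) := by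
    refine Eq.trans ?_ (germ_secToLin h m (g y) hy).symm
    exact congrArg (fun φ : RefHull.StalkHom F (𝒪 X) (g y) => φ (germ F (g y) hy m))
      (RefHull.evalStalk_germ F (𝒪 X) (g y) hy h)
  rw [e1, pullGerm_germ, pullGerm_germ, pullGerm_germ]
  refine (evalStalk_toHomSh _ (U := g ⁻¹ᵁ U) hy (pullSec g F m) (pullSec g (RefHull.dual F) h)).trans ?_
  rw [Scheme.Modules.Hom.comp_app, ConcreteCategory.comp_apply,
    Groth.CohBase.HomPull.pairMap_tmulSec g F (𝒪 X) m h]
  exact (RefHull.stalkMapₗ_germ (oneIso g).hom y (U := g ⁻¹ᵁ U) hy _).symm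

variable [IsLocallyNoetherian X] [IsLocallyNoetherian W] [Flat g]

set_option maxHeartbeats 800000 in
theorem bijective_stalk_comp {F : X.Modules} (hF : Coh.IsCoh F) (y : W) :
    Function.Bijective (RefHull.stalkMapₗ (comp g F) y) := by
  let _ := stalkAlg g y
  have : Module.Flat (X.presheaf.stalk (g y)) (W.presheaf.stalk y) := Flat.stalkMap g y
  have := Groth.RefRank.finite_stalkModule hF (g y)
  have : Module.FinitePresentation (X.presheaf.stalk (g y)) (F.presheaf.stalk (g y)) :=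
    Module.finitePresentation_of_finite _ _
  let R := X.presheaf.stalk (g y)
  let B := W.presheaf.stalk y
  let M := F.presheaf.stalk (g y)
  let P := (𝒪 X).presheaf.stalk (g y)
  -- the algebraic comparison
  let e1 := (Module.FinitePresentation.isBaseChange_map R M P B).equiv
  let e0 : B ⊗[R] (RefHull.dual F).presheaf.stalk (g y) ≃ₗ[B] B ⊗[R] (M →ₗ[R] P) :=
    TensorProduct.AlgebraTensorModule.congr (LinearEquiv.refl B B)
      (LinearEquiv.ofBijective (RefHull.evalStalk F (𝒪 X) (g y)) (evalStalk_bijective hF (g y)))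
  let eF := pullStalkEquiv g F y
  let eO : B ⊗[R] P ≃ₗ[B] (𝒪 W).presheaf.stalk y :=
    (pullStalkEquiv g (𝒪 X) y).trans (LinearEquiv.ofBijective (RefHull.stalkMapₗ (oneIso g).hom y)
      ((Groth.RefRank.isIso_iff_bijective_stalk (oneIso g).hom).mp inferInstance y))
  let e2 : (B ⊗[R] M →ₗ[B] B ⊗[R] P) ≃ₗ[B]
      (((g*).obj F).presheaf.stalk y →ₗ[B] (𝒪 W).presheaf.stalk y) := LinearEquiv.arrowCongr eF eO
  let E := ((pullStalkEquiv g (RefHull.dual F) y).symm.trans (e0.trans e1)).trans e2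
  have hFc : Coh.IsCoh ((g*).obj F) :=
    haveI := hF.1
    ⟨Groth.QCohMod.isQCoh_pullback_obj g F, Groth.QCohMod.isFT_pullback g F hF.2⟩
  have key : ∀ z, RefHull.evalStalk ((g*).obj F) (𝒪 W) y
      (RefHull.stalkMapₗ (comp g F) y z) = E z := by
    intro z
    obtain ⟨z, rfl⟩ := (pullStalkEquiv g (RefHull.dual F) y).surjective z
    show _ = e2 (e1 (e0 ((pullStalkEquiv g (RefHull.dual F) y).symm _)))
    rw [LinearEquiv.symm_apply_apply]
    induction z using TensorProduct.induction_on with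
    | zero => simp only [map_zero]
    | add a b ha hb => simp only [map_add, ha, hb]
    | tmul c h =>
      refine LinearMap.ext fun v => ?_
      obtain ⟨v, rfl⟩ := eF.surjective v
      have hr : e2 (e1 (e0 (c ⊗ₜ[R] h))) (eF v) = eO ((e1 (e0 (c ⊗ₜ[R] h))) v) := by
        simp only [e2, LinearEquiv.arrowCongr_apply, LinearEquiv.symm_apply_apply]
      rw [hr]
      have he1 : e1 (e0 (c ⊗ₜ[R] h)) = c • LinearMap.baseChange B (RefHull.evalStalk F (𝒪 X) (g y) h) := by
        simp only [e1, e0, TensorProduct.AlgebraTensorModule.congr_tmul, IsBaseChange.equiv_tmul,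
          LinearEquiv.refl_apply, LinearEquiv.ofBijective_apply, LinearMap.baseChangeHom_apply]
      rw [he1]
      clear hr
      induction v using TensorProduct.induction_on with
      | zero => simp only [map_zero]
      | add a b ha hb => simp only [map_add, ha, hb]
      | tmul b t =>
        rw [LinearMap.smul_apply, LinearMap.baseChange_tmul, map_smul]
        show RefHull.evalStalk ((g*).obj F) (𝒪 W) y (RefHull.stalkMapₗ (comp g F) y
            (pullStalkHom g (RefHull.dual F) y (c ⊗ₜ[R] h))) (pullStalkHom g F y (b ⊗ₜ[R] t)) =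
          c • RefHull.stalkMapₗ (oneIso g).hom y
            (pullStalkHom g (𝒪 X) y (b ⊗ₜ[R] RefHull.evalStalk F (𝒪 X) (g y) h t))
        rw [pullStalkHom_tmul, pullStalkHom_tmul, pullStalkHom_tmul, map_smul, map_smul, map_smul,
          LinearMap.smul_apply, map_smul, eval_comp g F y h t, smul_comm]
  have hb : Function.Bijective
      (RefHull.evalStalk ((g*).obj F) (𝒪 W) y ∘ RefHull.stalkMapₗ (comp g F) y) := by
    rw [show (RefHull.evalStalk ((g*).obj F) (𝒪 W) y ∘ RefHull.stalkMapₗ (comp g F) y) = E from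
      funext key]
    exact E.bijective
  exact (Function.Bijective.of_comp_iff' (evalStalk_bijective hFc y) _).1 hb

/-- `g^*(F^∨) ≅ (g^*F)^∨`. -/
noncomputable def dualIso {F : X.Modules} (hF : Coh.IsCoh F) :
    (g*).obj (RefHull.dual F) ≅ RefHull.dual ((g*).obj F) :=
  haveI : IsIso (comp g F) :=
    (Groth.RefRank.isIso_iff_bijective_stalk (comp g F)).mpr (bijective_stalk_comp g hF)
  asIso (comp g F)

omit [IsLocallyNoetherian W] [Flat g] g in
/-- The dual of a morphism. -/
noncomputable def dualHom {A B : X.Modules} (a : A ⟶ B) : RefHull.dual B ⟶ RefHull.dual A :=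
  toHomSh (((DCoh.tensorBi (X := X)).map a).app (RefHull.dual B) ≫ evalHom B (𝒪 X))

omit [IsLocallyNoetherian W] [Flat g] in
/-- Isomorphic coherent modules have isomorphic duals. -/
theorem nonempty_dual_congr {A B : X.Modules} (e : A ≅ B) (hB : Coh.IsCoh B) :
    Nonempty (RefHull.dual B ≅ RefHull.dual A) := by
  suffices H : ∀ x, Function.Bijective (RefHull.stalkMapₗ (dualHom e.hom) x) from
    ⟨@asIso _ _ _ _ (dualHom e.hom) ((Groth.RefRank.isIso_iff_bijective_stalk _).mpr H)⟩
  intro x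
  have hA : Coh.IsCoh A := Groth.QCohMod.isCoh_of_iso e.symm hB
  let eA : A.presheaf.stalk x ≃ₗ[X.presheaf.stalk x] B.presheaf.stalk x :=
    LinearEquiv.ofBijective (RefHull.stalkMapₗ e.hom x)
      ((Groth.RefRank.isIso_iff_bijective_stalk e.hom).mp inferInstance x)
  let E : RefHull.StalkHom B (𝒪 X) x ≃ₗ[X.presheaf.stalk x] RefHull.StalkHom A (𝒪 X) x :=
    LinearEquiv.arrowCongr eA.symm (LinearEquiv.refl _ _)
  have key : ∀ θ, RefHull.evalStalk A (𝒪 X) x (RefHull.stalkMapₗ (dualHom e.hom) x θ) =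
      E (RefHull.evalStalk B (𝒪 X) x θ) := by
    intro θ
    refine LinearMap.ext fun t => ?_
    obtain ⟨U₀, hx₀, h₀, rfl⟩ := exists_germ (RefHull.dual B) x θ
    obtain ⟨U₁, hx₁, m₁, rfl⟩ := exists_germ A x t
    have hx : x ∈ U₀ ⊓ U₁ := ⟨hx₀, hx₁⟩
    rw [← Groth.QCohMod.germ_res (RefHull.dual B) (inf_le_left : U₀ ⊓ U₁ ≤ U₀) x hx h₀,
      ← Groth.QCohMod.germ_res A (inf_le_right : U₀ ⊓ U₁ ≤ U₁) x hx m₁]
    generalize Groth.QCohMod.res (RefHull.dual B) (inf_le_left : U₀ ⊓ U₁ ≤ U₀) h₀ = h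
    generalize Groth.QCohMod.res A (inf_le_right : U₀ ⊓ U₁ ≤ U₁) m₁ = m
    generalize U₀ ⊓ U₁ = U at hx h m
    refine (evalStalk_toHomSh _ hx m h).trans ?_
    have e1 : RefHull.evalStalk B (𝒪 X) x (germ (RefHull.dual B) x hx h) = h.1 ⟨x, hx⟩ :=
      RefHull.evalStalk_germ B (𝒪 X) x hx h
    rw [e1]
    have e2 : (((DCoh.tensorBi (X := X)).map e.hom).app (RefHull.dual B)).app U (tmulSec m h) =
        tmulSec (e.hom.app U m) h := by
      have h := Groth.PicAux.tensorMap_app_tmulSec e.hom (𝟙 (RefHull.dual B)) U m h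
      have e' : KoszTw.tensorMap e.hom (𝟙 (RefHull.dual B)) =
          ((DCoh.tensorBi (X := X)).map e.hom).app (RefHull.dual B) := by
        rw [KoszTw.tensorMap, CategoryTheory.Functor.map_id]
        exact Category.comp_id _
      rw [e'] at h
      exact h
    erw [Scheme.Modules.Hom.comp_app, ConcreteCategory.comp_apply, e2, evalHom_tmulSec]
    refine (germ_secToLin h (e.hom.app U m) x hx).trans ?_
    exact congrArg (h.1 ⟨x, hx⟩) (RefHull.stalkMapₗ_germ e.hom x hx m).symm
  have hb : Function.Bijective (RefHull.evalStalk A (𝒪 X) x ∘ RefHull.stalkMapₗ (dualHom e.hom) x) := by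
    rw [show (RefHull.evalStalk A (𝒪 X) x ∘ RefHull.stalkMapₗ (dualHom e.hom) x) =
      E ∘ RefHull.evalStalk B (𝒪 X) x from funext key]
    exact E.bijective.comp (evalStalk_bijective hB x)
  exact (Function.Bijective.of_comp_iff' (evalStalk_bijective hA x) _).1 hb

/-- `g^*(F^**) ≅ (g^*F)^**`. -/
theorem nonempty_ddual_iso {F : X.Modules} (hF : Coh.IsCoh F) :
    Nonempty ((g*).obj (RefHull.ddual F) ≅ RefHull.ddual ((g*).obj F)) := by
  have hFc : Coh.IsCoh ((g*).obj F) :=
    haveI := hF.1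
    ⟨Groth.QCohMod.isQCoh_pullback_obj g F, Groth.QCohMod.isFT_pullback g F hF.2⟩
  obtain ⟨e⟩ := nonempty_dual_congr (dualIso g hF) (isCoh_dual hFc)
  exact ⟨dualIso g (isCoh_dual hF) ≪≫ e.symm⟩

end Groth.Misc13.DualPull
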