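import Groth.Prelude.Def_ClSub2
import Mathlib.AlgebraicGeometry.Modules.Sheaf

/-! Morphisms with `O_Y = f_* O_X`. -/

set_option autoImplicit false

universe u

open CategoryTheory AlgebraicGeometry

namespace Groth.Misc13.FibreSpace

lemma app_bijective {X Y : Scheme.{u}} (f : X ⟶ Y) (h : IsIso (ClSub.unitToPush f)) (U : Y.Opens) :
    Function.Bijective (f.app U) := by
  have h1 : IsIso ((ClSub.unitToPush f).app U) := inferInstance
  exact ConcreteCategory.bijective_of_isIso ((ClSub.unitToPush f).app U)

end Groth.Misc13.FibreSpace
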