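import Groth.Agent.Misc13.KRef1
import Groth.Agent.KTheory.ExtFiltSheaf
import Groth.Agent.KTheory.LambdaVb

/-!
Determinants in `K₀(Coh_{≤n})/K₀(Coh_{≤n-2})` of a normal scheme.
-/

set_option autoImplicit false
universe u

open CategoryTheory CategoryTheory.Limits AlgebraicGeometry TopologicalSpace ZeroObject
open scoped TensorProduct

namespace Groth.Misc13.KDet

open Groth.Misc13.KNilp Groth.KTheory Groth.KTheory.ExtFilt Groth.RefRank Groth.PicAux Groth.LocFree
open Groth.QCohMod (appₗ stalk germ)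
open Groth.Misc13.KRef1

/-- Exterior powers above the rank vanish. -/
theorem subsingleton_extPower {R M : Type u} [CommRing R] [AddCommGroup M] [Module R M] {n k : ℕ}
    (b : Module.Basis (Fin n) R M) (h : n < k) : Subsingleton (⋀[R]^k M) := by
  classical
  let b' := b.exteriorPower k
  have : IsEmpty (Set.powersetCard (Fin n) k) := by
    have hc : Nat.card (Set.powersetCard (Fin n) k) = 0 := by
      rw [Set.powersetCard.card, Nat.card_eq_fintype_card, Fintype.card_fin, Nat.choose_eq_zero_of_lt h]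
    exact Finite.card_eq_zero_iff.1 hc
  exact b'.repr.toEquiv.subsingleton

variable {X : Scheme.{u}}

/-- A complex exact on the sections over small affine opens around `x` is short exact at `x`. -/
theorem shortExact_stalk_of_affine (S : ShortComplex X.Modules) [Mono S.f] {U : X.Opens} {x : X}
    (hx : x ∈ U)
    (hex : ∀ (V : X.Opens), IsAffineOpen V → V ≤ U → ∀ s, S.g.app V s = 0 → ∃ k, S.f.app V k = s)
    (hsurj : ∀ (V : X.Opens), IsAffineOpen V → V ≤ U → Function.Surjective (S.g.app V)) :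
    (S.map (stalk x)).ShortExact := by
  refine { exact := ?_, mono_f := ?_, epi_g := ?_ }
  · rw [ShortComplex.ab_exact_iff]
    intro t ht
    obtain ⟨W, hxW, s, rfl⟩ := Groth.QCohMod.exists_germ S.X₂ x t
    have h0 : germ S.X₃ x hxW (S.g.app W s) = 0 := (Groth.QCohMod.stalk_map_germ S.g x hxW s).symm.trans ht
    obtain ⟨W', hxW', i, i', hW'⟩ := TopCat.Presheaf.germ_eq S.X₃.presheaf x hxW hxW (S.g.app W s) 0
      (h0.trans (map_zero (germ S.X₃ x hxW)).symm)
    obtain ⟨_, ⟨V, hV, rfl⟩, hxV, hVW⟩ :=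
      X.isBasis_affineOpens.exists_subset_of_mem_open (show x ∈ W' ⊓ U from ⟨hxW', hx⟩) (W' ⊓ U).2
    have hVW' : V ≤ W' := hVW.trans inf_le_left
    have hVU : V ≤ U := hVW.trans inf_le_right
    have hz : S.g.app V (res S.X₂ (hVW'.trans i.le) s) = 0 := by
      rw [app_res, ← res_res i.le hVW']
      refine (congr(res S.X₃ hVW' $hW')).trans ?_
      erw [map_zero]
      exact res_zero _
    obtain ⟨k, hk⟩ := hex V hV hVU _ hz
    refine ⟨germ S.X₁ x hxV k, ?_⟩
    refine (Groth.QCohMod.stalk_map_germ S.f x hxV k).trans ?_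
    rw [hk]
    exact Groth.QCohMod.germ_res S.X₂ _ x hxV s
  · exact (AddCommGrpCat.mono_iff_injective _).2 ((Groth.QCohMod.mono_iff_stalk S.f).1 inferInstance x)
  · refine (AddCommGrpCat.epi_iff_surjective _).2 fun t => ?_
    obtain ⟨W, hxW, s, rfl⟩ := Groth.QCohMod.exists_germ S.X₃ x t
    obtain ⟨_, ⟨V, hV, rfl⟩, hxV, hVW⟩ :=
      X.isBasis_affineOpens.exists_subset_of_mem_open (show x ∈ W ⊓ U from ⟨hxW, hx⟩) (W ⊓ U).2
    obtain ⟨m, hm⟩ := hsurj V hV (hVW.trans inf_le_right) (res S.X₃ (hVW.trans inf_le_left) s)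
    refine ⟨germ S.X₂ x hxV m, ?_⟩
    refine (Groth.QCohMod.stalk_map_germ S.g x hxV m).trans ?_
    rw [hm]
    exact Groth.QCohMod.germ_res S.X₃ _ x hxV s

section Noeth

variable [AlgebraicGeometry.IsNoetherian X]

theorem isCoh_extPow {E : X.Modules} (hE : Coh.IsCoh E) (i : ℕ) : Coh.IsCoh (extPow i E) := by
  have := hE.1
  refine ⟨isQCoh_extPow i E, ?_⟩
  have := isQCoh_extPow i E
  refine (Groth.QCohMod.isFT_iff _).mpr fun U hU => ?_
  have := Groth.QCohMod.finite_sections E hE.2 hU
  exact Module.Finite.of_surjective (extEquiv i E hU).toLinearMap (extEquiv i E hU).surjective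

variable [IsIntegral X] {δ : X → ℤ} {n : ℤ}

variable (δ) in
/-- A point of dimension at least `n - 1`. -/
def Good (n : ℤ) (x : X) : Prop := n - 2 < δ x

omit [IsIntegral X] in
theorem exists_stalkBasis_of_basis' {A : X.Modules} (hA : Coh.IsCoh A) {U : X.Opens} {k : ℕ}
    {w : Fin k → Γ(A, U)} (hw : Basis' A U w) {x : X} (hx : x ∈ U) (hk : k = 1) :
    ∃ t, IsStalkBasis A x t := by
  subst hk
  have := hA.1
  obtain ⟨bb⟩ := nonempty_stalk_basis hw hx
  refine ⟨bb 0, fun p q hpq => ?_, fun v => ⟨bb.repr v 0, ?_⟩⟩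
  · simpa using congrArg (fun v => bb.repr v 0) hpq
  · refine bb.repr.injective (Finsupp.ext fun j => ?_)
    obtain rfl : j = 0 := Subsingleton.elim _ _
    simp

theorem exists_basis_rank {F : X.Modules} (hF : Coh.IsCoh F) {x : X}
    [Module.Free (X.presheaf.stalk x) (F.presheaf.stalk x)] {r : ℕ}
    (hr : Module.finrank (X.presheaf.stalk (genericPoint ↥X))
      (F.presheaf.stalk (genericPoint ↥X)) = r) :
    ∃ (U : X.Opens) (s : Fin r → Γ(F, U)), x ∈ U ∧ Basis' F U s := by
  have := hF.1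
  obtain ⟨U, m, s, hxU, hs⟩ := Groth.KTheory.LocFree.exists_basis_of_free_stalk hF x
  have hη : genericPoint ↥X ∈ U := (genericPoint_specializes x).mem_open U.2 hxU
  obtain rfl : m = r := (finrank_stalk_of_basis hs hη).symm.trans hr
  exact ⟨U, s, hxU, hs⟩

/-- The key step: the determinant of an extension by a module of rank one. -/
theorem toQuot_extPow_eq (ha : ∀ x, δ x ≤ n) (S : ShortComplex X.Modules) (hS : S.ShortExact)
    (h₁ : Coh.IsCoh S.X₁) (h₂ : Coh.IsCoh S.X₂) (h₃ : Coh.IsCoh S.X₃) (r : ℕ)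
    (hb : ∀ x, Good δ n x → ∃ (U : X.Opens) (s : Fin 1 → Γ(S.X₁, U)) (t : Fin r → Γ(S.X₃, U)),
      x ∈ U ∧ Basis' S.X₁ U s ∧ Basis' S.X₃ U t) :
    Cyc.toK0CohQuot δ n (n - 2) (extPow (r + 1) S.X₂) =
      Cyc.toK0CohQuot δ n (n - 2) (CohB1.tensorMod (extPow 1 S.X₁) (extPow r S.X₃)) := by
  have := h₁.1
  have := h₂.1
  have := h₃.1
  have h : 1 + r = r + 1 := add_comm 1 r
  obtain ⟨φ, hφ⟩ := exists_phi S.f h
  obtain ⟨π, hπ⟩ := exists_piHom (A := S.X₁) S.g 1 r
  have cB := isCoh_extPow h₂ (r + 1)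
  have cP := isCoh_tensorMod (isCoh_extPow h₁ 1) (isCoh_extPow h₂ r)
  have cT := isCoh_tensorMod (isCoh_extPow h₁ 1) (isCoh_extPow h₃ r)
  have := cB.1
  have := cP.1
  have := cT.1
  have cKφ : Coh.IsCoh (kernel φ) := Groth.QCohMod.isCoh_kernel φ cP
  let K := kernel (kernel.ι φ ≫ π)
  let κ : K ⟶ CohB1.tensorMod (extPow 1 S.X₁) (extPow r S.X₂) :=
    kernel.ι (kernel.ι φ ≫ π) ≫ kernel.ι φ
  have cK : Coh.IsCoh K := by
    have := cKφ.1
    exact Groth.QCohMod.isCoh_kernel (kernel.ι φ ≫ π) cKφ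
  have z1 : κ ≫ φ = 0 := by
    rw [Category.assoc, kernel.condition, comp_zero]
  have z2 : κ ≫ π = 0 := by
    rw [Category.assoc, kernel.condition]
  -- on small affine opens `φ` and `π` are surjective with the same kernel
  have key : ∀ x, Good δ n x → ∃ U : X.Opens, x ∈ U ∧ ∀ V, IsAffineOpen V → V ≤ U →
      Function.Surjective (φ.app V) ∧ Function.Surjective (π.app V) ∧
        ∀ z, φ.app V z = 0 ↔ π.app V z = 0 := by
    intro x hx
    obtain ⟨U, s, t, hxU, hs, ht⟩ := hb x hx
    refine ⟨U, hxU, fun V hV hVU => ?_⟩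
    obtain ⟨hi, he, hsu⟩ := sections_exact hS hV
    let bQ := basisOfBasis' ht hVU
    let bL := basisOfBasis' hs hVU
    have : Module.Projective Γ(X, V) Γ(S.X₃, V) := Module.Projective.of_basis bQ
    have hz : ∀ z, φ.app V (tau 1 r S.X₁ S.X₂ hV z) = 0 ↔ mu (appₗ S.f V) h z = 0 := fun z => by
      rw [hφ V hV, LinearEquiv.map_eq_zero_iff]
    have hz' : ∀ z, π.app V (tau 1 r S.X₁ S.X₂ hV z) = 0 ↔ pi (appₗ S.g V) z = 0 := fun z => by
      rw [hπ V hV, LinearEquiv.map_eq_zero_iff]
    refine ⟨fun y => ?_, fun y => ?_, fun w => ?_⟩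
    · obtain ⟨y, rfl⟩ := (extEquiv (r + 1) S.X₂ hV).surjective y
      obtain ⟨z₀, hz₀⟩ := mu_surjective (f := appₗ S.f V) (zero_add (r + 1)) y
      have := subsingleton_extPower bQ (Nat.lt_succ_self r)
      have hp : pi (appₗ S.g V) z₀ = 0 := by
        have : Subsingleton ((⋀[Γ(X, V)]^0 Γ(S.X₁, V)) ⊗[Γ(X, V)] (⋀[Γ(X, V)]^(r + 1) Γ(S.X₃, V))) :=
          subsingleton_of_forall_eq 0 fun w => by
            induction w using TensorProduct.induction_on with
            | zero => rfl
            | tmul p q => rw [Subsingleton.elim q 0, TensorProduct.tmul_zero]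
            | add p q hp hq => rw [hp, hq, add_zero]
        exact Subsingleton.elim _ _
      obtain ⟨z, hz1⟩ := mu_mem_range_succ hi he hsu (zero_add (r + 1)) h hp
      exact ⟨tau 1 r S.X₁ S.X₂ hV z, by rw [hφ V hV, hz1, hz₀]⟩
    · obtain ⟨y, rfl⟩ := (tau 1 r S.X₁ S.X₃ hV).surjective y
      obtain ⟨w, rfl⟩ := LinearMap.lTensor_surjective (ESec 1 S.X₁ V)
        (exteriorPower.map_surjective (n := r) hsu) y
      exact ⟨_, hπ V hV w⟩
    · obtain ⟨z, rfl⟩ := (tau 1 r S.X₁ S.X₂ hV).surjective w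
      rw [hz, hz']
      refine ⟨pi_eq_zero_of_mu hi he hsu h, fun hp => ?_⟩
      cases r with
      | zero => rw [eq_zero_of_pi_eq_zero hi he hsu hp, map_zero]
      | succ r' =>
        obtain ⟨z', hz'⟩ := mu_mem_range_succ hi he hsu h (show 1 + 1 + r' = r' + 1 + 1 by omega) hp
        have := subsingleton_extPower bL (show 1 < 1 + 1 by omega)
        have : Subsingleton ((⋀[Γ(X, V)]^(1 + 1) Γ(S.X₁, V)) ⊗[Γ(X, V)] (⋀[Γ(X, V)]^r' Γ(S.X₂, V))) :=
          subsingleton_of_forall_eq 0 fun w => by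
            induction w using TensorProduct.induction_on with
            | zero => rfl
            | tmul p q => rw [Subsingleton.elim p 0, TensorProduct.zero_tmul]
            | add p q hp hq => rw [hp, hq, add_zero]
        rw [← hz', Subsingleton.elim z' 0, map_zero]
  have hker : ∀ (V : X.Opens) s, φ.app V s = 0 → π.app V s = 0 → ∃ k, κ.app V k = s := by
    intro V s h1 h2
    obtain ⟨u, rfl⟩ := Groth.QCohMod.exists_app_eq_of_mono_exact
      (S := ShortComplex.mk (kernel.ι φ) φ (kernel.condition φ))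
      (ShortComplex.exact_of_f_is_kernel _ (kernelIsKernel φ)) V s h1
    obtain ⟨k, rfl⟩ := Groth.QCohMod.exists_app_eq_of_mono_exact
      (S := ShortComplex.mk (kernel.ι (kernel.ι φ ≫ π)) (kernel.ι φ ≫ π) (kernel.condition _))
      (ShortComplex.exact_of_f_is_kernel _ (kernelIsKernel _)) V u h2
    exact ⟨k, rfl⟩
  have : Mono κ := mono_comp _ _
  have e1 := toQuot_rel_of_stalk (b := n - 2) ha (ShortComplex.mk κ φ z1) cK cP cB
    fun x hx => by
      obtain ⟨U, hxU, hU⟩ := key x hx
      exact shortExact_stalk_of_affine _ hxU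
        (fun V hV hVU s hs => hker V s hs (((hU V hV hVU).2.2 s).1 hs))
        (fun V hV hVU => (hU V hV hVU).1)
  have e2 := toQuot_rel_of_stalk (b := n - 2) ha (ShortComplex.mk κ π z2) cK cP cT
    fun x hx => by
      obtain ⟨U, hxU, hU⟩ := key x hx
      exact shortExact_stalk_of_affine _ hxU
        (fun V hV hVU s hs => hker V s (((hU V hV hVU).2.2 s).2 hs) hs)
        (fun V hV hVU => (hU V hV hVU).2.1)
  exact add_left_cancel (e1.symm.trans e2)

omit [IsIntegral X] in
theorem toQuot_tensor_congr {b : ℤ} (ha : ∀ x, δ x ≤ n) {A A' B : X.Modules} (hA : Coh.IsCoh A)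
    (hA' : Coh.IsCoh A') (hB : Coh.IsCoh B) (φ : A ⟶ A')
    (hφ : ∀ x, b < δ x → Function.Bijective ((stalk x).map φ)) :
    Cyc.toK0CohQuot δ n b (CohB1.tensorMod A B) = Cyc.toK0CohQuot δ n b (CohB1.tensorMod A' B) :=
  toQuot_eq_of_bijective ha (isCoh_tr B hA hB) (isCoh_tr B hA' hB) ((tr B).map φ)
    fun x hx => bijective_tr_map B φ x (hφ x hx)

variable (hX : Pi1.IsNormalScheme X) (hδ : Cyc.IsDimFun X δ)
include hX hδ

theorem dim_eq_one_of_good (hn : δ (genericPoint ↥X) = n) {x : X} (hx : Good δ n x)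
    (he : x ≠ genericPoint ↥X) : ringKrullDim (X.presheaf.stalk x) = 1 := by
  have := hx
  unfold Good at this
  refine (coheight_eq_one_iff x).1 (le_antisymm ?_ ?_)
  · refine Order.coheight_le fun p hp => ?_
    by_contra hlen
    have h2 : 2 ≤ p.length := by
      rw [not_le] at hlen
      exact_mod_cast Order.add_one_le_of_lt hlen
    have key : ∀ i j : Fin (p.length + 1), i < j → δ (p i) < δ (p j) := fun i j hij => by
      have h := p.strictMono hij
      exact lt_delta_of_specializes hδ (Scheme.le_iff_specializes.1 h.le) h.ne'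
    have a1 := key 0 ⟨1, by omega⟩ (by simp [Fin.lt_def])
    have a2 := key ⟨1, by omega⟩ ⟨2, by omega⟩ (by simp [Fin.lt_def])
    have a3 := delta_le_gen hδ (p ⟨2, by omega⟩)
    have a0 : p 0 = x := hp
    rw [a0] at a1
    omega
  · refine Order.one_le_iff_ne_zero.2 fun h0 => he ?_
    exact (((genSpec x).antisymm (Scheme.le_iff_specializes.mp
      (Order.coheight_eq_zero.mp h0 (le_of_specializes (genSpec x))))).eq).symm

/-- Torsion free modules are free at good points. -/
theorem free_of_torsionFree (hn : δ (genericPoint ↥X) = n) {F : X.Modules} (hF : Coh.IsCoh F) {x : X}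
    (hx : Good δ n x) [Module.IsTorsionFree (X.presheaf.stalk x) (F.presheaf.stalk x)] :
    Module.Free (X.presheaf.stalk x) (F.presheaf.stalk x) := by
  have := finite_stalkModule hF x
  by_cases he : x = genericPoint ↥X
  · subst he
    let _ : Field (X.presheaf.stalk (genericPoint ↥X)) := inferInstanceAs (Field X.functionField)
    exact Module.Free.of_divisionRing _ _
  · have := isDiscreteValuationRing_stalk hX (dim_eq_one_of_good hX hδ hn hx he)
    exact Module.free_of_finite_type_torsion_free'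

omit hX hδ in
theorem torsionFree_of_reflexive {F : X.Modules} (hF : Coh.IsCoh F) (hFr : RefHull.IsReflexive F)
    (x : X) : Module.IsTorsionFree (X.presheaf.stalk x) (F.presheaf.stalk x) := by
  have hinj := mspec_gen_injective hF hFr x
  exact Module.isTorsionFree_iff_smul_eq_zero.mpr fun r m h => by
    refine or_iff_not_imp_left.mpr fun hr => hinj ?_
    have h' := congrArg (mspec F (genSpec x)) h
    rw [mspec_smul, map_zero] at h'
    rw [map_zero]
    exact (isUnit_gen_iff.mpr fun e => hr (rspec_gen_injective x (e.trans (map_zero _).symm))).smul_eq_zero.mp h'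

theorem bijective_bidual_good {A : X.Modules} (hA : Coh.IsCoh A) {x : X}
    [Module.Free (X.presheaf.stalk x) (A.presheaf.stalk x)] :
    Function.Bijective ((stalk x).map (RefHull.bidualMap A)) := by
  have := finite_stalkModule hA x
  exact (bijective_bidual_iff hA x).2 (inferInstanceAs (Module.IsReflexive _ _))

omit hX in
theorem toQuot_tensor_ddual (hn : δ (genericPoint ↥X) = n) {A B : X.Modules} (hA : Coh.IsCoh A)
    (hB : Coh.IsCoh B)
    (bA : ∀ x, n - 2 < δ x → Function.Bijective ((stalk x).map (RefHull.bidualMap A)))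
    (bB : ∀ x, n - 2 < δ x → Function.Bijective ((stalk x).map (RefHull.bidualMap B)))
    (hA' : RefHull.IsRef1 (RefHull.ddual A)) (hB' : RefHull.IsRef1 (RefHull.ddual B))
    (gA : ∀ x, n - 2 < δ x → ∃ t, IsStalkBasis (RefHull.ddual A) x t)
    (gB : ∀ x, n - 2 < δ x → ∃ t, IsStalkBasis (RefHull.ddual B) x t) :
    Cyc.toK0CohQuot δ n (n - 2) (CohB1.tensorMod A B) =
      Cyc.toK0CohQuot δ n (n - 2) (RefPow.refTensor (RefHull.ddual A) (RefHull.ddual B)) := by
  have ha : ∀ x, δ x ≤ n := fun x => hn ▸ delta_le_gen hδ x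
  have c1 := isCoh_tensorMod hA'.1 hB
  have c2 := isCoh_tensorMod hA'.1 hB'.1
  have c1' := isCoh_tensorMod hB hA'.1
  have c2' := isCoh_tensorMod hB'.1 hA'.1
  have s1 := toQuot_tensor_congr ha hA hA'.1 hB (RefHull.bidualMap A) bA
  have s2 := toQuot_tensor_congr ha hB hB'.1 hA'.1 (RefHull.bidualMap B) bB
  obtain ⟨j, -⟩ := exists_braiding (RefHull.ddual A) B
  obtain ⟨j', -⟩ := exists_braiding (RefHull.ddual A) (RefHull.ddual B)
  rw [s1, toQuot_iso ha j c1 c1', s2, ← toQuot_iso ha j' c2 c2']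
  exact toQuot_refTensor_eq hδ hA' hB' hn gA gB

/-- `[A ⊗ B] + [O] = [A] + [B]` for coherent modules free of rank one at good points. -/
theorem toQuot_tensor_add (hn : δ (genericPoint ↥X) = n) {A B : X.Modules} (hA : Coh.IsCoh A)
    (hB : Coh.IsCoh B) (gA : ∀ x, Good δ n x → ∃ t, IsStalkBasis A x t)
    (gB : ∀ x, Good δ n x → ∃ t, IsStalkBasis B x t) :
    Cyc.toK0CohQuot δ n (n - 2) (CohB1.tensorMod A B) +
        Cyc.toK0CohQuot δ n (n - 2) (Coh.structureModule X) =
      Cyc.toK0CohQuot δ n (n - 2) A + Cyc.toK0CohQuot δ n (n - 2) B := by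
  have ha : ∀ x, δ x ≤ n := fun x => hn ▸ delta_le_gen hδ x
  have hη : Good δ n (genericPoint ↥X) := by unfold Good; omega
  have hA' : RefHull.IsRef1 (RefHull.ddual A) :=
    isRef1_of (isCoh_ddual hA) (isReflexive_ddual hA) (isRankOne_ddual hA (gA _ hη))
  have hB' : RefHull.IsRef1 (RefHull.ddual B) :=
    isRef1_of (isCoh_ddual hB) (isReflexive_ddual hB) (isRankOne_ddual hB (gB _ hη))
  have bij : ∀ {C : X.Modules}, Coh.IsCoh C → (∀ x, Good δ n x → ∃ t, IsStalkBasis C x t) →
      ∀ x, n - 2 < δ x → Function.Bijective ((stalk x).map (RefHull.bidualMap C)) := by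
    intro C hC g x hx
    obtain ⟨t, ht⟩ := g x hx
    have := free_of_basis ht
    exact bijective_bidual_good hX hδ hC
  have eA : Cyc.toK0CohQuot δ n (n - 2) A = Cyc.toK0CohQuot δ n (n - 2) (RefHull.ddual A) :=
    toQuot_eq_of_bijective ha hA (isCoh_ddual hA) _ (bij hA gA)
  have eB : Cyc.toK0CohQuot δ n (n - 2) B = Cyc.toK0CohQuot δ n (n - 2) (RefHull.ddual B) :=
    toQuot_eq_of_bijective ha hB (isCoh_ddual hB) _ (bij hB gB)
  have good : ∀ {L : X.Modules}, RefHull.IsRef1 L → ∀ x, n - 2 < δ x → ∃ t, IsStalkBasis L x t :=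
    fun hL x hx => exists_basis_of_delta hX hδ hL (by omega)
  have eC := toQuot_tensor_ddual hδ hn hA hB (bij hA gA) (bij hB gB) hA' hB' (good hA') (good hB')
  rw [eA, eB, eC]
  exact toQuot_refTensor_add hX hδ hA' hB' hn

/-- A rank one subsheaf with torsion free quotient. -/
theorem exists_extension {F : X.Modules} (hF : Coh.IsCoh F) {r : ℕ}
    (hr : Module.finrank (X.presheaf.stalk (genericPoint ↥X))
      (F.presheaf.stalk (genericPoint ↥X)) = r + 1) :
    ∃ S : ShortComplex X.Modules, S.ShortExact ∧ S.X₂ = F ∧ Coh.IsCoh S.X₁ ∧ Coh.IsCoh S.X₃ ∧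
      Module.finrank (X.presheaf.stalk (genericPoint ↥X)) (S.X₃.presheaf.stalk (genericPoint ↥X)) = r ∧
      ∀ x, Module.IsTorsionFree (X.presheaf.stalk x) (S.X₃.presheaf.stalk x) := by
  have := hF.1
  set η := genericPoint ↥X
  let _ : Field (X.presheaf.stalk η) := inferInstanceAs (Field X.functionField)
  have := finite_stalkModule hF η
  have : Module.Free (X.presheaf.stalk η) (F.presheaf.stalk η) := Module.Free.of_divisionRing _ _
  let b := Module.finBasisOfFinrankEq (X.presheaf.stalk η) (F.presheaf.stalk η) hr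
  let v := b 0
  let σ : (Coh.structureModule X).presheaf.stalk η →ₗ[X.presheaf.stalk η] F.presheaf.stalk η :=
    (LinearMap.toSpanSingleton _ _ v) ∘ₗ (oneEquiv η).symm.toLinearMap
  obtain ⟨U, hηU, φ, hφ⟩ := Groth.CohTwo.exists_hom_nhd (Coh.structureModule X) F
    Groth.QCohMod.isCoh_unit η σ
  obtain ⟨m, ψ, hψ⟩ := Groth.Agent.S9515.result X F (Coh.structureModule X) hF.1
    Groth.QCohMod.isCoh_unit (Groth.CohTwo.complIdeal U) U
    (Groth.CohTwo.coe_compl_support_complIdeal U) φ
  let N := (Dual3.idealMul (Groth.CohTwo.complIdeal U ^ m)).obj (Coh.structureModule X)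
  let ι : N ⟶ Coh.structureModule X :=
    Dual3.idealMulι (Groth.CohTwo.complIdeal U ^ m) (Coh.structureModule X)
  have hN : Coh.IsCoh N := Groth.CohTwo.isCoh_idealMul _ _ Groth.QCohMod.isCoh_unit
  have := hN.1
  have hC : Coh.IsCoh (cokernel ψ) := Groth.QCohMod.isCoh_cokernel ψ hF
  have := hC.1
  let g : F ⟶ RefHull.ddual (cokernel ψ) := cokernel.π ψ ≫ RefHull.bidualMap (cokernel ψ)
  have hD := isCoh_ddual hC
  have := hD.1
  have cK : Coh.IsCoh (kernel g) := Groth.QCohMod.isCoh_kernel g hF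
  have hCg : Coh.IsCoh (cokernel g) := Groth.QCohMod.isCoh_cokernel g hD
  have := hCg.1
  have cI : Coh.IsCoh (Abelian.image g) := Groth.QCohMod.isCoh_kernel (cokernel.π g) hD
  let S := ShortComplex.mk (kernel.ι g) (Abelian.factorThruImage g) (by
    rw [← cancel_mono (Abelian.image.ι g)]; simp)
  have hS : S.ShortExact :=
    { exact := by
        apply ShortComplex.exact_of_f_is_kernel
        refine KernelFork.IsLimit.ofι' _ _ fun {W'} k h => ⟨kernel.lift g k ?_, kernel.lift_ι _ _ _⟩
        have := h =≫ Abelian.image.ι g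
        simpa [S] using this
      mono_f := inferInstanceAs (Mono (kernel.ι g))
      epi_g := inferInstanceAs (Epi (Abelian.factorThruImage g)) }
  refine ⟨S, hS, rfl, cK, cI, ?_, fun x => ?_⟩
  · -- rank of the quotient at the generic point
    let gη := Groth.KTheory.LocFree.stalkₗ g η
    let pη := Groth.KTheory.LocFree.stalkₗ (cokernel.π ψ) η
    let iη := Groth.KTheory.LocFree.stalkₗ (Abelian.image.ι g) η
    let fη := Groth.KTheory.LocFree.stalkₗ (Abelian.factorThruImage g) η
    have hi : Function.Injective iη :=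
      (Groth.QCohMod.mono_iff_stalk (Abelian.image.ι g)).1 inferInstance η
    have hfs : Function.Surjective fη :=
      (Groth.QCohMod.epi_iff_stalk (Abelian.factorThruImage g)).1 inferInstance η
    have hps : Function.Surjective pη :=
      (Groth.QCohMod.epi_iff_stalk (cokernel.π ψ)).1 inferInstance η
    have hc : ∀ v, iη (fη v) = gη v := fun v => by
      have e : (stalk η).map (Abelian.factorThruImage g) ≫ (stalk η).map (Abelian.image.ι g) =
          (stalk η).map g := by rw [← Functor.map_comp, Abelian.image.fac]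
      exact congr($e v)
    have hg : ∀ v, gη v = RefHull.stalkMapₗ (RefHull.bidualMap (cokernel ψ)) η (pη v) := fun v => by
      have e : (stalk η).map (cokernel.π ψ) ≫ (stalk η).map (RefHull.bidualMap (cokernel ψ)) =
          (stalk η).map g := by rw [← Functor.map_comp]
      exact (congr($e v)).symm
    -- the kernel of `gη` is the line through `v`
    have hker : LinearMap.ker fη = Submodule.span (X.presheaf.stalk η) {v} := by
      have hz : LinearMap.ker fη = LinearMap.ker pη := by
        ext w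
        simp only [LinearMap.mem_ker]
        rw [← hi.eq_iff, hc, map_zero, hg, ← (bidual_gen_bijective hC).1.eq_iff (b := 0), map_zero]
      rw [hz]
      have hex := (ShortComplex.exact_of_g_is_cokernel
        (ShortComplex.mk _ _ (cokernel.condition ψ)) (cokernelIsCokernel ψ)).map (stalk η)
      rw [ShortComplex.ab_exact_iff] at hex
      have hψ' := fun b => Groth.CohTwo.stalk_map_of_restrict_eq ι ψ φ hψ hηU σ hφ b
      have hbij := Groth.CohTwo.bijective_stalk_idealMulι (Groth.CohTwo.complIdeal U ^ m)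
        (Coh.structureModule X) (Groth.CohTwo.notMem_support_pow _
          (Groth.CohTwo.notMem_support_complIdeal U hηU) m)
      ext w
      rw [Submodule.mem_span_singleton, LinearMap.mem_ker]
      constructor
      · intro hw
        obtain ⟨u, rfl⟩ := hex w hw
        exact ⟨(oneEquiv η).symm ((stalk η).map ι u), (hψ' u).symm⟩
      · rintro ⟨c, rfl⟩
        obtain ⟨u, hu⟩ := hbij.2 (oneEquiv η c)
        have e2 : (stalk η).map ψ u = c • v := by
          rw [hψ' u]
          show (LinearMap.toSpanSingleton _ _ v) ((oneEquiv η).symm ((stalk η).map ι u)) = c • v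
          rw [hu]
          exact congrArg (fun t => t • v) ((oneEquiv η).symm_apply_apply c)
        rw [← e2]
        have e : (stalk η).map ψ ≫ (stalk η).map (cokernel.π ψ) = 0 := by
          rw [← Functor.map_comp, cokernel.condition, Functor.map_zero]
        exact congr($e u)
    have h2 := LinearMap.finrank_range_add_finrank_ker fη
    rw [LinearMap.range_eq_top.2 hfs, finrank_top, hker, finrank_span_singleton (b.ne_zero 0)] at h2
    have h3 : Module.finrank (X.presheaf.stalk η) (F.presheaf.stalk η) = r + 1 := hr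
    change Module.finrank (X.presheaf.stalk η) ((Abelian.image g).presheaf.stalk η) = r
    omega
  · have := torsionFree_of_reflexive hD (isReflexive_ddual hC) x
    have hi : Function.Injective (Groth.KTheory.LocFree.stalkₗ (Abelian.image.ι g) x) :=
      (Groth.QCohMod.mono_iff_stalk (Abelian.image.ι g)).1 inferInstance x
    exact hi.moduleIsTorsionFree _ fun c w => map_smul _ c w

/-- `[F] + [O] = r [O] + [det F]` modulo classes supported in dimension `≤ n - 2`. -/
theorem toQuot_det_add (hn : δ (genericPoint ↥X) = n) : ∀ (r : ℕ) (F : X.Modules), Coh.IsCoh F →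
    (∀ x, Good δ n x → Module.Free (X.presheaf.stalk x) (F.presheaf.stalk x)) →
    Module.finrank (X.presheaf.stalk (genericPoint ↥X)) (F.presheaf.stalk (genericPoint ↥X)) = r →
    Cyc.toK0CohQuot δ n (n - 2) F + Cyc.toK0CohQuot δ n (n - 2) (Coh.structureModule X) =
      r • Cyc.toK0CohQuot δ n (n - 2) (Coh.structureModule X) +
        Cyc.toK0CohQuot δ n (n - 2) (extPow r F) := by
  have ha : ∀ x, δ x ≤ n := fun x => hn ▸ delta_le_gen hδ x
  intro r
  induction r with
  | zero =>
    intro F hF hfree hr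
    have := hF.1
    have h0 : Cyc.toK0CohQuot δ n (n - 2) F = 0 := by
      refine toQuot_zero δ n (n - 2) ⟨hF, fun x hx => ?_⟩
      by_contra hgood
      have hgood' : Good δ n x := not_le.1 hgood
      have := hfree x hgood'
      obtain ⟨U, s, hxU, hs⟩ := exists_basis_rank hF (x := x) hr
      obtain ⟨bb⟩ := nonempty_stalk_basis hs hxU
      exact not_nontrivial_iff_subsingleton.2 bb.repr.toEquiv.subsingleton hx
    obtain ⟨e⟩ := Groth.KTheory.LambdaVb.nonempty_extPow_zero F
    rw [h0, zero_add, zero_nsmul, zero_add, toQuot_iso ha e (isCoh_extPow hF 0) Groth.QCohMod.isCoh_unit]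
  | succ r ih =>
    intro F hF hfree hr
    obtain ⟨S, hS, hX₂, c1, c3, hr3, htf⟩ := exists_extension hX hδ hF hr
    subst hX₂
    have := c1.1
    have := c3.1
    have f3 : ∀ x, Good δ n x → Module.Free (X.presheaf.stalk x) (S.X₃.presheaf.stalk x) :=
      fun x hx => haveI := htf x; free_of_torsionFree hX hδ hn c3 hx
    have f1 : ∀ x, Good δ n x → Module.Free (X.presheaf.stalk x) (S.X₁.presheaf.stalk x) :=
      fun x hx => haveI := hfree x hx; haveI := f3 x hx; Groth.KTheory.LocFree.free_stalk_left hS x c1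
    have hr1 : Module.finrank (X.presheaf.stalk (genericPoint ↥X))
        (S.X₁.presheaf.stalk (genericPoint ↥X)) = 1 := by
      let _ : Field (X.presheaf.stalk (genericPoint ↥X)) := inferInstanceAs (Field X.functionField)
      have := finite_stalkModule hF (genericPoint ↥X)
      obtain ⟨hi, he, hs⟩ := Groth.KTheory.LocFree.stalk_exact hS (genericPoint ↥X)
      have h2 := LinearMap.finrank_range_add_finrank_ker (Groth.KTheory.LocFree.stalkₗ S.g (genericPoint ↥X))
      rw [LinearMap.range_eq_top.2 hs, finrank_top, he.linearMap_ker_eq,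
        LinearMap.finrank_range_of_inj hi] at h2
      omega
    have hb : ∀ x, Good δ n x → ∃ (U : X.Opens) (s : Fin 1 → Γ(S.X₁, U)) (t : Fin r → Γ(S.X₃, U)),
        x ∈ U ∧ Basis' S.X₁ U s ∧ Basis' S.X₃ U t := by
      intro x hx
      have := f1 x hx
      have := f3 x hx
      obtain ⟨U₁, s, h1, hs⟩ := exists_basis_rank c1 (x := x) hr1
      obtain ⟨U₃, t, h3, ht⟩ := exists_basis_rank c3 (x := x) hr3
      exact ⟨U₁ ⊓ U₃, _, _, ⟨h1, h3⟩, hs.res' inf_le_left, ht.res' inf_le_right⟩
    have key := toQuot_extPow_eq ha S hS c1 hF c3 r hb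
    obtain ⟨e⟩ := Groth.KTheory.LambdaVb.nonempty_extPow_one S.X₁
    have cE := isCoh_extPow c3 r
    have gA : ∀ x, Good δ n x → ∃ t, IsStalkBasis (extPow 1 S.X₁) x t := by
      intro x hx
      obtain ⟨U, s, t, hxU, hs, -⟩ := hb x hx
      obtain ⟨_, ⟨V, hV, rfl⟩, hxV, hVU⟩ := X.isBasis_affineOpens.exists_subset_of_mem_open hxU U.2
      obtain ⟨w, hw⟩ := exists_basis'_extPow hV (hs.res' hVU) 1
      exact exists_stalkBasis_of_basis' (isCoh_extPow c1 1) hw hxV (Nat.choose_self 1)
    have gB : ∀ x, Good δ n x → ∃ t, IsStalkBasis (extPow r S.X₃) x t := by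
      intro x hx
      obtain ⟨U, s, t, hxU, -, ht⟩ := hb x hx
      obtain ⟨_, ⟨V, hV, rfl⟩, hxV, hVU⟩ := X.isBasis_affineOpens.exists_subset_of_mem_open hxU U.2
      obtain ⟨w, hw⟩ := exists_basis'_extPow hV (ht.res' hVU) r
      exact exists_stalkBasis_of_basis' cE hw hxV (Nat.choose_self r)
    have k2 := toQuot_tensor_add hX hδ hn (isCoh_extPow c1 1) cE gA gB
    rw [← key, toQuot_iso ha e (isCoh_extPow c1 1) c1] at k2
    have hq := toQuot_rel (b := n - 2) ha S hS c1 hF c3
    have hih := ih S.X₃ c3 f3 hr3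
    rw [hq, succ_nsmul]
    calc _ = Cyc.toK0CohQuot δ n (n - 2) S.X₁ + (Cyc.toK0CohQuot δ n (n - 2) S.X₃ +
          Cyc.toK0CohQuot δ n (n - 2) (Coh.structureModule X)) := by abel
      _ = r • Cyc.toK0CohQuot δ n (n - 2) (Coh.structureModule X) +
          (Cyc.toK0CohQuot δ n (n - 2) S.X₁ + Cyc.toK0CohQuot δ n (n - 2) (extPow r S.X₃)) := by
        rw [hih]; abel
      _ = _ := by rw [← k2]; abel

end Noeth

end Groth.Misc13.KDet
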