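import Groth.Agent.Misc13.KInt
import Groth.Agent.RefRank.Divisor
import Groth.Agent.RefRank.RefPowLoc

/-!
Additive functions on `K₀(Coh X)` killing small classes are affine along reflexive powers.
-/

set_option autoImplicit false
universe u

open CategoryTheory CategoryTheory.Limits AlgebraicGeometry TopologicalSpace

namespace Groth.Misc13.KIntRef

open Groth.Misc13.KNilp Groth.Misc13.KC1 Groth.KTheory Groth.RefRank Groth.QCohMod

variable {X : Scheme.{u}}

theorem isInvertible_tensor {A B : X.Modules} (hA : PicF.IsInvertible A) (hB : PicF.IsInvertible B) :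
    PicF.IsInvertible (CohB1.tensorMod A B) :=
  Groth.LocFree.isInvertible_iff_ofRank_one.2 (Groth.LocFree.isFinLocFreeOfRank_tensorMod
    (Groth.LocFree.isInvertible_iff_ofRank_one.1 hA) (Groth.LocFree.isInvertible_iff_ofRank_one.1 hB))

theorem isInvertible_inv {L M : X.Modules}
    (h : Nonempty (CohB1.tensorMod L M ≅ Coh.structureModule X)) : PicF.IsInvertible M :=
  Groth.PicAux.isInvertible_of_tensor_iso ((Groth.PicAux.exists_braiding M L).choose ≪≫ h.some)

theorem invertible_cons {n : ℕ} {A : X.Modules} {M : Fin n → X.Modules} (hA : PicF.IsInvertible A)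
    (hM : ∀ i, PicF.IsInvertible (M i)) (i : Fin (n + 1)) :
    PicF.IsInvertible ((Fin.cons A M : Fin (n + 1) → X.Modules) i) := by
  induction i using Fin.cases with
  | zero => exact hA
  | succ i => exact hM i

variable [AlgebraicGeometry.IsNoetherian X]

theorem prodC1_cons {n : ℕ} (A : X.Modules) (M : Fin n → X.Modules) (hA : PicF.IsInvertible A)
    (hM : ∀ i, PicF.IsInvertible (M i)) (c : SGA6.Kcoh X) :
    prodC1 (Fin.cons A M) (invertible_cons hA hM) c = prodC1 M hM (c1 hA c) := rfl

variable [IsIntegral X] {δ : X → ℤ} (hδ : Cyc.IsDimFun X δ)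
include hδ

/-- Classes of negative dimension vanish. -/
theorem eq_zero_of_neg {n : ℕ} (hdim : topologicalKrullDim X = (n : ℕ))
    (hn : δ (genericPoint ↥X) = n) {m : ℤ} (hm : m < 0) {c : SGA6.Kcoh X}
    (hc : c ∈ supSub {x | δ x ≤ m}) : c = 0 :=
  supSub_eq_bot (Set.eq_empty_of_forall_notMem fun x hx => by
    have := delta_nonneg hδ n hdim hn x
    have hx' : δ x ≤ m := hx
    omega) hc

variable (hX : Pi1.IsNormalScheme X) {β : Type*} [AddCommGroup β] (f : SGA6.Kcoh X →+ β)
  (hf : ∀ c ∈ supSub {x | δ x ≤ δ (genericPoint ↥X) - 2}, f c = 0)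
include hX hf

theorem map_refTensor {L₁ L₂ : X.Modules} (h₁ : RefHull.IsRef1 L₁) (h₂ : RefHull.IsRef1 L₂) :
    f (kc (RefPow.refTensor L₁ L₂)) = f (kc L₁) + f (kc L₂) - f (kc (Coh.structureModule X)) := by
  have h := hf _ (refTensor_sub_mem hδ hX h₁ h₂)
  rw [map_sub, map_add, map_add, sub_eq_zero] at h
  rw [h, add_sub_cancel_right]

theorem map_refPow {L : X.Modules} (hL : RefHull.IsRef1 L) : ∀ m : ℕ,
    f (kc (RefPow.refPow L m)) =
      f (kc (Coh.structureModule X)) + m • (f (kc L) - f (kc (Coh.structureModule X)))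
  | 0 => by simp
  | 1 => by simp
  | m + 2 => by
    rw [RefPow.refPow_succ_succ, map_refTensor hδ hX f hf (isRef1_refPow hL (m + 1)) hL,
      map_refPow hL (m + 1), succ_nsmul _ (m + 1)]
    abel

theorem map_dual {L : X.Modules} (hL : RefHull.IsRef1 L) :
    f (kc (RefHull.dual L)) - f (kc (Coh.structureModule X)) =
      -(f (kc L) - f (kc (Coh.structureModule X))) := by
  obtain ⟨d, hd⟩ := exists_hasDiv hL
  have hd' := hasDiv_dual hX hL hd
  have h1 := isRef1_refTensor hL (isRef1_dual hL)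
  have h2 := hasDiv_refTensor hX hL (isRef1_dual hL) hd hd'
  simp only [add_neg_cancel] at h2
  obtain ⟨e⟩ := nonempty_iso_of_hasDiv hX h1 isRef1_structure h2 hasDiv_structure
  have h3 := map_refTensor hδ hX f hf hL (isRef1_dual hL)
  rw [kc_iso e h1.1 isRef1_structure.1] at h3
  rw [eq_sub_iff_add_eq] at h3
  rw [neg_sub, sub_eq_sub_iff_add_eq_add, h3]
  abel

omit hδ hX hf

section Twist

omit [AlgebraicGeometry.IsNoetherian X] in
/-- `L^{⊗ j} ⊗ G`, built by successive tensoring on the left. -/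
noncomputable def tw (L G : X.Modules) : ℕ → X.Modules
  | 0 => G
  | j + 1 => CohB1.tensorMod L (tw L G j)

omit [IsIntegral X] in
theorem isCoh_tw {L G : X.Modules} (hL : PicF.IsInvertible L) (hG : Coh.IsCoh G) :
    ∀ j, Coh.IsCoh (tw L G j)
  | 0 => hG
  | j + 1 => Groth.RefRank.isCoh_tensorMod (isCoh_of_invertible hL) (isCoh_tw hL hG j)

omit [IsIntegral X] in
theorem kc_tw {L G : X.Modules} (hL : PicF.IsInvertible L) (hG : Coh.IsCoh G) : ∀ j,
    kc (tw L G j) = (fun x => x - c1 hL x)^[j] (kc G)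
  | 0 => rfl
  | j + 1 => by
    rw [Function.iterate_succ_apply', ← kc_tw hL hG j, c1_kc hL (isCoh_tw hL hG j), sub_sub_cancel]
    rfl

theorem isRef1_tensor_invertible {L G : X.Modules} (hL : PicF.IsInvertible L)
    (hG : RefHull.IsRef1 G) : RefHull.IsRef1 (CohB1.tensorMod L G) := by
  have hc := Groth.RefRank.isCoh_tensorMod (isCoh_of_invertible hL) hG.1
  obtain ⟨t, ht⟩ := exists_isStalkBasis_of_isInvertible hL (genericPoint ↥X)
  refine isRef1_of hc ((isReflexive_iff_forall hc).2 fun x => ?_)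
    (isRankOne_tensor ⟨t, ht⟩ (isRankOne_of_genInvertible hG.2.2))
  obtain ⟨u, hu⟩ := exists_isStalkBasis_of_isInvertible hL x
  have : Module.IsReflexive (X.presheaf.stalk x) (G.presheaf.stalk x) :=
    (isReflexive_iff_forall hG.1).1 hG.2.1 x
  exact Module.equiv (((TensorProduct.lid _ _).symm.trans (TensorProduct.congr
    (LinearEquiv.ofBijective (LinearMap.toSpanSingleton (X.presheaf.stalk x) _ u) hu)
    (LinearEquiv.refl _ _))).trans (stalkTensorEquiv L G x))

theorem isRef1_of_invertible {L : X.Modules} (hL : PicF.IsInvertible L) : RefHull.IsRef1 L := by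
  have hc := isCoh_of_invertible hL
  obtain ⟨t, ht⟩ := exists_isStalkBasis_of_isInvertible hL (genericPoint ↥X)
  refine isRef1_of hc ((isReflexive_iff_forall hc).2 fun x => ?_) ⟨t, ht⟩
  obtain ⟨u, hu⟩ := exists_isStalkBasis_of_isInvertible hL x
  exact Module.equiv
    (LinearEquiv.ofBijective (LinearMap.toSpanSingleton (X.presheaf.stalk x) _ u) hu)

theorem hasDiv_tensor_invertible (hX : Pi1.IsNormalScheme X) {L G : X.Modules}
    (hL : PicF.IsInvertible L) (hG : RefHull.IsRef1 G) {d e : X → ℤ} (h : HasDiv L d)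
    (h' : HasDiv G e) : HasDiv (CohB1.tensorMod L G) (fun y => d y + e y) := by
  have hT := isRef1_tensor_invertible hL hG
  have : IsIso (RefHull.bidualMap (CohB1.tensorMod L G)) := hT.2.1
  exact hasDiv_iso hX (isRef1_refTensor (isRef1_of_invertible hL) hG) hT
    (asIso (RefHull.bidualMap (CohB1.tensorMod L G))).symm
    (hasDiv_refTensor hX (isRef1_of_invertible hL) hG h h')

theorem isRef1_tw {L G : X.Modules} (hL : PicF.IsInvertible L) (hG : RefHull.IsRef1 G) :
    ∀ j, RefHull.IsRef1 (tw L G j)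
  | 0 => hG
  | j + 1 => isRef1_tensor_invertible hL (isRef1_tw hL hG j)

theorem hasDiv_tw (hX : Pi1.IsNormalScheme X) {L G : X.Modules} (hL : PicF.IsInvertible L)
    (hG : RefHull.IsRef1 G) {d e : X → ℤ} (h : HasDiv L d) (h' : HasDiv G e) :
    ∀ j : ℕ, HasDiv (tw L G j) (fun y => j * d y + e y)
  | 0 => by simpa using! h'
  | j + 1 => by
    have := hasDiv_tensor_invertible hX hL (isRef1_tw hL hG j) h (hasDiv_tw hX hL hG h h' j)
    rw [show (fun y => ((j + 1 : ℕ) : ℤ) * d y + e y) = fun y => d y + ((j : ℤ) * d y + e y) from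
      funext fun y => by push_cast; ring]
    exact this

theorem hasDiv_refPow (hX : Pi1.IsNormalScheme X) {F : X.Modules} (hF : RefHull.IsRef1 F)
    {d : X → ℤ} (h : HasDiv F d) : ∀ m : ℕ, HasDiv (RefPow.refPow F m) (fun y => m * d y)
  | 0 => by simpa using! hasDiv_structure (X := X)
  | 1 => by simpa using! h
  | m + 2 => by
    have := hasDiv_refTensor hX (isRef1_refPow hF (m + 1)) hF (hasDiv_refPow hX hF h (m + 1)) h
    rw [show (fun y => ((m + 2 : ℕ) : ℤ) * d y) = fun y => ((m + 1 : ℕ) : ℤ) * d y + d y from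
      funext fun y => by push_cast; ring]
    exact this

end Twist

/-- Second order expansion of the powers of `id - c`. -/
theorem iterate_expand {A : Type*} [AddCommGroup A] (c : A →+ A) (P : A →+ ℤ)
    (h : ∀ x, P (c (c (c x))) = 0) : ∀ (j : ℕ) (x : A),
    2 * P ((fun x => x - c x)^[j] x) =
      2 * P x - 2 * (j : ℤ) * P (c x) + (j : ℤ) * ((j : ℤ) - 1) * P (c (c x))
  | 0, x => by simp
  | j + 1, x => by
    rw [Function.iterate_succ_apply, iterate_expand c P h j]
    simp only [map_sub, h]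
    push_cast
    ring

end Groth.Misc13.KIntRef
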