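import Groth.Agent.Misc13.FrobDiv
import Groth.Agent.Misc13.KIntRef
import Groth.Agent.Misc13.KDet
import Mathlib.RingTheory.Flat.Equalizer

/-!
Additive functions killing classes of dimension `≤ n - 2` are affine in `p ^ m` along iterated Frobenius
pullbacks.
-/

set_option autoImplicit false
universe u

open CategoryTheory CategoryTheory.Limits AlgebraicGeometry TopologicalSpace
open scoped TensorProduct

namespace Groth.Misc13.FrobAffine

open Groth.QCohMod (pullGerm pullGerm_germ pullStalkHom pullStalkHom_tmul pullStalkEquiv stalkAlg stalk germ)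
open Groth.RefRank Groth.Misc13.FrobDiv Groth.Misc13.KNilp Groth.KTheory
open Groth.KTheory.LocFree (stalkₗ)

variable {X : Scheme.{u}} (p : ℕ) [Fact p.Prime] [FrobSch.IsCharP X p]

/-- Frobenius pullback of modules. -/
noncomputable abbrev pb : X.Modules ⥤ X.Modules := Scheme.Modules.pullback (FrobSch.frob X p)

theorem stalk_map_pg {M N : X.Modules} (φ : M ⟶ N) (x : X) (t : M.presheaf.stalk x) :
    stalkₗ ((pb p).map φ) x (pg p M x t) = pg p N x (stalkₗ φ x t) := by
  obtain ⟨U, hx, m, rfl⟩ := Groth.QCohMod.exists_germ M x t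
  have h := (Scheme.Modules.pullbackPushforwardAdjunction (FrobSch.frob X p)).unit.naturality φ
  have h' := congr(($h).app U m)
  have e2 : stalkₗ φ x (germ M x hx m) = germ N x hx (φ.app U m) := Groth.QCohMod.stalk_map_germ φ x hx m
  rw [e2]
  refine (congrArg _ (pullGerm_germ (FrobSch.frob X p) M x hx m)).trans ?_
  refine (Groth.QCohMod.stalk_map_germ ((pb p).map φ) x (U := FrobSch.frob X p ⁻¹ᵁ U) hx _).trans ?_
  refine Eq.trans ?_ (pullGerm_germ (FrobSch.frob X p) N x hx _).symm
  exact congrArg _ h'.symm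

/-- The stalk of a pulled back morphism is the base change of its stalk. -/
theorem stalk_map_equiv {M N : X.Modules} (φ : M ⟶ N) (x : X)
    (z : letI := stalkAlg (FrobSch.frob X p) x
      X.presheaf.stalk x ⊗[X.presheaf.stalk (FrobSch.frob X p x)]
        M.presheaf.stalk (FrobSch.frob X p x)) :
    letI := stalkAlg (FrobSch.frob X p) x
    stalkₗ ((pb p).map φ) x (pullStalkHom (FrobSch.frob X p) M x z) =
      pullStalkHom (FrobSch.frob X p) N x
        ((stalkₗ φ (FrobSch.frob X p x)).lTensor (X.presheaf.stalk x) z) := by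
  let := stalkAlg (FrobSch.frob X p) x
  induction z using TensorProduct.induction_on with
  | zero => rw [map_zero, map_zero, map_zero, map_zero]
  | tmul a t =>
    rw [LinearMap.lTensor_tmul, pullStalkHom_tmul, pullStalkHom_tmul, map_smul]
    exact congrArg (a • ·) (stalk_map_pg p φ x t)
  | add q r hq hr => rw [map_add, map_add, map_add, map_add, hq, hr]

theorem bijective_pb {M N : X.Modules} (φ : M ⟶ N) (x : X)
    (h : Function.Bijective (stalkₗ φ x)) : Function.Bijective (stalkₗ ((pb p).map φ) x) := by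
  let := stalkAlg (FrobSch.frob X p) x
  let e := LinearEquiv.ofBijective (stalkₗ φ (FrobSch.frob X p x)) h
  have e1 := (pullStalkEquiv (FrobSch.frob X p) M x).bijective
  have e2 := (pullStalkEquiv (FrobSch.frob X p) N x).bijective
  have e3 : Function.Bijective ((stalkₗ φ (FrobSch.frob X p x)).lTensor (X.presheaf.stalk x)) :=
    (LinearEquiv.lTensor (X.presheaf.stalk x) e).bijective
  refine (Function.Bijective.of_comp_iff _ e1).1 ?_
  convert e2.comp e3 using 1
  exact funext fun z => stalk_map_equiv p φ x z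

theorem free_pb {M : X.Modules} (x : X) [Module.Free (X.presheaf.stalk x) (M.presheaf.stalk x)] :
    Module.Free (X.presheaf.stalk x) (((pb p).obj M).presheaf.stalk x) := by
  let := stalkAlg (FrobSch.frob X p) x
  have : Module.Free (X.presheaf.stalk (FrobSch.frob X p x)) (M.presheaf.stalk (FrobSch.frob X p x)) :=
    ‹Module.Free (X.presheaf.stalk x) (M.presheaf.stalk x)›
  exact Module.Free.of_equiv (pullStalkEquiv (FrobSch.frob X p) M x)

theorem subsingleton_pb {M : X.Modules} (x : X) (h : Subsingleton (M.presheaf.stalk x)) :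
    Subsingleton (((pb p).obj M).presheaf.stalk x) := by
  let := stalkAlg (FrobSch.frob X p) x
  have : Subsingleton (M.presheaf.stalk (FrobSch.frob X p x)) := h
  exact (pullStalkEquiv (FrobSch.frob X p) M x).symm.toEquiv.subsingleton

/-- The three stalk maps of a complex form a short exact sequence. -/
def ExactAt (S : ShortComplex X.Modules) (x : X) : Prop :=
  Function.Injective (stalkₗ S.f x) ∧ Function.Exact (stalkₗ S.f x) (stalkₗ S.g x) ∧
    Function.Surjective (stalkₗ S.g x)

omit p [Fact p.Prime] [FrobSch.IsCharP X p] in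
theorem ExactAt.shortExact {S : ShortComplex X.Modules} {x : X} (h : ExactAt S x) :
    (S.map (stalk x)).ShortExact :=
  { exact := by
      rw [ShortComplex.ab_exact_iff]
      exact fun t ht => (h.2.1 t).1 ht
    mono_f := (AddCommGrpCat.mono_iff_injective _).2 h.1
    epi_g := (AddCommGrpCat.epi_iff_surjective _).2 h.2.2 }

theorem exactAt_pb (S : ShortComplex X.Modules) {x : X}
    [Module.Free (X.presheaf.stalk x) (S.X₃.presheaf.stalk x)] (h : ExactAt S x) :
    ExactAt (S.map (pb p)) x := by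
  let := stalkAlg (FrobSch.frob X p) x
  obtain ⟨hi, he, hs⟩ := h
  have : Module.Free (X.presheaf.stalk (FrobSch.frob X p x))
      (S.X₃.presheaf.stalk (FrobSch.frob X p x)) :=
    ‹Module.Free (X.presheaf.stalk x) (S.X₃.presheaf.stalk x)›
  let A := X.presheaf.stalk x
  have hi' := LinearMap.lTensor_injective_of_exact_of_flat (stalkₗ S.g (FrobSch.frob X p x)) hs
    (stalkₗ S.f (FrobSch.frob X p x)) hi he A
  have he' := lTensor_exact A (f := stalkₗ S.f (FrobSch.frob X p x))
    (g := stalkₗ S.g (FrobSch.frob X p x)) he hs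
  have hs' := LinearMap.lTensor_surjective A (g := stalkₗ S.g (FrobSch.frob X p x)) hs
  let E : ∀ M : X.Modules, _ := fun M => pullStalkEquiv (FrobSch.frob X p) M x
  refine ⟨fun a b hab => ?_, fun t => ⟨fun ht => ?_, ?_⟩, fun t => ?_⟩
  · obtain ⟨a, rfl⟩ := (E S.X₁).surjective a
    obtain ⟨b, rfl⟩ := (E S.X₁).surjective b
    exact congrArg (E S.X₁) (hi' ((E S.X₂).injective
      ((stalk_map_equiv p S.f x a).symm.trans (hab.trans (stalk_map_equiv p S.f x b)))))
  · obtain ⟨t, rfl⟩ := (E S.X₂).surjective t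
    obtain ⟨a, rfl⟩ := (he' t).1 ((E S.X₃).injective
      (((stalk_map_equiv p S.g x t).symm.trans ht).trans (map_zero _).symm))
    exact ⟨E S.X₁ a, stalk_map_equiv p S.f x a⟩
  · rintro ⟨u, rfl⟩
    obtain ⟨u, rfl⟩ := (E S.X₁).surjective u
    refine (congrArg _ (stalk_map_equiv p S.f x u)).trans ((stalk_map_equiv p S.g x _).trans ?_)
    rw [he'.apply_apply_eq_zero u]
    exact map_zero _
  · obtain ⟨t, rfl⟩ := (E S.X₃).surjective t
    obtain ⟨a, rfl⟩ := hs' t
    exact ⟨E S.X₂ a, stalk_map_equiv p S.g x a⟩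

/-- Iterated Frobenius pullback. -/
noncomputable abbrev it (m : ℕ) (E : X.Modules) : X.Modules := (pb p).obj^[m] E

theorem isCoh_it {E : X.Modules} (hE : Coh.IsCoh E) : ∀ m, Coh.IsCoh (it p m E)
  | 0 => hE
  | m + 1 => by
    show Coh.IsCoh ((pb p).obj^[m + 1] E)
    rw [Function.iterate_succ_apply']
    exact isCoh_frobPull p (isCoh_it hE m)

theorem subsingleton_it {E : X.Modules} (x : X) (h : Subsingleton (E.presheaf.stalk x)) :
    ∀ m, Subsingleton ((it p m E).presheaf.stalk x)
  | 0 => h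
  | m + 1 => by
    show Subsingleton (((pb p).obj^[m + 1] E).presheaf.stalk x)
    rw [Function.iterate_succ_apply']
    exact subsingleton_pb p x (subsingleton_it x h m)

open Groth.Misc13.KC1 Groth.Misc13.KRef1 Groth.Misc13.KDet

variable [AlgebraicGeometry.IsNoetherian X] [IsIntegral X] {δ : X → ℤ} (hδ : Cyc.IsDimFun X δ)
  {n : ℤ} (hn : δ (genericPoint ↥X) = n) (f : SGA6.Kcoh X →+ ℤ)
  (hf : ∀ c ∈ supSub {x | δ x ≤ δ (genericPoint ↥X) - 2}, f c = 0)
include hδ hn hf

omit p [Fact p.Prime] [FrobSch.IsCharP X p] in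
theorem exists_quotHom : ∃ Ψ : Cyc.K0CohQuot δ n (n - 2) →+ ℤ,
    ∀ M, Coh.IsCoh M → Ψ (Cyc.toK0CohQuot δ n (n - 2) M) = f (kc M) := by
  subst hn
  have c : ∀ {G : X.Modules}, Coh.IsCoh G →
      ofLe (δ := δ) (δ (genericPoint ↥X))
        (KZero.clSub (Cyc.CohLe δ (δ (genericPoint ↥X))) G) = kc G := fun hG =>
    liftSub_clSub _ _ ⟨hG, fun x _ => delta_le_gen hδ x⟩
  refine ⟨QuotientAddGroup.lift _ (f.comp (ofLe (δ := δ) _)) ((AddSubgroup.closure_le _).2 ?_),
    fun M hM => ?_⟩
  · rintro _ ⟨F, hF, rfl⟩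
    show f (ofLe (δ := δ) _ (KZero.clSub (Cyc.CohLe δ (δ (genericPoint ↥X))) F)) = 0
    rw [c hF.1]
    exact hf _ (mem_supSub hF.1 fun x hx => hF.2 x (not_subsingleton_iff_nontrivial.1 hx))
  · exact congrArg f (c hM)

omit p [Fact p.Prime] [FrobSch.IsCharP X p] in
theorem eq_of_bijective {M F : X.Modules} (hM : Coh.IsCoh M) (hF : Coh.IsCoh F) (φ : M ⟶ F)
    (h : ∀ x, Good δ n x → Function.Bijective (stalkₗ φ x)) : f (kc M) = f (kc F) := by
  obtain ⟨Ψ, hΨ⟩ := exists_quotHom hδ hn f hf
  rw [← hΨ M hM, ← hΨ F hF,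
    toQuot_eq_of_bijective (fun x => hn ▸ delta_le_gen hδ x) hM hF φ fun x hx => h x hx]

theorem it_rel : ∀ (m : ℕ) (S : ShortComplex X.Modules), Coh.IsCoh S.X₁ → Coh.IsCoh S.X₂ →
    Coh.IsCoh S.X₃ → (∀ x, Good δ n x → ExactAt S x) →
    (∀ x, Good δ n x → Module.Free (X.presheaf.stalk x) (S.X₃.presheaf.stalk x)) →
    f (kc (it p m S.X₂)) = f (kc (it p m S.X₁)) + f (kc (it p m S.X₃))
  | 0, S, h₁, h₂, h₃, hex, _ => by
    obtain ⟨Ψ, hΨ⟩ := exists_quotHom hδ hn f hf
    show f (kc S.X₂) = f (kc S.X₁) + f (kc S.X₃)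
    rw [← hΨ _ h₁, ← hΨ _ h₂, ← hΨ _ h₃, ← map_add,
      toQuot_rel_of_stalk (fun x => hn ▸ delta_le_gen hδ x) S h₁ h₂ h₃
        fun x hx => (hex x hx).shortExact]
  | m + 1, S, h₁, h₂, h₃, hex, hfree =>
    it_rel m (S.map (pb p)) (isCoh_frobPull p h₁) (isCoh_frobPull p h₂) (isCoh_frobPull p h₃)
      (fun x hx => haveI := hfree x hx; exactAt_pb p S (hex x hx))
      (fun x hx => haveI := hfree x hx; free_pb p x)

variable (hX : Pi1.IsNormalScheme X)
include hX

theorem it_eq_seq (G : ℕ → X.Modules) (hc : ∀ m, Coh.IsCoh (G m))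
    (hfree : ∀ m x, Good δ n x → Module.Free (X.presheaf.stalk x) ((G m).presheaf.stalk x))
    (hG : ∀ m, Nonempty (G (m + 1) ≅ RefHull.ddual ((pb p).obj (G m)))) :
    ∀ m, f (kc (it p m (G 0))) = f (kc (G m)) := by
  have key : ∀ m, ∃ ψ : it p m (G 0) ⟶ G m, ∀ x, Good δ n x → Function.Bijective (stalkₗ ψ x) := by
    intro m
    induction m with
    | zero =>
      exact ⟨𝟙 _, fun x _ => (ConcreteCategory.isIso_iff_bijective _).1 ((stalk x).map_isIso (𝟙 _))⟩
    | succ m ih =>
      obtain ⟨ψ, hψ⟩ := ih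
      obtain ⟨e⟩ := hG m
      have hC := isCoh_frobPull p (hc m)
      refine ⟨eqToHom (Function.iterate_succ_apply' _ _ _) ≫ (pb p).map ψ ≫
        RefHull.bidualMap _ ≫ e.inv, fun x hx => ?_⟩
      have := hfree m x hx
      have := free_pb p (M := G m) x
      have b1 := bijective_pb p ψ x (hψ x hx)
      have b2 := bijective_bidual_good hX hδ hC (x := x)
      have bi : ∀ {A B : X.Modules} (φ : A ⟶ B) [IsIso φ], Function.Bijective ((stalk x).map φ) :=
        fun φ _ => (ConcreteCategory.isIso_iff_bijective _).1 ((stalk x).map_isIso φ)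
      show Function.Bijective ((stalk x).map _)
      rw [Functor.map_comp, Functor.map_comp, Functor.map_comp]
      exact ((bi e.inv).comp (b2.comp b1)).comp (bi _)
  intro m
  obtain ⟨ψ, hψ⟩ := key m
  exact eq_of_bijective hδ hn f hf (isCoh_it p (hc 0) m) (hc m) ψ hψ

theorem affine_rankOne {L : X.Modules} (hL : Coh.IsCoh L)
    (hfree : ∀ x, Good δ n x → Module.Free (X.presheaf.stalk x) (L.presheaf.stalk x))
    (h1 : IsRankOne L) : ∃ A B : ℤ, ∀ m, f (kc (it p m L)) = A + (p ^ m : ℕ) * B := by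
  let G : ℕ → X.Modules := fun m => (fun M => RefHull.ddual ((pb p).obj M))^[m] (RefHull.ddual L)
  have h0 : RefHull.IsRef1 (G 0) :=
    isRef1_of (isCoh_ddual hL) (isReflexive_ddual hL) (isRankOne_ddual hL h1)
  have hG : ∀ m, Nonempty (G (m + 1) ≅ RefHull.ddual ((pb p).obj (G m))) := fun m =>
    ⟨eqToIso (Function.iterate_succ_apply' _ _ _)⟩
  obtain ⟨d, hd⟩ := exists_hasDiv h0
  have hspec := frobSeq_spec p hX G h0 hd hG
  have hfreeG : ∀ m x, Good δ n x →
      Module.Free (X.presheaf.stalk x) ((G m).presheaf.stalk x) := fun m x hx => by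
    have := torsionFree_of_reflexive (hspec m).1.1 (hspec m).1.2.1 x
    exact free_of_torsionFree hX hδ hn (hspec m).1.1 hx
  have hb : ∀ x, Good δ n x → Function.Bijective (stalkₗ (RefHull.bidualMap L) x) := fun x hx => by
    have := hfree x hx
    exact bijective_bidual_good hX hδ hL
  refine ⟨f (kc (Coh.structureModule X)), f (kc (G 0)) - f (kc (Coh.structureModule X)), fun m => ?_⟩
  have e1 : f (kc (it p m L)) = f (kc (it p m (G 0))) := by
    have key : ∀ m, ∃ ψ : it p m L ⟶ it p m (G 0),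
        ∀ x, Good δ n x → Function.Bijective (stalkₗ ψ x) := by
      intro m
      induction m with
      | zero => exact ⟨RefHull.bidualMap L, hb⟩
      | succ m ih =>
        obtain ⟨ψ, hψ⟩ := ih
        refine ⟨eqToHom (Function.iterate_succ_apply' _ _ _) ≫ (pb p).map ψ ≫
          eqToHom (Function.iterate_succ_apply' _ _ _).symm, fun x hx => ?_⟩
        have b1 := bijective_pb p ψ x (hψ x hx)
        have bi : ∀ {A B : X.Modules} (φ : A ⟶ B) [IsIso φ], Function.Bijective ((stalk x).map φ) :=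
          fun φ _ => (ConcreteCategory.isIso_iff_bijective _).1 ((stalk x).map_isIso φ)
        show Function.Bijective ((stalk x).map _)
        rw [Functor.map_comp, Functor.map_comp]
        exact ((bi _).comp b1).comp (bi _)
    obtain ⟨ψ, hψ⟩ := key m
    exact eq_of_bijective hδ hn f hf (isCoh_it p hL m) (isCoh_it p h0.1 m) ψ hψ
  obtain ⟨hm, hdm⟩ := hspec m
  obtain ⟨e⟩ := nonempty_iso_of_hasDiv hX hm (isRef1_refPow h0 (p ^ m)) hdm
    (Groth.Misc13.KIntRef.hasDiv_refPow hX h0 hd (p ^ m))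
  rw [e1, it_eq_seq p hδ hn f hf hX G (fun m => (hspec m).1.1) hfreeG hG m,
    kc_iso e hm.1 (isRef1_refPow h0 (p ^ m)).1,
    Groth.Misc13.KIntRef.map_refPow hδ hX f hf h0 (p ^ m), nsmul_eq_mul]

theorem affine_it : ∀ (r : ℕ) (E : X.Modules), Coh.IsCoh E →
    (∀ x, Good δ n x → Module.Free (X.presheaf.stalk x) (E.presheaf.stalk x)) →
    Module.finrank (X.presheaf.stalk (genericPoint ↥X)) (E.presheaf.stalk (genericPoint ↥X)) = r →
    ∃ A B : ℤ, ∀ m, f (kc (it p m E)) = A + (p ^ m : ℕ) * B := by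
  intro r
  induction r with
  | zero =>
    intro E hE hfree hr
    refine ⟨0, 0, fun m => ?_⟩
    obtain ⟨Ψ, hΨ⟩ := exists_quotHom hδ hn f hf
    rw [← hΨ _ (isCoh_it p hE m), toQuot_zero δ n (n - 2) ⟨isCoh_it p hE m, fun x hx => ?_⟩]
    · simp
    · by_contra hgood
      have := hfree x (not_le.1 hgood)
      obtain ⟨U, s, hxU, hs⟩ := exists_basis_rank hE (x := x) hr
      have := hE.1
      obtain ⟨bb⟩ := Groth.LocFree.nonempty_stalk_basis hs hxU
      have h0 : Subsingleton (E.presheaf.stalk x) := bb.repr.toEquiv.subsingleton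
      exact not_nontrivial_iff_subsingleton.2 (subsingleton_it p x h0 m) hx
  | succ r ih =>
    intro E hE hfree hr
    obtain ⟨S, hS, hX₂, c1, c3, hr3, htf⟩ := exists_extension hX hδ hE hr
    subst hX₂
    have f3 : ∀ x, Good δ n x → Module.Free (X.presheaf.stalk x) (S.X₃.presheaf.stalk x) :=
      fun x hx => haveI := htf x; free_of_torsionFree hX hδ hn c3 hx
    have f1 : ∀ x, Good δ n x → Module.Free (X.presheaf.stalk x) (S.X₁.presheaf.stalk x) :=
      fun x hx => haveI := hfree x hx; haveI := f3 x hx; Groth.KTheory.LocFree.free_stalk_left hS x c1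
    have h1 : IsRankOne S.X₁ := by
      have hr1 : Module.finrank (X.presheaf.stalk (genericPoint ↥X))
          (S.X₁.presheaf.stalk (genericPoint ↥X)) = 1 := by
        let _ : Field (X.presheaf.stalk (genericPoint ↥X)) := inferInstanceAs (Field X.functionField)
        have := finite_stalkModule hE (genericPoint ↥X)
        obtain ⟨hi, he, hs⟩ := Groth.KTheory.LocFree.stalk_exact hS (genericPoint ↥X)
        have h2 := LinearMap.finrank_range_add_finrank_ker (stalkₗ S.g (genericPoint ↥X))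
        rw [LinearMap.range_eq_top.2 hs, finrank_top, he.linearMap_ker_eq,
          LinearMap.finrank_range_of_inj hi] at h2
        omega
      have := f1 _ (show Good δ n (genericPoint ↥X) by unfold Good; omega)
      obtain ⟨U, s, hxU, hs⟩ := exists_basis_rank c1 (x := genericPoint ↥X) hr1
      exact exists_stalkBasis_of_basis' c1 hs hxU rfl
    obtain ⟨A₁, B₁, e₁⟩ := affine_rankOne p hδ hn f hf hX c1 f1 h1
    obtain ⟨A₃, B₃, e₃⟩ := ih S.X₃ c3 f3 hr3
    refine ⟨A₁ + A₃, B₁ + B₃, fun m => ?_⟩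
    rw [it_rel p hδ hn f hf m S c1 hE c3
      (fun x _ => Groth.KTheory.LocFree.stalk_exact hS x) f3, e₁, e₃]
    ring

theorem affine_seq (G : ℕ → X.Modules) (h0 : Coh.IsCoh (G 0)) (h0r : RefHull.IsReflexive (G 0))
    (hG : ∀ m, Nonempty (G (m + 1) ≅ RefHull.ddual ((pb p).obj (G m)))) :
    (∀ m, Coh.IsCoh (G m)) ∧ ∃ A B : ℤ, ∀ m, f (kc (G m)) = A + (p ^ m : ℕ) * B := by
  have hc : ∀ m, Coh.IsCoh (G m) := by
    intro m
    induction m with
    | zero => exact h0
    | succ m ih =>
      obtain ⟨e⟩ := hG m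
      exact Groth.QCohMod.isCoh_of_iso e.symm (isCoh_ddual (isCoh_frobPull p ih))
  have hfree : ∀ m x, Good δ n x →
      Module.Free (X.presheaf.stalk x) ((G m).presheaf.stalk x) := by
    intro m x hx
    cases m with
    | zero =>
      have := torsionFree_of_reflexive h0 h0r x
      exact free_of_torsionFree hX hδ hn h0 hx
    | succ m =>
      obtain ⟨e⟩ := hG m
      have hD := isCoh_ddual (isCoh_frobPull p (hc m))
      have := torsionFree_of_reflexive hD (isReflexive_ddual (isCoh_frobPull p (hc m))) x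
      have := free_of_torsionFree hX hδ hn hD hx
      exact Module.Free.of_equiv (LinearEquiv.ofBijective (stalkₗ e.inv x)
        ((ConcreteCategory.isIso_iff_bijective _).1 ((stalk x).map_isIso e.inv)))
  obtain ⟨A, B, h⟩ := affine_it p hδ hn f hf hX _ (G 0) h0 (fun x hx => hfree 0 x hx) rfl
  exact ⟨hc, A, B, fun m => by rw [← it_eq_seq p hδ hn f hf hX G hc hfree hG m, h m]⟩

end Groth.Misc13.FrobAffine
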