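import Groth.Prelude.Def_Frob
import Groth.Agent.RefRank.Divisor
import Groth.Agent.QCohMod.Pullback
import Groth.Agent.QCohMod.PullbackQCoh
import Groth.Agent.QCohMod.Coherent

/-!
Reflexive Frobenius pullback multiplies the divisor of a rank one reflexive module by `p`.
-/

set_option autoImplicit false
universe u

open CategoryTheory CategoryTheory.Limits AlgebraicGeometry TopologicalSpace
open scoped TensorProduct

namespace Groth.Misc13.FrobDiv

open Groth.QCohMod Groth.RefRank

variable {X : Scheme.{u}} (p : ℕ) [Fact p.Prime] [FrobSch.IsCharP X p]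

theorem stalkMap_frob (x : X) (r : X.presheaf.stalk x) : (FrobSch.frob X p).stalkMap x r = r ^ p := by
  obtain ⟨U, hx, s, rfl⟩ := TopCat.Presheaf.exists_germ_eq X.presheaf r
  refine (Scheme.Hom.germ_stalkMap_apply (FrobSch.frob X p) U x hx s).trans ?_
  rw [FrobSch.frob_app]
  exact map_pow (X.presheaf.germ U x hx).hom s p

/-- `M_x → (F^*M)_x`. -/
noncomputable abbrev pg (M : X.Modules) (x : X) :
    M.presheaf.stalk x →+ ((Scheme.Modules.pullback (FrobSch.frob X p)).obj M).presheaf.stalk x :=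
  pullGerm (FrobSch.frob X p) M x

theorem pg_smul (M : X.Modules) (x : X) (r : X.presheaf.stalk x) (t : M.presheaf.stalk x) :
    pg p M x (r • t) = r ^ p • pg p M x t := by
  rw [← stalkMap_frob]
  exact pullGerm_smul (FrobSch.frob X p) M x r t

theorem mspec_pg (M : X.Modules) {x y : X} (h : y ⤳ x) (t : M.presheaf.stalk x) :
    mspec ((Scheme.Modules.pullback (FrobSch.frob X p)).obj M) h (pg p M x t) =
      pg p M y (mspec M h t) := by
  obtain ⟨U, hx, m, rfl⟩ := exists_germ M x t
  rw [mspec_germ]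
  refine (congrArg _ (pullGerm_germ (FrobSch.frob X p) M x hx m)).trans ?_
  refine (mspec_germ (U := FrobSch.frob X p ⁻¹ᵁ U) _ h hx _).trans ?_
  exact (pullGerm_germ (FrobSch.frob X p) M y (h.mem_open U.2 hx) m).symm

theorem isStalkBasis_pg {M : X.Modules} {x : X} {t : M.presheaf.stalk x} (ht : IsStalkBasis M x t) :
    IsStalkBasis ((Scheme.Modules.pullback (FrobSch.frob X p)).obj M) x (pg p M x t) := by
  let F := FrobSch.frob X p
  let := stalkAlg F x
  let et : X.presheaf.stalk (F x) ≃ₗ[X.presheaf.stalk (F x)] M.presheaf.stalk (F x) :=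
    LinearEquiv.ofBijective (LinearMap.toSpanSingleton (X.presheaf.stalk (F x)) _
      (show M.presheaf.stalk (F x) from t)) ht
  let e := ((TensorProduct.AlgebraTensorModule.rid (X.presheaf.stalk (F x)) (X.presheaf.stalk x)
    (X.presheaf.stalk x)).symm.trans (TensorProduct.AlgebraTensorModule.congr
      (LinearEquiv.refl (X.presheaf.stalk x) (X.presheaf.stalk x)) et)).trans (pullStalkEquiv F M x)
  have he : (e : X.presheaf.stalk x → ((Scheme.Modules.pullback F).obj M).presheaf.stalk x) =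
      fun a => a • pg p M x t := by
    funext a
    show pullStalkHom F M x (a ⊗ₜ[X.presheaf.stalk (F x)] et 1) = _
    rw [show et 1 = (show M.presheaf.stalk (F x) from t) from one_smul (X.presheaf.stalk (F x)) _]
    exact pullStalkHom_tmul F M x a _
  rw [IsStalkBasis, ← he]
  exact e.bijective

theorem isCoh_frobPull {M : X.Modules} (hM : Coh.IsCoh M) :
    Coh.IsCoh ((Scheme.Modules.pullback (FrobSch.frob X p)).obj M) :=
  haveI := hM.1
  ⟨isQCoh_pullback_obj (FrobSch.frob X p) M, isFT_pullback (FrobSch.frob X p) M hM.2⟩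

variable [IsIntegral X] [IsLocallyNoetherian X]

omit p [Fact p.Prime] [FrobSch.IsCharP X p] in
theorem ordK_pow {x : X} (hx : ringKrullDim (X.presheaf.stalk x) ≤ 1) {f : X.functionField}
    (hf : f ≠ 0) : ∀ n : ℕ, ordK x (f ^ n) = n * ordK x f
  | 0 => by simp [ordK_one hx]
  | n + 1 => by rw [pow_succ, ordK_mul hx (pow_ne_zero n hf) hf, ordK_pow hx hf n]; push_cast; ring

omit [IsLocallyNoetherian X] in
theorem isRankOne_frobPull {M : X.Modules} (h : IsRankOne M) :
    IsRankOne ((Scheme.Modules.pullback (FrobSch.frob X p)).obj M) :=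
  ⟨_, isStalkBasis_pg p h.choose_spec⟩

/-- The reflexive hull of the Frobenius pullback of a rank one reflexive module. -/
theorem isRef1_frob {G : X.Modules} (hG : RefHull.IsRef1 G) :
    RefHull.IsRef1 (RefHull.ddual ((Scheme.Modules.pullback (FrobSch.frob X p)).obj G)) :=
  isRef1_of (isCoh_ddual (isCoh_frobPull p hG.1)) (isReflexive_ddual (isCoh_frobPull p hG.1))
    (isRankOne_ddual (isCoh_frobPull p hG.1)
      (isRankOne_frobPull p (isRankOne_of_genInvertible hG.2.2)))

theorem hasDiv_frob (hX : Pi1.IsNormalScheme X) {G : X.Modules} (hG : RefHull.IsRef1 G) {d : X → ℤ}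
    (h : HasDiv G d) :
    HasDiv (RefHull.ddual ((Scheme.Modules.pullback (FrobSch.frob X p)).obj G))
      (fun y => (p : ℤ) * d y) := by
  obtain ⟨w, hw, hd⟩ := h
  have hc := isCoh_frobPull p hG.1
  have := hc.1
  have := hG.1.1
  have h1 := isRankOne_of_genInvertible hG.2.2
  have hw' := isStalkBasis_pg p (h1.isStalkBasis hw)
  have hne : pg p G (genericPoint ↥X) w ≠ 0 := fun e =>
    one_ne_zero (hw'.1 (a₁ := 1) (a₂ := 0) (by dsimp only; rw [e, smul_zero, smul_zero]))
  refine ⟨RefHull.stalkMapₗ (RefHull.bidualMap _) _ (pg p G (genericPoint ↥X) w),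
    fun e => hne ((bidual_gen_bijective hc).1 (e.trans (map_zero _).symm)), fun y hy => ?_⟩
  obtain ⟨t, ht⟩ := exists_isStalkBasis hX hG.1 hG.2.1 h1 hy
  obtain ⟨φ, hφ, hφw⟩ := exists_coeff ht hw
  have ht' := isStalkBasis_pg p ht
  rw [ordSec_bidual hX hc hy ht' hne,
    ordSec_eq hy.le ht' (φ := φ ^ p) (by rw [mspec_pg, ← pg_smul, hφw])]
  dsimp only
  rw [← hd y hy, ordSec_eq hy.le ht hφw]
  exact ordK_pow hy.le hφ p

omit p [Fact p.Prime] [FrobSch.IsCharP X p] in
theorem isRef1_iso {F G : X.Modules} (e : F ≅ G) (hF : RefHull.IsRef1 F) : RefHull.IsRef1 G := by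
  have hc := isCoh_of_iso e hF.1
  obtain ⟨w, hw⟩ := isRankOne_of_genInvertible hF.2.2
  refine isRef1_of hc ((isReflexive_iff_forall hc).2 fun x => ?_) ⟨_, isStalkBasis_map e hw⟩
  have : Module.IsReflexive (X.presheaf.stalk x) (F.presheaf.stalk x) :=
    (isReflexive_iff_forall hF.1).1 hF.2.1 x
  exact Module.equiv (LinearEquiv.ofBijective (RefHull.stalkMapₗ e.hom x)
    ((isIso_iff_bijective_stalk e.hom).mp inferInstance x))

/-- The reflexive Frobenius pullbacks of a rank one reflexive module with divisor `d`. -/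
theorem frobSeq_spec (hX : Pi1.IsNormalScheme X) (G : ℕ → X.Modules) (h0 : RefHull.IsRef1 (G 0))
    {d : X → ℤ} (hd : HasDiv (G 0) d)
    (hG : ∀ m, Nonempty (G (m + 1) ≅
      RefHull.ddual ((Scheme.Modules.pullback (FrobSch.frob X p)).obj (G m)))) :
    ∀ m : ℕ, RefHull.IsRef1 (G m) ∧ HasDiv (G m) (fun y => ((p ^ m : ℕ) : ℤ) * d y)
  | 0 => ⟨h0, by simpa using! hd⟩
  | m + 1 => by
    obtain ⟨h1, h2⟩ := frobSeq_spec hX G h0 hd hG m
    obtain ⟨e⟩ := hG m
    have h3 := isRef1_frob p h1
    have h4 := isRef1_iso e.symm h3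
    refine ⟨h4, ?_⟩
    have h5 := hasDiv_iso hX h3 h4 e.symm (hasDiv_frob p hX h1 h2)
    rw [show (fun y => ((p ^ (m + 1) : ℕ) : ℤ) * d y) = fun y => (p : ℤ) * (((p ^ m : ℕ) : ℤ) * d y)
      from funext fun y => by push_cast; ring]
    exact h5

end Groth.Misc13.FrobDiv
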