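import Groth.Prelude.Def_W4c5qcohlocdualityLoc
import Mathlib.CategoryTheory.Abelian.GrothendieckCategory.EnoughInjectives
import Mathlib.CategoryTheory.Limits.Constructions.Filtered
import Mathlib.CategoryTheory.ObjectProperty.FiniteProducts
import Mathlib.CategoryTheory.Abelian.GrothendieckAxioms.Colim

/-!
Closed objects for localizing closures in Grothendieck abelian categories.

Main result: if `P` is closed under subobjects and `M` is `P`-closed, then `M` is closed for the
localizing closure of `P`.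
-/

set_option autoImplicit false
set_option linter.unusedSectionVars false
set_option linter.unusedVariables false
set_option linter.style.haveILetI false

universe w v u

open CategoryTheory CategoryTheory.Limits ZeroObject

namespace Groth.Misc13.GabLoc

variable {C : Type u} [Category.{v} C] [Abelian C]

lemma le_locClosure (P : ObjectProperty C) : P ≤ GabLoc.locClosure.{w} P :=
  fun _ hX _ _ hPQ => hPQ _ hX

lemma isClosedFor_anti {P Q : ObjectProperty C} {M : C} (h : P ≤ Q) (hM : GabLoc.IsClosedFor Q M) :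
    GabLoc.IsClosedFor P M :=
  ⟨fun _ hY => hM.1 (h _ hY), fun _ _ i p hp hY => hM.2 i p hp (h _ hY)⟩

section

variable {M E : C} [Injective E] (ι : M ⟶ E) [Mono ι]

/-- `Y` sees `M` as closed: `Hom(Y,M) = 0` and every map to `E/M` lifts to `E`. -/
def W (Y : C) : Prop :=
  (∀ f : Y ⟶ M, f = 0) ∧ ∀ g : Y ⟶ cokernel ι, ∃ h : Y ⟶ E, h ≫ cokernel.π ι = g

omit [Injective E] in
lemma exists_lift_of_split {Y : C}
    (hs : ∀ ⦃N : C⦄ (i : M ⟶ N) (p : N ⟶ Y) (hp : i ≫ p = 0),
      (ShortComplex.mk i p hp).ShortExact → IsSplitMono i)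
    (g : Y ⟶ cokernel ι) : ∃ h : Y ⟶ E, h ≫ cokernel.π ι = g := by
  let q := cokernel.π ι
  let i : M ⟶ pullback q g := pullback.lift ι 0 (by simp [q])
  let p : pullback q g ⟶ Y := pullback.snd q g
  have hp : i ≫ p = 0 := pullback.lift_snd _ _ _
  have hi : i ≫ pullback.fst q g = ι := pullback.lift_fst _ _ _
  haveI : Mono (i ≫ pullback.fst q g) := by rw [hi]; infer_instance
  haveI : Mono i := mono_of_mono i (pullback.fst q g)
  have hq : (ShortComplex.mk ι q (cokernel.condition ι)).Exact :=
    ShortComplex.exact_of_g_is_cokernel _ (cokernelIsCokernel ι)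
  have hlim : IsLimit (KernelFork.ofι i hp) := KernelFork.IsLimit.ofι' i hp (fun {A} k hk => by
    have h0 : (k ≫ pullback.fst q g) ≫ q = 0 := by
      rw [Category.assoc, pullback.condition, ← Category.assoc]
      simp only [p] at hk
      rw [hk, zero_comp]
    obtain ⟨l, hl⟩ := KernelFork.IsLimit.lift' hq.fIsKernel (k ≫ pullback.fst q g) h0
    refine ⟨l, pullback.hom_ext ?_ ?_⟩
    · dsimp at hl
      rw [Category.assoc, hi]; exact hl
    · simp only [p] at hk hp
      rw [Category.assoc, hp, comp_zero, hk])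
  have hS : (ShortComplex.mk i p hp).ShortExact :=
    { exact := ShortComplex.exact_of_f_is_kernel _ hlim
      mono_f := inferInstance
      epi_g := by dsimp [p]; infer_instance }
  haveI := hs i p hp hS
  haveI : Epi (ShortComplex.mk i p hp).g := hS.epi_g
  let sp := ShortComplex.Splitting.ofExactOfRetraction (ShortComplex.mk i p hp) hS.exact (retraction i)
    (IsSplitMono.id i) hS.epi_g
  refine ⟨sp.s ≫ pullback.fst q g, ?_⟩
  have := sp.s_g
  dsimp at this
  change (sp.s ≫ pullback.fst q g) ≫ q = g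
  rw [Category.assoc, pullback.condition, ← Category.assoc, this, Category.id_comp]

lemma isSplitMono_of_lift {N Y : C} (i : M ⟶ N) (p : N ⟶ Y) (hp : i ≫ p = 0)
    (hS : (ShortComplex.mk i p hp).ShortExact)
    (hl : ∀ g : Y ⟶ cokernel ι, ∃ h : Y ⟶ E, h ≫ cokernel.π ι = g) : IsSplitMono i := by
  haveI : Mono i := hS.mono_f
  let e := Injective.factorThru ι i
  have he : i ≫ e = ι := Injective.comp_factorThru _ _
  obtain ⟨g, hg⟩ := CokernelCofork.IsColimit.desc' hS.gIsCokernel (e ≫ cokernel.π ι)
    (by rw [← Category.assoc, he, cokernel.condition])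
  obtain ⟨h, hh⟩ := hl g
  have hq : (ShortComplex.mk ι (cokernel.π ι) (cokernel.condition ι)).Exact :=
    ShortComplex.exact_of_g_is_cokernel _ (cokernelIsCokernel ι)
  obtain ⟨r, hr⟩ := KernelFork.IsLimit.lift' hq.fIsKernel (e - p ≫ h) (by
    dsimp at hg
    rw [Preadditive.sub_comp, Category.assoc, hh, hg, sub_self])
  refine IsSplitMono.mk' ⟨r, ?_⟩
  rw [← cancel_mono ι, Category.assoc]
  dsimp at hr
  rw [hr, Preadditive.comp_sub, ← Category.assoc i p, hp, zero_comp, sub_zero, he, Category.id_comp]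

lemma isClosedFor_iff (P : ObjectProperty C) :
    GabLoc.IsClosedFor P M ↔ ∀ ⦃Y : C⦄, P Y → W ι Y :=
  ⟨fun h Y hY => ⟨h.1 hY, exists_lift_of_split ι (fun _ i p hp hS => h.2 i p hp hY hS)⟩,
    fun h => ⟨fun _ hY => (h hY).1, fun _ _ i p hp hY hS => isSplitMono_of_lift ι i p hp hS (h hY).2⟩⟩

omit [Injective E] in
lemma eq_of_comp_eq {Y : C} (h0 : ∀ f : Y ⟶ M, f = 0) {h h' : Y ⟶ E}
    (hh : h ≫ cokernel.π ι = h' ≫ cokernel.π ι) : h = h' := by
  have hq : (ShortComplex.mk ι (cokernel.π ι) (cokernel.condition ι)).Exact :=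
    ShortComplex.exact_of_g_is_cokernel _ (cokernelIsCokernel ι)
  obtain ⟨r, hr⟩ := KernelFork.IsLimit.lift' hq.fIsKernel (h - h')
    (by simp [Preadditive.sub_comp, hh])
  dsimp at hr
  rw [h0 r, zero_comp] at hr
  exact sub_eq_zero.1 hr.symm

/-- The largest class, closed under subobjects, of objects seeing `M` as closed. -/
def Qmax : ObjectProperty C := fun X => ∀ ⦃A : C⦄ (i : A ⟶ X) [Mono i], W ι A

instance : (Qmax ι).IsClosedUnderSubobjects where
  prop_of_mono f _ hY A i _ := hY (i ≫ f)

omit [Injective E] in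
lemma W_of_iso {A B : C} (e : A ≅ B) (h : W ι A) : W ι B := by
  refine ⟨fun f => by rw [← cancel_epi e.hom, h.1 (e.hom ≫ f), comp_zero], fun g => ?_⟩
  obtain ⟨k, hk⟩ := h.2 (e.hom ≫ g)
  exact ⟨e.inv ≫ k, by rw [Category.assoc, hk, e.inv_hom_id_assoc]⟩

instance : (Qmax ι).ContainsZero where
  exists_zero := ⟨0, isZero_zero C, fun A i _ => by
    have hA : IsZero A := IsZero.of_mono i (isZero_zero C)
    exact ⟨fun f => hA.eq_of_src _ _, fun g => ⟨0, hA.eq_of_src _ _⟩⟩⟩

instance : (Qmax ι).IsClosedUnderQuotients where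
  prop_of_epi {X Y} p _ hX A i _ := by
    have hA' : W ι (pullback p i) := hX (pullback.fst p i)
    have hB : W ι (kernel (pullback.snd p i)) :=
      hX (kernel.ι (pullback.snd p i) ≫ pullback.fst p i)
    refine ⟨fun f => by rw [← cancel_epi (pullback.snd p i), hA'.1 (pullback.snd p i ≫ f), comp_zero],
      fun g => ?_⟩
    obtain ⟨h', hh'⟩ := hA'.2 (pullback.snd p i ≫ g)
    have h0 : kernel.ι (pullback.snd p i) ≫ h' = 0 :=
      eq_of_comp_eq ι hB.1 (by rw [Category.assoc, hh', kernel.condition_assoc]; simp)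
    refine ⟨Abelian.epiDesc (pullback.snd p i) h' h0, ?_⟩
    rw [← cancel_epi (pullback.snd p i), Abelian.comp_epiDesc_assoc, hh']

instance : (Qmax ι).IsClosedUnderExtensions where
  prop_X₂_of_shortExact {S} hS h₁ h₃ A i _ := by
    haveI := hS.mono_f
    set π := Abelian.factorThruImage (i ≫ S.g) with hπ
    have hfac : π ≫ Abelian.image.ι (i ≫ S.g) = i ≫ S.g := Abelian.image.fac _
    set k := kernel.ι π with hk
    have hk0 : (k ≫ i) ≫ S.g = 0 := by
      have := (kernel.condition π) =≫ Abelian.image.ι (i ≫ S.g)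
      rw [Category.assoc, hfac, zero_comp] at this
      rw [Category.assoc]; exact this
    haveI : Mono ((hS.exact.lift (k ≫ i) hk0) ≫ S.f) := by
      rw [ShortComplex.Exact.lift_f]; infer_instance
    haveI : Mono (hS.exact.lift (k ≫ i) hk0) := mono_of_mono _ S.f
    have hW₁ : W ι (kernel π) := h₁ (hS.exact.lift (k ≫ i) hk0)
    have hW₃ : W ι (Abelian.image (i ≫ S.g)) := h₃ (Abelian.image.ι (i ≫ S.g))
    refine ⟨fun f => ?_, fun g => ?_⟩
    · rw [← Abelian.comp_epiDesc π f (hW₁.1 (k ≫ f)), hW₃.1 (Abelian.epiDesc π f _), comp_zero]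
    · obtain ⟨h₁', hh₁⟩ := hW₁.2 (k ≫ g)
      let h₀ := Injective.factorThru h₁' k
      have h0 : k ≫ (g - h₀ ≫ cokernel.π ι) = 0 := by
        rw [Preadditive.comp_sub, ← Category.assoc, Injective.comp_factorThru, hh₁, sub_self]
      obtain ⟨h₃', hh₃⟩ := hW₃.2 (Abelian.epiDesc π (g - h₀ ≫ cokernel.π ι) h0)
      refine ⟨h₀ + π ≫ h₃', ?_⟩
      rw [Preadditive.add_comp, Category.assoc, hh₃, Abelian.comp_epiDesc, add_sub_cancel]

instance : (Qmax ι).IsSerreClass where

variable [IsGrothendieckAbelian.{w} C]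

omit [Injective E] in
/-- `Qmax` is closed under filtered colimits. -/
lemma Qmax_of_isColimit {J : Type w} [SmallCategory J] [IsFiltered J] {D : J ⥤ C} {c : Cocone D}
    (hc : IsColimit c) (hD : ∀ j, Qmax ι (D.obj j)) : Qmax ι c.pt := by
  intro A i _
  let π := cokernel.π i
  let g : D ⟶ (Functor.const J).obj (cokernel i) :=
    { app := fun j => c.ι.app j ≫ π
      naturality := fun j j' φ => by simp }
  have hAex : (ShortComplex.mk i π (cokernel.condition i)).Exact :=
    ShortComplex.exact_of_g_is_cokernel _ (cokernelIsCokernel i)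
  have hcond : ∀ j, ((kernel.ι g).app j ≫ c.ι.app j) ≫ π = 0 := fun j => by
    rw [Category.assoc]
    exact NatTrans.congr_app (kernel.condition g) j
  haveI : Mono (ShortComplex.mk i π (cokernel.condition i)).f := inferInstanceAs (Mono i)
  let l := fun j => hAex.lift ((kernel.ι g).app j ≫ c.ι.app j) (hcond j)
  have hl : ∀ j, l j ≫ i = (kernel.ι g).app j ≫ c.ι.app j := fun j => hAex.lift_f _ _
  let cA : Cocone (kernel g) := Cocone.mk A
    { app := l
      naturality := fun j j' φ => by
        rw [← cancel_mono i]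
        dsimp
        rw [Category.assoc, hl, Category.comp_id, hl, ← Category.assoc, (kernel.ι g).naturality,
          Category.assoc, c.w] }
  let f : colimit (kernel g) ⟶ c.pt :=
    IsColimit.map (colimit.isColimit _) c (kernel.ι g)
  have hf : ∀ j, colimit.ι (kernel g) j ≫ f = (kernel.ι g).app j ≫ c.ι.app j := fun j =>
    IsColimit.ι_map _ _ _ j
  haveI : IsConnected J := IsFiltered.isConnected J
  haveI : Mono f := colim.map_mono' (kernel.ι g) (colimit.isColimit _) hc f hf
  have hex := colim.exact_mapShortComplex (S := ShortComplex.mk _ _ (kernel.condition g))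
    ((ShortComplex.mk _ _ (kernel.condition g)).exact_of_f_is_kernel (kernelIsKernel g))
    (colimit.isColimit _) hc (isColimitConstCocone _ _) f π
    (fun j => hf j) (fun j => (Category.comp_id _).symm)
  let a : colimit (kernel g) ⟶ A := colimit.desc _ cA
  have ha : a ≫ i = f := colimit.hom_ext fun j => by
    rw [colimit.ι_desc_assoc, hf]; exact hl j
  haveI : Mono (colim.mapShortComplex (ShortComplex.mk _ _ (kernel.condition g))
    (colimit.isColimit _) c (constCocone J (cokernel i)) f π (fun j => hf j)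
      (fun j => (Category.comp_id _).symm)).f := inferInstanceAs (Mono f)
  let b : A ⟶ colimit (kernel g) := hex.lift i (cokernel.condition i)
  have hb : b ≫ f = i := hex.lift_f _ _
  let e : colimit (kernel g) ≅ A :=
    { hom := a
      inv := b
      hom_inv_id := by rw [← cancel_mono f, Category.assoc, hb, ha, Category.id_comp]
      inv_hom_id := by rw [← cancel_mono i, Category.assoc, ha, hb, Category.id_comp] }
  refine W_of_iso ι e ?_
  have hK : ∀ j, W ι ((kernel g).obj j) := fun j => hD j ((kernel.ι g).app j)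
  refine ⟨fun φ => colimit.hom_ext fun j => by rw [comp_zero]; exact (hK j).1 _, fun φ => ?_⟩
  choose h hh using fun j => (hK j).2 (colimit.ι (kernel g) j ≫ φ)
  refine ⟨colimit.desc _ (Cocone.mk E
    { app := h
      naturality := fun j j' ψ => eq_of_comp_eq ι (hK j).1 (by
        dsimp
        rw [Category.assoc, hh, colimit.w_assoc, Category.comp_id, hh]) }), ?_⟩
  exact colimit.hom_ext fun j => by rw [colimit.ι_desc_assoc]; exact hh j

end

section

variable {P : ObjectProperty C}

lemma isClosedUnderFiniteCoproducts_of_isSerreClass (P : ObjectProperty C) [P.IsSerreClass] :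
    P.IsClosedUnderFiniteCoproducts := by
  have : P.IsClosedUnderBinaryCoproducts := ObjectProperty.IsClosedUnderColimitsOfShape.mk' (by
    rintro X ⟨F, hF⟩
    exact P.prop_of_iso ((biprod.isoCoprod _ _) ≪≫ (HasColimit.isoOfNatIso (diagramIsoPair F)).symm)
      (P.prop_biprod (hF ⟨.left⟩) (hF ⟨.right⟩)))
  exact ObjectProperty.IsClosedUnderFiniteCoproducts.mk'

lemma isLocalizing_Qmax [IsGrothendieckAbelian.{w} C] {M E : C} [Injective E] (ι : M ⟶ E) [Mono ι] :
    GabLoc.IsLocalizing.{w} (Qmax ι) where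
  isSerreClass := inferInstance
  isClosedUnderCoproducts J := ObjectProperty.IsClosedUnderColimitsOfShape.mk' (by
    rintro X ⟨F, hF⟩
    haveI := isClosedUnderFiniteCoproducts_of_isSerreClass (Qmax ι)
    refine (Qmax ι).prop_of_iso
      (HasColimit.isoOfNatIso (Discrete.natIsoFunctor (F := F))).symm ?_
    refine Qmax_of_isColimit ι (J := Finset (Discrete J))
      (c := CoproductsFromFiniteFiltered.finiteSubcoproductsCocone (F.obj ∘ Discrete.mk))
      (CoproductsFromFiniteFiltered.isColimitFiniteSubproductsCocone (F.obj ∘ Discrete.mk))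
      (fun s => ?_)
    exact (Qmax ι).prop_coproduct (fun x => hF _))

/-- If `M` is closed for a class closed under subobjects, it is closed for its localizing closure. -/
theorem isClosedFor_locClosure [IsGrothendieckAbelian.{w} C] [P.IsClosedUnderSubobjects] {M : C}
    (hM : GabLoc.IsClosedFor P M) : GabLoc.IsClosedFor (GabLoc.locClosure.{w} P) M := by
  have := IsGrothendieckAbelian.enoughInjectives.{w} (C := C)
  obtain ⟨⟨E, hE, f, hf⟩⟩ := EnoughInjectives.presentation M
  rw [isClosedFor_iff f] at hM ⊢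
  intro Y hY
  exact hY _ (isLocalizing_Qmax f) (fun X hX A i _ => hM (P.prop_of_mono i hX)) (𝟙 Y)

end

end Groth.Misc13.GabLoc
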