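import Groth.Agent.Misc13.GabLoc
import Mathlib.CategoryTheory.Abelian.GrothendieckCategory.Subobject
import Mathlib.Algebra.Homology.ShortComplex.Exact
import Mathlib.Order.Zorn

/-!
Disjoint subobjects, maximal complements, uniformity of indecomposable injectives.
-/

set_option autoImplicit false
set_option linter.unusedSectionVars false
set_option linter.unusedVariables false
set_option linter.style.haveILetI false

universe w v u

open CategoryTheory CategoryTheory.Limits ZeroObject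

namespace Groth.Misc13.GabLoc

variable {C : Type u} [Category.{v} C] [Abelian C] {X : C}

lemma inf_eq_bot_iff (a A : Subobject X) :
    a ⊓ A = ⊥ ↔ Mono (a.arrow ≫ cokernel.π A.arrow) := by
  constructor
  · intro h
    refine Preadditive.mono_of_cancel_zero _ (fun {T} x hx => ?_)
    have hex : (ShortComplex.mk A.arrow _ (cokernel.condition A.arrow)).Exact :=
      ShortComplex.exact_of_g_is_cokernel _ (cokernelIsCokernel _)
    haveI : Mono (ShortComplex.mk A.arrow _ (cokernel.condition A.arrow)).f :=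
      inferInstanceAs (Mono A.arrow)
    have hA : A.Factors (x ≫ a.arrow) :=
      (Subobject.factors_iff _ _).2 ⟨hex.lift (x ≫ a.arrow) (by rw [Category.assoc]; exact hx), hex.lift_f _ _⟩
    have hb : (a ⊓ A).Factors (x ≫ a.arrow) :=
      (Subobject.inf_factors _).2 ⟨Subobject.factors_comp_arrow _, hA⟩
    rw [h, Subobject.bot_factors_iff_zero] at hb
    rwa [← cancel_mono a.arrow, zero_comp]
  · intro h
    have h0 : Subobject.ofLE (a ⊓ A) a inf_le_left = 0 := by
      rw [← cancel_mono (a.arrow ≫ cokernel.π A.arrow), Subobject.ofLE_arrow_assoc,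
        ← Subobject.ofLE_arrow (inf_le_right : a ⊓ A ≤ A)]
      simp only [Category.assoc, cokernel.condition, comp_zero, zero_comp]
    have h1 : (a ⊓ A).arrow = 0 := by
      rw [← Subobject.ofLE_arrow (inf_le_left : a ⊓ A ≤ a), h0, zero_comp]
    rw [← Subobject.mk_arrow (a ⊓ A), Subobject.mk_eq_bot_iff_zero]
    exact h1

lemma mk_inf_eq_bot_iff {T : C} (f : T ⟶ X) [Mono f] (A : Subobject X) :
    Subobject.mk f ⊓ A = ⊥ ↔ Mono (f ≫ cokernel.π A.arrow) := by
  rw [inf_eq_bot_iff]
  constructor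
  · intro h
    rw [← Subobject.underlyingIso_arrow f, Category.assoc]
    infer_instance
  · intro h
    rw [← Subobject.underlyingIso_hom_comp_eq_mk f, Category.assoc]
    infer_instance

variable [IsGrothendieckAbelian.{w} C]

lemma inf_sSup_eq_bot (A : Subobject X) (s : Set (Subobject X)) (hne : s.Nonempty)
    (hs : DirectedOn (· ≤ ·) s) (h : ∀ a ∈ s, a ⊓ A = ⊥) : sSup s ⊓ A = ⊥ := by
  let e := (equivShrink.{w} s).symm
  letI : Preorder (Shrink.{w} s) := Preorder.lift e
  letI : SmallCategory (Shrink.{w} s) := Preorder.smallCategory _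
  haveI : Nonempty (Shrink.{w} s) := ⟨equivShrink _ ⟨_, hne.choose_spec⟩⟩
  haveI : IsDirectedOrder (Shrink.{w} s) := ⟨fun x y => by
    obtain ⟨z, hz, hxz, hyz⟩ := hs _ (e x).2 _ (e y).2
    refine ⟨equivShrink _ ⟨z, hz⟩, ?_, ?_⟩
    · show (e x).1 ≤ (e _).1; simpa [e] using hxz
    · show (e y).1 ≤ (e _).1; simpa [e] using hyz⟩
  let F : Shrink.{w} s ⥤ MonoOver X :=
    { obj := fun j => MonoOver.mk (e j).1.arrow
      map := fun {a b} φ => MonoOver.homMk (Subobject.ofLE _ _ (show (e a).1 ≤ (e b).1 from (leOfHom φ : a ≤ b))) (Subobject.ofLE_arrow _) }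
  let D := F ⋙ MonoOver.forget _ ⋙ Over.forget _
  let f : colimit D ⟶ X := colimit.desc D (Cocone.mk X
    { app := fun j => (F.obj j).obj.hom
      naturality := fun j j' g => by simp [D, MonoOver.forget] })
  haveI : Mono f := IsGrothendieckAbelian.mono_of_isColimit_monoOver F (colimit.isColimit _) f
    (fun j => colimit.ι_desc _ j)
  have hsup := IsGrothendieckAbelian.subobjectMk_of_isColimit_eq_iSup F (colimit.isColimit _) f
    (fun j => colimit.ι_desc _ j)
  have heq : sSup s = Subobject.mk f := by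
    rw [hsup]
    apply le_antisymm
    · refine sSup_le fun a ha => le_iSup_of_le (equivShrink _ ⟨a, ha⟩) (le_of_eq ?_)
      simp [F, e]
    · refine iSup_le fun j => le_sSup ?_
      simp [F]
  rw [heq, mk_inf_eq_bot_iff]
  haveI : IsConnected (Shrink.{w} s) := IsFiltered.isConnected _
  let α : D ⟶ (Functor.const _).obj (cokernel A.arrow) :=
    { app := fun j => (F.obj j).obj.hom ≫ cokernel.π A.arrow
      naturality := fun j j' g => by
        dsimp [D, MonoOver.forget]
        simp [← Category.assoc, Over.w] }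
  haveI : ∀ j, Mono (α.app j) := fun j => (inf_eq_bot_iff (e j).1 A).1 (h _ (e j).2)
  haveI : Mono α := NatTrans.mono_of_mono_app α
  exact colim.map_mono' α (colimit.isColimit D) (isColimitConstCocone _ _) (f ≫ cokernel.π A.arrow)
    (fun j => (colimit.ι_desc_assoc _ _ _).trans (Category.comp_id _).symm)

lemma exists_maximal_disjoint (A B : Subobject X) (h : B ⊓ A = ⊥) :
    ∃ K : Subobject X, B ≤ K ∧ K ⊓ A = ⊥ ∧ ∀ K', K ≤ K' → K' ⊓ A = ⊥ → K' ≤ K := by
  obtain ⟨K, hK, hmax⟩ := zorn_le_nonempty₀ {K : Subobject X | K ⊓ A = ⊥}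
    (fun c hc hchain y hy => ⟨sSup c,
      inf_sSup_eq_bot A c ⟨y, hy⟩ hchain.directedOn (fun a ha => hc ha),
      fun z hz => le_sSup hz⟩) B h
  exact ⟨K, hK, hmax.1, fun K' h1 h2 => hmax.2 h2 h1⟩

/-- For `K` maximal among subobjects meeting `A` trivially, `A → X/K` is essential. -/
lemma mono_of_maximal_disjoint {K A : Subobject X}
    (hmax : ∀ K', K ≤ K' → K' ⊓ A = ⊥ → K' ≤ K) {Z : C} (h : cokernel K.arrow ⟶ Z)
    (hm : Mono (A.arrow ≫ cokernel.π K.arrow ≫ h)) : Mono h := by
  set π := cokernel.π K.arrow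
  have hle : Subobject.mk (kernel.ι (π ≫ h)) ≤ K := by
    apply hmax
    · exact Subobject.le_mk_of_comm (kernel.lift _ K.arrow (by simp [π])) (kernel.lift_ι _ _ _)
    · rw [mk_inf_eq_bot_iff]
      refine Preadditive.mono_of_cancel_zero _ (fun {T} x hx => ?_)
      have hex : (ShortComplex.mk A.arrow _ (cokernel.condition A.arrow)).Exact :=
        ShortComplex.exact_of_g_is_cokernel _ (cokernelIsCokernel _)
      haveI : Mono (ShortComplex.mk A.arrow _ (cokernel.condition A.arrow)).f :=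
        inferInstanceAs (Mono A.arrow)
      have hl := hex.lift_f (x ≫ kernel.ι (π ≫ h)) (by rw [Category.assoc]; exact hx)
      have h0 : hex.lift (x ≫ kernel.ι (π ≫ h)) (by rw [Category.assoc]; exact hx) = 0 := by
        apply zero_of_comp_mono (A.arrow ≫ π ≫ h)
        dsimp at hl
        rw [← Category.assoc, hl, Category.assoc, kernel.condition, comp_zero]
      rw [← cancel_mono (kernel.ι (π ≫ h)), zero_comp, ← hl, h0, zero_comp]
  refine Preadditive.mono_of_cancel_zero _ (fun {T} y hy => ?_)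
  have h1 : kernel.ι (π ≫ h) ≫ π = 0 := by
    rw [← Subobject.ofMkLE_arrow hle, Category.assoc, cokernel.condition, comp_zero]
  have h2 : pullback.fst π y ≫ π ≫ h = 0 := by
    rw [← Category.assoc, pullback.condition, Category.assoc, hy, comp_zero]
  have h3 : pullback.fst π y ≫ π = 0 := by
    rw [← kernel.lift_ι _ _ h2, Category.assoc, h1, comp_zero]
  rw [← cancel_epi (pullback.snd π y), comp_zero, ← pullback.condition, h3]

/-- An indecomposable injective object of a Grothendieck abelian category is uniform. -/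
lemma uniform_of_indecomposable {E : C} [Injective E]
    (hind : ∀ (A B : C), Nonempty (E ≅ A ⊞ B) → IsZero A ∨ IsZero B)
    (A B : Subobject E) (h : B ⊓ A = ⊥) : A = ⊥ ∨ B = ⊥ := by
  obtain ⟨K, hBK, hKA, hK⟩ := exists_maximal_disjoint A B h
  obtain ⟨D, hAD, hDK, hD⟩ := exists_maximal_disjoint K A (by rwa [inf_comm])
  set π := cokernel.π K.arrow
  haveI hφ : Mono (D.arrow ≫ π) := (inf_eq_bot_iff D K).1 hDK
  set φ := D.arrow ≫ π with hφdef
  let ψ := Injective.factorThru D.arrow φ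
  have hψ : φ ≫ ψ = D.arrow := Injective.comp_factorThru _ _
  have ess : ∀ {Z : C} (g : cokernel K.arrow ⟶ Z), Mono (φ ≫ g) → Mono g := fun g hg =>
    mono_of_maximal_disjoint hK g (by
      have : A.arrow ≫ π ≫ g = Subobject.ofLE A D hAD ≫ φ ≫ g := by
        rw [hφdef]; simp
      rw [this]; infer_instance)
  haveI : Mono ψ := ess ψ (by rw [hψ]; infer_instance)
  have hψK : Subobject.mk ψ ⊓ K = ⊥ := by
    rw [mk_inf_eq_bot_iff]
    exact ess (ψ ≫ π) (by rw [reassoc_of% hψ]; exact hφ)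
  have hle : Subobject.mk ψ ≤ D := hD _ (Subobject.le_mk_of_comm φ hψ) hψK
  let r := Subobject.ofMkLE ψ D hle
  have hr : r ≫ D.arrow = ψ := Subobject.ofMkLE_arrow _
  haveI : Mono (r ≫ D.arrow) := by rw [hr]; infer_instance
  haveI : Mono r := mono_of_mono r D.arrow
  have hφr : φ ≫ r = 𝟙 _ := by rw [← cancel_mono D.arrow, Category.assoc, hr, hψ, Category.id_comp]
  have hrφ : r ≫ φ = 𝟙 _ := by rw [← cancel_mono r, Category.assoc, hφr, Category.comp_id, Category.id_comp]
  have hex : (ShortComplex.mk K.arrow π (cokernel.condition _)).Exact :=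
    ShortComplex.exact_of_g_is_cokernel _ (cokernelIsCokernel _)
  haveI : Mono (ShortComplex.mk K.arrow π (cokernel.condition _)).f :=
    inferInstanceAs (Mono K.arrow)
  have h0 : (𝟙 E - (π ≫ r) ≫ D.arrow) ≫ π = 0 := by
    rw [Preadditive.sub_comp, Category.id_comp, Category.assoc, Category.assoc, ← hφdef, hrφ,
      Category.comp_id, sub_self]
  have hl : hex.lift _ h0 ≫ K.arrow = 𝟙 E - (π ≫ r) ≫ D.arrow := hex.lift_f _ h0
  let sp : (ShortComplex.mk K.arrow (π ≫ r) (by simp [π])).Splitting :=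
    { r := hex.lift _ h0
      s := D.arrow
      f_r := by
        apply (cancel_mono K.arrow).1
        change (K.arrow ≫ hex.lift _ h0) ≫ K.arrow = 𝟙 _ ≫ K.arrow
        rw [Category.assoc, hl, Preadditive.comp_sub]
        simp [π]
      s_g := by
        change D.arrow ≫ π ≫ r = 𝟙 _
        rw [← Category.assoc, ← hφdef, hφr]
      id := by
        change hex.lift _ h0 ≫ K.arrow + (π ≫ r) ≫ D.arrow = 𝟙 E
        rw [hl, sub_add_cancel] }
  have hz : ∀ {S : Subobject E}, IsZero (S : C) → S = ⊥ := fun {S} hS => by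
    rw [← Subobject.mk_arrow S, Subobject.mk_eq_bot_iff_zero]
    exact hS.eq_of_src _ _
  rcases hind _ _ ⟨sp.isoBinaryBiproduct⟩ with hz' | hz'
  · exact Or.inr (eq_bot_iff.2 (hBK.trans (hz hz').le))
  · exact Or.inl (eq_bot_iff.2 (hAD.trans (hz hz').le))

lemma hasTorsion_inf {E : C} [Injective E]
    (hind : ∀ (A B : C), Nonempty (E ≅ A ⊞ B) → IsZero A ∨ IsZero B)
    (S₁ S₂ : ObjectProperty C) [S₁.IsSerreClass] [S₂.IsSerreClass]
    (ht₁ : GabLoc.HasTorsion S₁ E) (ht₂ : GabLoc.HasTorsion S₂ E) :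
    GabLoc.HasTorsion (S₁ ⊓ S₂) E := by
  obtain ⟨Y₁, hY₁, f₁, hf₁⟩ := ht₁
  obtain ⟨Y₂, hY₂, f₂, hf₂⟩ := ht₂
  set A₁ := Subobject.mk (Abelian.image.ι f₁)
  set A₂ := Subobject.mk (Abelian.image.ι f₂)
  have h₁ : S₁ (A₁ : C) :=
    S₁.prop_of_iso (Subobject.underlyingIso _).symm (S₁.prop_of_epi (Abelian.factorThruImage f₁) hY₁)
  have h₂ : S₂ (A₂ : C) :=
    S₂.prop_of_iso (Subobject.underlyingIso _).symm (S₂.prop_of_epi (Abelian.factorThruImage f₂) hY₂)
  have n₁ : A₁ ≠ ⊥ := fun h => hf₁ (by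
    rw [← Abelian.image.fac f₁, (Subobject.mk_eq_bot_iff_zero).1 h, comp_zero])
  have n₂ : A₂ ≠ ⊥ := fun h => hf₂ (by
    rw [← Abelian.image.fac f₂, (Subobject.mk_eq_bot_iff_zero).1 h, comp_zero])
  refine ⟨((A₁ ⊓ A₂ : Subobject E) : C), ⟨S₁.prop_of_mono (Subobject.ofLE _ A₁ inf_le_left) h₁,
    S₂.prop_of_mono (Subobject.ofLE _ A₂ inf_le_right) h₂⟩, (A₁ ⊓ A₂).arrow, fun h => ?_⟩
  have hb : A₁ ⊓ A₂ = ⊥ := by
    rw [← Subobject.mk_arrow (A₁ ⊓ A₂), Subobject.mk_eq_bot_iff_zero]; exact h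
  rcases uniform_of_indecomposable hind A₂ A₁ hb with h' | h'
  · exact n₂ h'
  · exact n₁ h'

end Groth.Misc13.GabLoc
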