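import Groth.Agent.Misc13.GabLocSub
import Mathlib.Order.TransfiniteIteration
import Mathlib.SetTheory.Cardinal.HasCardinalLT

/-!
The localizing closure of a class `P` as the objects with a transfinite filtration by subquotients of
coproducts of objects of `P`.
-/

set_option autoImplicit false
set_option linter.unusedSectionVars false
set_option linter.unusedVariables false
set_option linter.style.haveILetI false

universe w v u

open CategoryTheory CategoryTheory.Limits ZeroObject

namespace Groth.Misc13.GabLoc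

variable {C : Type u} [Category.{v} C] [Abelian C] [IsGrothendieckAbelian.{w} C] (P : ObjectProperty C)

/-- shorthand -/
abbrev SQ : ObjectProperty C := GabLoc.subquotCoprod.{w} P

instance : (SQ.{w} P).IsClosedUnderQuotients where
  prop_of_epi f _ := by
    rintro ⟨J, X, hX, B, i, p, hi, hp⟩
    exact ⟨J, X, hX, B, i, p ≫ f, hi, epi_comp _ _⟩

instance : (SQ.{w} P).IsClosedUnderSubobjects where
  prop_of_mono f _ := by
    rintro ⟨J, X, hX, B, i, p, hi, hp⟩
    exact ⟨J, X, hX, pullback p f, pullback.fst p f ≫ i, pullback.snd p f, mono_comp _ _,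
      inferInstance⟩

lemma sq_of_isZero {Z : C} (hZ : IsZero Z) : SQ.{w} P Z := by
  refine ⟨PEmpty.{w + 1}, PEmpty.elim, fun j => j.elim, _, 𝟙 _, 0, inferInstance, ⟨fun g h _ => ?_⟩⟩
  exact hZ.eq_of_src _ _

lemma sq_of_prop {Z : C} (hZ : P Z) : SQ.{w} P Z :=
  ⟨PUnit.{w + 1}, fun _ => Z, fun _ => hZ, _, 𝟙 _, Sigma.desc (fun _ => 𝟙 Z), inferInstance,
    ⟨fun g h e => by simpa using (Sigma.ι (fun _ : PUnit.{w + 1} => Z) PUnit.unit) ≫= e⟩⟩

/-- Every nonzero quotient has a nonzero subobject which is a subquotient of a coproduct from `P`. -/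
def R : ObjectProperty C := fun X =>
  ∀ ⦃Z : C⦄ (p : X ⟶ Z) [Epi p], ¬ IsZero Z → ∃ (T : C) (t : T ⟶ Z), Mono t ∧ ¬ IsZero T ∧ SQ.{w} P T

lemma exists_of_ne_zero {X Z : C} (hX : R.{w} P X) (f : X ⟶ Z) (hf : f ≠ 0) :
    ∃ (T : C) (t : T ⟶ Z), Mono t ∧ ¬ IsZero T ∧ SQ.{w} P T := by
  obtain ⟨T, t, ht, h0, hsq⟩ := hX (Abelian.factorThruImage f) (fun hz => hf (by
    rw [← Abelian.image.fac f, hz.eq_of_src (Abelian.image.ι f) 0, comp_zero]))
  exact ⟨T, t ≫ Abelian.image.ι f, mono_comp _ _, h0, hsq⟩

instance : (R.{w} P).ContainsZero where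
  exists_zero := ⟨0, isZero_zero C, fun Z p _ hZ => absurd (IsZero.of_epi p (isZero_zero C)) hZ⟩

instance : (R.{w} P).IsClosedUnderQuotients where
  prop_of_epi f _ hX Z p _ hZ := hX (f ≫ p) hZ

instance : (R.{w} P).IsClosedUnderExtensions where
  prop_X₂_of_shortExact {S} hS h₁ h₃ Z p _ hZ := by
    haveI := hS.epi_g
    by_cases h : S.f ≫ p = 0
    · obtain ⟨p', hp'⟩ := CokernelCofork.IsColimit.desc' hS.gIsCokernel p h
      haveI : Epi p' := by
        have : Epi (S.g ≫ p') := by dsimp at hp'; rw [hp']; infer_instance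
        exact epi_of_epi S.g p'
      exact h₃ p' hZ
    · exact exists_of_ne_zero P h₁ _ h

instance : (R.{w} P).IsClosedUnderSubobjects where
  prop_of_mono {Y X} m _ hX Z p _ hZ := by
    haveI : Mono (pushout.inr m p) := inferInstance
    set X' := pushout m p
    set A := Subobject.mk (pushout.inr m p)
    obtain ⟨K, -, hKA, hK⟩ := exists_maximal_disjoint A ⊥ (bot_inf_eq _)
    set π := cokernel.π K.arrow
    haveI hφ : Mono (A.arrow ≫ π) := (inf_eq_bot_iff A K).1 (by rwa [inf_comm])
    have hA : ¬ IsZero (cokernel K.arrow) := fun h =>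
      hZ (IsZero.of_iso (IsZero.of_mono (A.arrow ≫ π) h) (Subobject.underlyingIso _).symm)
    obtain ⟨T, t, ht, hT0, hsq⟩ := hX (pushout.inl m p ≫ π) hA
    set φ := Subobject.underlyingIso (pushout.inr m p) with hφdef
    refine ⟨pullback (φ.inv ≫ A.arrow ≫ π) t, pullback.fst _ _, inferInstance, fun h0 => ?_,
      (SQ.{w} P).prop_of_mono (pullback.snd _ _) hsq⟩
    have hm : Mono ((φ.inv ≫ A.arrow ≫ π) ≫ cokernel.π t) := by
      refine Preadditive.mono_of_cancel_zero _ (fun {V} x hx => ?_)
      have hex : (ShortComplex.mk t _ (cokernel.condition t)).Exact :=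
        ShortComplex.exact_of_g_is_cokernel _ (cokernelIsCokernel _)
      haveI : Mono (ShortComplex.mk t _ (cokernel.condition t)).f := ht
      have hl : hex.lift (x ≫ φ.inv ≫ A.arrow ≫ π) (by simpa using hx) ≫ t = x ≫ φ.inv ≫ A.arrow ≫ π :=
        hex.lift_f _ _
      rw [← pullback.lift_fst x _ hl.symm, h0.eq_of_tgt (pullback.lift x _ hl.symm) 0, zero_comp]
    haveI : Mono (cokernel.π t) := mono_of_maximal_disjoint hK (cokernel.π t) (by
      have : A.arrow ≫ π ≫ cokernel.π t = φ.hom ≫ (φ.inv ≫ A.arrow ≫ π) ≫ cokernel.π t := by simp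
      rw [this]; infer_instance)
    exact hT0 (IsZero.of_mono_eq_zero t (zero_of_comp_mono (cokernel.π t) (cokernel.condition t)))

instance : (R.{w} P).IsSerreClass where

lemma isLocalizing_R : GabLoc.IsLocalizing.{w} (R.{w} P) where
  isSerreClass := inferInstance
  isClosedUnderCoproducts J := ObjectProperty.IsClosedUnderColimitsOfShape.mk' (by
    rintro X ⟨F, hF⟩
    intro Z p _ hZ
    by_cases h : ∀ j, colimit.ι F j ≫ p = 0
    · exact absurd (IsZero.of_epi_eq_zero p (colimit.hom_ext fun j => by rw [h j, comp_zero])) hZ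
    · obtain ⟨j, hj⟩ := not_forall.1 h
      exact exists_of_ne_zero P (hF j) _ hj)

lemma R_of_locClosure {X : C} (hX : GabLoc.locClosure.{w} P X) : R.{w} P X :=
  hX _ (isLocalizing_R P) (fun Y hY Z p _ hZ =>
    ⟨Z, 𝟙 Z, inferInstance, hZ, (SQ.{w} P).prop_of_epi p (sq_of_prop P hY)⟩)

variable {P}

lemma exists_larger {X : C} (hX : R.{w} P X) (A : Subobject X) :
    ∃ (A' : Subobject X) (h : A ≤ A'), SQ.{w} P (cokernel (Subobject.ofLE A A' h)) ∧ (A ≠ ⊤ → A ≠ A') := by
  by_cases hA : A = ⊤
  · subst hA
    exact ⟨⊤, le_rfl, sq_of_isZero P (by rw [Subobject.ofLE_refl]; exact isZero_cokernel_of_epi _), fun h => absurd rfl h⟩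
  obtain ⟨T, t, ht, hT0, hsq⟩ := hX (cokernel.π A.arrow) (fun hz => hA (by
    haveI : Epi A.arrow := Abelian.epi_of_cokernel_π_eq_zero _ (hz.eq_of_tgt _ 0)
    exact (Subobject.isIso_arrow_iff_eq_top A).1 (isIso_of_mono_of_epi _)))
  set π := cokernel.π A.arrow
  let a : pullback π t ⟶ X := pullback.fst π t
  have hle : A ≤ Subobject.mk a :=
    Subobject.le_mk_of_comm (pullback.lift A.arrow 0 (by simp [π])) (pullback.lift_fst _ _ _)
  refine ⟨Subobject.mk a, hle, ?_, fun _ heq => ?_⟩
  · let i : (A : C) ⟶ (Subobject.mk a : C) := Subobject.ofLE A _ hle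
    let q : (Subobject.mk a : C) ⟶ T := (Subobject.underlyingIso a).hom ≫ pullback.snd π t
    have hi : i ≫ (Subobject.underlyingIso a).hom = pullback.lift A.arrow 0 (by simp [π]) := by
      rw [← cancel_mono a, Category.assoc, Subobject.underlyingIso_hom_comp_eq_mk,
        Subobject.ofLE_arrow]
      exact (pullback.lift_fst _ _ _).symm
    have hiq : i ≫ q = 0 := by
      rw [← Category.assoc, hi]; exact pullback.lift_snd _ _ _
    have hexA : (ShortComplex.mk A.arrow π (cokernel.condition _)).Exact :=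
      ShortComplex.exact_of_g_is_cokernel _ (cokernelIsCokernel _)
    haveI : Mono (ShortComplex.mk A.arrow π (cokernel.condition _)).f := inferInstanceAs (Mono A.arrow)
    have hlim : IsLimit (KernelFork.ofι i hiq) := KernelFork.IsLimit.ofι' i hiq (fun {V} k hk => by
      have h0 : (k ≫ (Subobject.mk a).arrow) ≫ π = 0 := by
        rw [← Subobject.underlyingIso_hom_comp_eq_mk, Category.assoc, Category.assoc]
        simp only [a, q] at hk ⊢
        rw [pullback.condition, ← Category.assoc (Subobject.underlyingIso _).hom, ← Category.assoc k,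
          hk, zero_comp]
      refine ⟨hexA.lift _ h0, ?_⟩
      rw [← cancel_mono (Subobject.mk a).arrow, Category.assoc, Subobject.ofLE_arrow]
      exact hexA.lift_f _ _)
    haveI : Epi q := by dsimp [q, π]; infer_instance
    have hex : (ShortComplex.mk i q hiq).Exact := ShortComplex.exact_of_f_is_kernel _ hlim
    haveI : Epi (ShortComplex.mk i q hiq).g := inferInstanceAs (Epi q)
    exact (SQ.{w} P).prop_of_iso
      (IsColimit.coconePointUniqueUpToIso hex.gIsCokernel (colimit.isColimit (parallelPair i 0))) hsq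
  · have h1 : a ≫ π = 0 := by
      rw [← Subobject.underlyingIso_arrow a, ← Subobject.ofLE_arrow heq.ge]
      simp only [π, Category.assoc, cokernel.condition, comp_zero]
    have h2 : pullback.snd π t ≫ t = 0 := pullback.condition.symm.trans h1
    exact hT0 (IsZero.of_mono_eq_zero t (by rw [← cancel_epi (pullback.snd π t), h2, comp_zero]))

/-- A larger subobject with quotient in `subquotCoprod P`. -/
noncomputable def larger {X : C} (hX : R.{w} P X) (A : Subobject X) : Subobject X :=
  (exists_larger hX A).choose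

lemma le_larger {X : C} (hX : R.{w} P X) (A : Subobject X) : A ≤ larger hX A :=
  (exists_larger hX A).choose_spec.choose

lemma lt_larger {X : C} (hX : R.{w} P X) (A : Subobject X) (hA : A ≠ ⊤) : A < larger hX A :=
  lt_of_le_of_ne (le_larger hX A) ((exists_larger hX A).choose_spec.choose_spec.2 hA)

lemma monoMod_ofLE {X : C} (hX : R.{w} P X) {A A' : Subobject X} (h : A ≤ A')
    (he : A' = larger hX A) : GabLoc.monoModSubquot.{w} P (Subobject.ofLE A A' h) := by
  subst he
  exact ⟨inferInstance, (exists_larger hX A).choose_spec.choose_spec.1⟩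

section

variable {X : C} (hX : R.{w} P X) (J : Type w) [LinearOrder J] [OrderBot J] [SuccOrder J]
  [WellFoundedLT J]

/-- The transfinite filtration. -/
@[simps]
noncomputable def filt : J ⥤ MonoOver X where
  obj j := MonoOver.mk (transfiniteIterate (larger hX) j ⊥).arrow
  map {j j'} f := MonoOver.homMk (Subobject.ofLE _ _
      (monotone_transfiniteIterate _ _ (le_larger hX) (leOfHom f)))

/-- The underlying diagram of objects. -/
noncomputable abbrev filtObj : J ⥤ C := filt hX J ⋙ MonoOver.forget _ ⋙ Over.forget _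

set_option backward.defeqAttrib.useBackward true in
instance : (filtObj hX J).IsWellOrderContinuous where
  nonempty_isColimit m hm := ⟨by
    have := hm.nonempty_Iio.to_subtype
    let c := (Set.principalSegIio m).cocone (filt hX J ⋙ MonoOver.forget _)
    have : Mono c.pt.hom := by dsimp [c]; infer_instance
    apply IsGrothendieckAbelian.isColimitMapCoconeOfSubobjectMkEqISup
      ((Set.principalSegIio m).monotone.functor ⋙ filt hX J) c
    dsimp [c]
    simp only [Subobject.mk_arrow]
    exact transfiniteIterate_limit (larger hX) ⊥ m hm⟩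

set_option backward.isDefEq.respectTransparency.types false in
set_option backward.defeqAttrib.useBackward true in
variable {J} in
/-- The composite from the bottom. -/
noncomputable def filtComp (j : J) :
    (GabLoc.monoModSubquot.{w} P).TransfiniteCompositionOfShape (Set.Iic j)
    ((filtObj hX J).map (homOfLE bot_le : ⊥ ⟶ j)) where
  F := (Set.initialSegIic j).monotone.functor ⋙ filtObj hX J
  isoBot := Iso.refl _
  incl :=
    { app k := (filtObj hX J).map (homOfLE k.2)
      naturality k k' h := by simp [MonoOver.forget] }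
  isColimit := colimitOfDiagramTerminal isTerminalTop _
  map_mem k hk := by
    dsimp [MonoOver.forget]
    exact monoMod_ofLE hX _ (by
      rw [Set.Iic.succ_eq_of_not_isMax hk, transfiniteIterate_succ _ _ _ (Set.not_isMax_coe _ hk)])

end

theorem transfinite_of_R {X : C} (hX : R.{w} P X) :
    MorphismProperty.transfiniteCompositions.{w} (GabLoc.monoModSubquot.{w} P) (0 : (0 : C) ⟶ X) := by
  let κ := Order.succ (Cardinal.mk (Shrink.{w} (Subobject X)))
  have : Nonempty κ.ord.ToType := by simp [κ]
  have := WellFoundedLT.toOrderBot κ.ord.ToType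
  have hJ : HasCardinalLT (Subobject X) (Cardinal.mk κ.ord.ToType) :=
    lt_of_lt_of_le (Order.lt_succ _) (by simp [κ])
  obtain ⟨j, hj⟩ := top_mem_range_transfiniteIterate (J := κ.ord.ToType) (larger hX) ⊥ (lt_larger hX)
    (top_unique (le_larger hX ⊤))
    (fun h ↦ by simpa [hasCardinalLT_iff_cardinal_mk_lt] using hJ.of_injective _ h)
  rw [MorphismProperty.transfiniteCompositions_iff]
  refine ⟨Set.Iic j, inferInstance, inferInstance, inferInstance, inferInstance, ⟨?_⟩⟩
  let t : Subobject X := transfiniteIterate (larger hX) j ⊥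
  haveI : IsIso t.arrow := (Subobject.isIso_arrow_iff_eq_top t).2 hj
  refine (filtComp hX j).ofArrowIso (Arrow.isoMk
    ((Subobject.isoOfEq _ _ (transfiniteIterate_bot _ _)) ≪≫ Subobject.botCoeIsoZero)
    (asIso (X := (t : C)) t.arrow) ?_)
  have h0 : (transfiniteIterate (larger hX) (⊥ : κ.ord.ToType) ⊥).arrow = 0 := by
    rw [transfiniteIterate_bot]
    exact Subobject.bot_arrow
  exact comp_zero.trans ((Subobject.ofLE_arrow (monotone_transfiniteIterate _ _ (le_larger hX)
    (bot_le : (⊥ : κ.ord.ToType) ≤ j))).trans h0).symm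

variable (P)

lemma locClosure_of_transfinite {X : C}
    (h : MorphismProperty.transfiniteCompositions.{w} (GabLoc.monoModSubquot.{w} P) (0 : (0 : C) ⟶ X)) :
    GabLoc.locClosure.{w} P X := by
  intro Q hQ hPQ
  haveI := hQ.isSerreClass
  haveI := hQ.isClosedUnderCoproducts
  rw [MorphismProperty.transfiniteCompositions_iff] at h
  obtain ⟨J, _, _, _, _, ⟨hf⟩⟩ := h
  have hcolim : ∀ {K : Type w} [SmallCategory K] {D : K ⥤ C} {c : Cocone D},
      IsColimit c → (∀ k, Q (D.obj k)) → Q c.pt := by
    intro K _ D c hc hD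
    haveI : Epi (Sigma.desc c.ι.app) := ⟨fun g g' e => hc.hom_ext fun k => by
      simpa using Sigma.ι D.obj k ≫= e⟩
    exact Q.prop_of_epi (Sigma.desc c.ι.app) (Q.prop_colimit _ (fun k => hD k.as))
  have hsq : ∀ {T : C}, SQ.{w} P T → Q T := by
    rintro T ⟨K, Y, hY, B, i, p, hi, hp⟩
    exact Q.prop_of_epi p (Q.prop_of_mono i (Q.prop_colimit _ (fun k => hPQ _ (hY k.as))))
  have key : ∀ j, Q (hf.F.obj j) := by
    intro j
    induction j using SuccOrder.limitRecOn with
    | isMin j hj =>
      obtain rfl := hj.eq_bot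
      exact Q.prop_of_iso hf.isoBot.symm (Q.prop_of_isZero (isZero_zero C))
    | succ j hj hj' =>
      obtain ⟨hm, hc⟩ := hf.map_mem j hj
      exact Q.prop_X₂_of_shortExact
        (S := ShortComplex.mk (hf.F.map (homOfLE (Order.le_succ j))) _ (cokernel.condition _))
        { exact := ShortComplex.exact_of_g_is_cokernel _ (cokernelIsCokernel _) } hj' (hsq hc)
    | isSuccLimit j hj hj' =>
      exact hcolim (hf.F.isColimitOfIsWellOrderContinuous j hj) (fun k => hj' _ k.2)
  exact hcolim hf.isColimit key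

theorem locClosure_iff (X : C) :
    GabLoc.locClosure.{w} P X ↔
      MorphismProperty.transfiniteCompositions.{w} (GabLoc.monoModSubquot.{w} P) (0 : (0 : C) ⟶ X) :=
  ⟨fun h => transfinite_of_R (R_of_locClosure P h), locClosure_of_transfinite P⟩

end Groth.Misc13.GabLoc
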