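import Mathlib

/-!
Kähler differentials of an algebra whose geometric fibre has small embedding dimension.
-/

set_option autoImplicit false

universe u

open TensorProduct IsLocalRing

namespace Groth.Misc13.KaehlerGen

attribute [local instance] Algebra.TensorProduct.rightAlgebra

theorem dim_le_of_isIntegral (F W : Type u) [CommRing F] [CommRing W] [Algebra F W]
    [Algebra.IsIntegral F W] : ringKrullDim W ≤ ringKrullDim F :=
  Order.krullDim_le_of_strictMono (PrimeSpectrum.comap (algebraMap F W)) fun x y hxy => by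
    have := x.isPrime
    exact Ideal.IsIntegral.comap_lt_comap (R := F) (I := x.asIdeal) (J := y.asIdeal) hxy

/-- At a rational point the differentials are spanned by generators of the maximal ideal. -/
theorem finrank_kaehler_point (F B : Type u) [Field F] [CommRing B] [Algebra F B]
    [IsNoetherianRing B] (q : Ideal B) [q.IsMaximal] (hq : Function.Surjective (algebraMap F (B ⧸ q))) :
    Module.finrank (B ⧸ q) ((B ⧸ q) ⊗[B] Ω[B⁄F]) ≤
      Module.finrank (ResidueField (Localization.AtPrime q)) (CotangentSpace (Localization.AtPrime q)) := by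
  classical
  let L := Localization.AtPrime q
  rw [← spanFinrank_maximalIdeal_eq_finrank_cotangentSpace L]
  obtain ⟨t, htcard, htspan⟩ :=
    Submodule.FG.exists_span_finset_card_eq_spanFinrank (maximalIdeal L).fg_of_isNoetherianRing
  choose a u hau using fun g : L => IsLocalization.exists_mk'_eq q.primeCompl g
  let s : Finset B := t.image a
  have hs : ∀ x ∈ q, ∃ v : B, v ∉ q ∧ v * x ∈ Ideal.span (s : Set B) := fun x hx => by
    have hx' : algebraMap B L x ∈ (Ideal.span (s : Set B)).map (algebraMap B L) := by
      have h1 : algebraMap B L x ∈ maximalIdeal L := by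
        rw [← Localization.AtPrime.map_eq_maximalIdeal]
        exact Ideal.mem_map_of_mem _ hx
      rw [← htspan] at h1
      refine (Submodule.span_le (p := (Ideal.span (s : Set B)).map (algebraMap B L))).2 ?_ h1
      intro g hg
      rw [SetLike.mem_coe, ← hau g, IsLocalization.mk'_mem_map_algebraMap_iff]
      refine ⟨1, one_mem _, ?_⟩
      rw [one_mul]
      exact Ideal.subset_span (Finset.mem_coe.2 (Finset.mem_image_of_mem a hg))
    obtain ⟨v, hv, hvx⟩ := (IsLocalization.algebraMap_mem_map_algebraMap_iff q.primeCompl L _ x).1 hx'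
    exact ⟨v, hv, hvx⟩
  have hsq : (s : Set B) ⊆ q := fun b hb => by
    obtain ⟨g, hg, rfl⟩ := Finset.mem_image.1 (Finset.mem_coe.1 hb)
    have hgm : g ∈ maximalIdeal L := htspan ▸ Submodule.subset_span hg
    rw [← hau g, IsLocalization.AtPrime.mk'_mem_maximal_iff L q] at hgm
    exact hgm
  let κ := B ⧸ q
  let _ : Field κ := Ideal.Quotient.field q
  let δ : B → κ ⊗[B] Ω[B⁄F] := fun b => (1 : κ) ⊗ₜ[B] (KaehlerDifferential.D F B b)
  let W : Submodule κ (κ ⊗[B] Ω[B⁄F]) := Submodule.span κ (δ '' (s : Set B))
  have hsm : ∀ (c : B) (m : κ ⊗[B] Ω[B⁄F]), c • m = Ideal.Quotient.mk q c • m := fun c m =>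
    (algebraMap_smul κ c m).symm
  have hmulq : ∀ c, ∀ x ∈ q, δ (c * x) = Ideal.Quotient.mk q c • δ x := fun c x hx => by
    simp only [δ, Derivation.leibniz, tmul_add, tmul_smul, hsm x, Ideal.Quotient.eq_zero_iff_mem.2 hx,
      zero_smul, add_zero]
    exact hsm c _
  have hadd : ∀ x y, δ (x + y) = δ x + δ y := fun x y => by simp only [δ, map_add, tmul_add]
  have hspan : ∀ x ∈ Ideal.span (s : Set B), δ x ∈ W := fun x hx => by
    induction hx using Submodule.span_induction with
    | mem y hy => exact Submodule.subset_span ⟨y, hy, rfl⟩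
    | zero => simp only [δ, map_zero, tmul_zero]; exact W.zero_mem
    | add y z _ _ h h' => rw [hadd]; exact W.add_mem h h'
    | smul c y hy h =>
      rw [smul_eq_mul, hmulq c y (Submodule.span_le.2 (fun b hb => hsq hb) hy)]
      exact W.smul_mem _ h
  have hall : ∀ x, δ x ∈ W := fun x => by
    obtain ⟨c, hc⟩ := hq (Ideal.Quotient.mk q x)
    have hxc : x - algebraMap F B c ∈ q := by
      rw [← Ideal.Quotient.eq_zero_iff_mem, map_sub, ← hc, Ideal.Quotient.mk_algebraMap, sub_self]
    have e : δ x = δ (x - algebraMap F B c) := by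
      simp only [δ, map_sub, Derivation.map_algebraMap, sub_zero]
    obtain ⟨v, hv, hvx⟩ := hs _ hxc
    have h := hspan _ hvx
    rw [hmulq v _ hxc] at h
    have hv0 : Ideal.Quotient.mk q v ≠ 0 := fun h0 => hv (Ideal.Quotient.eq_zero_iff_mem.1 h0)
    rw [e, ← inv_smul_smul₀ hv0 (δ (x - algebraMap F B c))]
    exact W.smul_mem _ h
  have htop : W = ⊤ := by
    rw [eq_top_iff]
    intro m hm
    clear hm
    induction m with
    | zero => exact W.zero_mem
    | add y z h h' => exact W.add_mem h h'
    | tmul r ω =>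
      have hω : ω ∈ Submodule.span B (Set.range (KaehlerDifferential.D F B)) := by
        rw [KaehlerDifferential.span_range_derivation]; trivial
      induction hω using Submodule.span_induction generalizing r with
      | mem y hy =>
        obtain ⟨b, rfl⟩ := hy
        have : r ⊗ₜ[B] KaehlerDifferential.D F B b = r • δ b := by
          simp only [δ, smul_tmul', smul_eq_mul, mul_one]
        rw [this]
        exact W.smul_mem _ (hall b)
      | zero => rw [tmul_zero]; exact W.zero_mem
      | add y z _ _ h h' => rw [tmul_add]; exact W.add_mem (h r) (h' r)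
      | smul c y _ h => rw [← smul_tmul]; exact h _
  calc Module.finrank κ (κ ⊗[B] Ω[B⁄F]) = Module.finrank κ W := by rw [htop]; exact (finrank_top _ _).symm
    _ ≤ (s.image δ).card := by
      have := finrank_span_finset_le_card (R := κ) (s.image δ)
      rw [Finset.coe_image] at this
      exact this
    _ ≤ t.card := le_trans Finset.card_image_le Finset.card_image_le
    _ = _ := htcard

/-- Few generators after reduction give few generators near a maximal ideal. -/
theorem exists_local_generators {A : Type u} [CommRing A] {M : Type u} [AddCommGroup M] [Module A M]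
    [Module.Finite A M] (m : Ideal A) [m.IsMaximal] {r : ℕ}
    (h : Module.finrank (A ⧸ m) ((A ⧸ m) ⊗[A] M) ≤ r) :
    ∃ t : Finset M, t.card ≤ r ∧ ∀ x, ∃ a ∉ m, a • x ∈ Submodule.span A (t : Set M) := by
  classical
  let _ : Field (A ⧸ m) := Ideal.Quotient.field m
  let κ := A ⧸ m
  let φ : M →ₗ[A] κ ⊗[A] M := TensorProduct.mk A κ M 1
  have hφ : Function.Surjective φ := TensorProduct.mk_surjective A M κ Ideal.Quotient.mk_surjective
  let b := Module.finBasis κ (κ ⊗[A] M)
  choose w hw using fun i => hφ (b i)
  refine ⟨Finset.univ.image w, Finset.card_image_le.trans (by simpa using h), fun x => ?_⟩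
  rw [Finset.coe_image, Finset.coe_univ, Set.image_univ]
  set N : Submodule A M := Submodule.span A (Set.range w)
  have hmap : N.map φ = ⊤ := by
    rw [Submodule.map_span, ← Set.range_comp, show φ ∘ w = b from funext hw]
    have h1 : Submodule.restrictScalars A (Submodule.span κ (Set.range b)) = ⊤ := by
      rw [b.span_eq, Submodule.restrictScalars_top]
    rwa [Submodule.restrictScalars_span A κ Ideal.Quotient.mk_surjective] at h1
  have hle : (⊤ : Submodule A M) ≤ N ⊔ m • ⊤ := fun y _ => by
    obtain ⟨z, hz, hzy⟩ := hmap.ge (Submodule.mem_top (x := φ y))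
    have hk : (Submodule.Quotient.mk (y - z) : M ⧸ m • (⊤ : Submodule A M)) = 0 := by
      have h2 : φ (y - z) = 0 := by rw [map_sub, hzy, sub_self]
      have h3 := congrArg (quotTensorEquivQuotSMul M m) h2
      rw [map_zero] at h3
      exact (quotTensorEquivQuotSMul_mk_one_tmul m (y - z)).symm.trans h3
    exact (add_sub_cancel z y) ▸ Submodule.add_mem_sup hz ((Submodule.Quotient.mk_eq_zero _).1 hk)
  have hQ : (⊤ : Submodule A (M ⧸ N)) ≤ m • (⊤ : Submodule A (M ⧸ N)) := by
    have h1 := Submodule.map_mono (f := N.mkQ) hle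
    rwa [Submodule.map_sup, Submodule.map_top, Submodule.range_mkQ, Submodule.mkQ_map_self, bot_sup_eq,
      Submodule.map_smul'', Submodule.map_top, Submodule.range_mkQ] at h1
  obtain ⟨a, ha, han⟩ :=
    Submodule.exists_sub_one_mem_and_smul_eq_zero_of_fg_of_le_smul m _ Module.Finite.fg_top hQ
  refine ⟨a, fun h' => ‹m.IsMaximal›.ne_top ((Ideal.eq_top_iff_one _).2 ?_), ?_⟩
  · simpa using m.sub_mem h' ha
  · rw [← Submodule.Quotient.mk_eq_zero N, Submodule.Quotient.mk_smul]
    exact han _ trivial

theorem main {K : Type u} [Field K] {Kb : Type u} [Field Kb] [Algebra K Kb] [IsAlgClosed Kb]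
    [Algebra.IsAlgebraic K Kb] {A : Type u} [CommRing A] [Algebra K A] [Algebra.FiniteType K A]
    (hhyp : ∀ (q : Ideal (TensorProduct K Kb A)) [q.IsPrime],
      (Module.finrank (IsLocalRing.ResidueField (Localization.AtPrime q))
          (IsLocalRing.CotangentSpace (Localization.AtPrime q)) : ℕ∞) ≤ q.height + 1)
    (d : ℕ) (hd : ringKrullDim A = d) (p : Ideal A) [p.IsPrime] :
    ∃ s : Finset (LocalizedModule p.primeCompl (KaehlerDifferential K A)),
      s.card ≤ d + 1 ∧ Submodule.span (Localization.AtPrime p) (s : Set (LocalizedModule p.primeCompl (KaehlerDifferential K A))) = ⊤ := by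
  classical
  let B := TensorProduct K Kb A
  obtain ⟨m, hm, hpm⟩ := p.exists_le_maximal (Ideal.IsPrime.ne_top')
  have : Module.Finite A Ω[A⁄K] := inferInstance
  have : Algebra.IsPushout K A Kb B := inferInstance
  have : Algebra.IsPushout K Kb A B := inferInstance
  have : Algebra.IsIntegral K Kb := inferInstance
  have : Algebra.IsIntegral A B := ⟨fun b => by
    induction b using TensorProduct.induction_on with
    | zero => exact isIntegral_zero
    | add y z h h' => exact h.add h'
    | tmul x a =>
      have e : x ⊗ₜ[K] a = (Algebra.TensorProduct.includeLeft (S := K) (B := A) x) * algebraMap A B a := by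
        simp [B, RingHom.algebraMap_toAlgebra]
      rw [e]
      exact (IsIntegral.tower_top ((Algebra.IsIntegral.isIntegral (R := K) x).map
        (Algebra.TensorProduct.includeLeft (R := K) (S := K) (A := Kb) (B := A)))).mul isIntegral_algebraMap⟩
  have : Algebra.FiniteType Kb B := inferInstance
  have : IsNoetherianRing B := Algebra.FiniteType.isNoetherianRing Kb B
  have hker : RingHom.ker (algebraMap A B) = ⊥ := (RingHom.injective_iff_ker_eq_bot _).1
    (Algebra.TensorProduct.includeRight_injective (R := K) (A := Kb) (B := A) (algebraMap K Kb).injective)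
  obtain ⟨q, hqmax, hqm⟩ := Ideal.exists_ideal_over_maximal_of_isIntegral (S := B) m (hker ▸ bot_le)
  have : q.LiesOver m := ⟨hqm.symm⟩
  have : Algebra.IsIntegral Kb (B ⧸ q) := by
    have := Algebra.FiniteType.trans (S := B) (A := B ⧸ q) ‹Algebra.FiniteType Kb B› inferInstance
    let _ : Field (B ⧸ q) := Ideal.Quotient.field q
    have := finite_of_finite_type_of_isJacobsonRing Kb (B ⧸ q)
    exact Algebra.IsIntegral.of_finite Kb (B ⧸ q)
  have hsurj : Function.Surjective (algebraMap Kb (B ⧸ q)) :=
    IsAlgClosed.algebraMap_bijective_of_isIntegral.surjective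
  have hpt := finrank_kaehler_point Kb B q hsurj
  have hr : Module.finrank (B ⧸ q) ((B ⧸ q) ⊗[B] Ω[B⁄Kb]) ≤ d + 1 := by
    refine hpt.trans ?_
    have h1 := hhyp q
    have h2 : (q.height : WithBot ℕ∞) ≤ (d : WithBot ℕ∞) :=
      (Ideal.height_le_ringKrullDim_of_ne_top hqmax.ne_top).trans
        ((dim_le_of_isIntegral A B).trans hd.le)
    have h3 : q.height ≤ (d : ℕ∞) := by exact_mod_cast h2
    exact_mod_cast h1.trans (add_le_add h3 le_rfl)
  let _ : Field (A ⧸ m) := Ideal.Quotient.field m
  let _ : Field (B ⧸ q) := Ideal.Quotient.field q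
  have hdim : Module.finrank (A ⧸ m) ((A ⧸ m) ⊗[A] Ω[A⁄K]) ≤ d + 1 := by
    let e₁ := AlgebraTensorModule.congr (LinearEquiv.refl (B ⧸ q) (B ⧸ q))
      (KaehlerDifferential.tensorKaehlerEquiv K Kb A B)
    let e₂ := AlgebraTensorModule.cancelBaseChange A B (B ⧸ q) (B ⧸ q) Ω[A⁄K]
    let e₃ := AlgebraTensorModule.cancelBaseChange A (A ⧸ m) (B ⧸ q) (B ⧸ q) Ω[A⁄K]
    rw [(e₁.symm ≪≫ₗ e₂ ≪≫ₗ e₃.symm).finrank_eq, Module.finrank_baseChange] at hr
    exact hr
  obtain ⟨t, htc, ht⟩ := exists_local_generators m hdim
  refine ⟨t.image (LocalizedModule.mkLinearMap p.primeCompl Ω[A⁄K]),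
    Finset.card_image_le.trans htc, eq_top_iff.2 fun z _ => ?_⟩
  rw [Finset.coe_image]
  induction z using LocalizedModule.induction_on with
  | h x s =>
    obtain ⟨a, ha, hax⟩ := ht x
    have hap : a ∈ p.primeCompl := fun h => ha (hpm h)
    have key : ∀ y ∈ Submodule.span A (t : Set Ω[A⁄K]),
        LocalizedModule.mkLinearMap p.primeCompl _ y ∈ Submodule.span (Localization.AtPrime p)
          (LocalizedModule.mkLinearMap p.primeCompl _ '' (t : Set Ω[A⁄K])) := fun y hy =>
      Submodule.span_subset_span A (Localization.AtPrime p) _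
        ((Submodule.map_span (LocalizedModule.mkLinearMap p.primeCompl _) _).le ⟨y, hy, rfl⟩)
    have e : LocalizedModule.mk x s = Localization.mk 1 (⟨a, hap⟩ * s) •
        LocalizedModule.mkLinearMap p.primeCompl _ (a • x) := by
      rw [LocalizedModule.mkLinearMap_apply, LocalizedModule.mk_smul_mk, one_smul, mul_one]
      exact (LocalizedModule.mk_cancel_common_left ⟨a, hap⟩ s x).symm
    rw [e]
    exact Submodule.smul_mem _ _ (key _ hax)

end Groth.Misc13.KaehlerGen
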