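import Groth.Prelude.Def_LiftSq
import Groth.Prelude.Def_FibCat2
import Groth.Prelude.Def_ThetaS

/-! Stability of unique lifting against a fixed functor under composition and base change. -/

set_option autoImplicit false

universe v₆ u₆ v₅ u₅ v₄ u₄ v₃ u₃ v₂ u₂ v u

open CategoryTheory

namespace Groth.Misc13.LiftStab

open LiftSq

variable {C : Type u} [Category.{v} C]
  {𝒜 : BasedCategory.{v₂, u₂} C} {ℬ : BasedCategory.{v₃, u₃} C}
  {𝒳 : BasedCategory.{v₄, u₄} C} {𝒴 : BasedCategory.{v₅, u₅} C}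
  {𝒵 : BasedCategory.{v₆, u₆} C}

/-- Whiskering an isomorphism on the right. -/
def wR {F G : 𝒜 ⥤ᵇ ℬ} (α : F ≅ G) (H : ℬ ⥤ᵇ 𝒳) : BasedFunctor.comp F H ≅ BasedFunctor.comp G H where
  hom := BasedCategory.whiskerRight α.hom H
  inv := BasedCategory.whiskerRight α.inv H
  hom_inv_id := by rw [← whiskerRight_comp', α.hom_inv_id, whiskerRight_id']
  inv_hom_id := by rw [← whiskerRight_comp', α.inv_hom_id, whiskerRight_id']

/-- Whiskering an isomorphism on the left. -/
def wL (F : 𝒜 ⥤ᵇ ℬ) {G H : ℬ ⥤ᵇ 𝒳} (α : G ≅ H) : BasedFunctor.comp F G ≅ BasedFunctor.comp F H where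
  hom := BasedCategory.whiskerLeft F α.hom
  inv := BasedCategory.whiskerLeft F α.inv
  hom_inv_id := by rw [← whiskerLeft_comp', α.hom_inv_id, whiskerLeft_id']
  inv_hom_id := by rw [← whiskerLeft_comp', α.inv_hom_id, whiskerLeft_id']

theorem hext {F G : 𝒜 ⥤ᵇ ℬ} {α β : F ⟶ G} (h : ∀ a, α.app a = β.app a) : α = β := by
  apply BasedNatTrans.homCategory.ext
  ext a
  exact h a

theorem app_eq {F G : 𝒜 ⥤ᵇ ℬ} {α β : F ⟶ G} (h : α = β) (a : 𝒜.obj) : α.app a = β.app a := by rw [h]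

/-- Morphisms of dotted arrows are unique and exist: a convenient restatement. -/
theorem uniq {j : 𝒜 ⥤ᵇ ℬ} {f : 𝒳 ⥤ᵇ 𝒴} (hf : LiftsUniquely j f) {sq : Sq j f} (d d' : sq.Lift)
    (θ θ' : d ⟶ d') : θ = θ' := by
  obtain ⟨h⟩ := (hf sq).2 d d'
  exact (h.uniq θ).trans (h.uniq θ').symm

theorem nonemptyHom {j : 𝒜 ⥤ᵇ ℬ} {f : 𝒳 ⥤ᵇ 𝒴} (hf : LiftsUniquely j f) {sq : Sq j f} (d d' : sq.Lift) :
    Nonempty (d ⟶ d') := by
  obtain ⟨h⟩ := (hf sq).2 d d'
  exact ⟨h.default⟩

theorem comp {j : 𝒜 ⥤ᵇ ℬ} {f : 𝒳 ⥤ᵇ 𝒴} {g : 𝒴 ⥤ᵇ 𝒵}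
    (hf : LiftsUniquely j f) (hg : LiftsUniquely j g) : LiftsUniquely j (BasedFunctor.comp f g) := by
  intro sq
  let sg : Sq j g := ⟨BasedFunctor.comp sq.top f, sq.bot, sq.iso⟩
  constructor
  · obtain ⟨y⟩ := (hg sg).1
    let sf : Sq j f := ⟨sq.top, y.fn, y.isoTop⟩
    obtain ⟨x⟩ := (hf sf).1
    refine ⟨⟨x.fn, x.isoTop, y.isoBot ≪≫ wR x.isoBot g, ?_⟩⟩
    refine hext fun a => ?_
    have h1 := app_eq y.w a
    have h2 := app_eq x.w a
    change y.isoBot.hom.app (j.obj a) ≫ g.map (y.isoTop.hom.app a) = sq.iso.hom.app a at h1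
    change x.isoBot.hom.app (j.obj a) ≫ f.map (x.isoTop.hom.app a) = y.isoTop.hom.app a at h2
    change (y.isoBot.hom.app (j.obj a) ≫ g.map (x.isoBot.hom.app (j.obj a))) ≫
      g.map (f.map (x.isoTop.hom.app a)) = sq.iso.hom.app a
    exact (Category.assoc _ _ _).trans ((congrArg (fun m => y.isoBot.hom.app (j.obj a) ≫ m)
      ((g.toFunctor.map_comp _ _).symm.trans (congrArg g.map h2))).trans h1)
  · intro d d'
    let lg : sq.Lift → sg.Lift := fun d => ⟨BasedFunctor.comp d.fn f, wR d.isoTop f, d.isoBot, d.w⟩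
    obtain ⟨t⟩ := nonemptyHom hg (lg d) (lg d')
    obtain ⟨t'⟩ := nonemptyHom hg (lg d') (lg d)
    have e1 : t.hom ≫ t'.hom = 𝟙 _ := congrArg Sq.Lift.Hom.hom (uniq hg _ _ (t ≫ t') (𝟙 _))
    have e2 : t'.hom ≫ t.hom = 𝟙 _ := congrArg Sq.Lift.Hom.hom (uniq hg _ _ (t' ≫ t) (𝟙 _))
    let ti : BasedFunctor.comp d.fn f ≅ BasedFunctor.comp d'.fn f := ⟨t.hom, t'.hom, e1, e2⟩
    let sf : Sq j f := ⟨sq.top, BasedFunctor.comp d.fn f, wR d.isoTop f⟩
    let l : sf.Lift := ⟨d.fn, d.isoTop, Iso.refl _, hext fun a => Category.id_comp _⟩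
    let l' : sf.Lift := ⟨d'.fn, d'.isoTop, ti, by
      refine hext fun a => ?_
      have := app_eq t.w_top a
      exact this⟩
    obtain ⟨s⟩ := nonemptyHom hf l l'
    have hs : ∀ (θ : d.fn ⟶ d'.fn), (Iso.refl (BasedFunctor.comp d.fn f)).hom ≫ BasedCategory.whiskerRight θ f =
        BasedCategory.whiskerRight θ f := fun θ => Category.id_comp _
    have hs' : BasedCategory.whiskerRight s.hom f = t.hom := (hs s.hom).symm.trans s.w_bot
    refine ⟨⟨⟨s.hom, s.w_top, ?_⟩⟩, ?_⟩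
    · refine hext fun a => ?_
      have h1 := app_eq t.w_bot a
      change d.isoBot.hom.app a ≫ g.map (t.hom.app a) = d'.isoBot.hom.app a at h1
      change d.isoBot.hom.app a ≫ g.map (f.map (s.hom.app a)) = d'.isoBot.hom.app a
      rw [show f.map (s.hom.app a) = t.hom.app a from app_eq hs' a]
      exact h1
    · intro θ
      let tg : lg d ⟶ lg d' := ⟨BasedCategory.whiskerRight θ.hom f, by
          refine hext fun a => ?_
          have := app_eq θ.w_top a
          change f.map (θ.hom.app (j.obj a)) ≫ f.map (d'.isoTop.hom.app a) = f.map (d.isoTop.hom.app a)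
          exact (f.toFunctor.map_comp _ _).symm.trans (congrArg f.map this), θ.w_bot⟩
      have e : BasedCategory.whiskerRight θ.hom f = t.hom := congrArg Sq.Lift.Hom.hom (uniq hg _ _ tg t)
      let sθ : l ⟶ l' := ⟨θ.hom, θ.w_top, (hs θ.hom).trans e⟩
      exact Sq.Lift.hom_ext (congrArg (fun w : l ⟶ l' => w.hom) (uniq hf _ _ sθ s))

section BaseChange

open FibCat

variable {𝒴' : BasedCategory.{v₆, u₆} C}

theorem baseChange {j : 𝒜 ⥤ᵇ ℬ} {f : 𝒳 ⥤ᵇ 𝒴} (y : 𝒴' ⥤ᵇ 𝒴)
    (hf : LiftsUniquely j f) : LiftsUniquely j (fpFst y f) := by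
  intro sq
  let sf : Sq j f := ⟨BasedFunctor.comp sq.top (fpSnd y f), BasedFunctor.comp sq.bot y,
    wR sq.iso y ≪≫ wL sq.top (fpIso y f)⟩
  constructor
  · obtain ⟨x⟩ := (hf sf).1
    let L := fpLift sq.bot x.fn x.isoBot
    have sqw : ∀ a, y.map (sq.iso.hom.app a) ≫ (sq.top.obj a).obj.iso.hom =
        x.isoBot.hom.app (j.obj a) ≫ f.map (x.isoTop.hom.app a) := fun a => (app_eq x.w a).symm
    let nt : (BasedFunctor.comp j L).toFunctor ≅ sq.top.toFunctor :=
      NatIso.ofComponents (fun a => ObjectProperty.isoMk _ (Limits.CategoricalPullback.mkIso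
          (((BasedNatTrans.forgetful _ _).mapIso sq.iso).app a)
          (((BasedNatTrans.forgetful _ _).mapIso x.isoTop).app a) (sqw a)))
        (fun {a a'} φ => by
          apply ObjectProperty.hom_ext
          apply Limits.CategoricalPullback.hom_ext
          · exact sq.iso.hom.toNatTrans.naturality φ
          · exact x.isoTop.hom.toNatTrans.naturality φ)
    let it : BasedFunctor.comp j L ≅ sq.top := BasedNatIso.mkNatIso nt (fun a => by
      have h : 𝒴'.p.IsHomLift (𝟙 (𝒜.p.obj a)) (sq.iso.hom.app a) := sq.iso.hom.isHomLift' a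
      change (fp y f).p.IsHomLift (𝟙 (𝒜.p.obj a)) (nt.hom.app a)
      refine IsHomLift.of_fac' _ _ _ ((BasedFunctor.comp j L).w_obj a) (sq.top.w_obj a) ?_
      exact IsHomLift.fac' 𝒴'.p (𝟙 (𝒜.p.obj a)) (sq.iso.hom.app a))
    refine ⟨⟨L, it, Iso.refl _, hext fun a => ?_⟩⟩
    exact Category.id_comp _
  · intro d d'
    let lf : sq.Lift → sf.Lift := fun d =>
      ⟨BasedFunctor.comp d.fn (fpSnd y f), wR d.isoTop (fpSnd y f),
        wR d.isoBot y ≪≫ wL d.fn (fpIso y f), by
        refine hext fun a => ?_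
        have h1 : d.isoBot.hom.app (j.obj a) ≫ (d.isoTop.hom.app a).hom.fst = sq.iso.hom.app a := app_eq d.w a
        have h2 := (d.isoTop.hom.app a).hom.w
        change (y.map (d.isoBot.hom.app (j.obj a)) ≫ (d.fn.obj (j.obj a)).obj.iso.hom) ≫
            f.map (d.isoTop.hom.app a).hom.snd = y.map (sq.iso.hom.app a) ≫ (sq.top.obj a).obj.iso.hom
        refine (Category.assoc _ _ _).trans
          ((congrArg (fun m => y.map (d.isoBot.hom.app (j.obj a)) ≫ m) h2.symm).trans ?_)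
        refine ((Category.assoc _ _ _).symm.trans ?_)
        exact congrArg (fun m => m ≫ (sq.top.obj a).obj.iso.hom)
          ((y.toFunctor.map_comp _ _).symm.trans (congrArg y.map h1))⟩
    obtain ⟨s⟩ := nonemptyHom hf (lf d) (lf d')
    let τ := d.isoBot.inv ≫ d'.isoBot.hom
    have hsb : ∀ b, (y.map (d.isoBot.hom.app b) ≫ (d.fn.obj b).obj.iso.hom) ≫ f.map (s.hom.app b) =
        y.map (d'.isoBot.hom.app b) ≫ (d'.fn.obj b).obj.iso.hom := fun b => app_eq s.w_bot b
    have hinv : ∀ b, d.isoBot.inv.app b ≫ d.isoBot.hom.app b = 𝟙 _ := fun b => app_eq d.isoBot.inv_hom_id b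
    have compat : ∀ b, y.map (τ.app b) ≫ (d'.fn.obj b).obj.iso.hom =
        (d.fn.obj b).obj.iso.hom ≫ f.map (s.hom.app b) := fun b => by
      change y.map (d.isoBot.inv.app b ≫ d'.isoBot.hom.app b) ≫ _ = _
      refine (congrArg (fun m => m ≫ (d'.fn.obj b).obj.iso.hom) (y.toFunctor.map_comp _ _)).trans ?_
      refine (Category.assoc _ _ _).trans ?_
      refine (congrArg (fun m => y.map (d.isoBot.inv.app b) ≫ m) (hsb b).symm).trans ?_
      refine (congrArg (fun m => y.map (d.isoBot.inv.app b) ≫ m) (Category.assoc _ _ _)).trans ?_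
      refine (Category.assoc _ _ _).symm.trans ?_
      refine (congrArg (fun m => m ≫ _) ((y.toFunctor.map_comp _ _).symm.trans
        ((congrArg y.map (hinv b)).trans (y.toFunctor.map_id _)))).trans ?_
      exact Category.id_comp _
    let nt : d.fn.toFunctor ⟶ d'.fn.toFunctor :=
      { app := fun b => ObjectProperty.homMk ⟨τ.app b, s.hom.app b, compat b⟩
        naturality := fun b b' φ => by
          apply ObjectProperty.hom_ext
          apply Limits.CategoricalPullback.hom_ext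
          · exact τ.toNatTrans.naturality φ
          · exact s.hom.toNatTrans.naturality φ }
    let θ : d.fn ⟶ d'.fn := ⟨nt, fun b => by
      refine IsHomLift.of_fac' _ _ _ (d.fn.w_obj b) (d'.fn.w_obj b) ?_
      have h : 𝒴'.p.IsHomLift (𝟙 (ℬ.p.obj b)) (τ.app b) := τ.isHomLift' b
      exact IsHomLift.fac' 𝒴'.p (𝟙 (ℬ.p.obj b)) (τ.app b)⟩
    have wtop : ∀ a, τ.app (j.obj a) ≫ (d'.isoTop.hom.app a).hom.fst = (d.isoTop.hom.app a).hom.fst := fun a => by
      have h1 : d.isoBot.hom.app (j.obj a) ≫ (d.isoTop.hom.app a).hom.fst = sq.iso.hom.app a := app_eq d.w a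
      have h2 : d'.isoBot.hom.app (j.obj a) ≫ (d'.isoTop.hom.app a).hom.fst = sq.iso.hom.app a := app_eq d'.w a
      change (d.isoBot.inv.app (j.obj a) ≫ d'.isoBot.hom.app (j.obj a)) ≫ _ = _
      erw [Category.assoc, h2, ← h1, ← Category.assoc, hinv (j.obj a), Category.id_comp]
    refine ⟨⟨⟨θ, ?_, ?_⟩⟩, ?_⟩
    · refine hext fun a => ?_
      apply ObjectProperty.hom_ext
      apply Limits.CategoricalPullback.hom_ext
      · exact wtop a
      · exact app_eq s.w_top a
    · change d.isoBot.hom ≫ τ = d'.isoBot.hom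
      exact d.isoBot.hom_inv_id_assoc _
    · intro θ'
      let t : lf d ⟶ lf d' := ⟨BasedCategory.whiskerRight θ'.hom (fpSnd y f), by
          refine hext fun a => ?_
          exact congrArg (fun m => m.hom.snd) (app_eq θ'.w_top a), by
          refine hext fun b => ?_
          have h1 : d.isoBot.hom.app b ≫ (θ'.hom.app b).hom.fst = d'.isoBot.hom.app b := app_eq θ'.w_bot b
          have h2 := (θ'.hom.app b).hom.w
          change (y.map (d.isoBot.hom.app b) ≫ (d.fn.obj b).obj.iso.hom) ≫ f.map (θ'.hom.app b).hom.snd =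
            y.map (d'.isoBot.hom.app b) ≫ (d'.fn.obj b).obj.iso.hom
          refine (Category.assoc _ _ _).trans
            ((congrArg (fun m => y.map (d.isoBot.hom.app b) ≫ m) h2.symm).trans ?_)
          refine ((Category.assoc _ _ _).symm.trans ?_)
          exact congrArg (fun m => m ≫ (d'.fn.obj b).obj.iso.hom)
            ((y.toFunctor.map_comp _ _).symm.trans (congrArg y.map h1))⟩
      have e := congrArg Sq.Lift.Hom.hom (uniq hf _ _ t s)
      apply Sq.Lift.hom_ext
      refine hext fun b => ?_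
      apply ObjectProperty.hom_ext
      apply Limits.CategoricalPullback.hom_ext
      · have h1 : d.isoBot.hom.app b ≫ (θ'.hom.app b).hom.fst = d'.isoBot.hom.app b := app_eq θ'.w_bot b
        change _ = d.isoBot.inv.app b ≫ d'.isoBot.hom.app b
        erw [← h1, ← Category.assoc, hinv b, Category.id_comp]
      · exact app_eq e b

end BaseChange

end Groth.Misc13.LiftStab
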