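import Groth.Prelude.Def_ModSt
import Groth.Agent.FlatMorOne.FlatBaseChangeScheme
import Groth.Agent.QCohMod.PullbackQCoh

/-! Full subcategories of `ModSt.Fam` closed under base change are fibred in groupoids. -/

set_option autoImplicit false
set_option backward.isDefEq.respectTransparency false
set_option backward.isDefEq.respectTransparency.types false

universe u

open CategoryTheory CategoryTheory.Limits AlgebraicGeometry

namespace Groth.Misc13.ModStFib

variable {X S : Scheme.{u}} {f : X ⟶ S}

/-- The base change of an object along a morphism of bases. -/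
noncomputable def pull (A : ModSt.Obj f) {V : Over S} (g : V ⟶ A.base) : ModSt.Obj f where
  base := V
  XT := pullback A.q g.left
  p := pullback.fst A.q g.left ≫ A.p
  q := pullback.snd A.q g.left
  isPullback := by
    have h := (IsPullback.of_hasPullback A.q g.left).paste_horiz A.isPullback
    rwa [Over.w g] at h
  E := (Scheme.Modules.pullback (pullback.fst A.q g.left)).obj A.E

/-- The projection from the base change. -/
noncomputable def pullHom (A : ModSt.Obj f) {V : Over S} (g : V ⟶ A.base) : pull A g ⟶ A where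
  base := g
  top := pullback.fst A.q g.left
  w_p := rfl
  w_q := pullback.condition
  c := (Scheme.Modules.pullbackPushforwardAdjunction (pullback.fst A.q g.left)).unit.app A.E
  cart := fun M' => by
    let adj := Scheme.Modules.pullbackPushforwardAdjunction (pullback.fst A.q g.left)
    have heq : (fun v : (Scheme.Modules.pullback (pullback.fst A.q g.left)).obj A.E ⟶ M' =>
        adj.unit.app A.E ≫ (Scheme.Modules.pushforward (pullback.fst A.q g.left)).map v) =
        adj.homEquiv A.E M' := funext fun v => (adj.homEquiv_unit A.E M' v).symm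
    exact (congrArg Function.Bijective heq).mpr (adj.homEquiv A.E M').bijective

lemma map_eqToHom_heq {Y : Scheme.{u}} (M : Y.Modules) {U V : Y.Opens} (h : U = V) (x : Γ(M, V)) :
    HEq (M.presheaf.map (eqToHom (congrArg Opposite.op h.symm)) x) x := by
  subst h; simp

lemma c_congr {A B : ModSt.Obj f} {φ ψ : A ⟶ B} (h : φ = ψ) :
    φ.c ≫ (Scheme.Modules.pushforwardCongr (congrArg ModSt.Obj.Hom.top h)).hom.app A.E = ψ.c := by
  subst h
  refine Scheme.Modules.hom_ext _ _ fun U => ?_
  ext x
  simp

/-- A morphism into the source of `φ` is determined by its image and its base. -/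
theorem existsUnique_factor {C A B : ModSt.Obj f} (φ : A ⟶ B) (ψ : C ⟶ B) (b : C.base ⟶ A.base)
    (hb : b ≫ φ.base = ψ.base) :
    ∃! χ : C ⟶ A, χ.base = b ∧ χ ≫ φ = ψ := by
  have hsq : ψ.top ≫ B.q = (C.q ≫ b.left) ≫ φ.base.left := by
    rw [ψ.w_q, ← hb, Category.assoc, Over.comp_left]
  let t : C.XT ⟶ A.XT := φ.isPullback_top.lift ψ.top (C.q ≫ b.left) hsq
  have ht : t ≫ φ.top = ψ.top := φ.isPullback_top.lift_fst _ _ _
  have htq : t ≫ A.q = C.q ≫ b.left := φ.isPullback_top.lift_snd _ _ _
  -- the comparison map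
  let Θ : (A.E ⟶ (Scheme.Modules.pushforward t).obj C.E) →
      (B.E ⟶ (Scheme.Modules.pushforward ψ.top).obj C.E) := fun v =>
    (φ.c ≫ (Scheme.Modules.pushforward φ.top).map v) ≫
      (Scheme.Modules.pushforwardComp t φ.top).hom.app C.E ≫
      (Scheme.Modules.pushforwardCongr ht).hom.app C.E
  have hΘ : Function.Bijective Θ := by
    let e : (Scheme.Modules.pushforward φ.top).obj ((Scheme.Modules.pushforward t).obj C.E) ≅
        (Scheme.Modules.pushforward ψ.top).obj C.E :=
      (Scheme.Modules.pushforwardComp t φ.top ≪≫ Scheme.Modules.pushforwardCongr ht).app C.E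
    have : Θ = e.homToEquiv ∘ (fun v => φ.c ≫ (Scheme.Modules.pushforward φ.top).map v) := by
      funext v; rfl
    rw [this]
    exact e.homToEquiv.bijective.comp (φ.cart _)
  obtain ⟨v, hv⟩ := hΘ.2 ψ.c
  have hcart : ModSt.IsCart t v := by
    intro M'
    let e' : (Scheme.Modules.pushforward φ.top).obj ((Scheme.Modules.pushforward t).obj M') ≅
        (Scheme.Modules.pushforward ψ.top).obj M' :=
      (Scheme.Modules.pushforwardComp t φ.top ≪≫ Scheme.Modules.pushforwardCongr ht).app M'
    have heq : (fun w : C.E ⟶ M' => ψ.c ≫ (Scheme.Modules.pushforward ψ.top).map w) =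
        (e'.homToEquiv ∘ fun x => φ.c ≫ (Scheme.Modules.pushforward φ.top).map x) ∘
          fun w : C.E ⟶ M' => v ≫ (Scheme.Modules.pushforward t).map w := by
      funext w
      rw [← hv]
      simp only [Θ, Function.comp_apply, Iso.homToEquiv_apply, e', Iso.app_hom, Iso.trans_hom,
        NatTrans.comp_app, Functor.map_comp, Category.assoc]
      congr 2
      exact ((Scheme.Modules.pushforwardComp t φ.top ≪≫
        Scheme.Modules.pushforwardCongr ht).hom.naturality w).symm
    refine (Function.Bijective.of_comp_iff' ((e'.homToEquiv.bijective).comp (φ.cart _)) _).1 ?_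
    rw [← heq]
    exact ψ.cart M'
  have wp : t ≫ A.p = C.p := by rw [← φ.w_p, ← Category.assoc, ht, ψ.w_p]
  refine ⟨⟨b, t, wp, htq, v, hcart⟩, ⟨rfl, ?_⟩, ?_⟩
  · refine ModSt.Obj.Hom.ext' hb ht fun U x => ?_
    have h := congr(($hv).app U x)
    refine HEq.trans ?_ (heq_of_eq h)
    simp [Θ]
    refine HEq.trans ?_ (map_eqToHom_heq C.E (congrArg (fun q => q ⁻¹ᵁ U) ht.symm) _).symm
    rfl
  · rintro ⟨b', t', wp', wq', v', hv'⟩ ⟨hb', hcomp⟩
    obtain rfl : b' = b := hb'
    obtain rfl : t' = t := φ.isPullback_top.hom_ext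
      ((congrArg ModSt.Obj.Hom.top hcomp).trans ht.symm) (wq'.trans htq.symm)
    obtain rfl : v' = v := hΘ.1 (by
      refine (?_ : Θ v' = ψ.c).trans hv.symm
      exact (c_congr hcomp))
    rfl

variable (Q : ModSt.Obj f → Prop)

theorem isFibGrpd (hQ : ∀ (A : ModSt.Obj f), Q A → ∀ {V : Over S} (g : V ⟶ A.base), Q (pull A g)) :
    FibCat.IsFibGrpd (AlgSt.fullSub (ModSt.Fam f) Q).p where
  exists_lift := fun {x V} g => by
    refine ⟨⟨pull x.obj g, hQ x.obj x.property g⟩, ObjectProperty.homMk (pullHom x.obj g), ?_⟩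
    exact inferInstanceAs ((AlgSt.fullSub (ModSt.Fam f) Q).p.IsHomLift
      ((AlgSt.fullSub (ModSt.Fam f) Q).p.map (ObjectProperty.homMk (pullHom x.obj g) :
        (⟨pull x.obj g, hQ x.obj x.property g⟩ : ObjectProperty.FullSubcategory Q) ⟶ x)) _)
  isStronglyCartesian := fun {y x} φ => by
    refine { universal_property' := fun {z} g ψ hψ => ?_ }
    have hb : g ≫ φ.hom.base = ψ.hom.base :=
      IsHomLift.eq_of_isHomLift (AlgSt.fullSub (ModSt.Fam f) Q).p
        (g ≫ (AlgSt.fullSub (ModSt.Fam f) Q).p.map φ) ψ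
    obtain ⟨χ, ⟨hχb, hχc⟩, huniq⟩ := existsUnique_factor φ.hom ψ.hom g hb
    refine ⟨ObjectProperty.homMk χ, ⟨?_, ?_⟩, ?_⟩
    · subst hχb
      exact inferInstanceAs ((AlgSt.fullSub (ModSt.Fam f) Q).p.IsHomLift
        ((AlgSt.fullSub (ModSt.Fam f) Q).p.map (ObjectProperty.homMk χ : z ⟶ y)) _)
    · exact InducedCategory.hom_ext hχc
    · intro χ' hχ'
      have h1 := hχ'.1
      refine InducedCategory.hom_ext (huniq χ'.hom ⟨?_, congrArg InducedCategory.Hom.hom hχ'.2⟩)
      exact (IsHomLift.eq_of_isHomLift (AlgSt.fullSub (ModSt.Fam f) Q).p g χ').symm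

end Groth.Misc13.ModStFib
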