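import Groth.Prelude.Def_W4c5qllcourbesmultMultCrv
import Mathlib.LinearAlgebra.FreeModule.PID
import Mathlib.LinearAlgebra.Dimension.RankNullity
import Mathlib.LinearAlgebra.Dimension.Localization
import Mathlib.LinearAlgebra.Dual.Lemmas
import Mathlib.RingTheory.Finiteness.Basic
import Mathlib.RingTheory.Polynomial.Basic
import Mathlib.RingTheory.Noetherian.Basic
import Mathlib.Algebra.Polynomial.Coeff
import Mathlib.Algebra.Polynomial.Div

/-! Basic facts on `R[X]/(X^n)` and its modules. -/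

set_option autoImplicit false

universe u v w

noncomputable section

open Polynomial

namespace Groth.Misc13.MultCrvLib

open MultCrv

variable {R : Type u} [CommRing R] {n : ℕ}

theorem z_pow_eq_zero {i : ℕ} (hi : n ≤ i) : z R n ^ i = 0 := by
  rw [← map_pow, Ideal.Quotient.eq_zero_iff_mem, Ideal.mem_span_singleton]
  exact pow_dvd_pow _ hi

theorem mk_eq_zero_iff (P : R[X]) :
    (Ideal.Quotient.mk (Ideal.span {(X : R[X]) ^ n}) P) = 0 ↔ ∀ d < n, P.coeff d = 0 := by
  rw [Ideal.Quotient.eq_zero_iff_mem, Ideal.mem_span_singleton, X_pow_dvd_iff]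

theorem algebraMap_Rn (r : R) :
    algebraMap R (Rn R n) r = Ideal.Quotient.mk (Ideal.span {(X : R[X]) ^ n}) (C r) := rfl

/-- The `j`-th coefficient, `j < n`. -/
def coefLE (j : Fin n) : Rn R n →ₗ[R] R :=
  (Submodule.liftQ ((Ideal.span {(X : R[X]) ^ n}).restrictScalars R) (lcoeff R (j : ℕ))
    (fun P hP => by
      rw [Submodule.restrictScalars_mem, Ideal.mem_span_singleton, X_pow_dvd_iff] at hP
      exact hP j j.2)) ∘ₗ
    (Submodule.Quotient.restrictScalarsEquiv R (Ideal.span {(X : R[X]) ^ n})).symm.toLinearMap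

@[simp] theorem coefLE_mk (j : Fin n) (P : R[X]) :
    coefLE j (Ideal.Quotient.mk (Ideal.span {(X : R[X]) ^ n}) P) = P.coeff (j : ℕ) := rfl

theorem ext_coef {a b : Rn R n} (h : ∀ j : Fin n, coefLE j a = coefLE j b) : a = b := by
  obtain ⟨P, rfl⟩ := Ideal.Quotient.mk_surjective a
  obtain ⟨Q, rfl⟩ := Ideal.Quotient.mk_surjective b
  rw [← sub_eq_zero, ← map_sub, mk_eq_zero_iff]
  intro d hd
  have := h ⟨d, hd⟩
  simp only [coefLE_mk] at this
  simp [this]

theorem coefLE_z_pow (i : ℕ) (j : Fin n) :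
    coefLE j (z R n ^ i) = if (j : ℕ) = i then 1 else 0 := by
  rw [← map_pow, coefLE_mk, coeff_X_pow]

theorem coefLE_mul_z_pow (i : ℕ) (j : Fin n) (a : Rn R n) :
    coefLE j (z R n ^ i * a) =
      if h : i ≤ (j : ℕ) then coefLE ⟨(j : ℕ) - i, lt_of_le_of_lt (Nat.sub_le _ _) j.2⟩ a else 0 := by
  obtain ⟨P, rfl⟩ := Ideal.Quotient.mk_surjective a
  rw [← map_pow, ← map_mul, coefLE_mk, coeff_X_pow_mul']
  split_ifs with h
  · rfl
  · rfl

theorem eq_sum_coef (a : Rn R n) : a = ∑ j : Fin n, coefLE j a • z R n ^ (j : ℕ) := by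
  refine ext_coef fun k => ?_
  simp [coefLE_z_pow, Fin.val_inj]

open Classical in
instance finiteRn : Module.Finite R (Rn R n) :=
  ⟨⟨Finset.univ.image (fun j : Fin n => z R n ^ (j : ℕ)), by
    refine eq_top_iff.mpr fun a _ => ?_
    rw [eq_sum_coef a]
    refine Submodule.sum_mem _ fun j _ => Submodule.smul_mem _ _ (Submodule.subset_span ?_)
    simp⟩⟩

instance torsionFreeRn [IsDomain R] : Module.IsTorsionFree R (Rn R n) :=
  Function.Injective.moduleIsTorsionFree (fun a (j : Fin n) => coefLE j a)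
    (fun a b h => ext_coef fun j => congrFun h j) (fun r a => by funext j; simp)

theorem z_pow_mul_eq_zero_iff {a : ℕ} (ha : a ≤ n) (x : Rn R n) :
    z R n ^ a * x = 0 ↔ ∃ y, x = z R n ^ (n - a) * y := by
  constructor
  · intro h
    obtain ⟨P, rfl⟩ := Ideal.Quotient.mk_surjective x
    rw [← map_pow, ← map_mul, mk_eq_zero_iff] at h
    have hd : (X : R[X]) ^ (n - a) ∣ P := by
      rw [X_pow_dvd_iff]
      intro d hd
      have := h (d + a) (by omega)
      rwa [coeff_X_pow_mul] at this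
    obtain ⟨Q, rfl⟩ := hd
    exact ⟨Ideal.Quotient.mk _ Q, by rw [map_mul, map_pow]⟩
  · rintro ⟨y, rfl⟩
    rw [← mul_assoc, ← pow_add, z_pow_eq_zero (by omega), zero_mul]

section Modules

variable {M : Type v} [AddCommGroup M] [Module (Rn R n) M]

theorem mem_filt {i : ℕ} {u : M} : u ∈ filt R n M i ↔ ∃ a, z R n ^ i • a = u := Iff.rfl

theorem mem_filt2 {i : ℕ} {u : M} : u ∈ filt2 R n M i ↔ z R n ^ i • u = 0 := Iff.rfl

theorem z_pow_smul_eq_zero {i : ℕ} (hi : n ≤ i) (u : M) : z R n ^ i • u = 0 := by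
  rw [z_pow_eq_zero hi]; exact zero_smul (Rn R n) u

theorem filt_eq_bot {i : ℕ} (hi : n ≤ i) : filt R n M i = ⊥ := by
  rw [eq_bot_iff]
  rintro _ ⟨a, rfl⟩
  simp [z_pow_smul_eq_zero hi]

theorem filt_antitone {i j : ℕ} (h : i ≤ j) : filt R n M j ≤ filt R n M i := by
  rintro _ ⟨a, rfl⟩
  refine ⟨z R n ^ (j - i) • a, ?_⟩
  simp [smul_smul, ← pow_add, Nat.add_sub_cancel' h, Nat.sub_add_cancel h]

theorem filt2_mono {i j : ℕ} (h : i ≤ j) : filt2 R n M i ≤ filt2 R n M j := by
  intro u hu
  rw [mem_filt2] at hu ⊢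
  rw [← Nat.sub_add_cancel h, pow_add, mul_smul, hu, smul_zero]

/-- Nakayama for the nilpotent `z`. -/
theorem surjective_of_mod_z {N : Type w} [AddCommGroup N] [Module (Rn R n) N] (φ : M →ₗ[Rn R n] N)
    (h : ∀ v : N, ∃ u : M, v - φ u ∈ filt R n N 1) : Function.Surjective φ := by
  have key : ∀ k, ∀ v : N, ∃ u, v - φ u ∈ filt R n N k := by
    intro k
    induction k with
    | zero => intro v; exact ⟨0, v, by simp⟩
    | succ k ih =>
      intro v
      obtain ⟨u, a, ha⟩ := ih v
      obtain ⟨b, c, hc⟩ := h a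
      refine ⟨u + z R n ^ k • b, c, ?_⟩
      simp only [LinearMap.smul_apply, LinearMap.id_apply, pow_one] at ha hc ⊢
      rw [map_add, map_smul, ← sub_sub, ← ha, ← smul_sub, ← hc, smul_smul, ← pow_succ]
  intro v
  obtain ⟨u, hu⟩ := key n v
  rw [filt_eq_bot le_rfl, Submodule.mem_bot, sub_eq_zero] at hu
  exact ⟨u, hu.symm⟩

/-- Detection by the elements killed by `z`. -/
theorem exists_socle {u : M} (hu : u ≠ 0) : ∃ k, z R n ^ k • u ≠ 0 ∧ z R n ^ k • u ∈ filt2 R n M 1 := by
  classical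
  have hex : ∃ k, z R n ^ k • u = 0 := ⟨n, z_pow_smul_eq_zero le_rfl u⟩
  have hs := Nat.find_spec hex
  rcases Nat.eq_zero_or_pos (Nat.find hex) with h0 | h0
  · rw [h0, pow_zero, one_smul] at hs; exact absurd hs hu
  · refine ⟨Nat.find hex - 1, Nat.find_min hex (by omega), ?_⟩
    rw [mem_filt2, smul_smul, ← pow_add, show 1 + (Nat.find hex - 1) = Nat.find hex by omega]
    exact hs

variable [Module R M] [IsScalarTower R (Rn R n) M]

theorem z_smul_comm (i : ℕ) (r : R) (u : M) : z R n ^ i • r • u = r • z R n ^ i • u :=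
  smul_algebra_smul_comm r (z R n ^ i) u

theorem finite_over_R [Module.Finite (Rn R n) M] : Module.Finite R M := Module.Finite.trans (Rn R n) M

/-- An `A`-linear map is determined by `R`-linearity and compatibility with `z`. -/
theorem linear_of_z {N : Type w} [AddCommGroup N] [Module (Rn R n) N] [Module R N] [IsScalarTower R (Rn R n) N]
    (g : M →ₗ[R] N) (hg : ∀ m, g (z R n • m) = z R n • g m) (a : Rn R n) (m : M) : g (a • m) = a • g m := by
  have hp : ∀ (k : ℕ) m, g (z R n ^ k • m) = z R n ^ k • g m := by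
    intro k
    induction k with
    | zero => simp
    | succ k ih => intro m; rw [pow_succ, mul_smul, ih, hg, mul_smul]
  rw [eq_sum_coef a, Finset.sum_smul, Finset.sum_smul, map_sum]
  simp [smul_assoc, hp]

/-- The coefficient of `z^(n-1)`. -/
def epsR (hn : 1 ≤ n) : Rn R n →ₗ[R] R := coefLE ⟨n - 1, by omega⟩

theorem epsR_z_pow_mul (hn : 1 ≤ n) (k : Fin n) (a : Rn R n) :
    epsR hn (z R n ^ (n - 1 - (k : ℕ)) * a) = coefLE k a := by
  rw [epsR, coefLE_mul_z_pow, dif_pos (by simp)]
  congr 2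
  apply Fin.ext
  simp; omega

/-- Composition with `epsR`. -/
def toR (hn : 1 ≤ n) (f : M →ₗ[Rn R n] Rn R n) : M →ₗ[R] R := epsR hn ∘ₗ f.restrictScalars R

/-- The inverse of `toR`. -/
def ofR (hn : 1 ≤ n) (ψ : M →ₗ[R] R) : M →ₗ[Rn R n] Rn R n :=
  let g : M →ₗ[R] Rn R n :=
    { toFun := fun m => ∑ j : Fin n, ψ (z R n ^ (n - 1 - (j : ℕ)) • m) • z R n ^ (j : ℕ)
      map_add' := fun x y => by simp [add_smul, Finset.sum_add_distrib]
      map_smul' := fun r x => by simp [z_smul_comm, mul_smul, Finset.smul_sum] }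
  have hg : ∀ m, g (z R n • m) = z R n • g m := fun m => by
    refine ext_coef fun k => ?_
    rw [smul_eq_mul, ← pow_one (z R n), coefLE_mul_z_pow, pow_one]
    simp only [g, LinearMap.coe_mk, AddHom.coe_mk, map_sum, map_smul, coefLE_z_pow]
    rw [Finset.sum_eq_single k (fun b _ hb => by simp [Fin.val_inj, Ne.symm hb]) (by simp)]
    simp only [if_true, smul_eq_mul, mul_one, smul_smul, ← pow_succ]
    split_ifs with h
    · rw [Finset.sum_eq_single (⟨(k : ℕ) - 1, by omega⟩ : Fin n)
        (fun b _ hb => by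
          rw [if_neg, mul_zero]
          intro e; exact hb (Fin.ext e.symm)) (by simp)]
      simp only [if_true, mul_one]
      congr 3; omega
    · rw [z_pow_smul_eq_zero (by omega), map_zero]
  { g with map_smul' := linear_of_z g hg }

theorem coef_ofR (hn : 1 ≤ n) (ψ : M →ₗ[R] R) (m : M) (k : Fin n) :
    coefLE k (ofR hn ψ m) = ψ (z R n ^ (n - 1 - (k : ℕ)) • m) := by
  change coefLE k (∑ j : Fin n, ψ (z R n ^ (n - 1 - (j : ℕ)) • m) • z R n ^ (j : ℕ)) = _
  simp [coefLE_z_pow, Fin.val_inj]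

theorem toR_ofR (hn : 1 ≤ n) (ψ : M →ₗ[R] R) : toR hn (ofR hn ψ) = ψ := by
  ext m
  simp [toR, epsR, coef_ofR]

theorem toR_injective (hn : 1 ≤ n) {f g : M →ₗ[Rn R n] Rn R n} (h : toR hn f = toR hn g) : f = g := by
  ext m
  refine ext_coef fun k => ?_
  rw [← epsR_z_pow_mul hn k, ← epsR_z_pow_mul hn k, ← smul_eq_mul, ← smul_eq_mul, ← map_smul, ← map_smul]
  exact LinearMap.congr_fun h _

end Modules

end Groth.Misc13.MultCrvLib

end

namespace Groth.Misc13.MultCrvLib

open Submodule in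
theorem finrank_torsionBy_add {R : Type u} [CommRing R] [IsDomain R] {A : Type v} [CommRing A] [Algebra R A]
    {M : Type w} [AddCommGroup M] [Module R M] [Module A M] [IsScalarTower R A M] [Module.Finite R M] (a : A) :
    Module.finrank R ((LinearMap.range (a • (LinearMap.id : M →ₗ[A] M))).restrictScalars R) +
      Module.finrank R ((Submodule.torsionBy A M a).restrictScalars R) = Module.finrank R M := by
  have h := (LinearMap.ker ((a • (LinearMap.id : M →ₗ[A] M)).restrictScalars R)).finrank_quotient_add_finrank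
  rw [LinearEquiv.finrank_eq (LinearMap.quotKerEquivRange _)] at h
  have h1 : LinearMap.range ((a • (LinearMap.id : M →ₗ[A] M)).restrictScalars R) =
      (LinearMap.range (a • (LinearMap.id : M →ₗ[A] M))).restrictScalars R := by ext x; rfl
  have h2 : LinearMap.ker ((a • (LinearMap.id : M →ₗ[A] M)).restrictScalars R) =
      (Submodule.torsionBy A M a).restrictScalars R := by ext x; rfl
  rwa [h1, h2] at h

theorem finrank_subquotient {R : Type u} [CommRing R] [IsDomain R] [IsNoetherianRing R] {A : Type v} [CommRing A] [Algebra R A]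
    {M : Type w} [AddCommGroup M] [Module R M] [Module A M] [IsScalarTower R A M] [Module.Finite R M]
    (P Q : Submodule A M) (h : Q ≤ P) :
    Module.finrank R (↥P ⧸ Q.comap P.subtype) + Module.finrank R (Q.restrictScalars R) =
      Module.finrank R (P.restrictScalars R) := by
  rw [← (Submodule.comapSubtypeEquivOfLe (show Q.restrictScalars R ≤ P.restrictScalars R from h)).finrank_eq,
    ← (Submodule.Quotient.restrictScalarsEquiv R (Q.comap P.subtype)).finrank_eq]
  exact Submodule.finrank_quotient_add_finrank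
    ((Q.restrictScalars R).comap (P.restrictScalars R).subtype)

end Groth.Misc13.MultCrvLib
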