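import Groth.Agent.Misc13.MultCrvBasic
import Groth.Agent.S17941
import Mathlib.Algebra.Category.ModuleCat.Ext.DimensionShifting
import Mathlib.Algebra.Homology.DerivedCategory.Ext.Linear
import Mathlib.RingTheory.Noetherian.Basic

/-! Ext over `R[X]/(X^n)`. -/

set_option autoImplicit false

universe u

noncomputable section

open CategoryTheory Abelian

namespace Groth.Misc13.MultCrvLib

section Generic

variable {A : Type u} [CommRing A]

/-- A finite free cover `A^r → M`. -/
theorem exists_cover (M : Type u) [AddCommGroup M] [Module A M] [Module.Finite A M] :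
    ∃ (r : ℕ) (π : (Fin r → A) →ₗ[A] M), Function.Surjective π := Module.Finite.exists_fin' A M

variable {M : Type u} [AddCommGroup M] [Module A M] {r : ℕ} (π : (Fin r → A) →ₗ[A] M)
  (hπ : Function.Surjective π) (N : ModuleCat.{u} A)

include hπ in
theorem ext_eq_extClass_comp {i : ℕ} (x : Ext (ModuleCat.of A M) N (i + 1)) :
    ∃ y : Ext (ModuleCat.of A (LinearMap.ker π)) N i,
      (LinearMap.shortExact_shortComplexKer hπ).extClass.comp y (by omega) = x :=
  precomp_extClass_surjective_of_projective_X₂ N (LinearMap.shortExact_shortComplexKer hπ) i x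

include hπ in
theorem ext_one_subsingleton_of_restrict
    (h : ∀ φ : LinearMap.ker π →ₗ[A] N, ∃ ψ : (Fin r → A) →ₗ[A] N, ψ ∘ₗ (LinearMap.ker π).subtype = φ) :
    Subsingleton (Ext (ModuleCat.of A M) N 1) := by
  refine subsingleton_of_forall_eq 0 fun x => ?_
  obtain ⟨y, rfl⟩ := ext_eq_extClass_comp π hπ N x
  obtain ⟨φ, rfl⟩ := Ext.addEquiv₀.symm.surjective y
  obtain ⟨ψ, hψ⟩ := h φ.hom
  have e : φ = ((LinearMap.shortComplexKer π).f ≫ ModuleCat.ofHom ψ) := by
    apply ModuleCat.hom_ext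
    exact hψ.symm
  change (LinearMap.shortExact_shortComplexKer hπ).extClass.comp (Ext.mk₀ φ) _ = 0
  rw [e, ← Ext.mk₀_comp_mk₀]
  exact (LinearMap.shortExact_shortComplexKer hπ).extClass_comp_assoc (Ext.mk₀ (ModuleCat.ofHom ψ))

include hπ in
theorem restrict_of_ext_one_subsingleton (h : Subsingleton (Ext (ModuleCat.of A M) N 1))
    (φ : LinearMap.ker π →ₗ[A] N) : ∃ ψ : (Fin r → A) →ₗ[A] N, ψ ∘ₗ (LinearMap.ker π).subtype = φ := by
  obtain ⟨x₂, hx₂⟩ := Ext.contravariant_sequence_exact₁ (LinearMap.shortExact_shortComplexKer hπ) N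
    (Ext.mk₀ (ModuleCat.ofHom φ)) (show 1 + 0 = 1 by rfl) (Subsingleton.elim _ _)
  obtain ⟨g, rfl⟩ := Ext.addEquiv₀.symm.surjective x₂
  change (Ext.mk₀ (LinearMap.shortComplexKer π).f).comp (Ext.mk₀ g) (zero_add 0) = _ at hx₂
  rw [Ext.mk₀_comp_mk₀] at hx₂
  have := (Ext.mk₀_bijective _ _).1 hx₂
  exact ⟨g.hom, congrArg ModuleCat.Hom.hom this⟩

/-- A scalar whose multiplication on `M` factors through a finite free module kills higher `Ext`. -/
theorem smul_ext_eq_zero_of_factor (N : ModuleCat.{u} A) (a : A) {t : ℕ} (p : M →ₗ[A] (Fin t → A))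
    (q : (Fin t → A) →ₗ[A] M) (hpq : ∀ m, q (p m) = a • m) {i : ℕ}
    (x : Ext (ModuleCat.of A M) N (i + 1)) : a • x = 0 := by
  have hid : a • x = (Ext.mk₀ (a • 𝟙 (ModuleCat.of A M))).comp x (zero_add _) := by
    rw [Ext.mk₀_smul, Ext.smul_comp, Ext.mk₀_id_comp]
  have he : a • 𝟙 (ModuleCat.of A M) = ModuleCat.ofHom p ≫ ModuleCat.ofHom q := by
    apply ModuleCat.hom_ext
    ext m
    exact (hpq m).symm
  rw [hid, he, ← Ext.mk₀_comp_mk₀, Ext.comp_assoc_of_second_deg_zero]
  haveI : Projective (ModuleCat.of A (Fin t → A)) :=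
    (IsProjective.iff_projective (R := A) (Fin t → A)).mp inferInstance
  rw [Ext.eq_zero_of_projective ((Ext.mk₀ (ModuleCat.ofHom q)).comp x (zero_add _)), Ext.comp_zero]

end Generic

open MultCrv

variable {R : Type u} [CommRing R] [IsDomain R] [IsDiscreteValuationRing R] {n : ℕ}

instance noetherianRn : IsNoetherianRing (Rn R n) :=
  isNoetherianRing_of_surjective _ _ (Ideal.Quotient.mk (Ideal.span {(Polynomial.X : Polynomial R) ^ n}))
    Ideal.Quotient.mk_surjective

theorem torsionFree_submodule_pi {r : ℕ} (K : Submodule (Rn R n) (Fin r → Rn R n)) :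
    Module.IsTorsionFree R K :=
  Function.Injective.moduleIsTorsionFree Subtype.val Subtype.val_injective (fun _ _ => rfl)

theorem ext_self_subsingleton (hn : 1 ≤ n) :
    ∀ (i : ℕ), 1 ≤ i → ∀ (M : Type u) [AddCommGroup M] [Module (Rn R n) M] [Module R M]
      [IsScalarTower R (Rn R n) M] [Module.Finite (Rn R n) M] [Module.IsTorsionFree R M],
      Subsingleton (Ext (ModuleCat.of (Rn R n) M) (ModuleCat.of (Rn R n) (Rn R n)) i) := by
  intro i hi
  induction i, hi using Nat.le_induction with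
  | base =>
    intro M _ _ _ _ _ _
    obtain ⟨r, π, hπ⟩ := exists_cover (A := Rn R n) M
    refine ext_one_subsingleton_of_restrict π hπ _ fun φ => ?_
    exact Groth.Agent.S17941.result R n hn (LinearMap.ker π) (Fin r → Rn R n) M (LinearMap.ker π).subtype π
      Subtype.val_injective hπ (Submodule.range_subtype _) φ
  | succ i hi ih =>
    intro M _ _ _ _ _ _
    obtain ⟨r, π, hπ⟩ := exists_cover (A := Rn R n) M
    haveI := torsionFree_submodule_pi (LinearMap.ker π)
    haveI := ih (LinearMap.ker π)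
    refine subsingleton_of_forall_eq 0 fun x => ?_
    obtain ⟨y, rfl⟩ := ext_eq_extClass_comp π hπ _ x
    rw [Subsingleton.elim y 0, Ext.comp_zero]

theorem z_pow_smul_ext_eq_zero (hn : 1 ≤ n) {M : Type u} [AddCommGroup M] [Module (Rn R n) M] [Module R M]
    [IsScalarTower R (Rn R n) M] [Module.Finite (Rn R n) M] [Module.IsTorsionFree R M]
    (N : ModuleCat.{u} (Rn R n)) {i : ℕ} (x : Ext (ModuleCat.of (Rn R n) M) N (i + 1)) :
    (z R n ^ (n - 1)) • x = 0 := by
  haveI := finite_over_R (R := R) (n := n) (M := M)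
  let T : Submodule R M := (filt R n M (n - 1)).restrictScalars R
  haveI : Module.IsTorsionFree R T := Submodule.instIsTorsionFree T
  obtain ⟨t, b⟩ := Module.basisOfFiniteTypeTorsionFree' (R := R) (M := T)
  let ζ : M →ₗ[R] T := ((((z R n) ^ (n - 1)) • (LinearMap.id : M →ₗ[Rn R n] M)).restrictScalars R).codRestrict T
    (fun m => ⟨m, rfl⟩)
  choose u hu using fun k => mem_filt.mp (show (b k : M) ∈ filt R n M (n - 1) from (b k).2)
  let p₀ : M →ₗ[R] (Fin t → Rn R n) :=
    LinearMap.pi fun k => ((LinearMap.toSpanSingleton R (Rn R n) (z R n ^ (n - 1))) ∘ₗ b.coord k ∘ₗ ζ)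
  have hp₀ : ∀ m, p₀ (z R n • m) = z R n • p₀ m := by
    intro m
    have hz : ζ (z R n • m) = 0 := by
      apply Subtype.ext
      change z R n ^ (n - 1) • (z R n • m) = (0 : M)
      rw [smul_smul, ← pow_succ, z_pow_smul_eq_zero (by omega)]
    funext k
    simp only [p₀, LinearMap.pi_apply, LinearMap.comp_apply, hz, map_zero, Pi.smul_apply,
      LinearMap.toSpanSingleton_apply, smul_eq_mul]
    rw [mul_smul_comm, ← pow_succ', z_pow_eq_zero (by omega), smul_zero]
  let p : M →ₗ[Rn R n] (Fin t → Rn R n) := { p₀ with map_smul' := linear_of_z p₀ hp₀ }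
  let q : (Fin t → Rn R n) →ₗ[Rn R n] M := Fintype.linearCombination (Rn R n) u
  refine smul_ext_eq_zero_of_factor N _ p q (fun m => ?_) x
  have h1 : (ζ m : M) = z R n ^ (n - 1) • m := rfl
  rw [← h1]
  conv_rhs => rw [← b.sum_repr (ζ m)]
  simp only [q, Fintype.linearCombination_apply, Submodule.coe_sum, Submodule.coe_smul_of_tower]
  refine Finset.sum_congr rfl fun k _ => ?_
  change ((b.coord k (ζ m)) • z R n ^ (n - 1)) • u k = _
  rw [smul_assoc, hu]
  rfl

end Groth.Misc13.MultCrvLib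

end
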