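import Groth.Prelude.Def_W4c5normfunctorschNorm
import Groth.Prelude.Def_PolLaw2
import Mathlib.RingTheory.Norm.Basic
import Mathlib.RingTheory.IsTensorProduct

/-!
# Base change of polynomial laws along `R → Q`, and the norm

* `bcEquiv`: `bcAlong g P` is bijective when `g` is a base change;
* `norm_bcAlong`: the norm of `P ⊗[R] R'` agrees with the norm of `P ⊗[Q] Q'`;
* `restrLaw`: a law over `Q` out of a base change, seen as a law over `R`;
* `extLaw`: a law over `R`, extended to `Q`.
-/

universe u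

open scoped TensorProduct
open TensorProduct

namespace Groth.Misc13.NormBC

section general

variable {R : Type u} [CommRing R] {Q : Type u} [CommRing Q] [Algebra R Q]
  {X : Type u} [AddCommGroup X] [Module R X]
  {Y : Type u} [AddCommGroup Y] [Module R Y] [Module Q Y] [IsScalarTower R Q Y]

lemma bcAlong_tmul (g : X →ₗ[R] Y) (P : Type u) [CommRing P] [Algebra R P] [Algebra Q P]
    [IsScalarTower R Q P] (p : P) (x : X) : PolLaw.bcAlong (Q := Q) g P (p ⊗ₜ[R] x) = p ⊗ₜ[Q] g x := by
  simp [PolLaw.bcAlong]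

lemma bcAlong_smul (g : X →ₗ[R] Y) (P : Type u) [CommRing P] [Algebra R P] [Algebra Q P]
    [IsScalarTower R Q P] (c : P) (z : P ⊗[R] X) :
    PolLaw.bcAlong (Q := Q) g P (c • z) = c • PolLaw.bcAlong (Q := Q) g P z := by
  induction z using TensorProduct.induction_on with
  | zero => simp
  | tmul p x => simp [TensorProduct.smul_tmul', bcAlong_tmul]
  | add a b ha hb => simp only [map_add, smul_add, ha, hb]

lemma bcAlong_natural (g : X →ₗ[R] Y) {P P' : Type u} [CommRing P] [Algebra R P] [Algebra Q P]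
    [IsScalarTower R Q P] [CommRing P'] [Algebra R P'] [Algebra Q P'] [IsScalarTower R Q P']
    (φ : P →ₐ[Q] P') (z : P ⊗[R] X) :
    φ.toLinearMap.rTensor Y (PolLaw.bcAlong (Q := Q) g P z) =
      PolLaw.bcAlong (Q := Q) g P' ((φ.restrictScalars R).toLinearMap.rTensor X z) := by
  induction z using TensorProduct.induction_on with
  | zero => simp
  | tmul p x => simp [bcAlong_tmul]
  | add a b ha hb => simp only [map_add, ha, hb]

/-- `bcAlong g P` as an equivalence, when `g` is a base change. -/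
noncomputable def bcEquiv (g : X →ₗ[R] Y) (hg : IsBaseChange Q g) (P : Type u) [CommRing P]
    [Algebra R P] [Algebra Q P] [IsScalarTower R Q P] : P ⊗[R] X ≃ₗ[P] P ⊗[Q] Y :=
  (AlgebraTensorModule.cancelBaseChange R Q P P X).symm ≪≫ₗ
    AlgebraTensorModule.congr (LinearEquiv.refl P P) hg.equiv

lemma bcEquiv_apply (g : X →ₗ[R] Y) (hg : IsBaseChange Q g) (P : Type u) [CommRing P]
    [Algebra R P] [Algebra Q P] [IsScalarTower R Q P] (z : P ⊗[R] X) :
    bcEquiv g hg P z = PolLaw.bcAlong (Q := Q) g P z := by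
  induction z using TensorProduct.induction_on with
  | zero => simp
  | tmul p x => simp [bcEquiv, bcAlong_tmul]
  | add a b ha hb => simp only [map_add, ha, hb]

lemma bcAlong_bijective (g : X →ₗ[R] Y) (hg : IsBaseChange Q g) (P : Type u) [CommRing P]
    [Algebra R P] [Algebra Q P] [IsScalarTower R Q P] : Function.Bijective (PolLaw.bcAlong (Q := Q) g P) := by
  convert (bcEquiv g hg P).bijective using 1
  exact funext fun z => (bcEquiv_apply g hg P z).symm

lemma bcEquiv_symm_natural (g : X →ₗ[R] Y) (hg : IsBaseChange Q g) {P P' : Type u} [CommRing P]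
    [Algebra R P] [Algebra Q P] [IsScalarTower R Q P] [CommRing P'] [Algebra R P'] [Algebra Q P']
    [IsScalarTower R Q P'] (φ : P →ₐ[Q] P') (w : P ⊗[Q] Y) :
    (bcEquiv g hg P').symm (φ.toLinearMap.rTensor Y w) =
      (φ.restrictScalars R).toLinearMap.rTensor X ((bcEquiv g hg P).symm w) := by
  apply (bcEquiv g hg P').injective
  rw [LinearEquiv.apply_symm_apply, bcEquiv_apply, ← bcAlong_natural, ← bcEquiv_apply g hg P,
    LinearEquiv.apply_symm_apply]

lemma rTensor_smul {S S' : Type u} [CommSemiring S] [Algebra R S] [CommSemiring S'] [Algebra R S']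
    (φ : S →ₐ[R] S') (s : S) (z : S ⊗[R] X) :
    φ.toLinearMap.rTensor X (s • z) = φ s • φ.toLinearMap.rTensor X z := by
  induction z using TensorProduct.induction_on with
  | zero => simp
  | tmul t x => simp [TensorProduct.smul_tmul']
  | add a b ha hb => simp only [map_add, smul_add, ha, hb]

lemma lTensor_smul {X' : Type u} [AddCommGroup X'] [Module R X'] {S : Type u} [CommSemiring S]
    [Algebra R S] (g : X →ₗ[R] X') (s : S) (z : S ⊗[R] X) :
    g.lTensor S (s • z) = s • g.lTensor S z := by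
  induction z using TensorProduct.induction_on with
  | zero => simp
  | tmul t x => simp [TensorProduct.smul_tmul']
  | add a b ha hb => simp only [map_add, smul_add, ha, hb]

/-- For a `Q`-module `Y`: `(Q ⊗[R] S) ⊗[Q] Y → S ⊗[R] Y`, `(q ⊗ s) ⊗ y ↦ s ⊗ q • y`. -/
noncomputable def rot (S : Type u) [CommSemiring S] [Algebra R S] :
    (Q ⊗[R] S) ⊗[Q] Y →ₗ[R] S ⊗[R] Y :=
  (TensorProduct.comm R Y S).toLinearMap ∘ₗ
    ((AlgebraTensorModule.cancelBaseChange R Q Q Y S).toLinearMap.restrictScalars R ∘ₗ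
      (TensorProduct.comm Q (Q ⊗[R] S) Y).toLinearMap.restrictScalars R)

lemma rot_tmul (S : Type u) [CommSemiring S] [Algebra R S] (q : Q) (s : S) (y : Y) :
    rot S ((q ⊗ₜ[R] s) ⊗ₜ[Q] y) = s ⊗ₜ[R] (q • y) := by
  simp [rot]

lemma rot_natural {S S' : Type u} [CommSemiring S] [Algebra R S] [CommSemiring S'] [Algebra R S']
    (φ : S →ₐ[R] S') (w : (Q ⊗[R] S) ⊗[Q] Y) :
    φ.toLinearMap.rTensor Y (rot S w) =
      rot S' ((Algebra.TensorProduct.map (AlgHom.id Q Q) φ).toLinearMap.rTensor Y w) := by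
  induction w using TensorProduct.induction_on with
  | zero => simp
  | tmul t y =>
    induction t using TensorProduct.induction_on with
    | zero => simp
    | tmul q s => simp [rot_tmul]
    | add a b ha hb => simp only [TensorProduct.add_tmul, map_add, ha, hb]
  | add a b ha hb => simp only [map_add, ha, hb]

lemma rot_smul (S : Type u) [CommSemiring S] [Algebra R S] (s : S) (w : (Q ⊗[R] S) ⊗[Q] Y) :
    rot S ((Algebra.TensorProduct.includeRight s : Q ⊗[R] S) • w) = s • rot S w := by
  induction w using TensorProduct.induction_on with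
  | zero => simp
  | tmul t y =>
    induction t using TensorProduct.induction_on with
    | zero => simp
    | tmul q s' =>
      simp [TensorProduct.smul_tmul', Algebra.TensorProduct.tmul_mul_tmul, rot_tmul]
    | add a b ha hb => simp only [TensorProduct.add_tmul, map_add, smul_add, ha, hb]
  | add a b ha hb => simp only [map_add, smul_add, ha, hb]

lemma rot_bcAlong_id (S : Type u) [CommSemiring S] [Algebra R S] (z : S ⊗[R] Y) :
    rot S (PolLaw.bcAlong (Q := Q) (LinearMap.id : Y →ₗ[R] Y) (Q ⊗[R] S)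
      ((Algebra.TensorProduct.includeRight : S →ₐ[R] Q ⊗[R] S).toLinearMap.rTensor Y z)) = z := by
  induction z using TensorProduct.induction_on with
  | zero => simp
  | tmul s y => simp [bcAlong_tmul, rot_tmul]
  | add a b ha hb => simp only [map_add, ha, hb]

/-- Two maps into a `Q`-module with the same `bcAlong` on the values of a law agree on those values. -/
lemma postcomp_eq_of_bcAlong_eq {Z : Type u} [AddCommGroup Z] [Module R Z] (ν : X →ₚₗ[R] Z)
    (g₁ g₂ : Z →ₗ[R] Y)
    (h : ∀ (P : Type u) [CommRing P] [Algebra R P] [Algebra Q P] [IsScalarTower R Q P] (m : P ⊗[R] X),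
      PolLaw.bcAlong (Q := Q) g₁ P (ν.toFun' P m) = PolLaw.bcAlong (Q := Q) g₂ P (ν.toFun' P m)) :
    PolLaw.postcomp g₁ ν = PolLaw.postcomp g₂ ν := by
  apply PolynomialLaw.ext
  funext S _ _ m
  show g₁.lTensor S (ν.toFun' S m) = g₂.lTensor S (ν.toFun' S m)
  let i : S →ₐ[R] Q ⊗[R] S := Algebra.TensorProduct.includeRight
  have key : ∀ g : Z →ₗ[R] Y, g.lTensor S (ν.toFun' S m) =
      rot S (PolLaw.bcAlong (Q := Q) g (Q ⊗[R] S) (ν.toFun' (Q ⊗[R] S) (i.toLinearMap.rTensor X m))) := by
    intro g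
    have h1 := congrFun (ν.isCompat' i) m
    simp only [Function.comp_apply] at h1
    rw [← h1]
    generalize ν.toFun' S m = z
    induction z using TensorProduct.induction_on with
    | zero => simp
    | tmul s y => simp [i, bcAlong_tmul, rot_tmul]
    | add a b ha hb => simp only [map_add, ha, hb]
  rw [key, key, h]

variable (R Q) in
lemma isBaseChange_linearMap : IsBaseChange Q (Algebra.linearMap R Q) :=
  IsBaseChange.linearMap R Q

end general

section pushout

variable {R R' Q Q' : Type u} [CommRing R] [CommRing R'] [Algebra R R']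
    [CommRing Q] [Algebra R Q] [CommRing Q'] [Algebra R Q'] [Algebra Q Q'] [Algebra R' Q']
    [IsScalarTower R Q Q'] [IsScalarTower R R' Q'] [Algebra.IsPushout R R' Q Q']

variable (R R' Q Q') in
lemma isBaseChange_incl : IsBaseChange Q (IsScalarTower.toAlgHom R R' Q').toLinearMap :=
  (Algebra.IsPushout.symm (inferInstance : Algebra.IsPushout R R' Q Q')).out

lemma isBaseChange_restrict
    {M' : Type u} [AddCommGroup M'] [Module R M'] [Module R' M'] [IsScalarTower R R' M']
    {M'' : Type u} [AddCommGroup M''] [Module R M''] [Module R' M''] [Module Q M''] [Module Q' M'']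
    [IsScalarTower R R' M''] [IsScalarTower R Q M''] [IsScalarTower R' Q' M''] [IsScalarTower Q Q' M'']
    (f : M' →ₗ[R'] M'') (hf : IsBaseChange Q' f) : IsBaseChange Q (f.restrictScalars R) := by
  have : Algebra.IsPushout R Q R' Q' := Algebra.IsPushout.symm inferInstance
  refine IsBaseChange.of_equiv ((Algebra.IsPushout.cancelBaseChange R Q R' Q' M').symm ≪≫ₗ
    hf.equiv.restrictScalars Q) fun x => ?_
  simp

variable (Q') in
/-- `bcAlong` of `R' → Q'` as an isomorphism of `P`-algebras. -/
noncomputable def bcAlg (P : Type u) [CommRing P] [Algebra R P] [Algebra Q P] [IsScalarTower R Q P] :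
    P ⊗[R] R' ≃ₐ[P] P ⊗[Q] Q' :=
  AlgEquiv.ofLinearEquiv (bcEquiv _ (isBaseChange_incl R R' Q Q') P)
    (by simp [bcEquiv_apply, Algebra.TensorProduct.one_def, bcAlong_tmul])
    (by
      apply LinearMap.map_mul_of_map_mul_tmul
      intro p₁ p₂ a b
      simp [bcEquiv_apply, bcAlong_tmul, Algebra.TensorProduct.tmul_mul_tmul])

lemma norm_bcAlong (P : Type u) [CommRing P] [Algebra R P] [Algebra Q P] [IsScalarTower R Q P]
    (z : P ⊗[R] R') :
    Algebra.norm P (PolLaw.bcAlong (Q := Q) (IsScalarTower.toAlgHom R R' Q').toLinearMap P z) =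
      Algebra.norm P z := by
  rw [← bcEquiv_apply _ (isBaseChange_incl R R' Q Q')]
  exact Algebra.norm_eq_of_algEquiv (bcAlg Q' P) z

omit [Algebra.IsPushout R R' Q Q'] in
lemma bcAlong_actEnd
    {M' : Type u} [AddCommGroup M'] [Module R M'] [Module R' M'] [IsScalarTower R R' M']
    {M'' : Type u} [AddCommGroup M''] [Module R M''] [Module R' M''] [Module Q M''] [Module Q' M'']
    [IsScalarTower R R' M''] [IsScalarTower R Q M''] [IsScalarTower R' Q' M''] [IsScalarTower Q Q' M'']
    (f : M' →ₗ[R'] M'') (P : Type u) [CommRing P] [Algebra R P] [Algebra Q P] [IsScalarTower R Q P]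
    (x : P ⊗[R] R') (m : P ⊗[R] M') :
    PolLaw.bcAlong (Q := Q) (f.restrictScalars R) P (PolLaw.actEnd M' P x m) =
      PolLaw.actEnd M'' P (PolLaw.bcAlong (Q := Q) (IsScalarTower.toAlgHom R R' Q').toLinearMap P x)
        (PolLaw.bcAlong (Q := Q) (f.restrictScalars R) P m) := by
  induction x using TensorProduct.induction_on with
  | zero => simp
  | tmul s b =>
    induction m using TensorProduct.induction_on with
    | zero => simp
    | tmul t n => simp [bcAlong_tmul, PolLaw.actEnd_tmul_tmul, algebraMap_smul]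
    | add a b ha hb => simp only [map_add, ha, hb]
  | add a b ha hb => simp only [map_add, LinearMap.add_apply, ha, hb]

end pushout

section normic

variable {R : Type u} [CommRing R] {R' : Type u} [CommRing R'] [Algebra R R']
  {M' : Type u} [AddCommGroup M'] [Module R M'] [Module R' M'] [IsScalarTower R R' M']
  {N : Type u} [AddCommGroup N] [Module R N] {E : Type u} [AddCommGroup E] [Module R E]

lemma isNormic_postcomp {ν : M' →ₚₗ[R] N} (hν : PolLaw.IsNormic R' ν) (g : N →ₗ[R] E) :
    PolLaw.IsNormic R' (PolLaw.postcomp g ν) := by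
  intro P _ _ x m
  show g.lTensor P (ν.toFun' P _) = _ • g.lTensor P (ν.toFun' P m)
  rw [hν P x m, lTensor_smul]

lemma norm_map [Module.Free R R'] [Module.Finite R R'] {S S' : Type u} [CommRing S] [Algebra R S]
    [CommRing S'] [Algebra R S'] (φ : S →ₐ[R] S') (x : S ⊗[R] R') :
    Algebra.norm S' (Algebra.TensorProduct.map φ (AlgHom.id R R') x) = φ (Algebra.norm S x) := by
  rw [← PolLaw.detAct_self, PolLaw.detAct_map R' φ, PolLaw.detAct_self]

end normic

section laws

variable {R : Type u} [CommRing R] {Q : Type u} [CommRing Q] [Algebra R Q]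
  {X : Type u} [AddCommGroup X] [Module R X]
  {Y : Type u} [AddCommGroup Y] [Module R Y] [Module Q Y] [IsScalarTower R Q Y]
  {W : Type u} [AddCommGroup W] [Module R W] [Module Q W] [IsScalarTower R Q W]

/-- A law `Y → W` over `Q`, precomposed with `g : X → Y`, as a law over `R`. -/
noncomputable def restrLaw (g : X →ₗ[R] Y) (F : Y →ₚₗ[Q] W) : X →ₚₗ[R] W where
  toFun' S _ _ := fun z => rot S (F.toFun' (Q ⊗[R] S) (PolLaw.bcAlong (Q := Q) g (Q ⊗[R] S)
    ((Algebra.TensorProduct.includeRight : S →ₐ[R] Q ⊗[R] S).toLinearMap.rTensor X z)))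
  isCompat' {S} _ _ {S'} _ _ φ := by
    funext z
    simp only [Function.comp_apply]
    let ψ : Q ⊗[R] S →ₐ[Q] Q ⊗[R] S' := Algebra.TensorProduct.map (AlgHom.id Q Q) φ
    have h1 := congrFun (F.isCompat' ψ)
    simp only [Function.comp_apply] at h1
    rw [rot_natural, h1, bcAlong_natural, ← LinearMap.comp_apply, ← LinearMap.rTensor_comp,
      ← LinearMap.comp_apply (LinearMap.rTensor X _), ← LinearMap.rTensor_comp]
    congr 5

lemma restrLaw_bcAlong (g : X →ₗ[R] Y) (F : Y →ₚₗ[Q] W) (P : Type u) [CommRing P] [Algebra R P]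
    [Algebra Q P] [IsScalarTower R Q P] (m : P ⊗[R] X) :
    PolLaw.bcAlong (Q := Q) (LinearMap.id : W →ₗ[R] W) P ((restrLaw g F).toFun' P m) =
      F.toFun' P (PolLaw.bcAlong (Q := Q) g P m) := by
  let μ : Q ⊗[R] P →ₐ[Q] P :=
    Algebra.TensorProduct.lift (Algebra.ofId Q P) (AlgHom.id R P) (fun _ _ => Commute.all _ _)
  have h : ∀ w : (Q ⊗[R] P) ⊗[Q] W,
      PolLaw.bcAlong (Q := Q) (LinearMap.id : W →ₗ[R] W) P (rot P w) = μ.toLinearMap.rTensor W w := by
    intro w
    induction w using TensorProduct.induction_on with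
    | zero => simp
    | tmul t y =>
      induction t using TensorProduct.induction_on with
      | zero => simp
      | tmul q s => simp [μ, rot_tmul, bcAlong_tmul, TensorProduct.smul_tmul', Algebra.smul_def]
      | add a b ha hb => simp only [TensorProduct.add_tmul, map_add, ha, hb]
    | add a b ha hb => simp only [map_add, ha, hb]
  show PolLaw.bcAlong (Q := Q) _ P (rot P _) = _
  have h1 := congrFun (F.isCompat' μ)
  simp only [Function.comp_apply] at h1
  rw [h, h1, bcAlong_natural, ← LinearMap.comp_apply, ← LinearMap.rTensor_comp]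
  have : (μ.restrictScalars R).toLinearMap ∘ₗ
      (Algebra.TensorProduct.includeRight : P →ₐ[R] Q ⊗[R] P).toLinearMap = LinearMap.id :=
    LinearMap.ext fun p => by simp [μ]
  rw [this, LinearMap.rTensor_id, LinearMap.id_apply]

variable {Z : Type u} [AddCommGroup Z] [Module R Z]

variable (Q) in
/-- A law `X → Z` over `R`, extended to a law over `Q` out of a base change `g : X → Y`. -/
noncomputable def extLaw (g : X →ₗ[R] Y) (hg : IsBaseChange Q g) (ν : X →ₚₗ[R] Z) :
    Y →ₚₗ[Q] (Q ⊗[R] Z) where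
  toFun' S _ _ := fun w =>
    (Algebra.TensorProduct.lid Q S).toAlgHom.toLinearMap.rTensor (Q ⊗[R] Z)
      (bcEquiv (TensorProduct.mk R Q Z 1) (TensorProduct.isBaseChange R Z Q) (Q ⊗[Q] S)
        (ν.toFun' (Q ⊗[Q] S) ((bcEquiv g hg (Q ⊗[Q] S)).symm
          ((Algebra.TensorProduct.lid Q S).symm.toAlgHom.toLinearMap.rTensor Y w))))
  isCompat' {S} _ _ {S'} _ _ φ := by
    funext w
    simp only [Function.comp_apply]
    let ψ : Q ⊗[Q] S →ₐ[Q] Q ⊗[Q] S' := Algebra.TensorProduct.map (AlgHom.id Q Q) φ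
    have h1 := congrFun (ν.isCompat' (ψ.restrictScalars R))
    simp only [Function.comp_apply] at h1
    have e1 : φ.toLinearMap ∘ₗ (Algebra.TensorProduct.lid Q S).toAlgHom.toLinearMap =
        (Algebra.TensorProduct.lid Q S').toAlgHom.toLinearMap ∘ₗ ψ.toLinearMap := by
      ext s; simp [ψ]
    have e2 : (Algebra.TensorProduct.lid Q S').symm.toAlgHom.toLinearMap ∘ₗ φ.toLinearMap =
        ψ.toLinearMap ∘ₗ (Algebra.TensorProduct.lid Q S).symm.toAlgHom.toLinearMap := by
      ext s; simp [ψ]
    rw [← LinearMap.comp_apply, ← LinearMap.rTensor_comp, e1, LinearMap.rTensor_comp,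
      LinearMap.comp_apply, bcEquiv_apply, bcAlong_natural, ← bcEquiv_apply _ (TensorProduct.isBaseChange R Z Q), h1,
      ← bcEquiv_symm_natural, ← LinearMap.comp_apply (LinearMap.rTensor Y _) (LinearMap.rTensor Y _),
      ← LinearMap.rTensor_comp, ← e2, LinearMap.rTensor_comp, LinearMap.comp_apply]

lemma extLaw_bcAlong (g : X →ₗ[R] Y) (hg : IsBaseChange Q g) (ν : X →ₚₗ[R] Z) (P : Type u)
    [CommRing P] [Algebra R P] [Algebra Q P] [IsScalarTower R Q P] (m : P ⊗[R] X) :
    (extLaw Q g hg ν).toFun' P (PolLaw.bcAlong (Q := Q) g P m) =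
      PolLaw.bcAlong (Q := Q) (TensorProduct.mk R Q Z 1) P (ν.toFun' P m) := by
  let i : P →ₐ[Q] Q ⊗[Q] P := (Algebra.TensorProduct.lid Q P).symm.toAlgHom
  let j : Q ⊗[Q] P →ₐ[Q] P := (Algebra.TensorProduct.lid Q P).toAlgHom
  show j.toLinearMap.rTensor _ (bcEquiv _ _ _ (ν.toFun' _ ((bcEquiv g hg _).symm
    (i.toLinearMap.rTensor Y (PolLaw.bcAlong (Q := Q) g P m))))) = _
  rw [bcAlong_natural, ← bcEquiv_apply g hg, LinearEquiv.symm_apply_apply]
  have h1 := congrFun (ν.isCompat' (i.restrictScalars R))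
  simp only [Function.comp_apply] at h1
  rw [← h1, bcEquiv_apply, ← bcAlong_natural, ← LinearMap.comp_apply, ← LinearMap.rTensor_comp]
  have : j.toLinearMap ∘ₗ i.toLinearMap = LinearMap.id :=
    LinearMap.ext fun p => (Algebra.TensorProduct.lid Q P).apply_symm_apply p
  rw [this, LinearMap.rTensor_id, LinearMap.id_apply]

end laws

end Groth.Misc13.NormBC
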