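import Groth.Agent.Misc13.HodgeDim
import Groth.Agent.Misc13.BigNum
import Groth.Agent.Chow.AmpleTwist
import Mathlib.RingTheory.Artinian.Module
import Mathlib.RingTheory.Flat.Basic
import Mathlib.LinearAlgebra.FreeModule.PID
import Mathlib.Topology.Algebra.Module.FiniteDimension

/-!
# Intersection functionals on numerical classes
-/

set_option autoImplicit false
set_option linter.unusedSectionVars false

universe u

open CategoryTheory CategoryTheory.Limits AlgebraicGeometry TopologicalSpace
open scoped TensorProduct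

namespace Groth.Misc13.NumPairing

open Groth.Inter Groth.PicAux Groth.PropsBasic.Ample Groth.HilbStab

section Real

variable {N : Type*} [AddCommGroup N]

/-- A family of integral functionals separating a group separates its real tensor product. -/
theorem real_separates {I : Type*} (φ : I → (N →+ ℤ)) (h : ∀ n : N, (∀ i, φ i n = 0) → n = 0)
    (ψ : I → (ℝ ⊗[ℤ] N →+ ℝ)) (hψ : ∀ i (r : ℝ) (n : N), ψ i (r ⊗ₜ n) = r * φ i n)
    {x : ℝ ⊗[ℤ] N} (hx : ∀ i, ψ i x = 0) : x = 0 := by
  classical
  obtain ⟨S, hS, hxS⟩ : ∃ S : Submodule ℤ ℝ, S.FG ∧ x ∈ LinearMap.range (S.subtype.rTensor N) := by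
    clear hx
    induction x using TensorProduct.induction_on with
    | zero => exact ⟨⊥, Submodule.fg_bot, Submodule.zero_mem _⟩
    | tmul r n => exact ⟨Submodule.span ℤ {r}, Submodule.fg_span_singleton r,
        ⟨⟨r, Submodule.subset_span rfl⟩ ⊗ₜ n, rfl⟩⟩
    | add a b ha hb =>
      obtain ⟨S, hS, a', rfl⟩ := ha
      obtain ⟨T, hT, b', rfl⟩ := hb
      refine ⟨S ⊔ T, hS.sup hT, (Submodule.inclusion le_sup_left).rTensor N a' +
        (Submodule.inclusion le_sup_right).rTensor N b', ?_⟩
      rw [map_add, ← LinearMap.comp_apply, ← LinearMap.rTensor_comp, ← LinearMap.comp_apply,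
        ← LinearMap.rTensor_comp]
      rfl
  obtain ⟨y, rfl⟩ := hxS
  have : Module.Finite ℤ S := Module.Finite.iff_fg.2 hS
  obtain ⟨n, b⟩ := Module.basisOfFiniteTypeTorsionFree' (R := ℤ) (M := S)
  obtain ⟨c, rfl⟩ := (TensorProduct.equivFinsuppOfBasisLeft b).symm.surjective y
  have hc : ∀ j, c j = 0 := fun j => h _ fun i => by
    have e := hx i
    rw [TensorProduct.equivFinsuppOfBasisLeft_symm_apply, Finsupp.sum_fintype _ _ (by simp), map_sum,
      map_sum] at e
    simp only [LinearMap.rTensor_tmul, hψ] at e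
    have e2 : ∑ j, (φ i (c j)) • b j = (0 : S) := Subtype.ext (by
      simp only [Submodule.coe_sum, Submodule.coe_smul, Submodule.coe_zero]
      rw [← e]
      exact Finset.sum_congr rfl fun j _ => by rw [zsmul_eq_mul, mul_comm]; rfl)
    exact Fintype.linearIndependent_iff.1 b.linearIndependent _ e2 j
  rw [show c = 0 from Finsupp.ext hc, map_zero, map_zero]

end Real

variable (k : Type u) [Field k] {X : Scheme.{u}} [X.Over (Spec (CommRingCat.of k))]
  [IsProper (X ↘ Spec (CommRingCat.of k))]

/-- Degree zero on coherent modules of dimension at most one gives numerical triviality. -/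
theorem isNumEquivZero_of_delta {L : X.Modules} (hL : PicF.IsInvertible L)
    (h : ∀ F : X.Modules, Coh.IsCoh F → topologicalKrullDim (CohB1.support F) ≤ ((1 : ℕ) : WithBot ℕ∞) →
      delta k [L] F = 0) : Pic13.IsNumEquivZero k X L := by
  have hN : IsNoetherian X := isNoetherian k
  intro Y i _ hY hY1
  have : IsLocallyNoetherian Y := LocallyOfFiniteType.isLocallyNoetherian i
  obtain ⟨hc, hs⟩ := push_structure_facts (X := X) i
  have hd : topologicalKrullDim (CohB1.support ((Coh.push i).obj (Coh.structureModule Y))) ≤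
      ((1 : ℕ) : WithBot ℕ∞) := by
    rw [hs, ← i.isClosedEmbedding.isEmbedding.toHomeomorph.isHomeomorph.topologicalKrullDim_eq _, hY1]
    rfl
  rw [curveDeg_eq k i hL (by rw [hY1]; rfl), h _ hc hd, neg_zero]

/-- A numerically trivial entry kills the difference. -/
theorem delta_cons_of_numEquivZero {L : X.Modules} (hL : PicF.IsInvertible L)
    (hnum : Pic13.IsNumEquivZero k X L) {l : List X.Modules} (hl : ∀ P ∈ l, PicF.IsInvertible P)
    {F : X.Modules} (hF : Coh.IsCoh F) (hd : topologicalKrullDim (CohB1.support F) ≤ ((l.length + 1 : ℕ) : WithBot ℕ∞)) :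
    delta k (L :: l) F = 0 := by
  have hN : IsNoetherian X := isNoetherian k
  have hO := EulerDeg.isInvertible_structureModule X
  have hce : CurveEq k L (Coh.structureModule X) := curveEq_of_curveDeg k hL hO fun Y i _ hY hY1 => by
    have : IsLocallyNoetherian Y := LocallyOfFiniteType.isLocallyNoetherian i
    obtain ⟨hc, -⟩ := push_structure_facts (X := X) i
    rw [hnum Y i hY hY1, curveDeg_eq k i hO (by rw [hY1]; rfl), delta_cons, delta_congr k [] (tensor_one _)]
    simp
  rw [delta_eq_of_curveEq k (l.length + 1) (L :: l) (Coh.structureModule X :: l) rfl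
    (.cons ⟨hL, hO, hce⟩ (List.forall₂_same.2 fun x hx => ⟨hl x hx, hl x hx, fun _ _ => rfl⟩)) F hF hd,
    delta_cons, delta_congr k l (tensor_one F), sub_self]

variable [IsIntegral X]

theorem structure_support_dim {n : ℕ} (hn : topologicalKrullDim X = ((n : ℕ) : WithBot ℕ∞)) :
    topologicalKrullDim (CohB1.support (Coh.structureModule X)) = ((n : ℕ) : WithBot ℕ∞) := by
  rw [HodgeDim.support_structure, HodgeProper.dim_univ, hn]

/-- The functional of a list on numerical classes. -/
theorem exists_functional [PicGrp.Law X] {r : ℕ} (hdim : topologicalKrullDim X = ((r + 1 : ℕ) : WithBot ℕ∞))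
    {l : List X.Modules} (hl : ∀ P ∈ l, PicF.IsInvertible P) (hlen : l.length = r) :
    ∃ φ : NumR.N1 k X →+ ℤ, ∀ (L : X.Modules) (hL : PicF.IsInvertible L),
      φ (NumR.cl k X L hL) = - delta k (L :: l) (Coh.structureModule X) := by
  have hN : IsNoetherian X := isNoetherian k
  have hO := isCoh_of_isInvertible (EulerDeg.isInvertible_structureModule X)
  have hd : topologicalKrullDim (CohB1.support (Coh.structureModule X)) ≤ ((l.length + 1 : ℕ) : WithBot ℕ∞) := by
    rw [structure_support_dim hdim, hlen]
  let rep : PicLoc.PicSet X → X.Modules := fun c => (PicGrp.exists_eq_cls c).choose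
  have hrep : ∀ c, ∃ h : PicF.IsInvertible (rep c), c = PicGrp.cls (rep c) h :=
    fun c => (PicGrp.exists_eq_cls c).choose_spec
  let f : PicLoc.PicSet X → ℤ := fun c => - delta k (rep c :: l) (Coh.structureModule X)
  have hf : ∀ (L : X.Modules) (hL : PicF.IsInvertible L),
      f (PicGrp.cls L hL) = - delta k (L :: l) (Coh.structureModule X) := fun L hL => by
    obtain ⟨h, e⟩ := hrep (PicGrp.cls L hL)
    simp only [f]
    rw [delta_congr_list k (List.Forall₂.cons ((PicGrp.cls_eq_cls_iff h hL).1 e.symm)
      (List.forall₂_same.2 fun x _ => ⟨Iso.refl x⟩))]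
  have hone : f 1 = 0 := by
    rw [← PicGrp.cls_structureModule_eq_one, hf, delta_cons, delta_congr k l (tensor_one _), sub_self, neg_zero]
  have hmul : ∀ a b, f (a * b) = f a + f b := fun a b => by
    obtain ⟨L, hL, rfl⟩ := PicGrp.exists_eq_cls a
    obtain ⟨M, hM, rfl⟩ := PicGrp.exists_eq_cls b
    have e : PicGrp.cls L hL * PicGrp.cls M hM =
        PicGrp.cls (CohB1.tensorMod L M) (isInvertible_tensorMod hL hM) :=
      Subtype.ext (PicGrp.cls_mul_cls_val hL hM)
    rw [e, hf, hf, hf, delta_tensor k hL hM hl hO hd]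
    ring
  let F : PicLoc.PicSet X →* Multiplicative ℤ :=
    { toFun := fun c => Multiplicative.ofAdd (f c)
      map_one' := by rw [hone]; rfl
      map_mul' := fun a b => by rw [hmul]; rfl }
  have hker : PicGrp.subCl (Y := X) (Pic13.IsNumEquivZero k X) ≤ F.ker := by
    refine (Subgroup.closure_le _).2 ?_
    rintro _ ⟨L, hL, hnum, rfl⟩
    rw [SetLike.mem_coe, MonoidHom.mem_ker]
    change Multiplicative.ofAdd (f _) = 1
    rw [hf, delta_cons_of_numEquivZero k hL hnum hl hO hd, neg_zero]
    rfl
  exact ⟨MonoidHom.toAdditiveLeft (QuotientGroup.lift _ F hker), hf⟩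

/-- Nonnegativity on modules with a section. -/
theorem nonneg_of_hasSection {r : ℕ} (hdim : topologicalKrullDim X = ((r + 1 : ℕ) : WithBot ℕ∞))
    {l : List X.Modules} (hl : ∀ P ∈ l, IsAmpleInv P) (hlen : l.length = r)
    {L : X.Modules} (hL : PicF.IsInvertible L) (hs : NumR.HasSection L) :
    0 ≤ - delta k (L :: l) (Coh.structureModule X) := by
  have hN : IsNoetherian X := isNoetherian k
  obtain ⟨t, ht⟩ := (BigNum.hasSection_iff L).1 hs
  let O := Coh.structureModule X
  have hOi : PicF.IsInvertible O := EulerDeg.isInvertible_structureModule X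
  have hO : Coh.IsCoh O := isCoh_of_isInvertible hOi
  have hOL : Coh.IsCoh (CohB1.tensorMod O L) := isCoh_of_isInvertible (isInvertible_tensorMod hOi hL)
  have : Mono (mulSec t O) := mono_mulSec_of_ne_zero hL ht hOi
  have hQ : Coh.IsCoh (cokernel (mulSec t O)) := QCohMod.isCoh_cokernel (M := O) _ hOL
  have hli : ∀ P ∈ l, PicF.IsInvertible P := fun P hP => (hl P hP).isInvertible
  have hadd : delta k l (CohB1.tensorMod O L) = delta k l O + delta k l (cokernel (mulSec t O)) :=
    delta_add k hli (CohTwo.cokerSeq_shortExact (mulSec t O)) hO hQ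
  rw [delta_congr k l (Inter.tensor_comm O L), delta_twist k L l O] at hadd
  have hQd : topologicalKrullDim (CohB1.support (cokernel (mulSec t O))) ≤ (l.length : ℕ) := by
    rw [hlen]
    refine lt_natCast_succ_iff.1 (lt_of_lt_of_eq (LocCohTransform.topologicalKrullDim_lt_of_ssubset
      (Set.subset_univ _) (fun h => ?_) (CohTwo.isClosed_support _ hQ) isClosed_univ
      (IrreducibleSpace.isIrreducible_univ X)
      (by rw [HodgeProper.dim_univ, hdim]; exact WithBot.coe_lt_coe.2 (ENat.natCast_lt_top _)))
      (by rw [HodgeProper.dim_univ, hdim]))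
    exact support_cokernel_mulSec_subset t O (h (Set.mem_univ (genericPoint X)))
      (genericPoint_mem_gloc hL ht)
  linarith [delta_nonneg k hl hQ hQd]

/-- The functionals of inverses of ample modules separate numerical classes. -/
theorem separates {r : ℕ} (hdim : topologicalKrullDim X = ((r + 1 : ℕ) : WithBot ℕ∞)) {H : X.Modules}
    (hH : CohB1.IsAmple H) {L : X.Modules} (hL : PicF.IsInvertible L)
    (h : ∀ l : List X.Modules, (∀ P ∈ l, IsAmpleInv P) → l.length = r →
      delta k (L :: l) (Coh.structureModule X) = 0) : Pic13.IsNumEquivZero k X L := by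
  have hN : IsNoetherian X := isNoetherian k
  have hO := isCoh_of_isInvertible (EulerDeg.isInvertible_structureModule X)
  refine isNumEquivZero_of_delta k hL fun F hF hFd => ?_
  refine HodgeDim.delta_eq_zero_of_curveZero k hL ?_ hF hFd
  cases r with
  | zero =>
    intro y _ hy
    have hη : closure ({y} : Set X) = Set.univ := by
      by_contra hne
      have hlt := LocCohTransform.topologicalKrullDim_lt_of_ssubset (Set.subset_univ (closure ({y} : Set X)))
        (fun h => hne (Set.eq_univ_of_univ_subset h)) isClosed_closure isClosed_univ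
        (IrreducibleSpace.isIrreducible_univ X)
        (by rw [HodgeProper.dim_univ, hdim]; exact WithBot.coe_lt_coe.2 (ENat.natCast_lt_top _))
      rw [hy, HodgeProper.dim_univ, hdim] at hlt
      exact lt_irrefl _ hlt
    obtain ⟨n, hn, e⟩ := HodgeProper.delta_eq_length_mul k (l := [L]) (by simpa using hL) hO
      (by simpa using hy) (hη ▸ Set.subset_univ _) (by rw [HodgeDim.support_structure]; trivial)
    rw [h [] (by simp) rfl] at e
    exact (mul_eq_zero.1 e.symm).resolve_left (by exact_mod_cast hn.ne')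
  | succ s =>
    obtain ⟨B, hB, hHB⟩ := exists_isInverseOf hH.1
    have hBa : IsAmpleInv B := ⟨H, hH, hHB⟩
    obtain ⟨L', hL', hLL'⟩ := exists_isInverseOf hL
    obtain ⟨m, -, hm⟩ := Groth.Chow.exists_twist_isAmple hH (isInvertible_tensorPow hL' 1)
    let C := CohB1.tensorMod (CohB1.tensorPow B m) (CohB1.tensorPow L 1)
    have hC : IsAmpleInv C := ⟨_, (hm m le_rfl).1, isInverseOf_comb hHB (isInverseOf_symm hLL') m 1⟩
    have hrep : ∀ n, ∀ P ∈ List.replicate n B, IsAmpleInv P :=
      fun n P hP => (List.eq_of_mem_replicate hP).symm ▸ hBa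
    have hrepi : ∀ n, ∀ P ∈ List.replicate n B, PicF.IsInvertible P := fun n P hP => (hrep n P hP).isInvertible
    have h1 := h (List.replicate (s + 1) B) (hrep _) List.length_replicate
    refine HodgeDim.main k (d := s) hdim hBa hL h1 ?_
    have h2 := h (C :: List.replicate s B) (fun P hP => by
      rcases List.mem_cons.1 hP with rfl | hP
      exacts [hC, hrep s P hP]) (by simp)
    have hd : topologicalKrullDim (CohB1.support (Coh.structureModule X)) ≤
        (((L :: List.replicate s B).length + 1 : ℕ) : WithBot ℕ∞) := by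
      rw [structure_support_dim hdim]; simp
    have hLl : ∀ P ∈ L :: List.replicate s B, PicF.IsInvertible P := by
      simpa [hL] using hrepi s
    rw [delta_perm k (List.Perm.swap C L (List.replicate s B)),
      delta_tensor k (isInvertible_tensorPow hB m) (isInvertible_tensorPow hL 1) hLl hO hd,
      delta_pow_cons k hB hLl hO hd m, delta_pow_cons k hL hLl hO hd 1,
      delta_perm k (List.Perm.swap L B (List.replicate s B)), ← List.replicate_succ, h1] at h2
    simp only [mul_zero, zero_add, Nat.cast_one, one_mul] at h2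
    rw [h2]

/-- Bounded pieces of the pseudo-effective cone are compact. -/
theorem isCompact_interval [PicGrp.Law X] [Module.Finite ℝ (NumR.N1R k X)] {H : X.Modules}
    (hH : CohB1.IsAmple H) (δ : NumR.N1R k X) :
    IsCompact {δ' : NumR.N1R k X | δ' ∈ NumR.psefCone k X ∧ δ - δ' ∈ NumR.psefCone k X} := by
  classical
  have hN : IsNoetherian X := isNoetherian k
  obtain ⟨n, hn⟩ : ∃ n : ℕ, topologicalKrullDim X = ((n : ℕ) : WithBot ℕ∞) := by
    obtain ⟨a, ha⟩ := ENat.ne_top_iff_exists.1
      (Groth.Variety2.Dim.height_ne_top (X ↘ Spec (CommRingCat.of k)) (genericPoint X))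
    exact ⟨a, by rw [Groth.Variety2.Dim.dim_eq_height_genericPoint, ← ha]; rfl⟩
  rcases n with - | r
  · have hzero : ∀ x : NumR.N1R k X, x = 0 := fun x => by
      have hsp : x ∈ Submodule.span ℝ {x : NumR.N1R k X | ∃ (L : X.Modules) (hL : PicF.IsInvertible L),
          x = NumR.clR k X L hL} := NumR.span_clR (k := k) (X := X) ▸ Submodule.mem_top
      induction hsp using Submodule.span_induction with
      | mem y hy =>
        obtain ⟨L, hL, rfl⟩ := hy
        rw [NumR.clR_def, NumR.cl_eq_zero hL (fun Y i _ _ hY1 => ?_), map_zero]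
        have hle := i.isClosedEmbedding.isEmbedding.isInducing.topologicalKrullDim_le
        rw [hY1, hn] at hle
        exact absurd (show (1 : ℕ) ≤ 0 by exact_mod_cast hle) (by norm_num)
      | zero => rfl
      | add a b _ _ ha hb => rw [ha, hb, add_zero]
      | smul c a _ ha => rw [ha, smul_zero]
    exact (Set.subsingleton_of_forall_eq 0 fun x _ => hzero x).finite.isCompact
  · let I := {l : List X.Modules // (∀ P ∈ l, IsAmpleInv P) ∧ l.length = r}
    choose φ hφ using fun l : I =>
      exists_functional k hn (fun P hP => (l.2.1 P hP).isInvertible) l.2.2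
    let ψ : I → (NumR.N1R k X →ₗ[ℝ] ℝ) := fun l =>
      TensorProduct.AlgebraTensorModule.lift (R := ℤ) (A := ℝ)
        (LinearMap.toSpanSingleton ℝ (NumR.N1 k X →ₗ[ℤ] ℝ)
          ((Int.castAddHom ℝ).comp (φ l)).toIntLinearMap)
    have hψ : ∀ (l : I) (r : ℝ) (x : NumR.N1 k X),
        ψ l ((r ⊗ₜ[ℤ] x : ℝ ⊗[ℤ] NumR.N1 k X)) = r * φ l x := fun l r x => rfl
    have hker : ∀ x : NumR.N1 k X, (∀ l, φ l x = 0) → x = 0 := fun x hx => by
      obtain ⟨L, hL, rfl⟩ := NumR.exists_eq_cl x
      refine NumR.cl_eq_zero hL (separates k hn hH hL fun l h1 h2 => ?_)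
      have h3 := hx ⟨l, h1, h2⟩
      rw [hφ] at h3
      exact neg_eq_zero.1 h3
    obtain ⟨K, ⟨J, rfl⟩, hmin⟩ := IsArtinian.set_has_minimal
      (Set.range fun J : Finset I => ⨅ l ∈ J, LinearMap.ker (ψ l)) ⟨_, ∅, rfl⟩
    let T : NumR.N1R k X →ₗ[ℝ] (J → ℝ) := LinearMap.pi fun l => ψ l.1
    have hT : Function.Injective T := (injective_iff_map_eq_zero T).2 fun x hx => by
      refine real_separates φ hker (fun l => (ψ l).toAddMonoidHom) hψ (x := x) fun l => ?_
      have hx' : x ∈ ⨅ l ∈ J, LinearMap.ker (ψ l) := by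
        simp only [Submodule.mem_iInf, LinearMap.mem_ker]
        exact fun l hl => congrFun hx ⟨l, hl⟩
      by_contra hne
      refine hmin _ ⟨insert l J, rfl⟩ (lt_of_le_of_ne ?_ fun he => hne ?_)
      · exact le_iInf₂ fun l' hl' => iInf₂_le l' (Finset.mem_insert_of_mem hl')
      · replace hx' : x ∈ (fun J : Finset I => ⨅ l ∈ J, LinearMap.ker (ψ l)) (insert l J) := he ▸ hx'
        simp only [Submodule.mem_iInf, LinearMap.mem_ker] at hx'
        exact hx' l (Finset.mem_insert_self l J)
    have : ContinuousNeg (NumR.N1R k X) := ⟨by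
      simpa using (continuous_const_smul (-1 : ℝ) : Continuous fun x : NumR.N1R k X => (-1 : ℝ) • x)⟩
    have : IsTopologicalAddGroup (NumR.N1R k X) := {}
    have hTc : Continuous T := IsModuleTopology.continuous_of_linearMap T
    have : T2Space (NumR.N1R k X) := T2Space.of_injective_continuous hT hTc
    have hemb : Topology.IsClosedEmbedding T := LinearMap.isClosedEmbedding_of_injective (LinearMap.ker_eq_bot.2 hT)
    have hpos : ∀ x ∈ NumR.psefCone k X, ∀ l : J, 0 ≤ T x l := fun x hx l => by
      refine closure_minimal (t := {y | 0 ≤ T y l}) ?_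
        (isClosed_le continuous_const ((continuous_apply l).comp hTc)) hx
      intro e he
      let C : ConvexCone ℝ (NumR.N1R k X) :=
        { carrier := {y | 0 ≤ T y l}
          smul_mem' := fun c hc y (hy : 0 ≤ T y l) => show 0 ≤ T (c • y) l by
            rw [map_smul, Pi.smul_apply]; exact smul_nonneg hc.le hy
          add_mem' := fun y (hy : 0 ≤ T y l) z (hz : 0 ≤ T z l) => show 0 ≤ T (y + z) l by
            rw [map_add, Pi.add_apply]; exact add_nonneg hy hz }
      refine ConvexCone.hull_min (C := C) ?_ he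
      rintro _ ⟨L, hL, hs, rfl⟩
      have hnn : (0 : ℤ) ≤ φ l.1 (NumR.cl k X L hL) := by
        rw [hφ]; exact nonneg_of_hasSection k hn l.1.2.1 l.1.2.2 hL hs
      change (0 : ℝ) ≤ ψ l.1 ((1 : ℝ) ⊗ₜ[ℤ] NumR.cl k X L hL : ℝ ⊗[ℤ] NumR.N1 k X)
      rw [hψ, one_mul]
      exact_mod_cast hnn
    refine (hemb.isCompact_preimage (isCompact_Icc (a := (0 : J → ℝ)) (b := T δ))).of_isClosed_subset ?_ ?_
    · exact isClosed_closure.inter (isClosed_closure.preimage (continuous_const.sub continuous_id))
    · rintro x ⟨h1, h2⟩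
      refine ⟨fun l => hpos x h1 l, fun l => ?_⟩
      have := hpos _ h2 l
      rw [map_sub, Pi.sub_apply] at this
      linarith

end Groth.Misc13.NumPairing
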