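import Groth.Agent.Misc13.BigNum

/-!
# The volume of an invertible module

Growth of `h⁰(L^m)` measured against `m^d`, `d = dim X`.
-/

set_option autoImplicit false

universe u

open CategoryTheory CategoryTheory.Limits AlgebraicGeometry TopologicalSpace Opposite
open scoped ENNReal

namespace Groth.Misc13.Volume

open Groth.Inter Groth.PicAux Groth.HilbStab Filter

variable (k : Type u) [Field k] {X : Scheme.{u}} [X.Over (Spec (CommRingCat.of k))]
  [IsProper (X ↘ Spec (CommRingCat.of k))] [IsIntegral X]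

/-- `h⁰(L^m) / m^d`. -/
noncomputable def ratio (d : ℕ) (L : X.Modules) (m : ℕ) : ℝ≥0∞ :=
  (Module.finrank k (Coh.HH X (CohB1.tensorPow L m) 0) : ℝ≥0∞) / (m : ℝ≥0∞) ^ d

omit [IsProper (X ↘ Spec (CommRingCat.of k))] [IsIntegral X] in
theorem ratio_eq (d : ℕ) (L : X.Modules) : ratio k d L = fun m : ℕ =>
    (Module.finrank k (Coh.HH X (CohB1.tensorPow L m) 0) : ℝ≥0∞) / (m : ℝ≥0∞) ^ d := rfl

include k in
/-- Twisting by a module with a section does not decrease `h⁰`. -/
theorem h0_le_of_hasSec {L E : X.Modules} (hL : PicF.IsInvertible L) (hE : PicF.IsInvertible E)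
    (h : BigExponent.HasSec E) :
    Module.finrank k (Coh.HH X L 0) ≤ Module.finrank k (Coh.HH X (CohB1.tensorMod L E) 0) := by
  obtain ⟨t, ht⟩ := h
  have := mono_mulSec_of_ne_zero hE ht hL
  exact finrank_h0_le_of_mono k (mulSec t L) (isCoh_of_isInvertible (isInvertible_tensorMod hL hE))

/-- A module which is not big has growth of exponent less than the dimension. -/
theorem h0_le_of_not_hasAmpleSub {e : ℕ} (hn : topologicalKrullDim X = ((e + 1 : ℕ) : WithBot ℕ∞))
    {H L : X.Modules} (hH : CohB1.IsAmple H) (hL : PicF.IsInvertible L) (hb : ¬ HasAmpleSub L) :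
    ∃ C : ℕ, ∀ m : ℕ, 1 ≤ m →
      Module.finrank k (Coh.HH X (CohB1.tensorPow L m) 0) ≤ C * (m + 1) ^ e := by
  obtain ⟨P, P', Q, hP, hPP', hQ, hQd, hle⟩ := exists_divisor k hH hn.le
  obtain ⟨C, hC⟩ := bnd_of_dim k hH hL e hQ hQd
  refine ⟨C, fun m hm => ?_⟩
  refine (hle _ (isInvertible_tensorPow hL m)).trans ?_
  rcases Nat.eq_zero_or_pos
    (Module.finrank k (Coh.HH X (CohB1.tensorMod (CohB1.tensorPow L m) P') 0)) with h0 | h0
  · rw [h0, Nat.zero_add]
    exact hC m
  · obtain ⟨s, hs⟩ := exists_ne_zero_of_finrank_pos k h0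
    obtain ⟨φ, hφ⟩ := exists_mono_of_section (isInvertible_tensorPow hL m) hP.1 hPP' hs
    exact (hb ⟨m, P, φ, hm, hP, hφ⟩).elim

/-- The growth of a module which is not big is negligible. -/
theorem tendsto_ratio_of_not_hasAmpleSub {d : ℕ} (hn : topologicalKrullDim X = (d : WithBot ℕ∞))
    {H L : X.Modules} (hH : CohB1.IsAmple H) (hL : PicF.IsInvertible L) (hb : ¬ HasAmpleSub L) :
    Tendsto (ratio k d L) atTop (nhds 0) := by
  cases d with
  | zero => exact absurd (hasAmpleSub_of_dim_zero k hn.le hL) hb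
  | succ e =>
    obtain ⟨C, hC⟩ := h0_le_of_not_hasAmpleSub k hn hH hL hb
    refine tendsto_of_tendsto_of_tendsto_of_le_of_le' tendsto_const_nhds
      (h := fun m : ℕ => ((C * 2 ^ e : ℕ) : ℝ≥0∞) * (m : ℝ≥0∞)⁻¹) ?_
      (Eventually.of_forall fun m => bot_le) ?_
    · simpa using ENNReal.Tendsto.const_mul ENNReal.tendsto_inv_nat_nhds_zero
        (Or.inr (ENNReal.natCast_ne_top (C * 2 ^ e)))
    · filter_upwards [eventually_ge_atTop 1] with m hm
      have h1 : Module.finrank k (Coh.HH X (CohB1.tensorPow L m) 0) ≤ C * 2 ^ e * m ^ e := by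
        refine (hC m hm).trans ?_
        rw [mul_assoc, ← mul_pow]
        exact Nat.mul_le_mul_left _ (Nat.pow_le_pow_left (by omega) e)
      have h0 : (m : ℝ≥0∞) ≠ 0 := by exact_mod_cast (by omega : m ≠ 0)
      show (Module.finrank k (Coh.HH X (CohB1.tensorPow L m) 0) : ℝ≥0∞) / (m : ℝ≥0∞) ^ (e + 1) ≤ _
      refine ENNReal.div_le_of_le_mul ?_
      rw [mul_assoc, pow_succ', ← mul_assoc (m : ℝ≥0∞)⁻¹,
        ENNReal.inv_mul_cancel h0 (ENNReal.natCast_ne_top m), one_mul]
      exact_mod_cast h1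

/-- The growth of a big module is maximal. -/
theorem liminf_pos_of_hasAmpleSub {d : ℕ} (hn : topologicalKrullDim X = (d : WithBot ℕ∞))
    {H L : X.Modules} (hH : CohB1.IsAmple H) (hL : PicF.IsInvertible L) (hb : HasAmpleSub L) :
    0 < liminf (ratio k d L) atTop := by
  obtain ⟨C, hC, m₁, hm₁⟩ := (BigNum.growth_iff k hn hH hL).1 hb
  refine lt_of_lt_of_le (ENNReal.ofReal_pos.2 hC) (le_liminf_of_le ?_ ?_)
  · exact isCobounded_ge_of_top
  · filter_upwards [eventually_ge_atTop m₁, eventually_ge_atTop 1] with m hm h1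
    have h0 : (m : ℝ≥0∞) ≠ 0 := by exact_mod_cast (by omega : m ≠ 0)
    refine (ENNReal.le_div_iff_mul_le (Or.inl (pow_ne_zero _ h0))
      (Or.inl (ENNReal.pow_ne_top (ENNReal.natCast_ne_top m)))).2 ?_
    have h2 : ENNReal.ofReal (C * (m : ℝ) ^ d) ≤
        ENNReal.ofReal ((Module.finrank k (Coh.HH X (CohB1.tensorPow L m) 0) : ℕ) : ℝ) :=
      ENNReal.ofReal_le_ofReal (hm₁ m hm)
    rwa [ENNReal.ofReal_mul hC.le, ENNReal.ofReal_pow (Nat.cast_nonneg m), ENNReal.ofReal_natCast,
      ENNReal.ofReal_natCast] at h2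

/-- The volume is positive exactly for big modules. -/
theorem limsup_pos_iff {d : ℕ} (hn : topologicalKrullDim X = (d : WithBot ℕ∞))
    {H L : X.Modules} (hH : CohB1.IsAmple H) (hL : PicF.IsInvertible L) :
    0 < limsup (ratio k d L) atTop ↔ HasAmpleSub L := by
  constructor
  · intro h
    by_contra hb
    rw [(tendsto_ratio_of_not_hasAmpleSub k hn hH hL hb).limsup_eq] at h
    exact lt_irrefl _ h
  · exact fun hb => (liminf_pos_of_hasAmpleSub k hn hH hL hb).trans_le liminf_le_limsup

/-- The volume is increasing in effective directions. -/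
theorem limsup_le_tensor {d : ℕ} {L E : X.Modules} (hL : PicF.IsInvertible L) (hE : PicF.IsInvertible E)
    (h : BigExponent.HasSec E) :
    limsup (ratio k d L) atTop ≤ limsup (ratio k d (CohB1.tensorMod L E)) atTop := by
  refine limsup_le_limsup (Eventually.of_forall fun m => ENNReal.div_le_div_right ?_ _)
  have h1 : BigExponent.HasSec (CohB1.tensorPow E m) := by
    have h2 : BigExponent.HasSec (CohB1.tensorPow E 1) := BigExponent.hasSec_iso (tensor_one E).some.symm h
    simpa using BigExponent.hasSec_pow_mul hE h2 m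
  exact_mod_cast (h0_le_of_hasSec k (isInvertible_tensorPow hL m) (isInvertible_tensorPow hE m) h1).trans_eq
    (finrank_h0_congr k (tensorPow_tensorMod' L E m).some).symm

omit [IsProper (X ↘ Spec (CommRingCat.of k))] [IsIntegral X] in
theorem ratio_pow (d : ℕ) (L : X.Modules) {a : ℕ} (ha : 0 < a) (m : ℕ) :
    ratio k d (CohB1.tensorPow L a) m = (a : ℝ≥0∞) ^ d * ratio k d L (a * m) := by
  have h0 : (a : ℝ≥0∞) ^ d ≠ 0 := pow_ne_zero _ (by exact_mod_cast ha.ne')
  have ht : (a : ℝ≥0∞) ^ d ≠ ⊤ := ENNReal.pow_ne_top (ENNReal.natCast_ne_top a)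
  simp only [ratio]
  rw [finrank_h0_congr k (tensorPow_mul' L a m).some, Nat.cast_mul, mul_pow, ← mul_div_assoc,
    ENNReal.mul_div_mul_left _ _ h0 ht]

/-- The volume is homogeneous. -/
theorem limsup_pow {d : ℕ} (hn : topologicalKrullDim X = (d : WithBot ℕ∞))
    {H L : X.Modules} (hH : CohB1.IsAmple H) (hL : PicF.IsInvertible L) {a : ℕ} (ha : 0 < a) :
    limsup (ratio k d (CohB1.tensorPow L a)) atTop = (a : ℝ≥0∞) ^ d * limsup (ratio k d L) atTop := by
  have key : limsup (fun m => ratio k d L (a * m)) atTop = limsup (ratio k d L) atTop := by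
    refine le_antisymm ?_ ?_
    · show limsup (ratio k d L ∘ (a * ·)) atTop ≤ _
      rw [limsup_comp]
      exact limsup_le_limsup_of_le ((tendsto_id.const_mul_atTop' ha : Tendsto (a * ·) atTop atTop))
    · by_cases hb : HasAmpleSub L
      · have : QuasiSeparatedSpace X := quasiSeparatedSpace_of_quasiSeparated (X ↘ Spec (CommRingCat.of k))
        obtain ⟨m₁, hm₁⟩ := BigExponent.exists_forall_hasSec hH hL (BigNum.bigA_of_hasAmpleSub k hL hb)
        let ψ : ℕ → ℕ := fun m => (m + m₁) / a + 1
        let r : ℕ → ℝ≥0∞ := fun m => (((a * ψ m : ℕ) : ℝ≥0∞) / (m : ℝ≥0∞)) ^ d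
        have hψ : Tendsto ψ atTop atTop := by
          refine tendsto_atTop_atTop.2 fun b => ⟨a * b, fun m hm => ?_⟩
          exact ((Nat.le_div_iff_mul_le ha).2 (by rw [mul_comm]; omega)).trans (Nat.le_succ _)
        have hr : Tendsto r atTop (nhds 1) := by
          have h1 : Tendsto (fun m : ℕ => ((a * ψ m : ℕ) : ℝ≥0∞) / (m : ℝ≥0∞)) atTop (nhds 1) := by
            refine tendsto_of_tendsto_of_tendsto_of_le_of_le' tendsto_const_nhds
              (h := fun m : ℕ => 1 + ((m₁ + a : ℕ) : ℝ≥0∞) * (m : ℝ≥0∞)⁻¹) ?_ ?_ ?_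
            · simpa using tendsto_const_nhds.add (ENNReal.Tendsto.const_mul
                ENNReal.tendsto_inv_nat_nhds_zero (Or.inr (ENNReal.natCast_ne_top (m₁ + a))))
            · filter_upwards [eventually_ge_atTop 1] with m hm
              refine (ENNReal.le_div_iff_mul_le (Or.inl (by exact_mod_cast (by omega : m ≠ 0)))
                (Or.inl (ENNReal.natCast_ne_top m))).2 ?_
              rw [one_mul]
              have := Nat.lt_mul_div_succ (m + m₁) ha
              exact_mod_cast (by omega : m ≤ a * ((m + m₁) / a + 1))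
            · filter_upwards [eventually_ge_atTop 1] with m hm
              have h0 : (m : ℝ≥0∞) ≠ 0 := by exact_mod_cast (by omega : m ≠ 0)
              refine ENNReal.div_le_of_le_mul ?_
              rw [add_mul, one_mul, mul_assoc, ENNReal.inv_mul_cancel h0 (ENNReal.natCast_ne_top m),
                mul_one]
              have := Nat.mul_div_le (m + m₁) a
              exact_mod_cast (by rw [Nat.mul_succ]; omega : a * ((m + m₁) / a + 1) ≤ m + (m₁ + a))
          have h2 := ((ENNReal.continuous_pow d).tendsto 1).comp h1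
          rw [one_pow] at h2
          exact h2
        have hle : ∀ᶠ m in atTop, ratio k d L m ≤ ((fun m => ratio k d L (a * ψ m)) * r) m := by
          filter_upwards [eventually_ge_atTop 1] with m hm
          have h0 : (m : ℝ≥0∞) ≠ 0 := by exact_mod_cast (by omega : m ≠ 0)
          have hlt := Nat.lt_mul_div_succ (m + m₁) ha
          have h1 : m₁ ≤ a * ψ m - m := by simp only [ψ]; omega
          have h2 : m ≤ a * ψ m := by simp only [ψ]; omega
          have h3 : (Module.finrank k (Coh.HH X (CohB1.tensorPow L m) 0) : ℝ≥0∞) ≤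
              (Module.finrank k (Coh.HH X (CohB1.tensorPow L (a * ψ m)) 0) : ℝ≥0∞) := by
            have h4 := h0_le_of_hasSec k (isInvertible_tensorPow hL m) (isInvertible_tensorPow hL _)
              (hm₁ _ h1)
            rw [← finrank_h0_congr k (tensorPow_add L m (a * ψ m - m)).some, Nat.add_sub_cancel' h2] at h4
            exact_mod_cast h4
          show ratio k d L m ≤ ratio k d L (a * ψ m) * r m
          have hne : ((a * ψ m : ℕ) : ℝ≥0∞) ^ d ≠ 0 := pow_ne_zero _ (by exact_mod_cast (by omega : a * ψ m ≠ 0))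
          refine (ENNReal.div_le_div_right h3 _).trans_eq ?_
          simp only [ratio, r]
          rw [div_eq_mul_inv ((a * ψ m : ℕ) : ℝ≥0∞) (m : ℝ≥0∞), mul_pow, ← mul_assoc,
            ENNReal.div_mul_cancel hne (ENNReal.pow_ne_top (ENNReal.natCast_ne_top _)), div_eq_mul_inv,
            ← ENNReal.inv_pow]
        refine (limsup_le_limsup hle).trans ((ENNReal.limsup_mul_le' (Or.inr ?_) (Or.inr ?_)).trans ?_)
        · rw [hr.limsup_eq]; exact ENNReal.one_ne_top
        · rw [hr.limsup_eq]; exact one_ne_zero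
        · rw [hr.limsup_eq, mul_one]
          show limsup ((fun m => ratio k d L (a * m)) ∘ ψ) atTop ≤ _
          rw [limsup_comp]
          exact limsup_le_limsup_of_le hψ
      · rw [(tendsto_ratio_of_not_hasAmpleSub k hn hH hL hb).limsup_eq]
        exact bot_le
  rw [funext (ratio_pow k d L ha), ENNReal.limsup_const_mul_of_ne_top
    (ENNReal.pow_ne_top (ENNReal.natCast_ne_top a)), key]

end Groth.Misc13.Volume
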