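import Mathlib

/-! Torsion of coinvariants of small-order automorphisms of lattices over `ℤ_ℓ`. -/

set_option autoImplicit false

universe u

namespace Groth.Misc13.PadicCoinv

variable {ℓ : ℕ} [Fact ℓ.Prime] {M : Type u} [AddCommGroup M] [Module ℤ_[ℓ] M]
  [Module.Free ℤ_[ℓ] M] [Module.Finite ℤ_[ℓ] M]

lemma natCast_ne_zero : (ℓ : ℤ_[ℓ]) ≠ 0 := Nat.cast_ne_zero.2 (Fact.out : ℓ.Prime).ne_zero

lemma smul_ne (x : M) {a : ℤ_[ℓ]} (ha : a ≠ 0) (h : a • x = 0) : x = 0 :=
  (smul_eq_zero.1 h).resolve_left ha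

lemma end_smul_cancel {a : ℤ_[ℓ]} (ha : a ≠ 0) {g h : Module.End ℤ_[ℓ] M} (e : a • g = a • h) :
    g = h :=
  LinearMap.ext fun x => sub_eq_zero.1 (smul_ne _ ha (by
    rw [smul_sub, sub_eq_zero]; exact LinearMap.congr_fun e x))

omit [Module.Free ℤ_[ℓ] M] [Module.Finite ℤ_[ℓ] M] in
/-- `M/ℓM` has `ℓ ^ rank` elements. -/
lemma index_smul_range (N : Type u) [AddCommGroup N] [Module ℤ_[ℓ] N] [Module.Free ℤ_[ℓ] N]
    [Module.Finite ℤ_[ℓ] N] :
    ((ℓ : ℤ_[ℓ]) • (LinearMap.id : N →ₗ[ℤ_[ℓ]] N)).range.toAddSubgroup.index =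
      ℓ ^ Module.finrank ℤ_[ℓ] N := by
  classical
  let b := Module.finBasis ℤ_[ℓ] N
  let φ : N →+ (Fin (Module.finrank ℤ_[ℓ] N) → ZMod ℓ) :=
    AddMonoidHom.mk' (fun x i => PadicInt.toZMod (b.equivFun x i))
      (fun x y => funext fun i => by simp)
  have hφ : Function.Surjective φ := fun v => by
    choose w hw using fun i => ZMod.ringHom_surjective (PadicInt.toZMod (p := ℓ)) (v i)
    exact ⟨b.equivFun.symm w, funext fun i => by
      change PadicInt.toZMod (b.equivFun (b.equivFun.symm w) i) = v i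
      rw [LinearEquiv.apply_symm_apply, hw]⟩
  have hker : φ.ker = ((ℓ : ℤ_[ℓ]) • (LinearMap.id : N →ₗ[ℤ_[ℓ]] N)).range.toAddSubgroup := by
    ext x
    constructor
    · intro hx
      have hx' : ∀ i, b.equivFun x i ∈ Ideal.span {(ℓ : ℤ_[ℓ])} := fun i => by
        rw [← PadicInt.maximalIdeal_eq_span_p, ← PadicInt.ker_toZMod]
        exact congrFun (AddMonoidHom.mem_ker.1 hx) i
      choose c hc using fun i => Ideal.mem_span_singleton.1 (hx' i)
      refine ⟨b.equivFun.symm c, ?_⟩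
      apply b.equivFun.injective
      funext i
      rw [LinearMap.smul_apply, LinearMap.id_apply, map_smul, LinearEquiv.apply_symm_apply,
        Pi.smul_apply, smul_eq_mul, hc i]
    · rintro ⟨y, rfl⟩
      refine AddMonoidHom.mem_ker.2 (funext fun i => ?_)
      simp [φ]
  rw [← hker, AddSubgroup.index_eq_card]
  have e := (QuotientAddGroup.quotientKerEquivOfSurjective φ hφ).toEquiv
  rw [Nat.card_congr e, Nat.card_fun, Nat.card_zmod, Nat.card_eq_fintype_card, Fintype.card_fin]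

variable (f P : Module.End ℤ_[ℓ] M)

/-- The restriction of `f` to the range of the projection `P`. -/
noncomputable def restr (hfP : f ∘ₗ P = f) (hPf : P ∘ₗ f = f) : Module.End ℤ_[ℓ] P.range :=
  f.restrict fun x _ => ⟨f x, LinearMap.congr_fun hPf x⟩

lemma restr_apply (hfP : f ∘ₗ P = f) (hPf : P ∘ₗ f = f) (x : P.range) :
    (restr f P hfP hPf x : M) = f x := rfl

variable {f P}

lemma proj_fix (hP : P ∘ₗ P = P) (x : P.range) : P x = x := by
  obtain ⟨_, y, rfl⟩ := x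
  exact LinearMap.congr_fun hP y

lemma restr_injective (hP : P ∘ₗ P = P) (hfP : f ∘ₗ P = f) (hPf : P ∘ₗ f = f)
    (hker : ∀ x, f x = 0 → P x = 0) : Function.Injective (restr f P hfP hPf) := by
  refine (injective_iff_map_eq_zero _).2 fun x hx => Subtype.ext ?_
  rw [← proj_fix hP x]
  exact hker _ (congrArg Subtype.val hx)

/-- The torsion of the coinvariants is the cokernel of `f` on the range of the projection. -/
theorem torsion_spec (hP : P ∘ₗ P = P) (hfP : f ∘ₗ P = f) (hPf : P ∘ₗ f = f)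
    (hdiv : ∀ x : P.range, (ℓ : ℤ_[ℓ]) • x ∈ (restr f P hfP hPf).range) :
    (∀ x ∈ Submodule.torsion ℤ_[ℓ] (M ⧸ LinearMap.range f), (ℓ : ℤ_[ℓ]) • x = 0) ∧
      Nat.card (Submodule.torsion ℤ_[ℓ] (M ⧸ LinearMap.range f)) =
        (restr f P hfP hPf).range.toAddSubgroup.index := by
  let φ : P.range →ₗ[ℤ_[ℓ]] M ⧸ LinearMap.range f := f.range.mkQ ∘ₗ P.range.subtype
  have hl : ∀ x : P.range, (ℓ : ℤ_[ℓ]) • φ x = 0 := by
    intro x
    obtain ⟨y, hy⟩ := hdiv x
    rw [← map_smul, ← hy]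
    exact (Submodule.Quotient.mk_eq_zero _).2 ⟨(y : M), rfl⟩
  have hrange : φ.range = Submodule.torsion ℤ_[ℓ] (M ⧸ LinearMap.range f) := by
    apply le_antisymm
    · rintro _ ⟨x, rfl⟩
      exact (Submodule.mem_torsion_iff _).2
        ⟨⟨(ℓ : ℤ_[ℓ]), mem_nonZeroDivisors_of_ne_zero natCast_ne_zero⟩, hl x⟩
    · intro z hz
      obtain ⟨m, rfl⟩ := f.range.mkQ_surjective z
      obtain ⟨⟨a, ha⟩, ha'⟩ := (Submodule.mem_torsion_iff _).1 hz
      obtain ⟨y, hy⟩ := (Submodule.Quotient.mk_eq_zero _).1 (show f.range.mkQ (a • m) = 0 by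
        rw [map_smul]; exact ha')
      have hm : P m = m := by
        refine (sub_eq_zero.1 (smul_ne _ (nonZeroDivisors.ne_zero ha) ?_)).symm
        rw [smul_sub, ← map_smul, ← hy, show P (f y) = f y from LinearMap.congr_fun hPf y, sub_self]
      exact ⟨⟨m, m, hm⟩, rfl⟩
  refine ⟨fun x hx => ?_, ?_⟩
  · rw [← hrange] at hx
    obtain ⟨y, rfl⟩ := hx
    exact hl y
  · have hkerφ : φ.ker = (restr f P hfP hPf).range := by
      ext x
      constructor
      · intro hx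
        obtain ⟨m, hm⟩ := (Submodule.Quotient.mk_eq_zero _).1 (LinearMap.mem_ker.1 hx)
        refine ⟨⟨P m, m, rfl⟩, Subtype.ext ?_⟩
        rw [restr_apply]
        exact (LinearMap.congr_fun hfP m).trans hm
      · rintro ⟨y, rfl⟩
        exact LinearMap.mem_ker.2 ((Submodule.Quotient.mk_eq_zero _).2 ⟨(y : M), rfl⟩)
    rw [← hkerφ, ← hrange, AddSubgroup.index_eq_card]
    exact (Nat.card_congr φ.quotKerEquivRange.toEquiv).symm

/-- The rank of the range of the projection. -/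
theorem finrank_range (hker : ∀ x, f x = 0 ↔ P x = 0) :
    Module.finrank ℤ_[ℓ] M - Module.finrank ℤ_[ℓ] (LinearMap.ker f) =
      Module.finrank ℤ_[ℓ] P.range := by
  rw [show LinearMap.ker f = LinearMap.ker P from Submodule.ext hker,
    ← Submodule.finrank_quotient_add_finrank P.ker, Nat.add_sub_cancel,
    P.quotKerEquivRange.finrank_eq]

/-- Case `f = 2 B`. -/
theorem case_two (A : Module.End ℤ_[ℓ] M) (hℓ : ℓ = 2) (hA : A ^ 2 = 1) (hf : f = A - 1)
    (B : Module.End ℤ_[ℓ] M) (hB : f = (2 : ℤ_[ℓ]) • B) (c : ℕ)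
    (hc : c = Module.finrank ℤ_[ℓ] M - Module.finrank ℤ_[ℓ] (LinearMap.ker f)) :
    (∀ x ∈ Submodule.torsion ℤ_[ℓ] (M ⧸ LinearMap.range f), (ℓ : ℤ_[ℓ]) • x = 0) ∧
      ∃ r : ℕ, r * (ℓ - 1) = c ∧
        Nat.card (Submodule.torsion ℤ_[ℓ] (M ⧸ LinearMap.range f)) = ℓ ^ r := by
  have h2 : (2 : ℤ_[ℓ]) ≠ 0 := by
    subst hℓ; exact_mod_cast natCast_ne_zero (ℓ := 2)
  have hB2 : B * B = -B := by
    apply end_smul_cancel (mul_ne_zero h2 h2)
    have : f * f + f + f = 0 := by rw [hf, ← sub_eq_zero.2 hA]; noncomm_ring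
    rw [hB, smul_mul_smul_comm] at this
    rw [smul_neg, eq_neg_iff_add_eq_zero, ← this]
    module
  have hP : (-B) ∘ₗ (-B) = -B := by
    change (-B) * (-B) = -B
    rw [neg_mul_neg, hB2]
  have hfP : f ∘ₗ (-B) = f := by
    change f * (-B) = f
    rw [hB, smul_mul_assoc, mul_neg, hB2, neg_neg]
  have hPf : (-B) ∘ₗ f = f := by
    change (-B) * f = f
    rw [hB, mul_smul_comm, neg_mul, hB2, neg_neg]
  have hker : ∀ x, f x = 0 ↔ (-B) x = 0 := fun x => by
    rw [LinearMap.neg_apply, neg_eq_zero, hB, LinearMap.smul_apply]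
    exact ⟨smul_ne _ h2, fun h => by rw [h, smul_zero]⟩
  have hres : ∀ x : (-B).range, restr f (-B) hfP hPf x = -((2 : ℤ_[ℓ]) • x) := fun x => by
    refine Subtype.ext ?_
    have h1 := proj_fix hP x
    rw [LinearMap.neg_apply, neg_eq_iff_eq_neg] at h1
    rw [restr_apply, hB]
    simp [h1]
  have hrange : (restr f (-B) hfP hPf).range =
      ((ℓ : ℤ_[ℓ]) • (LinearMap.id : (-B).range →ₗ[ℤ_[ℓ]] (-B).range)).range := by
    have hl : (ℓ : ℤ_[ℓ]) = 2 := by subst hℓ; norm_num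
    ext y
    constructor
    · rintro ⟨x, rfl⟩
      exact ⟨-x, by rw [hres, hl]; simp⟩
    · rintro ⟨x, rfl⟩
      exact ⟨-x, by rw [hres, hl]; simp⟩
  obtain ⟨h1, h2'⟩ := torsion_spec hP hfP hPf fun x => by
    rw [hrange]; exact ⟨x, rfl⟩
  refine ⟨h1, c, by subst hℓ; simp, ?_⟩
  rw [h2', hrange, index_smul_range, hc, finrank_range hker]

/-- Case `ℓ = 3`. -/
theorem case_three (A : Module.End ℤ_[ℓ] M) (hℓ : ℓ = 3) (hA : A ^ 3 = 1) (hf : f = A - 1)
    (B : Module.End ℤ_[ℓ] M) (hB : f ^ 2 = (3 : ℤ_[ℓ]) • B) (c : ℕ)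
    (hc : c = Module.finrank ℤ_[ℓ] M - Module.finrank ℤ_[ℓ] (LinearMap.ker f)) :
    (∀ x ∈ Submodule.torsion ℤ_[ℓ] (M ⧸ LinearMap.range f), (ℓ : ℤ_[ℓ]) • x = 0) ∧
      ∃ r : ℕ, r * (ℓ - 1) = c ∧
        Nat.card (Submodule.torsion ℤ_[ℓ] (M ⧸ LinearMap.range f)) = ℓ ^ r := by
  have h3 : (3 : ℤ_[ℓ]) ≠ 0 := by
    subst hℓ; exact_mod_cast natCast_ne_zero (ℓ := 3)
  rw [pow_two] at hB
  have hrel : f * (f * f) + (3 : ℤ_[ℓ]) • (f * f) + (3 : ℤ_[ℓ]) • f = 0 := by
    simp only [Algebra.smul_def, map_ofNat]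
    rw [hf, ← sub_eq_zero.2 hA]
    noncomm_ring
  have hcomm : B * f = f * B := by
    apply end_smul_cancel h3
    rw [← smul_mul_assoc, ← mul_smul_comm, ← hB, mul_assoc]
  have hfB : f * B = -f - f * f := by
    apply end_smul_cancel h3
    rw [← mul_smul_comm, ← hB, smul_sub, smul_neg]
    linear_combination (norm := abel) hrel
  have hBB : B * B = B + B + f := by
    apply end_smul_cancel h3
    calc (3 : ℤ_[ℓ]) • (B * B) = f * f * B := by rw [hB, smul_mul_assoc]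
      _ = f * (f * B) := mul_assoc _ _ _
      _ = -(f * f) - f * (f * f) := by rw [hfB, mul_sub, mul_neg]
      _ = (3 : ℤ_[ℓ]) • (f * f) + (3 : ℤ_[ℓ]) • f - f * f := by
          linear_combination (norm := abel) -hrel
      _ = (3 : ℤ_[ℓ]) • (B + B + f) := by
          simp only [hB, smul_add]
          module
  have hP : (-(B + f)) ∘ₗ (-(B + f)) = -(B + f) := by
    change -(B + f) * -(B + f) = -(B + f)
    have : B * B + B * f + (f * B + f * f) = -(B + f) := by
      rw [hcomm, hfB, hBB, hB]; module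
    rw [neg_mul_neg, mul_add, add_mul, add_mul, ← this]
    abel
  have hfP : f ∘ₗ (-(B + f)) = f := by
    change f * -(B + f) = f
    rw [mul_neg, mul_add, hfB]; abel
  have hPf : (-(B + f)) ∘ₗ f = f := by
    change -(B + f) * f = f
    rw [neg_mul, add_mul, hcomm, hfB]; abel
  have hker : ∀ x, f x = 0 ↔ (-(B + f)) x = 0 := fun x => by
    constructor
    · intro h
      have : B x = 0 := smul_ne _ h3 (by
        rw [← LinearMap.smul_apply, ← hB, Module.End.mul_apply, h, map_zero])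
      simp [h, this]
    · intro h
      have := LinearMap.congr_fun hfP x
      rw [LinearMap.comp_apply, h, map_zero] at this
      exact this.symm
  let g := restr f (-(B + f)) hfP hPf
  have hl : (ℓ : ℤ_[ℓ]) = 3 := by subst hℓ; norm_num
  -- on the range: `B = -1 - f`
  have hg2 : ∀ x : (-(B + f)).range, g (g x) = -((3 : ℤ_[ℓ]) • (x + g x)) := fun x => by
    refine Subtype.ext ?_
    have h1 : -(B (x : M) + f (x : M)) = x := proj_fix hP x
    have hBx : B (x : M) = -(x : M) - f (x : M) := eq_sub_of_add_eq (neg_eq_iff_eq_neg.1 h1)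
    change f (f (x : M)) = -((3 : ℤ_[ℓ]) • ((x : M) + f (x : M)))
    rw [← Module.End.mul_apply, hB, LinearMap.smul_apply, hBx]
    module
  have hdiv : ∀ x : (-(B + f)).range, (ℓ : ℤ_[ℓ]) • x ∈ g.range := fun x => by
    refine ⟨-(g x + (3 : ℤ_[ℓ]) • x), ?_⟩
    rw [map_neg, map_add, map_smul, hg2, hl]
    module
  obtain ⟨h1, h2⟩ := torsion_spec hP hfP hPf hdiv
  refine ⟨h1, ?_⟩
  have hsq : (g ∘ₗ g).range = ((ℓ : ℤ_[ℓ]) • (LinearMap.id : (-(B + f)).range →ₗ[ℤ_[ℓ]] (-(B + f)).range)).range := by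
    ext y
    constructor
    · rintro ⟨x, rfl⟩
      exact ⟨-(x + g x), by rw [LinearMap.comp_apply, hg2, hl]; simp⟩
    · rintro ⟨x, rfl⟩
      -- the inverse of `-(1 + g)` on the range is `2 + g`
      refine ⟨x + x + g x, ?_⟩
      rw [LinearMap.comp_apply, hg2, map_add, map_add, hg2, LinearMap.smul_apply,
        LinearMap.id_apply, hl]
      module
  have hinj : Function.Injective g := restr_injective hP hfP hPf fun x => (hker x).1
  have hidx : g.range.toAddSubgroup.index ^ 2 = ℓ ^ c := by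
    rw [hc, finrank_range hker, ← index_smul_range, ← hsq, pow_two]
    have : (g ∘ₗ g).range.toAddSubgroup = g.range.toAddSubgroup.map g.toAddMonoidHom := by
      rw [LinearMap.range_comp]; rfl
    rw [this, AddSubgroup.index_map_of_injective _ (show Function.Injective g.toAddMonoidHom from hinj)]
    rfl
  obtain ⟨r, -, hr⟩ := (Nat.dvd_prime_pow (Fact.out : ℓ.Prime)).1 (hidx ▸ dvd_pow_self _ two_ne_zero)
  refine ⟨r, ?_, h2.trans hr⟩
  have hpow : ℓ ^ (r * 2) = ℓ ^ c := by rw [pow_mul, ← hr]; exact hidx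
  rw [← Nat.pow_right_injective (Fact.out : ℓ.Prime).two_le hpow]
  subst hℓ; rfl

end Groth.Misc13.PadicCoinv
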