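import Groth.Agent.Misc13.FrobAffine
import Groth.Agent.RefRank.DetDiv
import Groth.Agent.LocFree.ExtPullback
import Groth.Agent.RefRank.RefPowLoc

/-!
The divisor of the determinant is multiplied by `p` under reflexive Frobenius pullback.
-/

set_option autoImplicit false
universe u

open CategoryTheory CategoryTheory.Limits AlgebraicGeometry TopologicalSpace
open scoped TensorProduct

namespace Groth.Misc13.PairDet

open Groth.QCohMod Groth.RefRank Groth.Misc13.FrobDiv
open Groth.LocFree (extPow pullExtHom isExtPow_extPow)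

variable {X : Scheme.{u}}

theorem surjective_pullback_map {Y : Scheme.{u}} (f : Y ⟶ X) {M N : X.Modules} (φ : M ⟶ N) (y : Y)
    (h : Function.Surjective (RefHull.stalkMapₗ φ (f y))) :
    Function.Surjective (RefHull.stalkMapₗ ((Scheme.Modules.pullback f).map φ) y) := by
  intro z
  let := stalkAlg f y
  obtain ⟨z, rfl⟩ := (pullStalkEquiv f N y).surjective z
  change ∃ a, RefHull.stalkMapₗ _ y a = pullStalkHom f N y z
  induction z using TensorProduct.induction_on with
  | zero => exact ⟨0, by simp⟩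
  | tmul a t =>
    obtain ⟨t, rfl⟩ := h t
    refine ⟨a • pullGerm f M y t, ?_⟩
    rw [pullStalkHom_tmul, map_smul]
    congr 1
    obtain ⟨U, hU, m, rfl⟩ := exists_germ M (f y) t
    refine (congrArg _ (pullGerm_germ f M y hU m)).trans ?_
    refine (RefHull.stalkMapₗ_germ ((Scheme.Modules.pullback f).map φ) (U := f ⁻¹ᵁ U) y hU _).trans ?_
    refine Eq.trans ?_ (congrArg (pullGerm f N y) (RefHull.stalkMapₗ_germ φ (f y) hU m).symm)
    refine Eq.trans ?_ (pullGerm_germ f N y hU _).symm
    exact congrArg _ (Groth.PicAux.pullSec_map f φ m)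
  | add a b ha hb =>
    obtain ⟨a', ha⟩ := ha
    obtain ⟨b', hb⟩ := hb
    exact ⟨a' + b', by rw [map_add, map_add, ha, hb]⟩

variable [IsIntegral X] [AlgebraicGeometry.IsNoetherian X]

omit [AlgebraicGeometry.IsNoetherian X] in
theorem free_gen (F : X.Modules) :
    Module.Free (X.presheaf.stalk (genericPoint ↥X)) (F.presheaf.stalk (genericPoint ↥X)) := by
  let _ : Field (X.presheaf.stalk (genericPoint ↥X)) := inferInstanceAs (Field X.functionField)
  exact Module.Free.of_divisionRing _ _

/-- The determinant of a coherent module is of rank one. -/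
theorem isRef1_det {F : X.Modules} (hF : Coh.IsCoh F) {r : ℕ}
    (hr : Module.finrank (X.presheaf.stalk (genericPoint ↥X))
      (F.presheaf.stalk (genericPoint ↥X)) = r) :
    RefHull.IsRef1 (RefHull.ddual (extPow r F)) := by
  have := hF.1
  have := free_gen F
  have hE := KDet.isCoh_extPow hF r
  obtain ⟨U, b, hU, hb⟩ := KDet.exists_basis_rank hF (x := genericPoint ↥X) hr
  obtain ⟨_, ⟨V, hV, rfl⟩, hxV, hVU⟩ := X.isBasis_affineOpens.exists_subset_of_mem_open hU U.2
  obtain ⟨w, hw⟩ := Groth.LocFree.exists_basis'_extPow hV (hb.res' hVU) r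
  obtain ⟨t, ht⟩ := KDet.exists_stalkBasis_of_basis' hE hw hxV (Nat.choose_self r)
  exact isRef1_of (isCoh_ddual hE) (isReflexive_ddual hE) (isRankOne_ddual hE ⟨t, ht⟩)

omit [AlgebraicGeometry.IsNoetherian X] in
theorem form_ne_zero {r : ℕ} {F M : X.Modules} [F.IsQuasicoherent] (φ : extPow r F ⟶ M)
    (hM1 : IsRankOne M) (hs₀ : Function.Surjective (RefHull.stalkMapₗ φ (genericPoint ↥X)))
    (B : Module.Basis (Fin r) (X.presheaf.stalk (genericPoint ↥X)) (F.presheaf.stalk (genericPoint ↥X))) :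
    DetDiv.form φ (genericPoint ↥X) B ≠ 0 := fun h0 => by
  obtain ⟨w, hw⟩ := hM1
  obtain ⟨z, rfl⟩ := hs₀ w
  have hz : RefHull.stalkMapₗ φ (genericPoint ↥X) z = 0 := by
    have hmem := (DetDiv.span_stalkWedge r F (genericPoint ↥X)).ge (Submodule.mem_top : z ∈ ⊤)
    have hle : Submodule.span (X.presheaf.stalk (genericPoint ↥X))
        (Set.range (DetDiv.stalkWedge r F (genericPoint ↥X))) ≤
        LinearMap.ker (RefHull.stalkMapₗ φ (genericPoint ↥X)) := Submodule.span_le.2 (by
      rintro _ ⟨v, rfl⟩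
      change DetDiv.form φ (genericPoint ↥X) v = 0
      rw [DetAlg.alt_apply_eq_det_smul (DetDiv.form φ (genericPoint ↥X)) B v, h0, smul_zero])
    exact hle hmem
  exact one_ne_zero (hw.1 (a₁ := 1) (a₂ := 0) (by dsimp only; rw [hz, smul_zero, smul_zero]))

variable (p : ℕ) [Fact p.Prime] [FrobSch.IsCharP X p]

omit [AlgebraicGeometry.IsNoetherian X] in
theorem finrank_frobPull {G : X.Modules} {r : ℕ}
    (hr : Module.finrank (X.presheaf.stalk (genericPoint ↥X))
      (G.presheaf.stalk (genericPoint ↥X)) = r) :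
    Module.finrank (X.presheaf.stalk (genericPoint ↥X))
      (((Scheme.Modules.pullback (FrobSch.frob X p)).obj G).presheaf.stalk (genericPoint ↥X)) = r := by
  let F := FrobSch.frob X p
  let η := genericPoint ↥X
  let := stalkAlg F η
  have hfree : Module.Free (X.presheaf.stalk (F η)) (G.presheaf.stalk (F η)) := free_gen G
  rw [← (pullStalkEquiv F G η).finrank_eq]
  exact Module.finrank_baseChange.trans hr

/-- One step. -/
theorem det_frob_step (hX : Pi1.IsNormalScheme X) {G G' : X.Modules} {r : ℕ} (hG : Coh.IsCoh G)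
    (hr : Module.finrank (X.presheaf.stalk (genericPoint ↥X))
      (G.presheaf.stalk (genericPoint ↥X)) = r)
    (e : G' ≅ RefHull.ddual ((Scheme.Modules.pullback (FrobSch.frob X p)).obj G)) :
    Coh.IsCoh G' ∧ RefHull.IsReflexive G' ∧
      Module.finrank (X.presheaf.stalk (genericPoint ↥X)) (G'.presheaf.stalk (genericPoint ↥X)) = r ∧
      ∀ d : X → ℤ, HasDiv (RefHull.ddual (extPow r G)) d →
        HasDiv (RefHull.ddual (extPow r G')) (fun y => (p : ℤ) * d y) := by
  let F := FrobSch.frob X p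
  let P := (Scheme.Modules.pullback F).obj G
  let η := genericPoint ↥X
  have hP : Coh.IsCoh P := isCoh_frobPull p hG
  have := hP.1
  have := hG.1
  have hG' : Coh.IsCoh G' := isCoh_of_iso e.symm (isCoh_ddual hP)
  have := hG'.1
  have hG'r : RefHull.IsReflexive G' := (isReflexive_iff_forall hG').2 fun x => by
    have : Module.IsReflexive (X.presheaf.stalk x) ((RefHull.ddual P).presheaf.stalk x) :=
      (isReflexive_iff_forall (isCoh_ddual hP)).1 (isReflexive_ddual hP) x
    exact Module.equiv (LinearEquiv.ofBijective (RefHull.stalkMapₗ e.inv x)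
      ((isIso_iff_bijective_stalk e.inv).mp inferInstance x))
  let a : P ⟶ G' := RefHull.bidualMap P ≫ e.inv
  have ha : ∀ x, ⇑(RefHull.stalkMapₗ a x) = ⇑(RefHull.stalkMapₗ e.inv x) ∘
      ⇑(RefHull.stalkMapₗ (RefHull.bidualMap P) x) := fun x => funext fun v => stalkMapₗ_comp _ _ _ v
  have hgen : Function.Bijective (RefHull.stalkMapₗ a η) := by
    rw [ha]
    exact ((isIso_iff_bijective_stalk e.inv).mp inferInstance η).comp (bidual_gen_bijective hP)
  have hrP := finrank_frobPull p hr
  have hr' : Module.finrank (X.presheaf.stalk η) (G'.presheaf.stalk η) = r :=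
    ((LinearEquiv.ofBijective (RefHull.stalkMapₗ a η) hgen).finrank_eq).symm.trans hrP
  refine ⟨hG', hG'r, hr', fun d hd => ?_⟩
  let D := RefHull.ddual (extPow r G)
  have hE := KDet.isCoh_extPow hG r
  have hD : RefHull.IsRef1 D := isRef1_det hG hr
  let M := RefHull.ddual ((Scheme.Modules.pullback F).obj D)
  have hM : RefHull.IsRef1 M := isRef1_frob p hD
  have hMd : HasDiv M (fun y => (p : ℤ) * d y) := hasDiv_frob p hX hD hd
  let φ : extPow r P ⟶ M := inv (pullExtHom F r G) ≫
    (Scheme.Modules.pullback F).map (RefHull.bidualMap (extPow r G)) ≫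
      RefHull.bidualMap ((Scheme.Modules.pullback F).obj D)
  let φ' : extPow r G' ⟶ RefHull.ddual (extPow r G') := RefHull.bidualMap (extPow r G')
  have hE' := KDet.isCoh_extPow hG' r
  have hM' : RefHull.IsRef1 (RefHull.ddual (extPow r G')) := isRef1_det hG' hr'
  have hφ : ∀ x, IsPrincipalIdealRing (X.presheaf.stalk x) →
      Function.Surjective (RefHull.stalkMapₗ φ x) := by
    intro x hx
    have e1 : ⇑(RefHull.stalkMapₗ φ x) =
        ⇑(RefHull.stalkMapₗ (RefHull.bidualMap ((Scheme.Modules.pullback F).obj D)) x) ∘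
          ⇑(RefHull.stalkMapₗ ((Scheme.Modules.pullback F).map (RefHull.bidualMap (extPow r G))) x) ∘
            ⇑(RefHull.stalkMapₗ (inv (pullExtHom F r G)) x) :=
      funext fun v => (stalkMapₗ_comp _ _ _ _).trans (stalkMapₗ_comp _ _ _ _)
    rw [e1]
    have : IsPrincipalIdealRing (X.presheaf.stalk (F x)) := hx
    exact (bidual_surjective_of_pid (isCoh_frobPull p hD.1) x).comp
      ((surjective_pullback_map F _ x (bidual_surjective_of_pid hE (F x))).comp
        ((isIso_iff_bijective_stalk _).mp inferInstance x).2)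
  have hpη : IsPrincipalIdealRing (X.presheaf.stalk η) := by
    let _ : Field (X.presheaf.stalk η) := inferInstanceAs (Field X.functionField)
    infer_instance
  have : Module.Finite (X.presheaf.stalk η) (P.presheaf.stalk η) := finite_stalkModule hP η
  have := free_gen P
  let b : Module.Basis (Fin r) (X.presheaf.stalk η) (P.presheaf.stalk η) :=
    Module.finBasisOfFinrankEq _ _ hrP
  let b' := b.map (LinearEquiv.ofBijective (RefHull.stalkMapₗ a η) hgen)
  have := hM.1.1
  have := hM'.1.1
  have hne := form_ne_zero φ (isRankOne_of_genInvertible hM.2.2) (hφ η hpη) b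
  have hne' := form_ne_zero φ' (isRankOne_of_genInvertible hM'.2.2)
    (bidual_surjective_of_pid hE' η) b'
  obtain ⟨w, hw, hwd⟩ := hMd
  obtain ⟨lam, hlam⟩ := ((isRankOne_of_genInvertible hM.2.2).isStalkBasis hne).2 w
  dsimp only at hlam
  have hlam0 : lam ≠ 0 := fun h => hw (by rw [← hlam, h, zero_smul])
  refine ⟨lam • DetDiv.form φ' η b', fun h => hne' ((isUnit_gen_iff.mpr hlam0).smul_eq_zero.mp h),
    fun y hy => ?_⟩
  have := isDiscreteValuationRing_stalk hX hy
  have hsa : Function.Surjective (RefHull.stalkMapₗ a y) := by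
    rw [ha]
    exact ((isIso_iff_bijective_stalk e.inv).mp inferInstance y).2.comp (bidual_surjective_of_pid hP y)
  obtain ⟨n, hn, -, hk⟩ := DetDiv.exists_ord_form_comp hX hG' φ φ' hM hM' (hφ η hpη)
    (bidual_surjective_of_pid hE' η) a hgen b hy (hφ y inferInstance)
    (bidual_surjective_of_pid hE' y) (fun c _ q => hsa _) (s := 0) (Fin.elim0)
    (by rw [LinearMap.range_eq_top.2 hsa]; simp)
  obtain rfl : n = 0 := by omega
  obtain ⟨t, ht⟩ := exists_isStalkBasis hX hM.1 hM.2.1 (isRankOne_of_genInvertible hM.2.2) hy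
  obtain ⟨t', ht'⟩ := exists_isStalkBasis hX hM'.1 hM'.2.1 (isRankOne_of_genInvertible hM'.2.2) hy
  have hb' : (fun j => RefHull.stalkMapₗ a η (b j)) = ⇑b' := funext fun j => rfl
  change ordSec _ y (DetDiv.form φ' η fun j => RefHull.stalkMapₗ a η (b j)) = _ at hk
  rw [hb', Nat.cast_zero, add_zero] at hk
  rw [ordSec_smul hy.le ht' hne' hlam0, hk, ← hwd y hy, ← hlam, ordSec_smul hy.le ht hne hlam0]

/-- Iterated reflexive Frobenius pullbacks. -/
theorem det_frobSeq (hX : Pi1.IsNormalScheme X) (G : ℕ → X.Modules) {r : ℕ} (h0 : Coh.IsCoh (G 0))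
    (h0r : RefHull.IsReflexive (G 0))
    (hr : Module.finrank (X.presheaf.stalk (genericPoint ↥X))
      ((G 0).presheaf.stalk (genericPoint ↥X)) = r)
    {d : X → ℤ} (hd : HasDiv (RefHull.ddual (extPow r (G 0))) d)
    (hG : ∀ m, Nonempty (G (m + 1) ≅
      RefHull.ddual ((Scheme.Modules.pullback (FrobSch.frob X p)).obj (G m)))) :
    ∀ m : ℕ, Coh.IsCoh (G m) ∧ RefHull.IsReflexive (G m) ∧
      Module.finrank (X.presheaf.stalk (genericPoint ↥X))
        ((G m).presheaf.stalk (genericPoint ↥X)) = r ∧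
      HasDiv (RefHull.ddual (extPow r (G m))) (fun y => ((p ^ m : ℕ) : ℤ) * d y)
  | 0 => ⟨h0, h0r, hr, by simpa using! hd⟩
  | m + 1 => by
    obtain ⟨h1, -, h3, h4⟩ := det_frobSeq hX G h0 h0r hr hd hG m
    obtain ⟨e⟩ := hG m
    obtain ⟨i1, i2, i3, i4⟩ := det_frob_step p hX h1 h3 e
    refine ⟨i1, i2, i3, ?_⟩
    rw [show (fun y => ((p ^ (m + 1) : ℕ) : ℤ) * d y) = fun y => (p : ℤ) * (((p ^ m : ℕ) : ℤ) * d y)
      from funext fun y => by push_cast; ring]
    exact i4 _ h4

end Groth.Misc13.PairDet
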