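import Groth.Agent.Misc13.KIntRef
import Groth.Agent.RefRank.DivSheaf
import Groth.Agent.RefRank.LocFin
import Groth.Agent.PropsBasic.AmpleSec
import Groth.Agent.PropsBasic.AmpleBasis

/-!
Divisors with finite support on a Noetherian normal scheme, their reflexive modules and classes.
-/

set_option autoImplicit false
universe u

open CategoryTheory CategoryTheory.Limits AlgebraicGeometry TopologicalSpace Topology

namespace Groth.Misc13.PairDiv

open Groth.Misc13.KNilp Groth.Misc13.KC1 Groth.KTheory Groth.QCohMod Groth.RefRank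

variable (X : Scheme.{u})

/-- Functions with finite support on the points of codimension one. -/
def WDiv : AddSubgroup (X → ℤ) where
  carrier := {d | d.support.Finite ∧ ∀ y, d y ≠ 0 → ringKrullDim (X.presheaf.stalk y) = 1}
  zero_mem' := ⟨by simp, fun y h => absurd rfl h⟩
  add_mem' := fun {a b} ha hb => ⟨(ha.1.union hb.1).subset (Function.support_add a b), fun y h => by
    by_cases h' : a y = 0
    · exact hb.2 y fun h'' => h (by simp [h', h''])
    · exact ha.2 y h'⟩
  neg_mem' := fun {a} ha => ⟨by simpa using ha.1, fun y h => ha.2 y (by simpa using h)⟩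

variable {X}

/-- The prime divisor of a point of codimension one. -/
noncomputable def prime (c : X) (hc : ringKrullDim (X.presheaf.stalk c) = 1) : WDiv X :=
  ⟨@Pi.single X (fun _ => ℤ) _ (fun a b => Classical.propDecidable (a = b)) c 1, (Set.finite_singleton c).subset (by classical exact Pi.support_single_subset),
    fun y hy => by
      classical
      by_cases h : y = c
      · exact h ▸ hc
      · exact absurd (Pi.single_eq_of_ne h _) hy⟩

theorem prime_apply_self {c : X} (hc : ringKrullDim (X.presheaf.stalk c) = 1) :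
    (prime c hc).1 c = 1 := by classical exact Pi.single_eq_same c 1

theorem prime_apply_ne {c y : X} (hc : ringKrullDim (X.presheaf.stalk c) = 1) (h : y ≠ c) :
    (prime c hc).1 y = 0 := by classical exact Pi.single_eq_of_ne h _

/-- The prime divisors. -/
def primes : Set (WDiv X) := {e | ∃ c hc, e = prime c hc}

theorem eq_sum (h : WDiv X) :
    h = ∑ c ∈ h.2.1.toFinset.attach, h.1 c.1 •
      prime c.1 (h.2.2 c.1 (h.2.1.mem_toFinset.1 c.2)) := by
  classical
  refine Subtype.ext (funext fun y => ?_)
  rw [AddSubgroup.val_finsetSum, Finset.sum_apply]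
  simp only [AddSubgroup.coe_zsmul, Pi.smul_apply, smul_eq_mul]
  by_cases hy : y ∈ h.2.1.toFinset
  · rw [Finset.sum_eq_single ⟨y, hy⟩]
    · rw [prime_apply_self, mul_one]
    · intro b _ hb
      rw [prime_apply_ne _ fun e => hb (Subtype.ext e.symm), mul_zero]
    · exact fun hn => absurd (Finset.mem_attach _ _) hn
  · rw [Finset.sum_eq_zero fun b _ => by
      rw [prime_apply_ne _ fun e => hy (by rw [e]; exact b.2), mul_zero]]
    by_contra h0
    exact hy (h.2.1.mem_toFinset.2 h0)

theorem closure_primes : AddSubgroup.closure (primes (X := X)) = ⊤ := by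
  refine eq_top_iff.2 fun h _ => ?_
  rw [eq_sum h]
  exact sum_mem fun c _ => zsmul_mem (AddSubgroup.subset_closure (show prime c.1 _ ∈ primes from ⟨_, _, rfl⟩)) _

theorem mem_closure_of_nonneg {h : WDiv X} (h0 : ∀ y, 0 ≤ h.1 y) :
    h ∈ AddSubmonoid.closure (primes (X := X)) := by
  rw [eq_sum h]
  refine sum_mem fun c _ => ?_
  obtain ⟨n, hn⟩ := Int.eq_ofNat_of_zero_le (h0 c.1)
  rw [hn, natCast_zsmul]
  exact nsmul_mem (AddSubmonoid.subset_closure (show prime c.1 _ ∈ primes from ⟨_, _, rfl⟩)) _

variable [IsIntegral X] [IsLocallyNoetherian X] (hX : Pi1.IsNormalScheme X)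
include hX

theorem exists_OD (x : WDiv X) : ∃ F : X.Modules, RefHull.IsRef1 F ∧ HasDiv F x.1 := by
  obtain ⟨F, hF, h⟩ := exists_ref1_hasDiv hX
    ⟨x.1, Set.subset_univ _, fun z _ => ⟨Set.univ, Filter.univ_mem, x.2.1.subset Set.inter_subset_right⟩⟩
    fun y hy => by
      by_contra h
      exact hy ((coheight_eq_one_iff y).2 (x.2.2 y h))
  exact ⟨F, hF, h⟩

/-- The reflexive module of a divisor. -/
noncomputable def OD (x : WDiv X) : X.Modules := (exists_OD hX x).choose

theorem isRef1_OD (x : WDiv X) : RefHull.IsRef1 (OD hX x) := (exists_OD hX x).choose_spec.1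

theorem hasDiv_OD (x : WDiv X) : HasDiv (OD hX x) x.1 := (exists_OD hX x).choose_spec.2

/-- The class of a divisor. -/
noncomputable def cls (x : WDiv X) : SGA6.Kcoh X := kc (OD hX x)

theorem iso_OD {F : X.Modules} (hF : RefHull.IsRef1 F) {x : WDiv X} (h : HasDiv F x.1) :
    Nonempty (F ≅ OD hX x) :=
  nonempty_iso_of_hasDiv hX hF (isRef1_OD hX x) h (hasDiv_OD hX x)

omit hX [IsLocallyNoetherian X] in
theorem hasDiv_congr {F : X.Modules} {d d' : X → ℤ}
    (h : ∀ y, ringKrullDim (X.presheaf.stalk y) = 1 → d y = d' y) (hd : HasDiv F d) : HasDiv F d' := by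
  obtain ⟨w, hw, hwd⟩ := hd
  exact ⟨w, hw, fun y hy => (hwd y hy).trans (h y hy)⟩

section Noetherian

variable [CompactSpace X]

omit hX in
theorem finite_compl_codim_one {W : X.Opens} (hW : genericPoint ↥X ∈ W) :
    {y : X | ringKrullDim (X.presheaf.stalk y) = 1 ∧ y ∉ W}.Finite := by
  choose U hU hxU using fun z : X => exists_affine_mem z
  obtain ⟨T, hT⟩ := isCompact_univ.elim_finite_subcover (fun z => (U z : Set X))
    (fun z => (U z).2) (fun z _ => Set.mem_iUnion.2 ⟨z, hxU z⟩)
  refine (T.finite_toSet.biUnion fun z _ => finite_codim_one_compl hW (hU z)).subset ?_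
  intro y hy
  obtain ⟨z, hz, hyz⟩ := Set.mem_iUnion₂.1 (hT (Set.mem_univ y))
  exact Set.mem_iUnion₂.2 ⟨z, hz, hyz, (coheight_eq_one_iff y).2 hy.1, hy.2⟩

omit hX in
/-- Every rank one reflexive module has a divisor of finite support. -/
theorem exists_div {F : X.Modules} (hF : RefHull.IsRef1 F) : ∃ x : WDiv X, HasDiv F x.1 := by
  classical
  obtain ⟨d, w, hw, hd⟩ := exists_hasDiv hF
  have := hF.1.1
  obtain ⟨W, hW, hW0⟩ := exists_open_ordSec_eq_zero_of_genInvertible hF.2.2 hw
  refine ⟨⟨fun y => if ringKrullDim (X.presheaf.stalk y) = 1 then ordSec F y w else 0,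
    (finite_compl_codim_one hW).subset fun y hy => ?_, fun y hy => ?_⟩, w, hw, fun y hy => (if_pos hy).symm⟩
  · rw [Function.mem_support] at hy
    split at hy
    · next h => exact ⟨h, fun hyW => hy (hW0 y hyW h.le)⟩
    · exact absurd rfl hy
  · by_contra h
    exact hy (if_neg h)

omit hX in
/-- An effective divisor of a power of an ample module through a given point of codimension one. -/
theorem exists_effective {H : X.Modules} (hH : CohB1.IsAmple H) {c : X}
    (hc : ringKrullDim (X.presheaf.stalk c) = 1) :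
    ∃ (N : X.Modules) (h : WDiv X), PicF.IsInvertible N ∧ HasDiv N h.1 ∧ (∀ y, 0 ≤ h.1 y) ∧
      1 ≤ h.1 c := by
  classical
  have hηc : genericPoint ↥X ∉ closure ({c} : Set X) := fun h => by
    have e := ((genSpec c).antisymm (specializes_iff_mem_closure.2 h)).eq
    rw [← e, ringKrullDim_eq_zero_of_isField (Field.toIsField X.functionField)] at hc
    exact zero_ne_one hc
  obtain ⟨_, ⟨n, s, rfl⟩, hη, hle⟩ := Opens.isBasis_iff_nbhd.1
    (Groth.PropsBasic.Ample.isBasis_of_isAmple hH)
    (show genericPoint ↥X ∈ (⟨(closure ({c} : Set X))ᶜ, isClosed_closure.isOpen_compl⟩ : X.Opens) from hηc)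
  have hN : PicF.IsInvertible (CohB1.tensorPow H (n + 1)) := Groth.PicAux.isInvertible_tensorPow hH.1 _
  generalize CohB1.tensorPow H (n + 1) = N at s hη hle hN
  have := Groth.RefRank.isQuasicoherent_of_isInvertible hN
  rw [Groth.PropsBasic.Ample.genLocus_eq_gloc] at hη hle
  let t : Γ(N, ⊤) := Groth.PicAux.gsec s
  let w : N.presheaf.stalk (genericPoint ↥X) := germ N (genericPoint ↥X) (U := ⊤) trivial t
  obtain ⟨U, e, -, hxU, he, -⟩ := Groth.PropsBasic.Ample.exists_gen_cover hN
  choose a ha using fun y => (he y).exists_coeff le_rfl (res N le_top t)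
  have ha' : ∀ y, res N le_top t = a y • e y := fun y => by
    have := ha y; rwa [Groth.PicAux.res_self] at this
  have hηU : ∀ y, genericPoint ↥X ∈ U y := fun y => (genSpec y).mem_open (U y).2 (hxU y)
  have hcoef : ∀ y, rspec (genSpec y) (X.presheaf.germ (U y) y (hxU y) (a y)) •
      mspec N (genSpec y) (germ N y (hxU y) (e y)) = w := fun y => by
    rw [mspec_germ, rspec_germ, ← germ_smul, ← ha' y]
    exact germ_res N le_top _ (hηU y) t
  have hne : ∀ y, X.presheaf.germ (U y) y (hxU y) (a y) ≠ 0 := fun y h => by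
    have h1 : genericPoint ↥X ∈ X.basicOpen (a y) :=
      (Groth.PropsBasic.Ample.gloc_inf_eq_basicOpen (he y) (ha' y)).le ⟨hη, hηU y⟩
    have h2 := (Scheme.mem_basicOpen X (a y) _ (hηU y)).1 h1
    rw [← rspec_germ (genSpec y) (hxU y), h, map_zero] at h2
    exact not_isUnit_zero h2
  have hw : w ≠ 0 := fun h => by
    have hb := (isStalkBasis_germ_of_gen (he c) (hxU c)).isStalkBasis_gen
    have h0 : rspec (genSpec c) (X.presheaf.germ (U c) c (hxU c) (a c)) = 0 :=
      hb.1 (a₂ := 0) (by dsimp only; rw [zero_smul, ← h]; exact hcoef c)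
    exact hne c (rspec_gen_injective c (h0.trans (map_zero _).symm))
  have hord : ∀ y, ringKrullDim (X.presheaf.stalk y) = 1 → ordSec N y w =
      ((Ring.ord (X.presheaf.stalk y) (X.presheaf.germ (U y) y (hxU y) (a y))).toNat : ℤ) := by
    intro y hy
    rw [ordSec_eq hy.le (isStalkBasis_germ_of_gen (he y) (hxU y)) (hcoef y)]
    have := krullDimLE_of_dim_le hy.le
    exact ordFrac_algebraMap' (K := X.functionField) (hne y)
  let h : X → ℤ := fun y => if ringKrullDim (X.presheaf.stalk y) = 1 then ordSec N y w else 0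
  have hfin : h.support.Finite :=
    (finite_compl_codim_one (W := Groth.PropsBasic.Ample.gloc t) hη).subset fun y hy => by
      rw [Function.mem_support] at hy
      simp only [h] at hy
      split at hy
      · next h1 =>
        refine ⟨h1, fun hyg => hy ?_⟩
        have h2 : y ∈ X.basicOpen (a y) :=
          (Groth.PropsBasic.Ample.gloc_inf_eq_basicOpen (he y) (ha' y)).le ⟨hyg, hxU y⟩
        rw [hord y h1, Ring.ord_of_isUnit ((Scheme.mem_basicOpen X (a y) y (hxU y)).1 h2)]
        rfl
      · exact absurd rfl hy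
  refine ⟨N, ⟨h, hfin, fun y hy => by_contra fun h1 => hy (if_neg h1)⟩, hN,
    ⟨w, hw, fun y hy => (if_pos hy).symm⟩, fun y => ?_, ?_⟩
  · simp only [h]
    split
    · next h1 => rw [hord y h1]; exact Int.natCast_nonneg _
    · exact le_rfl
  · simp only [h, if_pos hc]
    rw [hord c hc]
    have hnu : ¬ IsUnit (X.presheaf.germ (U c) c (hxU c) (a c)) := fun hu => by
      have h2 := (Groth.PropsBasic.Ample.gloc_inf_eq_basicOpen (he c) (ha' c)).ge
        ((Scheme.mem_basicOpen X (a c) c (hxU c)).2 hu)
      exact hle h2.1 (subset_closure rfl)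
    have := krullDimLE_of_dim_le hc.le
    have hfin' := Ring.ord_ne_top (R := X.presheaf.stalk c) (mem_nonZeroDivisors_of_ne_zero (hne c))
    have hpos : Ring.ord (X.presheaf.stalk c) (X.presheaf.germ (U c) c (hxU c) (a c)) ≠ 0 := by
      rw [Ne, Ring.ord, Module.length_eq_zero_iff, Submodule.Quotient.subsingleton_iff,
        Ideal.span_singleton_eq_top]
      exact hnu
    have : (Ring.ord (X.presheaf.stalk c) (X.presheaf.germ (U c) c (hxU c) (a c))).toNat ≠ 0 := by
      rw [ne_eq, ENat.toNat_eq_zero]; tauto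
    omega

end Noetherian

end Groth.Misc13.PairDiv
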