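import Mathlib

/-!
Functions on an abelian group whose second difference is quasi-additive in the first variable:
`F (m x) / m²` converges, to a quadratic form.
-/

set_option autoImplicit false

open Filter Topology

namespace Groth.Misc13.PairLimit

variable {G : Type*} [AddCommGroup G]

/-- An additive map up to a bounded error. -/
def QuasiAdd (a : G → ℤ) : Prop := ∃ K : ℤ, ∀ x y, |a (x + y) - a x - a y| ≤ K

theorem QuasiAdd.add {a b : G → ℤ} (ha : QuasiAdd a) (hb : QuasiAdd b) :
    QuasiAdd (fun x => a x + b x) := by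
  obtain ⟨K, hK⟩ := ha
  obtain ⟨L, hL⟩ := hb
  refine ⟨K + L, fun x y => ?_⟩
  have h := abs_add_le (a (x + y) - a x - a y) (b (x + y) - b x - b y)
  have e : a (x + y) + b (x + y) - (a x + b x) - (a y + b y) =
      (a (x + y) - a x - a y) + (b (x + y) - b x - b y) := by ring
  rw [e]
  exact h.trans (add_le_add (hK x y) (hL x y))

theorem QuasiAdd.neg {a : G → ℤ} (ha : QuasiAdd a) : QuasiAdd (fun x => - a x) := by
  obtain ⟨K, hK⟩ := ha
  refine ⟨K, fun x y => ?_⟩
  rw [show -a (x + y) - -a x - -a y = -(a (x + y) - a x - a y) by ring, abs_neg]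
  exact hK x y

theorem QuasiAdd.sub {a b : G → ℤ} (ha : QuasiAdd a) (hb : QuasiAdd b) :
    QuasiAdd (fun x => a x - b x) := by
  simpa [sub_eq_add_neg] using ha.add hb.neg

theorem quasiAdd_const (c : ℤ) : QuasiAdd (fun _ : G => c) :=
  ⟨|c|, fun _ _ => by simp⟩

theorem QuasiAdd.shift {a : G → ℤ} (ha : QuasiAdd a) (e : G) : QuasiAdd (fun x => a (x + e)) := by
  obtain ⟨K, hK⟩ := ha
  refine ⟨4 * K + |a e|, fun x y => ?_⟩
  simp only [abs_le] at hK ⊢
  have h1 := hK (x + y) e
  have h2 := hK x e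
  have h3 := hK y e
  have h4 := hK x y
  have h5 := le_abs_self (a e)
  have h6 := neg_abs_le (a e)
  omega

/-- If the functions have bounded sums on triples summing to zero and their total is additive up to
a bounded error, each of them is additive up to a bounded error. -/
theorem quasiAdd_of_upper {ι : Type*} [Fintype ι] (t : ι → G → ℤ)
    (hup : ∀ i, ∃ K : ℤ, ∀ x y, t i x + t i y + t i (-x - y) ≤ K)
    (hsum : QuasiAdd fun x => ∑ i, t i x) (i : ι) : QuasiAdd (t i) := by
  classical
  choose K hK using hup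
  obtain ⟨L, hL⟩ := hsum
  let S : G → ℤ := fun x => ∑ j, t j x
  have hlow : ∀ x y, -(3 * L + |S 0| + ∑ j, |K j|) ≤ t i x + t i y + t i (-x - y) := by
    intro x y
    have h1 := hL x y
    have h2 := hL (x + y) (-x - y)
    rw [show x + y + (-x - y) = 0 by abel] at h2
    simp only [abs_le] at h1 h2
    have hS : -(2 * L + |S 0|) ≤ ∑ j, (t j x + t j y + t j (-x - y)) := by
      rw [Finset.sum_add_distrib, Finset.sum_add_distrib]
      have := neg_abs_le (S 0)
      change _ ≤ S x + S y + S (-x - y)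
      change -L ≤ S (x + y) - S x - S y ∧ _ at h1
      change -L ≤ S 0 - S (x + y) - S (-x - y) ∧ _ at h2
      obtain ⟨h1a, h1b⟩ := h1
      obtain ⟨h2a, h2b⟩ := h2
      change S (x + y) - S x - S y ≤ L at h1b
      change S 0 - S (x + y) - S (-x - y) ≤ L at h2b
      omega
    rw [← Finset.add_sum_erase _ _ (Finset.mem_univ i)] at hS
    have h3 : ∑ j ∈ Finset.univ.erase i, (t j x + t j y + t j (-x - y)) ≤ ∑ j, |K j| :=
      (Finset.sum_le_sum fun j _ => (hK j x y).trans (le_abs_self _)).trans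
        (Finset.sum_le_univ_sum_of_nonneg fun j => abs_nonneg _)
    have hL0 : 0 ≤ L := (abs_nonneg _).trans (hL x y)
    omega
  refine ⟨2 * (3 * L + |S 0| + ∑ j, |K j|) + 2 * |K i| + |t i 0|, fun x y => ?_⟩
  have a1 := hlow x y
  have a2 := hK i x y
  have a3 := hlow (x + y) (-x - y)
  have a4 := hK i (x + y) (-x - y)
  rw [show -(x + y) - (-x - y) = 0 by abel] at a3 a4
  have a5 := le_abs_self (t i 0)
  have a6 := neg_abs_le (t i 0)
  have a7 := le_abs_self (K i)
  rw [abs_le]
  constructor <;> omega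

/-- The second difference. -/
def beta (F : G → ℤ) (x y : G) : ℤ := F (x + y) - F x - F y + F 0

theorem beta_cocycle (F : G → ℤ) (x y z : G) :
    beta F x (y + z) = beta F (x + y) z + beta F x y - beta F y z := by
  simp only [beta, add_assoc]
  ring

theorem quasiAdd_beta_zero (F : G → ℤ) : QuasiAdd fun x => beta F x 0 := by
  refine ⟨0, fun x y => ?_⟩
  have h : ∀ x, beta F x 0 = 0 := fun x => by simp [beta]
  simp only [h, sub_self, abs_zero, le_refl]

theorem quasiAdd_beta_add {F : G → ℤ} {y z : G} (hy : QuasiAdd fun x => beta F x y)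
    (hz : QuasiAdd fun x => beta F x z) : QuasiAdd fun x => beta F x (y + z) := by
  obtain ⟨K, hK⟩ := ((hz.shift y).add hy).sub (quasiAdd_const (beta F y z))
  refine ⟨K, fun u v => ?_⟩
  simp only [beta_cocycle F _ y z]
  exact hK u v

theorem beta_neg (F : G → ℤ) (x y : G) :
    beta F x (-y) = beta F y (-y) - beta F (x + -y) y := by
  have e1 : x + -y + y = x := by abel
  have e2 : y + -y = 0 := add_neg_cancel y
  unfold beta
  rw [e1, e2]
  ring

theorem quasiAdd_beta_neg {F : G → ℤ} {y : G} (hy : QuasiAdd fun x => beta F x y) :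
    QuasiAdd fun x => beta F x (-y) := by
  obtain ⟨K, hK⟩ := (quasiAdd_const (beta F y (-y))).sub (hy.shift (-y))
  refine ⟨K, fun u v => ?_⟩
  have h := hK u v
  dsimp only at h
  rwa [← beta_neg F u y, ← beta_neg F v y, ← beta_neg F (u + v) y] at h

/-- The `y` for which the second difference is quasi-additive form a subgroup. -/
def goodSub (F : G → ℤ) : AddSubgroup G where
  carrier := {y | QuasiAdd fun x => beta F x y}
  zero_mem' := quasiAdd_beta_zero F
  add_mem' := quasiAdd_beta_add
  neg_mem' := quasiAdd_beta_neg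

/-- The condition used below. -/
def Good (F : G → ℤ) : Prop := ∀ y, QuasiAdd fun x => beta F x y

theorem good_of_generators {F : G → ℤ} (S : Set G) (hS : AddSubgroup.closure S = ⊤)
    (h : ∀ y ∈ S, QuasiAdd fun x => beta F x y) : Good F := fun y =>
  (AddSubgroup.closure_le (K := goodSub F)).2 h (hS ▸ AddSubgroup.mem_top y)

theorem Good.sub {F F' : G → ℤ} (h : Good F) (h' : Good F') : Good (fun x => F x - F' x) := fun y => by
  have e : (fun x => beta (fun x => F x - F' x) x y) = fun x => beta F x y - beta F' x y := by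
    funext x; simp only [beta]; ring
  rw [e]
  exact (h y).sub (h' y)

/-- Quasi-additive functions have a slope. -/
theorem exists_slope {a : ℕ → ℤ} {K : ℤ} (h : ∀ m n, |a (m + n) - a m - a n| ≤ K) :
    ∃ α : ℝ, ∀ m : ℕ, |(a m : ℝ) - m * α| ≤ K := by
  have hK : ∀ m n, |(a (m + n) : ℝ) - a m - a n| ≤ K := fun m n => by exact_mod_cast h m n
  have key : ∀ n m : ℕ, |(a (n * m) : ℝ) - n * a m + a 0 * 0| ≤ (n + 1) * K := by
    intro n m
    have hK0 : (0 : ℝ) ≤ K := (abs_nonneg _).trans (hK 0 0)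
    have h0 : |(a 0 : ℝ)| ≤ K := by
      have := hK 0 0
      rwa [zero_add, sub_self, zero_sub, abs_neg] at this
    simp only [mul_zero, add_zero]
    induction n with
    | zero => simpa using h0
    | succ n ih =>
      rw [Nat.succ_mul]
      push_cast
      have e : (a (n * m + m) : ℝ) - ((n : ℝ) + 1) * a m =
          ((a (n * m + m) : ℝ) - a (n * m) - a m) + ((a (n * m) : ℝ) - n * a m) := by ring
      rw [e]
      have := (abs_add_le _ _).trans (add_le_add (hK (n * m) m) ih)
      nlinarith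
  have hK0 : (0 : ℝ) ≤ K := (abs_nonneg _).trans (hK 0 0)
  -- the sequence of slopes is Cauchy
  have hdiff : ∀ m n : ℕ, 0 < m → 0 < n →
      |(a m : ℝ) / m - (a n : ℝ) / n| ≤ 2 * K / m + 2 * K / n := by
    intro m n hm hn
    have h1 := key n m
    have h2 := key m n
    rw [mul_zero, add_zero] at h1 h2
    rw [mul_comm m n] at h2
    have hm' : (1 : ℝ) ≤ m := by exact_mod_cast hm
    have hn' : (1 : ℝ) ≤ n := by exact_mod_cast hn
    have h3 : |(n : ℝ) * a m - m * a n| ≤ (n + 1) * K + (m + 1) * K := by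
      rw [abs_le] at h1 h2 ⊢
      constructor <;> linarith
    rw [div_sub_div _ _ (by positivity) (by positivity), div_add_div _ _ (by positivity) (by positivity),
      abs_div, abs_of_pos (show (0 : ℝ) < (m : ℝ) * n by positivity)]
    refine div_le_div_of_nonneg_right ?_ (by positivity)
    rw [mul_comm (a m : ℝ) (n : ℝ)]
    nlinarith
  have hc : CauchySeq fun m : ℕ => (a m : ℝ) / m := by
    rw [Metric.cauchySeq_iff']
    intro ε hε
    obtain ⟨N, hN⟩ := exists_nat_gt (4 * (K : ℝ) / ε)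
    refine ⟨N + 1, fun n hn => ?_⟩
    rw [Real.dist_eq]
    refine lt_of_le_of_lt (hdiff n (N + 1) (by omega) (by omega)) ?_
    have hn' : ((N : ℝ) + 1) ≤ n := by exact_mod_cast hn
    have hpos : (0 : ℝ) < (N : ℝ) + 1 := by positivity
    have h4 : 2 * (K : ℝ) / n ≤ 2 * K / ((N : ℝ) + 1) :=
      div_le_div_of_nonneg_left (by positivity) hpos hn'
    have h5 : 4 * (K : ℝ) / ((N : ℝ) + 1) < ε := by
      rw [div_lt_iff₀ hpos]
      rw [div_lt_iff₀ hε] at hN
      nlinarith
    push_cast
    calc _ ≤ 2 * (K : ℝ) / ((N : ℝ) + 1) + 2 * K / ((N : ℝ) + 1) := add_le_add h4 le_rfl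
      _ = 4 * (K : ℝ) / ((N : ℝ) + 1) := by ring
      _ < ε := h5
  obtain ⟨α, hα⟩ := cauchySeq_tendsto_of_complete hc
  refine ⟨α, fun m => ?_⟩
  -- compare `a (n * m) / n` with both sides
  rcases Nat.eq_zero_or_pos m with rfl | hm
  · simpa using key 0 0
  have hlim : Tendsto (fun n : ℕ => (a (n * m) : ℝ) / n) atTop (𝓝 (m * α)) := by
    have := (hα.comp (tendsto_id.atTop_mul_const' hm)).const_mul (m : ℝ)
    refine this.congr fun n => ?_
    simp only [Function.comp_apply, id, Nat.cast_mul]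
    rcases Nat.eq_zero_or_pos n with rfl | hn
    · simp
    have : (n : ℝ) ≠ 0 := by exact_mod_cast hn.ne'
    have : (m : ℝ) ≠ 0 := by exact_mod_cast hm.ne'
    field_simp
  have hlim2 := ((tendsto_const_nhds (x := (a m : ℝ))).sub hlim).abs
  have hbd : Tendsto (fun n : ℕ => (K : ℝ) + K / n) atTop (𝓝 (K : ℝ)) := by
    simpa using tendsto_const_nhds.add (tendsto_const_div_atTop_nhds_zero_nat (K : ℝ))
  refine le_of_tendsto_of_tendsto hlim2 hbd ?_
  filter_upwards [eventually_gt_atTop 0] with n hn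
  have h1 := key n m
  rw [mul_zero, add_zero] at h1
  have hn' : (0 : ℝ) < n := by exact_mod_cast hn
  rw [show (a m : ℝ) - (a (n * m) : ℝ) / n = -(((a (n * m) : ℝ) - n * a m) / n) by field_simp; ring,
    abs_neg, abs_div, abs_of_pos hn', div_le_iff₀ hn', add_mul, div_mul_cancel₀ _ hn'.ne']
  linarith

theorem QuasiAdd.tendsto_add {b : G → ℤ} (hb : QuasiAdd b) {x x' : G} {α α' : ℝ}
    (h : Tendsto (fun m : ℕ => (b (m • x) : ℝ) / m) atTop (𝓝 α))
    (h' : Tendsto (fun m : ℕ => (b (m • x') : ℝ) / m) atTop (𝓝 α')) :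
    Tendsto (fun m : ℕ => (b (m • (x + x')) : ℝ) / m) atTop (𝓝 (α + α')) := by
  obtain ⟨K, hK⟩ := hb
  have h0 : Tendsto (fun m : ℕ => (b (m • (x + x')) : ℝ) / m - ((b (m • x) : ℝ) / m + (b (m • x') : ℝ) / m))
      atTop (𝓝 0) := by
    refine squeeze_zero_norm (fun m => ?_) (tendsto_const_div_atTop_nhds_zero_nat (K : ℝ))
    rw [Real.norm_eq_abs, ← add_div, ← sub_div, abs_div, nsmul_add, Nat.abs_cast]
    refine div_le_div_of_nonneg_right ?_ (Nat.cast_nonneg m)
    have := hK (m • x) (m • x')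
    rw [← sub_sub]
    exact_mod_cast this
  have := h0.add (h.add h')
  rw [zero_add] at this
  exact this.congr fun m => by ring

/-- A good function has `2 F (m x) / m² → Φ x x` with `Φ` biadditive. -/
theorem exists_form {F : G → ℤ} (hF : Good F) :
    ∃ Φ : G → G → ℝ, (∀ x x' y, Φ (x + x') y = Φ x y + Φ x' y) ∧
      (∀ x y y', Φ x (y + y') = Φ x y + Φ x y') ∧
      ∀ x, Tendsto (fun m : ℕ => (2 : ℝ) * (F (m • x) : ℝ) / ((m : ℝ) ^ 2)) atTop (𝓝 (Φ x x)) := by
  have hs : ∀ y x, ∃ K : ℤ, ∃ α : ℝ, ∀ m : ℕ, |(beta F (m • x) y : ℝ) - m * α| ≤ K := by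
    intro y x
    obtain ⟨K, hK⟩ := hF y
    exact ⟨K, exists_slope fun m n => by rw [add_nsmul]; exact hK _ _⟩
  choose K Φ hΦ using hs
  have hlim : ∀ x y, Tendsto (fun m : ℕ => (beta F (m • x) y : ℝ) / m) atTop (𝓝 (Φ y x)) := by
    intro x y
    rw [tendsto_iff_norm_sub_tendsto_zero]
    refine squeeze_zero' (Eventually.of_forall fun m => norm_nonneg _) ?_
      (tendsto_const_div_atTop_nhds_zero_nat (K y x : ℝ))
    filter_upwards [eventually_gt_atTop 0] with m hm
    have hm' : (0 : ℝ) < m := by exact_mod_cast hm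
    rw [Real.norm_eq_abs, div_sub' hm'.ne', abs_div, abs_of_pos hm']
    exact div_le_div_of_nonneg_right (hΦ y x m) hm'.le
  refine ⟨fun x y => Φ y x, fun x x' y =>
    tendsto_nhds_unique (hlim _ y) ((hF y).tendsto_add (hlim x y) (hlim x' y)), fun x y y' => ?_,
    fun x => ?_⟩
  · obtain ⟨L, hL⟩ := hF y'
    have h0 : Tendsto (fun m : ℕ => (beta F (m • x + y) y' : ℝ) / m - (beta F (m • x) y' : ℝ) / m)
        atTop (𝓝 0) := by
      refine squeeze_zero_norm (fun m => ?_)
        (tendsto_const_div_atTop_nhds_zero_nat ((L : ℝ) + |(beta F y y' : ℝ)|))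
      rw [Real.norm_eq_abs, ← sub_div, abs_div, Nat.abs_cast]
      refine div_le_div_of_nonneg_right ?_ (Nat.cast_nonneg m)
      have h1 : |(beta F (m • x + y) y' : ℝ) - beta F (m • x) y' - beta F y y'| ≤ L := by
        exact_mod_cast hL (m • x) y
      rw [abs_le] at h1 ⊢
      have := abs_le.1 (le_refl |(beta F y y' : ℝ)|)
      constructor <;> linarith
    have h1 : Tendsto (fun m : ℕ => (beta F (m • x) (y + y') : ℝ) / m) atTop (𝓝 (Φ y x + Φ y' x)) := by
      have := ((h0.add (hlim x y')).add (hlim x y)).sub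
        (tendsto_const_div_atTop_nhds_zero_nat (beta F y y' : ℝ))
      rw [zero_add, sub_zero, add_comm] at this
      refine this.congr fun m => ?_
      rw [beta_cocycle]
      push_cast
      ring
    exact tendsto_nhds_unique (hlim x (y + y')) h1
  · set α := Φ x x
    have hstep : ∀ m : ℕ, |2 * (F (m • x) : ℝ) - m ^ 2 * α| ≤
        2 * |(F 0 : ℝ)| + m * (2 * |(F x : ℝ)| + 2 * |(F 0 : ℝ)| + 2 * K x x + |α|) := by
      intro m
      induction m with
      | zero =>
        simp only [zero_nsmul, Nat.cast_zero]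
        rw [zero_pow two_ne_zero, zero_mul, sub_zero, abs_mul, abs_two, zero_mul, add_zero]
      | succ m ih =>
        have e : (F ((m + 1) • x) : ℝ) = F (m • x) + F x - F 0 + beta F (m • x) x := by
          simp only [beta, succ_nsmul]; push_cast; ring
        have h1 := hΦ x x m
        rw [abs_le] at h1 ih ⊢
        have := abs_le.1 (le_refl |(F x : ℝ)|)
        have := abs_le.1 (le_refl |(F 0 : ℝ)|)
        have := abs_le.1 (le_refl |α|)
        rw [e]
        push_cast
        constructor <;> nlinarith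
    rw [tendsto_iff_norm_sub_tendsto_zero]
    refine squeeze_zero' (Eventually.of_forall fun m => norm_nonneg _) ?_
      (tendsto_const_div_atTop_nhds_zero_nat
        (4 * |(F 0 : ℝ)| + 2 * |(F x : ℝ)| + 2 * K x x + |α|))
    filter_upwards [eventually_gt_atTop 0] with m hm
    have hm' : (1 : ℝ) ≤ m := by exact_mod_cast hm
    rw [Real.norm_eq_abs, show (2 : ℝ) * (F (m • x) : ℝ) / (m : ℝ) ^ 2 - α =
      (2 * (F (m • x) : ℝ) - m ^ 2 * α) / m ^ 2 by field_simp, abs_div,
      abs_of_pos (show (0 : ℝ) < (m : ℝ) ^ 2 by positivity), div_le_div_iff₀ (by positivity) (by positivity)]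
    have h2 := hstep m
    have h3 : 0 ≤ (|(F 0 : ℝ)| * m) * ((m : ℝ) - 1) :=
      mul_nonneg (by positivity) (by linarith)
    nlinarith [mul_le_mul_of_nonneg_right h2 (show (0 : ℝ) ≤ m by positivity)]

end Groth.Misc13.PairLimit
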