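import Groth.Prelude.Def_Pi1
import Groth.Agent.PropsBasic.NagataNormalization
import Groth.Agent.LocImm.NormalizationBirational
import Groth.Agent.Calg1.NagataTheorem
import Groth.Agent.Agf.CurveNormalization

/-!
The normalization of the closure of a point of a scheme of finite type over a field.
-/

set_option autoImplicit false
universe u

open CategoryTheory CategoryTheory.Limits AlgebraicGeometry TopologicalSpace

namespace Groth.Misc13.PairNorm

variable {k : Type u} [Field k] {X : Scheme.{u}} (g : X ⟶ Spec (CommRingCat.of k)) [LocallyOfFiniteType g]

include g in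
theorem isNagata_sections {U : X.Opens} (hU : IsAffineOpen U) : CAlg.IsNagata Γ(X, U) := by
  have hft : (g.appLE ⊤ U le_top).hom.FiniteType :=
    g.finiteType_appLE (isAffineOpen_top _) hU le_top
  have hφ : ((g.appLE ⊤ U le_top).hom.comp (Scheme.ΓSpecIso (CommRingCat.of k)).inv.hom).FiniteType :=
    hft.comp (RingHom.FiniteType.of_surjective _
      (Scheme.ΓSpecIso (CommRingCat.of k)).symm.commRingCatIsoToRingEquiv.surjective)
  let _ : Algebra k Γ(X, U) :=
    ((g.appLE ⊤ U le_top).hom.comp (Scheme.ΓSpecIso (CommRingCat.of k)).inv.hom).toAlgebra
  have : Algebra.FiniteType k Γ(X, U) := hφ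
  exact Groth.Calg1.isNagata_of_finiteType (R := k) (Groth.Agf.CurveNormalization.isNagata_field k)

include g in
/-- A finite map from a normal integral scheme onto the closure of a point, birational onto it. -/
theorem exists_normalization [CompactSpace X] [X.IsSeparated] (c : X) :
    ∃ (Y : Scheme.{u}) (i : Y ⟶ X) (_ : IsIntegral Y), IsFinite i ∧ Pi1.IsNormalScheme Y ∧
      i (genericPoint ↥Y) = c ∧ Function.Surjective (i.stalkMap (genericPoint ↥Y)) := by
  let f := X.fromSpecResidueField c
  have : QuasiSeparated f := inferInstance
  have : QuasiCompact f := inferInstance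
  refine ⟨f.normalization, f.fromNormalization, inferInstance, ?_, fun n => ⟨inferInstance, ?_⟩, ?_, ?_⟩
  · refine Groth.PropsBasic.isFinite_fromNormalization f fun U => ?_
    refine Groth.PropsBasic.finite_integralClosure_of_nagata f
      (locallyFinite_of_finite _) (fun x _ => ?_) U (isNagata_sections g U.2)
    have hs := f.stalkMap_surjective x
    refine RingHom.FiniteType.essFiniteType (RingHom.FiniteType.of_surjective _ fun z => ?_)
    obtain ⟨z', rfl⟩ := (Spec (X.residueField c)).residue_surjective x z
    obtain ⟨w, rfl⟩ := hs z'
    exact ⟨X.residue (f x) w, congr($(Scheme.residue_residueFieldMap f x) w)⟩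
  · exact Groth.LocImmersion.NormalizationBirational.isIntegrallyClosed_stalk f (fun x => by
      have : Subsingleton ↥(Spec (X.residueField c)) :=
        inferInstanceAs (Subsingleton (PrimeSpectrum (X.residueField c)))
      have hx : x = genericPoint ↥(Spec (X.residueField c)) := Subsingleton.elim _ _
      subst hx
      let _ : Field ((Spec (X.residueField c)).presheaf.stalk (genericPoint ↥(Spec (X.residueField c)))) :=
        inferInstanceAs (Field (Spec (X.residueField c)).functionField)
      infer_instance) n
  · have h1 := Groth.LocImmersion.NormalizationBirational.apply_genericPoint f.toNormalization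
    rw [← h1, ← Scheme.Hom.comp_apply, f.toNormalization_fromNormalization]
    exact X.fromSpecResidueField_apply c _
  · have h1 := Groth.LocImmersion.NormalizationBirational.apply_genericPoint f.toNormalization
    set P := genericPoint ↥(Spec (X.residueField c)) with hP
    rw [← h1]
    have hs : Function.Surjective ((f.toNormalization ≫ f.fromNormalization).stalkMap P) :=
      (show IsPreimmersion (f.toNormalization ≫ f.fromNormalization) by
        rw [f.toNormalization_fromNormalization]; infer_instance).stalkMap_surjective P
    rw [Scheme.Hom.stalkMap_comp] at hs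
    have hfield : IsField (f.normalization.presheaf.stalk (f.toNormalization P)) := by
      rw [h1]; exact Field.toIsField f.normalization.functionField
    let _ := hfield.toField
    intro z
    obtain ⟨w, hw⟩ := hs (f.toNormalization.stalkMap P z)
    exact ⟨w, (f.toNormalization.stalkMap P).hom.injective hw⟩

end Groth.Misc13.PairNorm
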