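import Groth.Agent.Misc13.KInt
import Groth.Agent.CohFin.PushAffine
import Groth.Agent.Cycles.SheafCyc

/-!
Direct images along finite morphisms on `K₀(Coh)`.
-/

set_option autoImplicit false
universe u

open CategoryTheory CategoryTheory.Limits AlgebraicGeometry TopologicalSpace

namespace Groth.Misc13.PairPush

open Groth.Misc13.KNilp Groth.Misc13.KC1 Groth.Misc13.KInt Groth.KTheory Groth.KTheory.Devissage
  Groth.QCohMod Groth.RefRank

variable {X Y : Scheme.{u}} (i : Y ⟶ X) [IsFinite i]

theorem push_rel (S : ShortComplex Y.Modules) (hS : S.ShortExact) (h₁ : Coh.IsCoh S.X₁)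
    (h₂ : Coh.IsCoh S.X₂) (h₃ : Coh.IsCoh S.X₃) :
    kc ((Scheme.Modules.pushforward i).obj S.X₂) =
      kc ((Scheme.Modules.pushforward i).obj S.X₁) + kc ((Scheme.Modules.pushforward i).obj S.X₃) := by
  have := h₁.1
  have := h₂.1
  have := h₃.1
  exact clSub_rel (P := fun M : X.Modules => Coh.IsCoh M) _
    (Groth.CohFin.shortExact_push_affine i hS) (Groth.Cycles.isCoh_push_of_isFinite i h₁)
    (Groth.Cycles.isCoh_push_of_isFinite i h₂) (Groth.Cycles.isCoh_push_of_isFinite i h₃)

/-- Direct image on `K₀(Coh)`. -/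
noncomputable def push : SGA6.Kcoh Y →+ SGA6.Kcoh X :=
  liftSub (fun M : Y.Modules => Coh.IsCoh M) (fun G => kc ((Scheme.Modules.pushforward i).obj G))
    fun S hS h₁ h₂ h₃ => push_rel i S hS h₁ h₂ h₃

theorem push_kc {G : Y.Modules} (hG : Coh.IsCoh G) :
    push i (kc G) = kc ((Scheme.Modules.pushforward i).obj G) := liftSub_clSub _ _ hG

theorem support_push_subset {G : Y.Modules} (hG : Coh.IsCoh G) :
    CohB1.support ((Scheme.Modules.pushforward i).obj G) ⊆ i '' CohB1.support G := fun x hx => by
  by_contra h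
  refine hx (Groth.Cycles.subsingleton_stalk_push i G
    (i.isClosedMap _ (Groth.CohTwo.isClosed_support G hG))
    (fun y hy => ⟨y, fun h0 => not_subsingleton (G.presheaf.stalk y) h0, rfl⟩) h)

theorem push_mem {W : Set Y} {W' : Set X} (hW : ∀ y ∈ W, i y ∈ W') {c : SGA6.Kcoh Y}
    (hc : c ∈ supSub W) : push i c ∈ supSub W' := by
  induction hc using AddSubgroup.closure_induction with
  | mem c hc =>
    obtain ⟨G, hG, hs, rfl⟩ := hc
    rw [push_kc i hG]
    refine mem_supSub (Groth.Cycles.isCoh_push_of_isFinite i hG) fun x hx => ?_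
    obtain ⟨y, hy, rfl⟩ := support_push_subset i hG hx
    exact hW y (hs hy)
  | zero => rw [map_zero]; exact zero_mem _
  | add p q _ _ hp hq => rw [map_add]; exact add_mem hp hq
  | neg p _ hp => rw [map_neg]; exact neg_mem hp

variable {k : Type u} [Field k] (fY : Y ⟶ Spec (CommRingCat.of k)) [LocallyOfFiniteType fY]
  (fX : X ⟶ Spec (CommRingCat.of k)) [LocallyOfFiniteType fX]

set_option backward.isDefEq.respectTransparency.types false in
include fY fX in
theorem dimFn_eq (h : i ≫ fX = fY) (y : Y) : dimFn X (i y) = dimFn Y y := by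
  obtain ⟨z, hz⟩ : y ∈ Set.range (i.fiberι (i y)) := by rw [i.range_fiberι]; rfl
  have h' := Groth.Variety2.Dim.height_fiber_add fY fX i h (i y) z
  have h0 : Order.height z = 0 := by
    have : DiscreteTopology (i.fiber (i y)) := inferInstance
    refine Order.height_eq_zero.2 fun w hw => le_of_eq ?_
    exact (Scheme.le_iff_specializes.1 hw).eq
  rw [h0, zero_add, hz] at h'
  simp only [dimFn]
  rw [h']

end Groth.Misc13.PairPush
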