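import Groth.Agent.Misc13.PairHull
import Groth.Agent.Misc13.PairPush
import Groth.Agent.RefRank.DivSheaf

/-!
The contribution of a prime divisor to an additive function is at most that of its normalization.
-/

set_option autoImplicit false
universe u

open CategoryTheory CategoryTheory.Limits AlgebraicGeometry TopologicalSpace

namespace Groth.Misc13.PairPrime

open Groth.Misc13.KNilp Groth.Misc13.KC1 Groth.Misc13.KInt Groth.KTheory Groth.KTheory.Devissage
  Groth.QCohMod Groth.RefRank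

variable {X : Scheme.{u}}

/-- Kernels on stalks. -/
theorem exists_kernel_stalk {A B : X.Modules} (ψ : A ⟶ B) (y : X) {v : A.presheaf.stalk y}
    (h : RefHull.stalkMapₗ ψ y v = 0) : ∃ w, RefHull.stalkMapₗ (kernel.ι ψ) y w = v := by
  have he : (ShortComplex.mk (kernel.ι ψ) ψ (kernel.condition ψ)).Exact :=
    ShortComplex.exact_of_f_is_kernel _ (kernelIsKernel ψ)
  have := (exact_iff_stalk _).1 he y
  rw [ShortComplex.ab_exact_iff] at this
  exact this v h

/-- The class of a monomorphism's cokernel. -/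
theorem exists_coker {A B : X.Modules} (hA : Coh.IsCoh A) (hB : Coh.IsCoh B) (ψ : A ⟶ B) [Mono ψ]
    {W : Set X} (h : ∀ y ∉ W, Function.Surjective (RefHull.stalkMapₗ ψ y)) :
    ∃ Q : X.Modules, Coh.IsCoh Q ∧ CohB1.support Q ⊆ W ∧ kc B = kc A + kc Q := by
  have := hA.1
  have hQ : Coh.IsCoh (cokernel ψ) := Groth.QCohMod.isCoh_cokernel ψ hB
  refine ⟨_, hQ, fun y hy => by_contra fun hyW => hy ?_,
    clSub_rel (P := fun M : X.Modules => Coh.IsCoh M) (ShortComplex.mk ψ (cokernel.π ψ) (cokernel.condition ψ))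
      { exact := ShortComplex.exact_of_g_is_cokernel _ (cokernelIsCokernel ψ)
        mono_f := ‹Mono ψ›
        epi_g := inferInstanceAs (Epi (cokernel.π ψ)) } hA hB hQ⟩
  refine subsingleton_of_forall_eq 0 fun z => ?_
  obtain ⟨b, rfl⟩ := (epi_iff_stalk (cokernel.π ψ)).1 inferInstance y z
  obtain ⟨a, rfl⟩ := h y hyW b
  have e : (stalk y).map ψ ≫ (stalk y).map (cokernel.π ψ) = 0 := by
    rw [← Functor.map_comp, cokernel.condition, Functor.map_zero]
  exact congr($e a)

/-- `[A] = [ker] + [B] - [Q]`. -/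
theorem exists_kernel_coker [IsLocallyNoetherian X] {A B : X.Modules} (hA : Coh.IsCoh A) (hB : Coh.IsCoh B) (ψ : A ⟶ B)
    {W : Set X} (h : ∀ y ∉ W, Function.Surjective (RefHull.stalkMapₗ ψ y)) :
    ∃ Q : X.Modules, Coh.IsCoh Q ∧ CohB1.support Q ⊆ W ∧
      kc A + kc Q = kc (kernel ψ) + kc B := by
  have := hA.1
  have := hB.1
  have hK : Coh.IsCoh (kernel ψ) := Groth.QCohMod.isCoh_kernel ψ hA
  have hC : Coh.IsCoh (cokernel ψ) := Groth.QCohMod.isCoh_cokernel ψ hB
  have hI : Coh.IsCoh (kernel (cokernel.π ψ)) :=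
    haveI := hC.1
    Groth.QCohMod.isCoh_kernel (cokernel.π ψ) hB
  have e2 : kc A = kc (kernel ψ) + kc (Abelian.image ψ) :=
    clSub_rel (P := fun M : X.Modules => Coh.IsCoh M)
      (ShortComplex.mk (kernel.ι ψ) (Abelian.factorThruImage ψ) (by
        rw [← cancel_mono (Abelian.image.ι ψ)]; simp))
      { exact := by
          apply ShortComplex.exact_of_f_is_kernel
          refine KernelFork.IsLimit.ofι' _ _ fun {W'} k h => ⟨kernel.lift ψ k ?_, kernel.lift_ι _ _ _⟩
          have := h =≫ Abelian.image.ι ψ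
          simpa using this
        mono_f := inferInstance
        epi_g := inferInstance } hK hA hI
  obtain ⟨Q, hQ, hQs, hQe⟩ := exists_coker hI hB (Abelian.image.ι ψ) (W := W) fun y hy z => by
    obtain ⟨a, rfl⟩ := h y hy z
    refine ⟨RefHull.stalkMapₗ (Abelian.factorThruImage ψ) y a, ?_⟩
    rw [← stalkMapₗ_comp, Abelian.image.fac]
  refine ⟨Q, hQ, hQs, ?_⟩
  rw [e2, hQe]
  abel

variable [IsIntegral X] [IsLocallyNoetherian X]

omit [IsLocallyNoetherian X] in
/-- A map of generic stalks sending one nonzero element to another. -/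
theorem exists_genEquiv {F G : X.Modules} (hF : RefHull.IsRef1 F) (hG : RefHull.IsRef1 G)
    {s : F.presheaf.stalk (genericPoint ↥X)} (hs : s ≠ 0)
    {r : G.presheaf.stalk (genericPoint ↥X)} (hr : r ≠ 0) :
    ∃ T : F.presheaf.stalk (genericPoint ↥X) ≃ₗ[X.presheaf.stalk (genericPoint ↥X)]
      G.presheaf.stalk (genericPoint ↥X), T s = r := by
  let es := LinearEquiv.ofBijective
    (LinearMap.toSpanSingleton (X.presheaf.stalk (genericPoint ↥X)) _ s)
    ((isRankOne_of_genInvertible hF.2.2).isStalkBasis hs)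
  let er := LinearEquiv.ofBijective
    (LinearMap.toSpanSingleton (X.presheaf.stalk (genericPoint ↥X)) _ r)
    ((isRankOne_of_genInvertible hG.2.2).isStalkBasis hr)
  refine ⟨es.symm.trans er, ?_⟩
  have e : es.symm s = 1 := by
    rw [LinearEquiv.symm_apply_eq]; exact (one_smul (X.presheaf.stalk (genericPoint ↥X)) s).symm
  change er (es.symm s) = r
  rw [e]; exact one_smul (X.presheaf.stalk (genericPoint ↥X)) r

/-- A map lowering the order by one at `y`. -/
theorem exists_shift (hX : Pi1.IsNormalScheme X) {F G : X.Modules} [F.IsQuasicoherent]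
    [G.IsQuasicoherent] {y : X} (hy : ringKrullDim (X.presheaf.stalk y) = 1)
    {t : F.presheaf.stalk y} (ht : IsStalkBasis F y t) {u : G.presheaf.stalk y}
    (hu : IsStalkBasis G y u) {s : F.presheaf.stalk (genericPoint ↥X)} (hs : s ≠ 0)
    {r : G.presheaf.stalk (genericPoint ↥X)} (hr : r ≠ 0)
    (T : F.presheaf.stalk (genericPoint ↥X) →ₗ[X.presheaf.stalk (genericPoint ↥X)]
      G.presheaf.stalk (genericPoint ↥X)) (hT : T s = r)
    (hord : ordSec F y s = ordSec G y r + 1) :
    ∃ p e : X.presheaf.stalk y, IsLocalRing.maximalIdeal (X.presheaf.stalk y) = Ideal.span {p} ∧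
      IsUnit e ∧ T (mspec F (genSpec y) (p • t)) = mspec G (genSpec y) (e • u) := by
  have := isDiscreteValuationRing_stalk hX hy
  have := krullDimLE_of_dim_le hy.le
  obtain ⟨p, hp⟩ := IsDiscreteValuationRing.exists_irreducible (X.presheaf.stalk y)
  obtain ⟨φ, hφ, rfl⟩ := exists_coeff ht hs
  obtain ⟨ψ, hψ, rfl⟩ := exists_coeff hu hr
  rw [ordSec_eq hy.le ht rfl, ordSec_eq hy.le hu rfl] at hord
  let P : X.functionField := rspec (genSpec y) p
  have hP : P ≠ 0 := fun e => hp.ne_zero (rspec_gen_injective y (e.trans (map_zero _).symm))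
  have hordP : ordK y P = 1 := by
    change CycAlg.ordFrac _ _ (algebraMap (X.presheaf.stalk y) X.functionField p) = _
    rw [ordFrac_algebraMap' hp.ne_zero, Ring.ord_of_irreducible hp]
    simp
  have hq : (show X.functionField from ψ) * (show X.functionField from φ)⁻¹ ≠ 0 :=
    mul_ne_zero hψ (inv_ne_zero hφ)
  obtain ⟨e, he, hae⟩ := exists_unit_of_ordK_eq_zero hX hy (mul_ne_zero hP hq) (by
    rw [ordK_mul hy.le hP hq, ordK_mul hy.le hψ (inv_ne_zero hφ), ordK_inv hy.le hφ, hordP, hord]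
    ring)
  refine ⟨p, e, hp.maximalIdeal_eq, he, ?_⟩
  refine (isUnit_gen_iff.mpr hφ).smul_left_cancel.mp ?_
  rw [mspec_smul, mspec_smul, ← map_smul, smul_comm φ, map_smul, hT, smul_smul, smul_smul]
  congr 1
  have e' : (show X.functionField from φ) * (P * ((show X.functionField from ψ) *
      (show X.functionField from φ)⁻¹)) = P * (show X.functionField from ψ) := by
    field_simp
  rw [← hae] at e'
  exact e'.symm

section Prime

variable {Y : Scheme.{u}} (i : Y ⟶ X) [IsFinite i] [IsIntegral Y] [IsLocallyNoetherian Y]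
  (hsurj : Function.Surjective (i.stalkMap (genericPoint ↥Y)))
  {δ : X → ℤ} (hδ : Cyc.IsDimFun X δ) {s : ℤ}
  (hcodim : ∀ y, ringKrullDim (X.presheaf.stalk y) = 1 ↔ δ y = s + 1)
  (htop : ∀ y, s + 1 < δ y → y = genericPoint ↥X)
  (hc : δ (i (genericPoint ↥Y)) = s + 1)
  (hfib : ∀ y, i y = i (genericPoint ↥Y) → y = genericPoint ↥Y)

include hsurj hδ hcodim htop hc hfib in
/-- `[A] - [A(-c)]` is bounded by the direct image from the normalization. -/
theorem exists_prime_ineq (hX : Pi1.IsNormalScheme X)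
    {A A' : X.Modules} (hA : RefHull.IsRef1 A) (hA' : RefHull.IsRef1 A') {d d' : X → ℤ}
    (h : HasDiv A d) (h' : HasDiv A' d')
    (hd : ∀ y, ringKrullDim (X.presheaf.stalk y) = 1 → y ≠ i (genericPoint ↥Y) → d y = d' y)
    (hdc : d (i (genericPoint ↥Y)) = d' (i (genericPoint ↥Y)) + 1) :
    ∃ Q₁ Q₂ : X.Modules, (Coh.IsCoh Q₁ ∧ CohB1.support Q₁ ⊆ {x | δ x ≤ s}) ∧
      (Coh.IsCoh Q₂ ∧ CohB1.support Q₂ ⊆ {x | δ x ≤ s}) ∧
      kc A + kc Q₁ + kc Q₂ = kc A' + kc ((Scheme.Modules.pushforward i).obj (PairPsi.hull i A)) := by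
  set c := i (genericPoint ↥Y) with hcdef
  have hc1 : ringKrullDim (X.presheaf.stalk c) = 1 := (hcodim c).2 hc
  obtain ⟨w, hw, hwd⟩ := h
  obtain ⟨w', hw', hwd'⟩ := h'
  have := hA.1.1
  have := hA'.1.1
  obtain ⟨t, ht⟩ := exists_isStalkBasis hX hA.1 hA.2.1 (isRankOne_of_genInvertible hA.2.2) hc1
  obtain ⟨u, hu⟩ := exists_isStalkBasis hX hA'.1 hA'.2.1 (isRankOne_of_genInvertible hA'.2.2) hc1
  have hG := (PairPsi.isRef1_hull i hA.1 ht).1
  have hB := Groth.Cycles.isCoh_push_of_isFinite i hG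
  have := hB.1
  let ψ := PairPsi.psi i A
  have hzero : ∀ y, s < δ y → y ≠ c →
      Subsingleton (((Scheme.Modules.pushforward i).obj (PairPsi.hull i A)).presheaf.stalk y) :=
    fun y hy hne => Groth.Cycles.subsingleton_stalk_push i _ (isClosed_closure (s := {c}))
      (fun z _ => specializes_iff_mem_closure.1 ((genericPoint_specializes z).map i.continuous))
      fun hmem => by
        have := (hδ c y (specializes_iff_mem_closure.2 hmem) hne.symm).1
        omega
  have hWsurj : ∀ y ∉ {x | δ x ≤ s}, Function.Surjective (RefHull.stalkMapₗ ψ y) := by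
    intro y hy
    by_cases hne : y = c
    · subst hne
      exact PairPsi.psi_surjective i hfib hsurj hA.1 ht
    · have := hzero y (not_le.1 hy) hne
      exact fun z => ⟨0, Subsingleton.elim _ _⟩
  obtain ⟨Q₁, hQ₁, hQ₁s, e₁⟩ := exists_kernel_coker hA.1 hB ψ hWsurj
  obtain ⟨T, hT⟩ := exists_genEquiv hA hA' hw hw'
  obtain ⟨p, e, hp, he, hTp⟩ := exists_shift hX hc1 ht hu hw hw' T.toLinearMap hT
    (by rw [hwd c hc1, hwd' c hc1, hdc])
  have hy1 : ∀ y, ringKrullDim (X.presheaf.stalk y) = 1 → y ≠ c →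
      Set.MapsTo T (Set.range (mspec A (genSpec y))) (Set.range (mspec A' (genSpec y))) ∧
      Set.MapsTo T.symm (Set.range (mspec A' (genSpec y))) (Set.range (mspec A (genSpec y))) := by
    intro y hy hne
    obtain ⟨t', ht'⟩ := exists_isStalkBasis hX hA.1 hA.2.1 (isRankOne_of_genInvertible hA.2.2) hy
    obtain ⟨u', hu'⟩ := exists_isStalkBasis hX hA'.1 hA'.2.1 (isRankOne_of_genInvertible hA'.2.2) hy
    have ho : ordSec A y w = ordSec A' y w' := by rw [hwd y hy, hwd' y hy, hd y hy hne]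
    exact ⟨mspec_mapsTo_of_ord hX hy ht' hu' hw hw' T.toLinearMap hT ho,
      mspec_mapsTo_of_ord hX hy hu' ht' hw' hw T.symm.toLinearMap
        (by rw [LinearEquiv.coe_coe, LinearEquiv.symm_apply_eq, hT]) ho.symm⟩
  let K := kernel ψ
  have hK : Coh.IsCoh K := Groth.QCohMod.isCoh_kernel ψ hA.1
  let ι := kernel.ι ψ
  have hι : ∀ y (v : K.presheaf.stalk y), RefHull.stalkMapₗ ψ y (RefHull.stalkMapₗ ι y v) = 0 :=
    fun y v => by
      have e : (stalk y).map ι ≫ (stalk y).map ψ = 0 := by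
        rw [← Functor.map_comp, kernel.condition, Functor.map_zero]
      exact congr($e v)
  obtain ⟨j, hj⟩ := exists_hom_of_codim_one hX (G := K) hA'.1 hA'.2.1
    (T.toLinearMap.comp (RefHull.stalkMapₗ ι (genericPoint ↥X))) fun y hy => by
      rintro _ ⟨v, rfl⟩
      rw [LinearMap.comp_apply, stalkMapₗ_mspec]
      by_cases hne : y = c
      · subst hne
        obtain ⟨a, ha⟩ := ht.2 (RefHull.stalkMapₗ ι _ v)
        have hmem : a ∈ IsLocalRing.maximalIdeal _ := (PairPsi.psi_smul_eq_zero i hfib hA.1 ht a).1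
          ((congrArg _ ha).trans (hι _ v))
        rw [hp, Ideal.mem_span_singleton] at hmem
        obtain ⟨b, rfl⟩ := hmem
        refine ⟨b • e • u, ?_⟩
        dsimp only at ha
        rw [← ha, mul_comm, mul_smul, mspec_smul A' _ b, mspec_smul A _ b]
        exact ((T.toLinearMap.map_smul _ _).trans (congrArg _ hTp)).symm
      · exact (hy1 y hy hne).1 ⟨_, rfl⟩
  have hinj : ∀ y, Function.Injective (RefHull.stalkMapₗ j y) := fun y v v' hvv' => by
    refine (mono_iff_stalk ι).1 inferInstance y (mspec_gen_injective hA.1 hA.2.1 y ?_)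
    change mspec A (genSpec y) (RefHull.stalkMapₗ ι y v) = mspec A (genSpec y) (RefHull.stalkMapₗ ι y v')
    refine T.injective ?_
    have h1 := congrArg (mspec A' (genSpec y)) hvv'
    rw [← stalkMapₗ_mspec, ← stalkMapₗ_mspec, hj] at h1
    rw [← stalkMapₗ_mspec, ← stalkMapₗ_mspec]
    exact h1
  have : Mono j := (mono_iff_stalk j).2 hinj
  obtain ⟨Q₂, hQ₂, hQ₂s, e₂⟩ := exists_coker hK hA'.1 j (W := {x | δ x ≤ s}) fun y hy z => by
    have key : ∃ v, RefHull.stalkMapₗ ψ y v = 0 ∧
        T (mspec A (genSpec y) v) = mspec A' (genSpec y) z := by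
      by_cases hne : y = c
      · subst hne
        obtain ⟨b, rfl⟩ := hu.2 z
        refine ⟨(b * ↑he.unit⁻¹ * p) • t, (PairPsi.psi_smul_eq_zero i hfib hA.1 ht _).2
          (Ideal.mul_mem_left _ _ (hp ▸ Ideal.mem_span_singleton_self p)), ?_⟩
        rw [mul_smul, mspec_smul, map_smul]
        refine (congrArg _ hTp).trans ?_
        rw [← mspec_smul, smul_smul, mul_assoc, IsUnit.val_inv_mul, mul_one]
      · have := hzero y (not_le.1 hy) hne
        by_cases hη : y = genericPoint ↥X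
        · subst hη
          obtain ⟨v, hv⟩ := T.surjective (mspec A' (genSpec (genericPoint ↥X)) z)
          refine ⟨v, Subsingleton.elim _ _, ?_⟩
          rw [← hv]
          congr 1
          obtain ⟨U, hU, m, rfl⟩ := exists_germ A _ v
          exact mspec_germ A _ hU m
        · have hy' : δ y = s + 1 := by
            have h1 : ¬ s + 1 < δ y := fun h => hη (htop y h)
            have h2 : s < δ y := not_le.1 hy
            omega
          obtain ⟨v, hv⟩ := (hy1 y ((hcodim y).2 hy') hne).2 ⟨z, rfl⟩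
          exact ⟨v, Subsingleton.elim _ _, by rw [hv, T.apply_symm_apply]⟩
    obtain ⟨v, hv0, hv⟩ := key
    obtain ⟨k', hk'⟩ := exists_kernel_stalk ψ y hv0
    refine ⟨k', mspec_gen_injective hA'.1 hA'.2.1 y ?_⟩
    rw [← stalkMapₗ_mspec, hj, LinearMap.comp_apply, LinearEquiv.coe_coe, stalkMapₗ_mspec, hk', hv]
  refine ⟨Q₁, Q₂, ⟨hQ₁, hQ₁s⟩, ⟨hQ₂, hQ₂s⟩, ?_⟩
  rw [e₁, e₂]
  abel

end Prime

end Groth.Misc13.PairPrime
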