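import Groth.Agent.Misc13.PairPos
import Groth.Agent.Misc13.PairPrime
import Groth.Agent.Misc13.PairDiv
import Groth.Agent.Misc13.PairNorm
import Groth.Agent.Misc13.PairLimit
import Groth.Prelude.Def_RefFun

/-!
Intersection numbers of Weil divisors on normal projective varieties: the quadratic limit exists and
is given by a biadditive pairing.
-/

set_option autoImplicit false
universe u

open CategoryTheory CategoryTheory.Limits AlgebraicGeometry TopologicalSpace Filter Topology

namespace Groth.Misc13.PairGood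

open Groth.Misc13.KNilp Groth.Misc13.KC1 Groth.Misc13.KInt Groth.KTheory Groth.KTheory.Devissage
  Groth.QCohMod Groth.RefRank Groth.Misc13.PairDiv Groth.Misc13.PairLimit

variable {k : Type u} [Field k] {X : Scheme.{u}} [X.Over (Spec (CommRingCat.of k))]
  [IsProper (X ↘ Spec (CommRingCat.of k))] [AlgebraicGeometry.IsNoetherian X] [IsIntegral X]
  (hX : Pi1.IsNormalScheme X) {s : ℕ} (hdim : topologicalKrullDim X = (s + 2 : ℕ))

omit [AlgebraicGeometry.IsNoetherian X] in
include k hdim in
theorem codim_one_iff (y : X) :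
    ringKrullDim (X.presheaf.stalk y) = 1 ↔ dimFn X y = (s : ℤ) + 1 := by
  have h := Groth.Variety2.Dim.ringKrullDim_stalk_add_height (X ↘ Spec (CommRingCat.of k)) y
  obtain ⟨a, ha⟩ := ENat.ne_top_iff_exists.1
    (Groth.Variety2.Dim.height_ne_top (X ↘ Spec (CommRingCat.of k)) y)
  rw [hdim, ← ha] at h
  have hd : dimFn X y = (a : ℤ) := by simp [dimFn, ← ha]
  rw [hd]
  constructor
  · intro h1
    rw [h1] at h
    have h2 : ((1 + a : ℕ) : WithBot ℕ∞) = ((s + 2 : ℕ) : WithBot ℕ∞) := by push_cast; exact h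
    have : 1 + a = s + 2 := by exact_mod_cast h2
    omega
  · intro h1
    have ha' : a = s + 1 := by omega
    subst ha'
    rw [ringKrullDim_stalk_eq_coheight] at h ⊢
    cases hc : Order.coheight y with
    | top =>
      rw [hc] at h
      exfalso
      rw [← WithBot.coe_add, top_add] at h
      exact absurd h (by rw [← WithBot.coe_natCast, WithBot.coe_inj]; exact (ENat.natCast_ne_top _).symm)
    | coe m =>
      rw [hc] at h
      have h2 : ((m + (s + 1) : ℕ) : WithBot ℕ∞) = ((s + 2 : ℕ) : WithBot ℕ∞) := by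
        push_cast; exact h
      have : m + (s + 1) = s + 2 := by exact_mod_cast h2
      have hm : m = 1 := by omega
      subst hm
      rfl

include hdim in
omit [Field k] [X.Over (Spec (CommRingCat.of k))] [IsProper (X ↘ Spec (CommRingCat.of k))]
  [AlgebraicGeometry.IsNoetherian X] in
theorem dimFn_gen : dimFn X (genericPoint ↥X) = (s : ℤ) + 2 := by
  rw [dimFn_genericPoint hdim]; push_cast; ring

section Cls

variable (Φ : SGA6.Kcoh X →+ ℤ)

/-- The function on divisors attached to an additive function on classes. -/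
noncomputable def fn (x : WDiv X) : ℤ := Φ (cls hX x)

include k hdim in
theorem diff_mem (x y : WDiv X) :
    cls hX (x + y) + cls hX 0 - cls hX x - cls hX y ∈ supSub {z | dimFn X z ≤ (s : ℤ)} := by
  have h := neg_mem (refTensor_sub_mem (isDimFun_dimFn (X ↘ Spec (CommRingCat.of k))) hX
    (isRef1_OD hX x) (isRef1_OD hX y))
  have hT := isRef1_refTensor (isRef1_OD hX x) (isRef1_OD hX y)
  obtain ⟨e⟩ := iso_OD hX hT (x := x + y)
    (hasDiv_refTensor hX (isRef1_OD hX x) (isRef1_OD hX y) (hasDiv_OD hX x) (hasDiv_OD hX y))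
  obtain ⟨e0⟩ := iso_OD hX isRef1_structure (x := 0) hasDiv_structure
  rw [dimFn_gen hdim, show (s : ℤ) + 2 - 2 = s by ring] at h
  unfold cls
  rw [← kc_iso e hT.1 (isRef1_OD hX (x + y)).1, ← kc_iso e0 isRef1_structure.1 (isRef1_OD hX 0).1]
  convert h using 1
  simp only [RefPow.refTensor]
  abel

include k hdim in
theorem good_congr {Ψ : SGA6.Kcoh X →+ ℤ}
    (h : ∀ c ∈ supSub {z | dimFn X z ≤ (s : ℤ)}, Φ c = Ψ c) (hΨ : Good (fn hX Ψ)) : Good (fn hX Φ) := by
  intro y
  have e : (fun x => beta (fn hX Φ) x y) = fun x => beta (fn hX Ψ) x y := funext fun x => by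
    have := h _ (diff_mem (k := k) hX hdim x y)
    simp only [map_sub, map_add] at this
    simp only [beta, fn]
    linarith
  rw [e]
  exact hΨ y

end Cls

section Pos

variable (Φ : SGA6.Kcoh X →+ ℤ)
  (hΦ0 : ∀ c ∈ supSub {z | dimFn X z ≤ (s : ℤ) - 1}, Φ c = 0)
  (hΦp : ∀ G : X.Modules, Coh.IsCoh G → CohB1.support G ⊆ {z | dimFn X z ≤ (s : ℤ)} → 0 ≤ Φ (kc G))

include k hdim hΦ0 hΦp in
/-- The jump along a prime divisor is bounded above on triples with given sum. -/
theorem upper_prime {c : X} (hc : ringKrullDim (X.presheaf.stalk c) = 1) (w : WDiv X) :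
    ∃ K : ℤ, ∀ x y, (fn hX Φ x - fn hX Φ (x - prime c hc)) + (fn hX Φ y - fn hX Φ (y - prime c hc)) +
      (fn hX Φ (w - x - y) - fn hX Φ (w - x - y - prime c hc)) ≤ K := by
  let f := X ↘ Spec (CommRingCat.of k)
  have : X.IsSeparated := ⟨terminal.hom_ext (terminal.from X) (f ≫ terminal.from _) ▸
    inferInstanceAs (IsSeparated (f ≫ terminal.from _))⟩
  obtain ⟨Y, i, hYi, hfin, hYn, rfl, hsurj⟩ := PairNorm.exists_normalization f c
  have := hfin
  have := hYi
  let fY : Y ⟶ Spec (CommRingCat.of k) := i ≫ f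
  have : LocallyOfFiniteType fY := inferInstanceAs (LocallyOfFiniteType (i ≫ f))
  have : IsLocallyNoetherian Y := LocallyOfFiniteType.isLocallyNoetherian i
  have : CompactSpace Y := QuasiCompact.compactSpace_of_compactSpace i
  have : AlgebraicGeometry.IsNoetherian Y := {}
  have hδX := isDimFun_dimFn (X := X) f
  have hδY := isDimFun_dimFn (X := Y) fY
  have hdimY : ∀ y, dimFn X (i y) = dimFn Y y := PairPush.dimFn_eq i fY f rfl
  have hcη : dimFn X (i (genericPoint ↥Y)) = (s : ℤ) + 1 := (codim_one_iff (k := k) hdim _).1 hc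
  have hYη : dimFn Y (genericPoint ↥Y) = (s : ℤ) + 1 := by rw [← hdimY, hcη]
  have hfib : ∀ y, i y = i (genericPoint ↥Y) → y = genericPoint ↥Y := fun y hy => by
    by_contra hne
    have := (hδY _ _ (genericPoint_specializes y) (Ne.symm hne)).1
    rw [← hdimY, ← hdimY, hy] at this
    omega
  have htop : ∀ y, (s : ℤ) + 1 < dimFn X y → y = genericPoint ↥X := fun y hy => by
    by_contra hne
    have := (hδX _ _ (genericPoint_specializes y) (Ne.symm hne)).1
    rw [dimFn_gen hdim] at this
    omega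
  let P : SGA6.Kcoh Y →+ ℤ := Φ.comp (PairPush.push i)
  have hP0 : ∀ d ∈ supSub {y | dimFn Y y ≤ dimFn Y (genericPoint ↥Y) - 2}, P d = 0 := fun d hd =>
    hΦ0 _ (PairPush.push_mem i (fun y (hy : dimFn Y y ≤ _) => by
      rw [hYη] at hy
      show dimFn X (i y) ≤ (s : ℤ) - 1
      rw [hdimY]; omega) hd)
  have hbasis : ∀ x, ∃ t, IsStalkBasis (OD hX x) (i (genericPoint ↥Y)) t := fun x =>
    exists_isStalkBasis hX (isRef1_OD hX x).1 (isRef1_OD hX x).2.1
      (isRankOne_of_genInvertible (isRef1_OD hX x).2.2) hc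
  have hGr : ∀ x, RefHull.IsRef1 (PairPsi.hull i (OD hX x)) := fun x =>
    PairPsi.isRef1_hull i (isRef1_OD hX x).1 (hbasis x).choose_spec
  let g : WDiv X → ℤ := fun x => P (kc (PairPsi.hull i (OD hX x)))
  let O := P (kc (Coh.structureModule Y))
  have hsuper : ∀ x y, g x + g y - O ≤ g (x + y) := by
    intro x y
    obtain ⟨m, hm, hms⟩ := PairHull.exists_mono_refTensor i hX hYn hc (isRef1_OD hX x) (isRef1_OD hX y)
    have hT := isRef1_refTensor (isRef1_OD hX x) (isRef1_OD hX y)
    have hR := isRef1_refTensor (hGr x) (hGr y)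
    have hC : Coh.IsCoh (PairPsi.hull i (RefPow.refTensor (OD hX x) (OD hX y))) :=
      isCoh_ddual (PairPsi.isCoh_pull i hT.1)
    obtain ⟨Q, hQ, hQs, hQe⟩ := PairPrime.exists_coker hR.1 hC m
      (W := {z | dimFn Y z ≤ (s : ℤ)}) fun z hz => by
        have he : z = genericPoint ↥Y := by
          by_contra hne
          have := (hδY _ _ (genericPoint_specializes z) (Ne.symm hne)).1
          have hz' : ¬ dimFn Y z ≤ (s : ℤ) := hz
          omega
        subst he
        exact hms
    obtain ⟨e⟩ := iso_OD hX hT (x := x + y)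
      (hasDiv_refTensor hX (isRef1_OD hX x) (isRef1_OD hX y) (hasDiv_OD hX x) (hasDiv_OD hX y))
    have hiso : g (x + y) = P (kc (PairPsi.hull i (RefPow.refTensor (OD hX x) (OD hX y)))) :=
      (congrArg P (kc_iso (RefFun.ddualIso ((Scheme.Modules.pullback i).mapIso e)) hC (hGr (x + y)).1)).symm
    have hQ0 : 0 ≤ P (kc Q) := by
      change 0 ≤ Φ (PairPush.push i (kc Q))
      rw [PairPush.push_kc i hQ]
      refine hΦp _ (Groth.Cycles.isCoh_push_of_isFinite i hQ) fun z hz => ?_
      obtain ⟨z', hz', rfl⟩ := PairPush.support_push_subset i hQ hz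
      show dimFn X (i z') ≤ (s : ℤ)
      rw [hdimY]
      exact hQs hz'
    have hmt := KIntRef.map_refTensor hδY hYn P hP0 (hGr x) (hGr y)
    rw [hiso, hQe, map_add, hmt]
    change P _ + P _ - O ≤ _
    linarith
  refine ⟨g w + 2 * O, fun x y => ?_⟩
  have hb : ∀ z : WDiv X, fn hX Φ z - fn hX Φ (z - prime _ hc) ≤ g z := by
    intro z
    obtain ⟨Q₁, Q₂, h₁, h₂, e⟩ := PairPrime.exists_prime_ineq i hsurj hδX (codim_one_iff (k := k) hdim)
      htop hcη hfib hX (isRef1_OD hX z) (isRef1_OD hX (z - prime _ hc)) (hasDiv_OD hX z)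
      (hasDiv_OD hX (z - prime _ hc))
      (fun y _ hne => by
        rw [AddSubgroup.coe_sub, Pi.sub_apply, prime_apply_ne hc hne, sub_zero])
      (by rw [AddSubgroup.coe_sub, Pi.sub_apply, prime_apply_self hc, sub_add_cancel])
    have e' := congrArg Φ e
    simp only [map_add] at e'
    have := hΦp _ h₁.1 h₁.2
    have := hΦp _ h₂.1 h₂.2
    have hg : g z = Φ (kc ((Scheme.Modules.pushforward i).obj (PairPsi.hull i (OD hX z)))) :=
      congrArg Φ (PairPush.push_kc i (hGr z).1)
    simp only [fn, cls]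
    linarith
  have h1 := hb x
  have h2 := hb y
  have h3 := hb (w - x - y)
  have h4 := hsuper x y
  have h5 := hsuper (x + y) (w - x - y)
  rw [show x + y + (w - x - y) = w by abel] at h5
  linarith

/-- Bounded above on triples with given sum. -/
def Upper {G : Type*} [AddCommGroup G] (t : G → ℤ) : Prop :=
  ∀ w, ∃ K : ℤ, ∀ x y, t x + t y + t (w - x - y) ≤ K

include k hdim hΦ0 hΦp in
theorem good_of_pos {H : X.Modules} (hH : CohB1.IsAmple H) : Good (fn hX Φ) := by
  set F := fn hX Φ
  have hδ := isDimFun_dimFn (X := X) (X ↘ Spec (CommRingCat.of k))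
  -- the jump along an effective divisor
  have hup : ∀ h ∈ AddSubmonoid.closure (primes (X := X)), Upper fun x => F x - F (x - h) := by
    intro h hh
    induction hh using AddSubmonoid.closure_induction with
    | mem h hh =>
      obtain ⟨c, hc, rfl⟩ := hh
      exact fun w => upper_prime (k := k) hX hdim Φ hΦ0 hΦp hc w
    | zero => exact fun w => ⟨0, fun x y => by simp⟩
    | add p q _ _ hp hq =>
      intro w
      obtain ⟨K, hK⟩ := hp w
      obtain ⟨L, hL⟩ := hq (w - 3 • p)
      refine ⟨K + L, fun x y => ?_⟩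
      have h1 := hK x y
      have h2 := hL (x - p) (y - p)
      dsimp only at h1 h2 ⊢
      rw [show w - 3 • p - (x - p) - (y - p) = w - x - y - p by abel] at h2
      rw [show x - p - q = x - (p + q) by abel, show y - p - q = y - (p + q) by abel,
        show w - x - y - p - q = w - x - y - (p + q) by abel] at h2
      linarith
  refine good_of_generators ((fun e => -e) '' primes (X := X)) ?_ ?_
  · refine eq_top_iff.2 fun x _ => ?_
    have := closure_primes (X := X) ▸ AddSubgroup.mem_top x
    induction this using AddSubgroup.closure_induction with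
    | mem e he => simpa using neg_mem (AddSubgroup.subset_closure (k := (fun e => -e) '' primes (X := X)) ⟨e, he, rfl⟩)
    | zero => exact zero_mem _
    | add p q _ _ hp hq => exact add_mem (hp trivial) (hq trivial)
    | neg p _ hp => exact neg_mem (hp trivial)
  rintro _ ⟨_, ⟨c, hc, rfl⟩, rfl⟩
  obtain ⟨N, h, hN, hNd, h0, h1⟩ := exists_effective hH hc
  set e := prime c hc
  have hmem : h - e ∈ AddSubmonoid.closure (primes (X := X)) := mem_closure_of_nonneg fun y => by
    have := h0 y
    rw [AddSubgroup.coe_sub, Pi.sub_apply]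
    by_cases hy : y = c
    · subst hy; rw [prime_apply_self hc]; omega
    · rw [prime_apply_ne hc hy]; omega
  let t : Bool → WDiv X → ℤ := fun b x => if b then F x - F (x - e) else F (x - e) - F (x - e - (h - e))
  have hsum : QuasiAdd fun x => ∑ b, t b x := by
    let Ψ := Φ.comp (c1 hN)
    have hΨ : ∀ d ∈ supSub {z | dimFn X z ≤ dimFn X (genericPoint ↥X) - 2}, Ψ d = 0 := fun d hd =>
      hΦ0 _ (by
        have := c1_mem hδ hN _ hd
        rwa [dimFn_gen hdim, show (s : ℤ) + 2 - 2 - 1 = (s : ℤ) - 1 by ring] at this)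
    have key : ∀ z, F (z + h) - F z = - Ψ (cls hX z) := fun z => by
      have hT := KIntRef.isRef1_tensor_invertible hN (isRef1_OD hX z)
      obtain ⟨i⟩ := iso_OD hX hT (x := z + h) (hasDiv_congr (fun y _ => add_comm _ _)
        (KIntRef.hasDiv_tensor_invertible hX hN (isRef1_OD hX z) hNd (hasDiv_OD hX z)))
      change Φ (cls hX (z + h)) - Φ (cls hX z) = -Φ (c1 hN (cls hX z))
      simp only [cls]
      rw [c1_kc hN (isRef1_OD hX z).1, kc_iso i hT.1 (isRef1_OD hX _).1, map_sub]
      ring
    have haff : QuasiAdd fun z => Ψ (cls hX z) := by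
      refine ⟨|Ψ (cls hX 0)|, fun x y => ?_⟩
      have hT := isRef1_refTensor (isRef1_OD hX x) (isRef1_OD hX y)
      obtain ⟨i⟩ := iso_OD hX hT (x := x + y)
        (hasDiv_refTensor hX (isRef1_OD hX x) (isRef1_OD hX y) (hasDiv_OD hX x) (hasDiv_OD hX y))
      obtain ⟨i0⟩ := iso_OD hX isRef1_structure (x := 0) hasDiv_structure
      have hm := KIntRef.map_refTensor hδ hX Ψ hΨ (isRef1_OD hX x) (isRef1_OD hX y)
      simp only [cls]
      rw [← kc_iso i hT.1 (isRef1_OD hX _).1, ← kc_iso i0 isRef1_structure.1 (isRef1_OD hX _).1]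
      change |Ψ (kc (RefPow.refTensor _ _)) - _ - _| ≤ _
      rw [hm]
      ring_nf
      rw [abs_neg]
    have he : (fun x => ∑ b, t b x) = fun x => - Ψ (cls hX (x + -h)) := funext fun x => by
      rw [← key, Fintype.sum_bool]
      simp only [t, if_true, Bool.false_eq_true, if_false]
      rw [show x - e - (h - e) = x + -h by abel, show x + -h + h = x by abel]
      ring
    rw [he]
    exact (haff.shift (-h)).neg
  have hq : QuasiAdd (t true) := quasiAdd_of_upper t (fun b => by
    cases b
    · obtain ⟨K, hK⟩ := hup _ hmem (-(3 • e))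
      refine ⟨K, fun x y => ?_⟩
      have := hK (x - e) (y - e)
      rw [show -(3 • e) - (x - e) - (y - e) = -x - y - e by abel] at this
      simpa [t] using this
    · obtain ⟨K, hK⟩ := upper_prime (k := k) hX hdim Φ hΦ0 hΦp hc 0
      refine ⟨K, fun x y => ?_⟩
      have := hK x y
      rw [zero_sub] at this
      simpa [t] using this) hsum true
  have hb : (fun x => beta F x (-e)) = fun x => (F 0 - F (-e)) - t true x := funext fun x => by
    simp only [beta, t, if_true, sub_eq_add_neg]
    ring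
  change QuasiAdd fun x => beta F x (-e)
  rw [hb]
  exact (quasiAdd_const _).sub hq

end Pos

variable {d : ℕ} (hd : topologicalKrullDim X ≤ (d : ℕ))

include k hdim in
/-- Intersection with invertible modules gives a good function of divisors. -/
theorem good_intNum {H : X.Modules} (hH : CohB1.IsAmple H) (M : Fin s → X.Modules)
    (hM : ∀ i, PicF.IsInvertible (M i)) : Good (fn hX ((chi k hd).comp (prodC1 M hM))) := by
  have hδ := isDimFun_dimFn (X := X) (X ↘ Spec (CommRingCat.of k))
  obtain ⟨Ψ, hΨ, he⟩ := PairPos.exists_pos (k := k) hd hdim hH M hM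
  refine good_congr (k := k) hX hdim _ he ?_
  clear he
  have hzero : Good (fn hX (0 : SGA6.Kcoh X →+ ℤ)) := fun y => ⟨0, fun a b => by simp [beta, fn]⟩
  induction hΨ using AddSubgroup.closure_induction with
  | mem Φ hΦ =>
    obtain ⟨M', h', rfl⟩ := hΦ
    refine good_of_pos (k := k) hX hdim _ (fun c hc => ?_) (fun G hG hs => PairPos.chi_nonneg hd M' h' hG hs) hH
    rw [AddMonoidHom.comp_apply, KIntRef.eq_zero_of_neg hδ hdim (dimFn_genericPoint hdim)
      (m := (s : ℤ) - 1 - s) (by omega) (prodC1_mem hδ _ _ _ _ hc), map_zero]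
  | zero => exact hzero
  | add p q _ _ hp hq =>
    have : fn hX (p + q) = fun x => fn hX p x - (fn hX (0 : SGA6.Kcoh X →+ ℤ) x - fn hX q x) := by
      funext x; simp [fn]
    rw [this]; exact hp.sub (hzero.sub hq)
  | neg p _ hp =>
    have : fn hX (-p) = fun x => fn hX (0 : SGA6.Kcoh X →+ ℤ) x - fn hX p x := by
      funext x; simp [fn]
    rw [this]; exact hzero.sub hp

omit [Field k] [X.Over (Spec (CommRingCat.of k))] [IsProper (X ↘ Spec (CommRingCat.of k))] in
theorem kc_refPow {F : X.Modules} (hF : RefHull.IsRef1 F) {x : WDiv X} (hx : HasDiv F x.1) (m : ℕ) :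
    kc (RefPow.refPow F m) = cls hX (m • x) := by
  have hP := isRef1_refPow hF m
  obtain ⟨e⟩ := iso_OD hX hP (x := m • x) (hasDiv_congr (fun y _ => by
    rw [AddSubgroup.coe_nsmul, Pi.smul_apply, nsmul_eq_mul]) (KIntRef.hasDiv_refPow hX hF hx m))
  exact kc_iso e hP.1 (isRef1_OD hX _).1

include k hX hd hdim in
/-- The pairing. -/
theorem exists_pairing {H : X.Modules} (hH : CohB1.IsAmple H) (M : Fin s → X.Modules)
    (hM : ∀ i, PicF.IsInvertible (M i)) :
    ∃ B : WDiv X → WDiv X → ℝ, (∀ x x' y, B (x + x') y = B x y + B x' y) ∧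
      (∀ x y y', B x (y + y') = B x y + B x y') ∧
      ∀ (F : X.Modules), RefHull.IsRef1 F → ∀ x : WDiv X, HasDiv F x.1 →
        Tendsto (fun m : ℕ => (2 : ℝ) * (FGA.intNum k X d M (RefPow.refPow F m) : ℝ) / ((m : ℝ) ^ 2))
          atTop (𝓝 (B x x)) := by
  obtain ⟨B, h1, h2, h3⟩ := exists_form (good_intNum (k := k) hX hdim hd hH M hM)
  refine ⟨B, h1, h2, fun F hF x hx => (h3 x).congr fun m => ?_⟩
  rw [KInt.intNum_eq k hd M hM (isRef1_refPow hF m).1, kc_refPow hX hF hx m]
  rfl

end Groth.Misc13.PairGood
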