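import Groth.Agent.Misc13.PairPsi
import Groth.Agent.PicAux.PullTensor
import Groth.Agent.PicAux.TensorLift
import Groth.Prelude.Def_RefPow

/-!
Reflexive hulls of restrictions and reflexive tensor products.
-/

set_option autoImplicit false
universe u

open CategoryTheory CategoryTheory.Limits AlgebraicGeometry TopologicalSpace
open scoped TensorProduct

namespace Groth.Misc13.PairHull

open Groth.QCohMod Groth.RefRank Groth.Misc13.PairPsi

variable {X Y : Scheme.{u}} (i : Y ⟶ X)

theorem stalk_tensorMap' {M M' N N' : X.Modules} (f : M ⟶ M') (g : N ⟶ N') (x : X)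
    (v : M.presheaf.stalk x) (w : N.presheaf.stalk x) :
    RefHull.stalkMapₗ (KoszTw.tensorMap f g) x (stalkTensorEquiv M N x (v ⊗ₜ w)) =
      stalkTensorEquiv M' N' x (RefHull.stalkMapₗ f x v ⊗ₜ RefHull.stalkMapₗ g x w) := by
  obtain ⟨W, hx, a, b, rfl, rfl⟩ := exists_common_germ x v w
  rw [stalkTensorEquiv_tmul]
  erw [RefHull.stalkMapₗ_germ, RefHull.stalkMapₗ_germ, RefHull.stalkMapₗ_germ]
  erw [Groth.PicAux.tensorMap_app_tmulSec]
  exact (stalkTensorEquiv_tmul M' N' x hx _ _).symm

theorem tensorMap_surjective {M M' N N' : X.Modules} (f : M ⟶ M') (g : N ⟶ N') (x : X)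
    (hf : Function.Surjective (RefHull.stalkMapₗ f x))
    (hg : Function.Surjective (RefHull.stalkMapₗ g x)) :
    Function.Surjective (RefHull.stalkMapₗ (KoszTw.tensorMap f g) x) := by
  intro z
  obtain ⟨z, rfl⟩ := (stalkTensorEquiv M' N' x).surjective z
  induction z using TensorProduct.induction_on with
  | zero => exact ⟨0, by simp⟩
  | tmul v w =>
    obtain ⟨v, rfl⟩ := hf v
    obtain ⟨w, rfl⟩ := hg w
    exact ⟨_, stalk_tensorMap' f g x v w⟩
  | add a b ha hb =>
    obtain ⟨a', ha⟩ := ha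
    obtain ⟨b', hb⟩ := hb
    exact ⟨a' + b', by rw [map_add, map_add, ha, hb]⟩

theorem bijective_of_basis {M M' : X.Modules} (f : M ⟶ M') (x : X) {t : M.presheaf.stalk x}
    (ht : IsStalkBasis M x t) (ht' : IsStalkBasis M' x (RefHull.stalkMapₗ f x t)) :
    Function.Bijective (RefHull.stalkMapₗ f x) := by
  refine ⟨fun v v' h => ?_, fun v => ?_⟩
  · obtain ⟨a, rfl⟩ := ht.2 v
    obtain ⟨b, rfl⟩ := ht.2 v'
    rw [map_smul, map_smul] at h
    exact congrArg (· • t) (ht'.1 h)
  · obtain ⟨a, rfl⟩ := ht'.2 v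
    exact ⟨a • t, map_smul _ a t⟩

theorem stalkMapₗ_pullGerm {M N : X.Modules} (φ : M ⟶ N) (y : Y) (t : M.presheaf.stalk (i y)) :
    RefHull.stalkMapₗ ((Scheme.Modules.pullback i).map φ) y (pullGerm i M y t) =
      pullGerm i N y (RefHull.stalkMapₗ φ (i y) t) := by
  obtain ⟨U, hU, m, rfl⟩ := exists_germ M (i y) t
  refine (congrArg _ (pullGerm_germ i M y hU m)).trans ?_
  refine (RefHull.stalkMapₗ_germ ((Scheme.Modules.pullback i).map φ) (U := i ⁻¹ᵁ U) y hU _).trans ?_
  refine Eq.trans ?_ (congrArg (pullGerm i N y) (RefHull.stalkMapₗ_germ φ (i y) hU m).symm)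
  refine Eq.trans ?_ (pullGerm_germ i N y hU _).symm
  exact congrArg _ (Groth.PicAux.pullSec_map i φ m)

theorem isStalkBasis_hull [IsIntegral Y] [IsLocallyNoetherian Y] {M : X.Modules} (hM : Coh.IsCoh M)
    {t : M.presheaf.stalk (i (genericPoint ↥Y))} (ht : IsStalkBasis M _ t) :
    IsStalkBasis (hull i M) (genericPoint ↥Y)
      (RefHull.stalkMapₗ (RefHull.bidualMap ((Scheme.Modules.pullback i).obj M)) _
        (pullGerm i M _ t)) := by
  have hb := bidual_gen_bijective (isCoh_pull i hM)
  have e : (fun a : Y.presheaf.stalk (genericPoint ↥Y) =>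
      a • RefHull.stalkMapₗ (RefHull.bidualMap ((Scheme.Modules.pullback i).obj M)) _ (pullGerm i M _ t)) =
      RefHull.stalkMapₗ (RefHull.bidualMap ((Scheme.Modules.pullback i).obj M)) _ ∘
        fun a => a • pullGerm i M _ t := funext fun a => (map_smul _ a _).symm
  rw [IsStalkBasis, e]
  exact hb.comp (isStalkBasis_pullGerm i ht)

variable [IsIntegral X] [IsLocallyNoetherian X] [IsIntegral Y] [IsLocallyNoetherian Y]

/-- The hull of the restriction of a reflexive product receives the product of the hulls. -/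
theorem exists_mono_refTensor (hX : Pi1.IsNormalScheme X) (hY : Pi1.IsNormalScheme Y)
    (hc : ringKrullDim (X.presheaf.stalk (i (genericPoint ↥Y))) = 1)
    {A B : X.Modules} (hA : RefHull.IsRef1 A) (hB : RefHull.IsRef1 B) :
    ∃ m : RefPow.refTensor (hull i A) (hull i B) ⟶ hull i (RefPow.refTensor A B), Mono m ∧
      Function.Surjective (RefHull.stalkMapₗ m (genericPoint ↥Y)) := by
  set η := genericPoint ↥Y with hη
  obtain ⟨t, ht⟩ := exists_isStalkBasis hX hA.1 hA.2.1 (isRankOne_of_genInvertible hA.2.2) hc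
  obtain ⟨u, hu⟩ := exists_isStalkBasis hX hB.1 hB.2.1 (isRankOne_of_genInvertible hB.2.2) hc
  have hAB := isCoh_tensorMod hA.1 hB.1
  have hGA := isCoh_ddual (isCoh_pull i hA.1)
  have hGB := isCoh_ddual (isCoh_pull i hB.1)
  have hG := isCoh_tensorMod hGA hGB
  let a : CohB1.tensorMod ((Scheme.Modules.pullback i).obj A) ((Scheme.Modules.pullback i).obj B) ⟶ RefPow.refTensor (hull i A) (hull i B) :=
    KoszTw.tensorMap (RefHull.bidualMap ((Scheme.Modules.pullback i).obj A)) (RefHull.bidualMap ((Scheme.Modules.pullback i).obj B)) ≫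
      RefPow.toRefTensor (hull i A) (hull i B)
  obtain ⟨e, -⟩ := Groth.PicAux.exists_pullback_tensorMod i A B
  let q : CohB1.tensorMod ((Scheme.Modules.pullback i).obj A) ((Scheme.Modules.pullback i).obj B) ⟶ hull i (RefPow.refTensor A B) :=
    e.inv ≫ (Scheme.Modules.pullback i).map (RefPow.toRefTensor A B) ≫ RefHull.bidualMap ((Scheme.Modules.pullback i).obj (RefPow.refTensor A B))
  have hpA := isStalkBasis_pullGerm i ht
  have hpB := isStalkBasis_pullGerm i hu
  have hpAB := isStalkBasis_tensor hpA hpB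
  have ha : Function.Bijective (RefHull.stalkMapₗ a η) := by
    refine bijective_of_basis a η hpAB ?_
    have e1 : RefHull.stalkMapₗ a η (stalkTensorEquiv _ _ η (pullGerm i A η t ⊗ₜ pullGerm i B η u)) =
        RefHull.stalkMapₗ (RefPow.toRefTensor (hull i A) (hull i B)) η (stalkTensorEquiv _ _ η
          (RefHull.stalkMapₗ (RefHull.bidualMap ((Scheme.Modules.pullback i).obj A)) η (pullGerm i A η t) ⊗ₜ
            RefHull.stalkMapₗ (RefHull.bidualMap ((Scheme.Modules.pullback i).obj B)) η (pullGerm i B η u))) := by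
      rw [← stalk_tensorMap']
      exact stalkMapₗ_comp _ _ _ _
    rw [e1]
    have hb := isStalkBasis_tensor (isStalkBasis_hull i hA.1 ht) (isStalkBasis_hull i hB.1 hu)
    have hb' := (bidual_gen_bijective hG).comp hb
    rw [IsStalkBasis]
    convert hb' using 1
    funext b
    exact (map_smul _ b _).symm
  have hq : Function.Bijective (RefHull.stalkMapₗ q η) := by
    have he := (isIso_iff_bijective_stalk e.inv).mp inferInstance η
    have hT : IsStalkBasis (CohB1.tensorMod A B) (i η) (stalkTensorEquiv A B _ (t ⊗ₜ u)) :=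
      isStalkBasis_tensor ht hu
    have hC : IsStalkBasis (RefPow.refTensor A B) (i η)
        (RefHull.stalkMapₗ (RefPow.toRefTensor A B) (i η) (stalkTensorEquiv A B _ (t ⊗ₜ u))) :=
      isStalkBasis_bidual hX hAB hc hT
    have hm : Function.Bijective (RefHull.stalkMapₗ ((Scheme.Modules.pullback i).map (RefPow.toRefTensor A B)) η) :=
      bijective_of_basis _ η (isStalkBasis_pullGerm i hT) (by
        rw [stalkMapₗ_pullGerm]; exact isStalkBasis_pullGerm i hC)
    have hb := bidual_gen_bijective (isCoh_pull i (isRef1_refTensor hA hB).1)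
    have : ⇑(RefHull.stalkMapₗ q η) = ⇑(RefHull.stalkMapₗ (RefHull.bidualMap ((Scheme.Modules.pullback i).obj (RefPow.refTensor A B))) η) ∘
        ⇑(RefHull.stalkMapₗ ((Scheme.Modules.pullback i).map (RefPow.toRefTensor A B)) η) ∘ ⇑(RefHull.stalkMapₗ e.inv η) := by
      funext v
      exact (stalkMapₗ_comp _ _ _ _).trans (stalkMapₗ_comp _ _ _ _)
    rw [this]
    exact hb.comp (hm.comp he)
  let T := (RefHull.stalkMapₗ q η).comp (LinearEquiv.ofBijective (RefHull.stalkMapₗ a η) ha).symm.toLinearMap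
  have hF := isCoh_pull i (isRef1_refTensor hA hB).1
  obtain ⟨m, hm⟩ := exists_hom_of_codim_one hY (G := RefPow.refTensor (hull i A) (hull i B))
    (isCoh_ddual hF) (isReflexive_ddual hF) T fun y hy => by
      rintro _ ⟨v, rfl⟩
      have := isDiscreteValuationRing_stalk hY hy
      obtain ⟨v', rfl⟩ := bidual_surjective_of_pid hG y v
      obtain ⟨w, rfl⟩ := tensorMap_surjective (RefHull.bidualMap ((Scheme.Modules.pullback i).obj A)) (RefHull.bidualMap ((Scheme.Modules.pullback i).obj B)) y
        (bidual_surjective_of_pid (isCoh_pull i hA.1) y) (bidual_surjective_of_pid (isCoh_pull i hB.1) y) v'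
      refine ⟨RefHull.stalkMapₗ q y w, ?_⟩
      rw [← stalkMapₗ_mspec]
      change RefHull.stalkMapₗ q η _ = RefHull.stalkMapₗ q η
        ((LinearEquiv.ofBijective (RefHull.stalkMapₗ a η) ha).symm _)
      refine congrArg (RefHull.stalkMapₗ q η) (ha.1 ?_)
      refine Eq.trans ?_ ((LinearEquiv.ofBijective (RefHull.stalkMapₗ a η) ha).apply_symm_apply _).symm
      rw [stalkMapₗ_mspec]
      exact congrArg _ (stalkMapₗ_comp _ _ _ _)
  have hmb : Function.Bijective (RefHull.stalkMapₗ m η) := by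
    rw [hm]
    exact hq.comp (LinearEquiv.ofBijective (RefHull.stalkMapₗ a η) ha).symm.bijective
  refine ⟨m, (mono_iff_stalk m).2 fun y => ?_, hmb.2⟩
  intro v v' h
  refine mspec_gen_injective (isCoh_ddual hG) (isReflexive_ddual hG) y (hmb.1 ?_)
  have h' : RefHull.stalkMapₗ m y v = RefHull.stalkMapₗ m y v' := h
  exact (stalkMapₗ_mspec _ _ _).trans ((congrArg _ h').trans (stalkMapₗ_mspec _ _ _).symm)

end Groth.Misc13.PairHull
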