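import Groth.Agent.Misc13.KInt
import Groth.Agent.Misc13.KIntRef
import Groth.Agent.Inter.Positive
import Groth.Agent.Chow.AmpleTwist
import Groth.Agent.PropsBasic.ProjImmAmple
import Groth.Agent.Ega2Proj.RelAmple
import Groth.Agent.Variety2.ProjBasics
import Groth.Prelude.Def_PicGrp

/-!
Intersection numbers with inverses of ample modules are nonnegative, and they span the intersection
numbers with arbitrary invertible modules.
-/

set_option autoImplicit false
universe u

open CategoryTheory CategoryTheory.Limits AlgebraicGeometry TopologicalSpace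

namespace Groth.Misc13.PairPos

open Groth.Misc13.KNilp Groth.Misc13.KC1 Groth.Misc13.KInt Groth.KTheory Groth.KTheory.Devissage
  Groth.RefRank Groth.QCohMod

theorem exists_isAmple {k : Type u} [Field k] {X : Scheme.{u}} [CompactSpace X] {N : ℕ}
    (ι : X ⟶ CohB1.ProjSpace N k) [IsClosedImmersion ι] : ∃ H : X.Modules, CohB1.IsAmple H := by
  have : CompactSpace (Proj (CohB1.polyGrading N k)) := by
    have hp : IsProper (CohB1.ProjSpace.toSpec N k) := Groth.Variety2.isProper_projSpace_toSpec N k
    have : UniversallyClosed (CohB1.ProjSpace.toSpec N k) := hp.toUniversallyClosed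
    have h : CompactSpace (CohB1.ProjSpace N k) :=
      QuasiCompact.compactSpace_of_compactSpace (CohB1.ProjSpace.toSpec N k)
    exact h
  obtain ⟨d, -, hd⟩ := Groth.PropsBasic.ProjImmAmple.exists_isAmple_pullback
    (𝟙 (Proj (CohB1.polyGrading N k)))
  exact ⟨_, Groth.Ega2Proj.isAmple_pullback ι ι.isClosedEmbedding.isInducing hd⟩

variable {k : Type u} [Field k] {X : Scheme.{u}} [X.Over (Spec (CommRingCat.of k))]
  [IsProper (X ↘ Spec (CommRingCat.of k))] [AlgebraicGeometry.IsNoetherian X]
  {d : ℕ} (hd : topologicalKrullDim X ≤ (d : ℕ))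

theorem chi_nonneg {n : ℕ} (M : Fin n → X.Modules) (hM : ∀ i, Groth.Inter.IsAmpleInv (M i))
    {G : X.Modules} (hG : Coh.IsCoh G) (hs : CohB1.support G ⊆ {x | dimFn X x ≤ n}) :
    0 ≤ chi k hd (prodC1 M (fun i => (hM i).isInvertible) (kc G)) := by
  rw [← KInt.intNum_eq k hd M _ hG, Groth.Inter.intNum_eq k hd]
  refine Groth.Inter.delta_nonneg k (by simpa [List.forall_mem_ofFn_iff] using hM) hG ?_
  rw [Groth.Variety2.Dim.dim_closed (Groth.CohTwo.isClosed_support G hG), List.length_ofFn]
  refine iSup₂_le fun x hx => ?_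
  have h : ((Order.height x).toNat : ℤ) ≤ n := hs hx
  obtain ⟨a, ha⟩ := ENat.ne_top_iff_exists.1
    (Groth.Variety2.Dim.height_ne_top (X ↘ Spec (CommRingCat.of k)) x)
  rw [← ha] at h ⊢
  rw [ENat.toNat_coe, Nat.cast_le] at h
  exact_mod_cast h

variable (k) in
/-- The functions attached to inverses of ample modules. -/
def posSet (n : ℕ) : Set (SGA6.Kcoh X →+ ℤ) :=
  {Φ | ∃ (M : Fin n → X.Modules) (h : ∀ i, Groth.Inter.IsAmpleInv (M i)),
    Φ = (chi k hd).comp (prodC1 M fun i => (h i).isInvertible)}

variable [IsIntegral X]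

/-- Intersection numbers are differences of those with inverses of ample modules, on small classes. -/
theorem exists_pos {dim : ℕ} (hdim : topologicalKrullDim X = (dim : ℕ)) {H : X.Modules}
    (hH : CohB1.IsAmple H) : ∀ {n : ℕ} (M : Fin n → X.Modules) (h : ∀ i, PicF.IsInvertible (M i)),
    ∃ Φ ∈ AddSubgroup.closure (posSet k hd n), ∀ c ∈ supSub {x | dimFn X x ≤ (n : ℤ)},
      chi k hd (prodC1 M h c) = Φ c := by
  intro n
  induction n with
  | zero =>
    intro M h
    refine ⟨(chi k hd).comp (prodC1 M h), AddSubgroup.subset_closure ⟨M, fun i => i.elim0, rfl⟩,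
      fun c _ => rfl⟩
  | succ n ih =>
    intro M h
    have hδ := isDimFun_dimFn (X ↘ Spec (CommRingCat.of k))
    obtain ⟨L, hL, hLM⟩ := Groth.PicAux.exists_isInverseOf (h 0)
    have hML := Groth.PicAux.isInverseOf_symm hLM
    obtain ⟨m, hm, ht⟩ := Groth.Chow.exists_twist_isAmple hH hL
    have hA := (ht m le_rfl).1
    have hP := (Groth.Chow.exists_twist_isAmple hH (Groth.LocFree.isInvertible_iff_ofRank_one.2
      (Groth.LocFree.isFinLocFreeOfRank_unit X)))
    obtain ⟨m', hm', ht'⟩ := hP
    -- a single power working for both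
    set t := max m m'
    set P := CohB1.tensorPow H t
    have hPA : CohB1.IsAmple P := Groth.Ega2Proj.isAmple_of_iso
      ((Groth.PicAux.exists_braiding _ _).choose ≪≫ (Groth.PicAux.exists_leftUnitor P).choose)
      (ht' t (le_max_right _ _)).1
    have hA : CohB1.IsAmple (CohB1.tensorMod P L) := (ht t (le_max_left _ _)).1
    obtain ⟨B, hB, hPB⟩ := Groth.PicAux.exists_isInverseOf hPA.1
    have hA' : ClSub.IsInverseOf (CohB1.tensorMod P L) (CohB1.tensorMod (M 0) B) := by
      obtain ⟨e⟩ := hPB
      obtain ⟨e'⟩ := hLM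
      exact ⟨(Groth.PicAux.exists_associator P L _).choose ≪≫
        PicGrp.tensorModIso (Iso.refl P) ((Groth.PicAux.exists_associator L (M 0) B).choose.symm ≪≫
          PicGrp.tensorModIso ((Groth.PicAux.exists_braiding L (M 0)).choose ≪≫ e')
            (Iso.refl B) ≪≫ (Groth.PicAux.exists_leftUnitor B).choose) ≪≫ e⟩
    have hAB : PicF.IsInvertible (CohB1.tensorMod (M 0) B) := KIntRef.isInvertible_tensor (h 0) hB
    obtain ⟨Φ', hΦ', hΦ⟩ := ih (fun i => M i.succ) fun i => h i.succ
    refine ⟨Φ'.comp (c1 hAB) - Φ'.comp (c1 hB), ?_, fun c hc => ?_⟩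
    · have key : ∀ (A : X.Modules) (hA : PicF.IsInvertible A), Groth.Inter.IsAmpleInv A →
          Φ'.comp (c1 hA) ∈ AddSubgroup.closure (posSet k hd (n + 1)) := by
        intro A hA hAp
        clear hΦ
        induction hΦ' using AddSubgroup.closure_induction with
        | mem φ hφ =>
          obtain ⟨M', h', rfl⟩ := hφ
          refine AddSubgroup.subset_closure ⟨Fin.cons A M', fun i => ?_, ?_⟩
          · induction i using Fin.cases with
            | zero => exact hAp
            | succ i => exact h' i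
          · ext; rfl
        | zero => rw [AddMonoidHom.zero_comp]; exact zero_mem _
        | add p q _ _ hp hq => rw [AddMonoidHom.add_comp]; exact add_mem hp hq
        | neg p _ hp =>
          have e : (-p).comp (c1 hA) = -(p.comp (c1 hA)) := rfl
          rw [e]; exact neg_mem hp
      exact sub_mem (key _ hAB ⟨_, hA, hA'⟩) (key _ hB ⟨_, hPA, hPB⟩)
    · have hn : dimFn X (genericPoint ↥X) = dim := dimFn_genericPoint hdim
      have h1 : ∀ {A : X.Modules} (hA : PicF.IsInvertible A),
          c1 hA c ∈ supSub {x | dimFn X x ≤ (n : ℤ)} := fun hA => by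
        have := c1_mem hδ hA _ hc
        rwa [show ((n + 1 : ℕ) : ℤ) - 1 = (n : ℤ) by push_cast; ring] at this
      have h2 : prodC1 (fun i => M i.succ) (fun i => h i.succ) (c1 (h 0) (c1 hB c)) = 0 := by
        refine KIntRef.eq_zero_of_neg hδ hdim hn (m := (n : ℤ) - 1 - n) (by omega)
          (prodC1_mem hδ _ _ _ _ (c1_mem hδ (h 0) _ (h1 hB)))
      have e : c1 (h 0) c = c1 hAB c - c1 hB c + c1 (h 0) (c1 hB c) := by
        rw [c1_tensor (h 0) hB hAB]
        simp only [AddMonoidHom.sub_apply, AddMonoidHom.add_apply, AddMonoidHom.comp_apply]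
        abel
      change chi k hd (prodC1 (fun i => M i.succ) _ (c1 (h 0) c)) = _
      rw [e, map_add, map_sub, map_add, map_sub, h2, map_zero, add_zero, hΦ _ (h1 hAB), hΦ _ (h1 hB)]
      rfl

end Groth.Misc13.PairPos
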