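import Groth.Agent.RefRank.Divisor
import Groth.Agent.RefRank.RefPowLoc
import Groth.Agent.QCohMod.Pullback
import Groth.Agent.QCohMod.PullbackQCoh
import Groth.Agent.QCohMod.Coherent
import Groth.Agent.CohTwo.PushStalkModule
import Groth.Agent.Cycles.SheafCyc

/-!
The map from a module to the direct image of the reflexive hull of its restriction to the
normalization of the closure of a point.
-/

set_option autoImplicit false
universe u

open CategoryTheory CategoryTheory.Limits AlgebraicGeometry TopologicalSpace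
open scoped TensorProduct

namespace Groth.Misc13.PairPsi

open Groth.QCohMod Groth.RefRank
open Groth.CohTwo (pushStalk pushStalk_germ pushStalk_smul)

variable {X Y : Scheme.{u}} (i : Y ⟶ X)

theorem isStalkBasis_pullGerm {M : X.Modules} {y : Y} {t : M.presheaf.stalk (i y)}
    (ht : IsStalkBasis M (i y) t) :
    IsStalkBasis ((Scheme.Modules.pullback i).obj M) y (pullGerm i M y t) := by
  let := stalkAlg i y
  let et : X.presheaf.stalk (i y) ≃ₗ[X.presheaf.stalk (i y)] M.presheaf.stalk (i y) :=
    LinearEquiv.ofBijective (LinearMap.toSpanSingleton (X.presheaf.stalk (i y)) _ t) ht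
  let e := ((TensorProduct.AlgebraTensorModule.rid (X.presheaf.stalk (i y)) (Y.presheaf.stalk y)
    (Y.presheaf.stalk y)).symm.trans (TensorProduct.AlgebraTensorModule.congr
      (LinearEquiv.refl (Y.presheaf.stalk y) (Y.presheaf.stalk y)) et)).trans (pullStalkEquiv i M y)
  have he : (e : Y.presheaf.stalk y → ((Scheme.Modules.pullback i).obj M).presheaf.stalk y) =
      fun a => a • pullGerm i M y t := by
    funext a
    show pullStalkHom i M y (a ⊗ₜ[X.presheaf.stalk (i y)] et 1) = _
    rw [show et 1 = t from one_smul (X.presheaf.stalk (i y)) _]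
    exact pullStalkHom_tmul i M y a _
  rw [IsStalkBasis, ← he]
  exact e.bijective

theorem pushStalk_injective [IsFinite i] (M : Y.Modules) {z : Y}
    (hfib : ∀ y, i y = i z → y = z) : Function.Injective (pushStalk i M z) := by
  refine (injective_iff_map_eq_zero _).2 fun v hv => ?_
  obtain ⟨U, hU, s, rfl⟩ := exists_germ _ (i z) v
  erw [pushStalk_germ] at hv
  obtain ⟨V, hzV, i₁, i₂, h⟩ := TopCat.Presheaf.germ_eq M.presheaf (U := i ⁻¹ᵁ U) (V := i ⁻¹ᵁ U)
    z hU hU (show Γ(M, i ⁻¹ᵁ U) from s) 0 (hv.trans (map_zero _).symm)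
  rw [map_zero] at h
  let O : X.Opens := U ⊓ ⟨(i '' (V : Set Y)ᶜ)ᶜ, (i.isClosedMap _ V.2.isClosed_compl).isOpen_compl⟩
  have hO : i z ∈ O := ⟨hU, fun ⟨y, hy, he⟩ => hy (hfib y he ▸ hzV)⟩
  have hle : i ⁻¹ᵁ O ≤ V := fun y hy => not_not.1 fun hyV => hy.2 ⟨y, hyV, rfl⟩
  rw [← germ_res ((Scheme.Modules.pushforward i).obj M) (inf_le_left : O ≤ U) (i z) hO s]
  have e : res ((Scheme.Modules.pushforward i).obj M) (inf_le_left : O ≤ U) s = 0 := by
    change M.presheaf.map (homOfLE (i.preimage_mono (inf_le_left : O ≤ U))).op s = 0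
    rw [show (homOfLE (i.preimage_mono (inf_le_left : O ≤ U))).op = i₁.op ≫ (homOfLE hle).op from rfl,
      M.presheaf.map_comp]
    exact (congrArg (M.presheaf.map (homOfLE hle).op) h).trans (map_zero _)
  rw [e, map_zero]

theorem pushStalk_stalkMapₗ {M N : Y.Modules} (g : M ⟶ N) (z : Y)
    (v : ((Scheme.Modules.pushforward i).obj M).presheaf.stalk (i z)) :
    pushStalk i N z (RefHull.stalkMapₗ ((Scheme.Modules.pushforward i).map g) (i z) v) =
      RefHull.stalkMapₗ g z (pushStalk i M z v) := by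
  obtain ⟨U, hU, s, rfl⟩ := exists_germ _ (i z) v
  refine (congrArg _ (RefHull.stalkMapₗ_germ ((Scheme.Modules.pushforward i).map g) (i z) hU s)).trans ?_
  refine (pushStalk_germ i N z hU _).trans ?_
  refine Eq.trans ?_ (congrArg (RefHull.stalkMapₗ g z) (pushStalk_germ i M z hU s).symm)
  exact (RefHull.stalkMapₗ_germ g (U := i ⁻¹ᵁ U) z hU s).symm

theorem pushStalk_unit (M : X.Modules) (z : Y) (v : M.presheaf.stalk (i z)) :
    pushStalk i ((Scheme.Modules.pullback i).obj M) z
        (RefHull.stalkMapₗ ((Scheme.Modules.pullbackPushforwardAdjunction i).unit.app M) (i z) v) =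
      pullGerm i M z v := by
  obtain ⟨U, hU, s, rfl⟩ := exists_germ M (i z) v
  refine (congrArg _ (RefHull.stalkMapₗ_germ
    ((Scheme.Modules.pullbackPushforwardAdjunction i).unit.app M) (i z) hU s)).trans ?_
  exact (pushStalk_germ i _ z hU _).trans (pullGerm_germ i M z hU s).symm

theorem isCoh_pull {M : X.Modules} (hM : Coh.IsCoh M) :
    Coh.IsCoh ((Scheme.Modules.pullback i).obj M) :=
  haveI := hM.1
  ⟨isQCoh_pullback_obj i M, isFT_pullback i M hM.2⟩

/-- The reflexive hull of the restriction. -/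
noncomputable abbrev hull (M : X.Modules) : Y.Modules :=
  RefHull.ddual ((Scheme.Modules.pullback i).obj M)

/-- `M → i_* (i^* M)^**`. -/
noncomputable def psi (M : X.Modules) : M ⟶ (Scheme.Modules.pushforward i).obj (hull i M) :=
  (Scheme.Modules.pullbackPushforwardAdjunction i).unit.app M ≫
    (Scheme.Modules.pushforward i).map (RefHull.bidualMap ((Scheme.Modules.pullback i).obj M))

theorem pushStalk_psi (M : X.Modules) (z : Y) (v : M.presheaf.stalk (i z)) :
    pushStalk i (hull i M) z (RefHull.stalkMapₗ (psi i M) (i z) v) =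
      RefHull.stalkMapₗ (RefHull.bidualMap ((Scheme.Modules.pullback i).obj M)) z
        (pullGerm i M z v) := by
  have e : RefHull.stalkMapₗ (psi i M) (i z) v = RefHull.stalkMapₗ
      ((Scheme.Modules.pushforward i).map (RefHull.bidualMap ((Scheme.Modules.pullback i).obj M))) _
      (RefHull.stalkMapₗ ((Scheme.Modules.pullbackPushforwardAdjunction i).unit.app M) (i z) v) :=
    stalkMapₗ_comp _ _ _ v
  rw [e, pushStalk_stalkMapₗ, pushStalk_unit]

variable [IsIntegral Y] [IsLocallyNoetherian Y] [IsFinite i]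
  (hfib : ∀ y, i y = i (genericPoint ↥Y) → y = genericPoint ↥Y)
  (hsurj : Function.Surjective (i.stalkMap (genericPoint ↥Y)))

omit [IsFinite i] in
theorem isRef1_hull {M : X.Modules} (hM : Coh.IsCoh M)
    {t : M.presheaf.stalk (i (genericPoint ↥Y))} (ht : IsStalkBasis M _ t) :
    RefHull.IsRef1 (hull i M) :=
  isRef1_of (isCoh_ddual (isCoh_pull i hM)) (isReflexive_ddual (isCoh_pull i hM))
    (isRankOne_ddual (isCoh_pull i hM) ⟨_, isStalkBasis_pullGerm i ht⟩)

include hfib in
theorem psi_smul_eq_zero {M : X.Modules} (hM : Coh.IsCoh M)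
    {t : M.presheaf.stalk (i (genericPoint ↥Y))} (ht : IsStalkBasis M _ t)
    (a : X.presheaf.stalk (i (genericPoint ↥Y))) :
    RefHull.stalkMapₗ (psi i M) _ (a • t) = 0 ↔ a ∈ IsLocalRing.maximalIdeal _ := by
  have hb := isStalkBasis_pullGerm i ht
  have hinj := (bidual_gen_bijective (isCoh_pull i hM)).1
  rw [← (pushStalk_injective i (hull i M) hfib).eq_iff, map_zero, pushStalk_psi, ← map_zero
    (RefHull.stalkMapₗ (RefHull.bidualMap ((Scheme.Modules.pullback i).obj M)) (genericPoint ↥Y)),
    hinj.eq_iff, pullGerm_smul]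
  let _ : Field (Y.presheaf.stalk (genericPoint ↥Y)) := inferInstanceAs (Field Y.functionField)
  constructor
  · intro h
    have h0 : i.stalkMap (genericPoint ↥Y) a = 0 :=
      hb.1 (a₁ := i.stalkMap (genericPoint ↥Y) a) (a₂ := 0) (by dsimp only; rw [h, zero_smul])
    intro hu
    exact (hu.map (i.stalkMap (genericPoint ↥Y)).hom).ne_zero h0
  · intro ha
    have h0 : i.stalkMap (genericPoint ↥Y) a = 0 := by
      by_contra h
      exact (IsLocalRing.mem_maximalIdeal _).1 ha
        ((isUnit_map_iff (i.stalkMap (genericPoint ↥Y)).hom a).1 (isUnit_iff_ne_zero.2 h))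
    rw [h0, zero_smul]

include hfib hsurj in
theorem psi_surjective {M : X.Modules} (hM : Coh.IsCoh M)
    {t : M.presheaf.stalk (i (genericPoint ↥Y))} (ht : IsStalkBasis M _ t) :
    Function.Surjective (RefHull.stalkMapₗ (psi i M) (i (genericPoint ↥Y))) := by
  intro z
  obtain ⟨b, hb⟩ := (bidual_gen_bijective (isCoh_pull i hM)).2 (pushStalk i _ _ z)
  obtain ⟨a', rfl⟩ := (isStalkBasis_pullGerm i ht).2 b
  obtain ⟨a, rfl⟩ := hsurj a'
  refine ⟨a • t, pushStalk_injective i (hull i M) hfib ?_⟩
  rw [pushStalk_psi, pullGerm_smul]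
  exact hb

end Groth.Misc13.PairPsi
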