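import Groth.Agent.Misc13.RatFuncBC
import Groth.Agent.Misc13.HodgeProper
import Groth.Agent.HilbStab.BC.CurvBC
import Groth.Agent.HilbStab.BC.Pull
import Groth.Agent.FBaseGeom.Dim
import Groth.Agent.QCohMod.SupportPullback
import Groth.Agent.Inter.SectionDivisor

/-!
# Base change to `k(t)` and iterated differences
-/

set_option autoImplicit false

universe u

open CategoryTheory CategoryTheory.Limits AlgebraicGeometry TopologicalSpace Opposite

namespace Groth.Misc13.PencilBC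

open Groth.Inter Groth.PicAux Groth.HilbStab.BC Groth.PropsBasic.Ample
open Groth.CohBase (IsBC toSec isAffineHom_of_bc isPushout_toSec)

variable (k : Type u) [Field k] (X : Scheme.{u}) [X.Over (Spec (CommRingCat.of k))]

/-- The base change to `k(t)`. -/
noncomputable abbrev Y : Scheme.{u} := Curv2.bc k X (RatFunc k)

/-- The projection. -/
noncomputable abbrev g : Y k X ⟶ X := Curv2.bcFst k X (RatFunc k)

noncomputable instance : (Y k X).Over (Spec (CommRingCat.of (RatFunc k))) := overBC k X (RatFunc k)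

theorem isBC : IsBC (A := k) (A' := RatFunc k) (g k X) := isBC_bc k X (RatFunc k)

variable [IsProper (X ↘ Spec (CommRingCat.of k))]

instance : IsProper (Y k X ↘ Spec (CommRingCat.of (RatFunc k))) := isProper_bc (isBC k X)

instance : IsAffineHom (g k X) := isAffineHom_of_bc (isBC k X)

theorem isIntegral [IsIntegral X] : IsIntegral (Y k X) := by
  have hdom : ∀ V : X.Opens, IsAffineOpen V → Nonempty V →
      IsDomain Γ(Y k X, g k X ⁻¹ᵁ V) := fun V hV _ =>
    RatFuncBC.isDomain (isPushout_toSec (isBC k X) hV)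
  have haff : ∀ V : X.Opens, IsAffineOpen V → IsAffineOpen (g k X ⁻¹ᵁ V) := fun V hV => hV.preimage _
  have hred : IsReduced (Y k X) := by
    have : ∀ z : Y k X, _root_.IsReduced ((Y k X).presheaf.stalk z) := fun z => by
      obtain ⟨V, hV, hzV, -⟩ := exists_isAffineOpen_mem_and_subset (X := X) (x := g k X z) (U := ⊤) trivial
      have := hdom V hV ⟨⟨_, hzV⟩⟩
      letI : Algebra Γ(Y k X, g k X ⁻¹ᵁ V) ((Y k X).presheaf.stalk z) :=
        TopCat.Presheaf.algebra_section_stalk (Y k X).presheaf (⟨z, hzV⟩ : (g k X ⁻¹ᵁ V : (Y k X).Opens))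
      have : IsLocalization.AtPrime ((Y k X).presheaf.stalk z) ((haff V hV).primeIdealOf ⟨z, hzV⟩).asIdeal :=
        (haff V hV).isLocalization_stalk ⟨z, hzV⟩
      exact isReduced_localizationPreserves ((haff V hV).primeIdealOf ⟨z, hzV⟩).asIdeal.primeCompl ((Y k X).presheaf.stalk z) (inferInstanceAs (_root_.IsReduced Γ(Y k X, g k X ⁻¹ᵁ V)))
    exact isReduced_of_isReduced_stalk (Y k X)
  have : PreirreducibleSpace (Y k X) := by
    refine PreirreducibleSpace.of_forall_nonempty_inter fun O₁ O₂ h₁ h₂ ⟨z₁, hz₁⟩ ⟨z₂, hz₂⟩ => ?_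
    obtain ⟨V₁, hV₁, hzV₁, -⟩ := exists_isAffineOpen_mem_and_subset (X := X) (x := g k X z₁) (U := ⊤) trivial
    obtain ⟨V₂, hV₂, hzV₂, -⟩ := exists_isAffineOpen_mem_and_subset (X := X) (x := g k X z₂) (U := ⊤) trivial
    have hirr : ∀ V : X.Opens, IsAffineOpen V → Nonempty V →
        IsPreirreducible ((g k X ⁻¹ᵁ V : (Y k X).Opens) : Set (Y k X)) := fun V hV hne => by
      have := hdom V hV hne
      rw [← (haff V hV).range_fromSpec, ← Set.image_univ]
      exact (PreirreducibleSpace.isPreirreducible_univ).image _ (haff V hV).fromSpec.continuous.continuousOn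
    have hmid : ((V₁ ⊓ V₂ : X.Opens) : Set X).Nonempty :=
      nonempty_preirreducible_inter V₁.2 V₂.2 ⟨_, hzV₁⟩ ⟨_, hzV₂⟩
    obtain ⟨x, hx₁, hx₂⟩ := hmid
    obtain ⟨z, hz⟩ := FBaseGeom.surjective_bcπ (X ↘ Spec (CommRingCat.of k)) (RatFunc k) x
    have hz' : g k X z = x := hz
    obtain ⟨w, hw₁, hwO, hw₂⟩ := hirr V₁ hV₁ ⟨⟨_, hzV₁⟩⟩ O₁ (g k X ⁻¹ᵁ V₂ : (Y k X).Opens) h₁
      (g k X ⁻¹ᵁ V₂).2 ⟨z₁, hzV₁, hz₁⟩ ⟨z, show g k X z ∈ V₁ from hz'.symm ▸ hx₁,
        show g k X z ∈ V₂ from hz'.symm ▸ hx₂⟩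
    obtain ⟨v, -, hv₂, hvO⟩ := hirr V₂ hV₂ ⟨⟨_, hzV₂⟩⟩ O₁ O₂ h₁ h₂ ⟨w, hw₂, hwO⟩ ⟨z₂, hzV₂, hz₂⟩
    exact ⟨v, hv₂, hvO⟩
  have : IrreducibleSpace (Y k X) :=
    { toNonempty := ⟨(FBaseGeom.surjective_bcπ (X ↘ Spec (CommRingCat.of k)) (RatFunc k) (genericPoint X)).choose⟩ }
  exact isIntegral_of_irreducibleSpace_of_isReduced (Y k X)

theorem dim_eq : topologicalKrullDim (Y k X) = topologicalKrullDim X :=
  FBaseGeom.dim_bc (X ↘ Spec (CommRingCat.of k)) (RatFunc k)

/-- The base change does not raise the height. -/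
theorem height_le {z : Y k X} {x : X} (h : g k X z ∈ closure ({x} : Set X)) :
    Order.height z ≤ Order.height x := by
  let f := X ↘ Spec (CommRingCat.of k)
  let D : Set (FBase.bc f (RatFunc k)) := FBase.bcπ f (RatFunc k) ⁻¹' closure {x}
  let z' : ↥D := ⟨z, h⟩
  have hdim := FBaseGeom.dim_component_preimage f (RatFunc k) isClosed_closure
    isIrreducible_singleton.closure (irreducibleComponent_mem_irreducibleComponents z')
  rw [Variety2.Dim.dim_closure_singleton] at hdim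
  have hle : topologicalKrullDim (closure ({z'} : Set ↥D)) ≤
      topologicalKrullDim (irreducibleComponent z') := LocCohTransform.topologicalKrullDim_mono
    (closure_minimal (Set.singleton_subset_iff.2 mem_irreducibleComponent) isClosed_irreducibleComponent)
  have hcl : IsClosed D := isClosed_closure.preimage (FBase.bcπ f (RatFunc k)).continuous
  have he : topologicalKrullDim (closure ({z'} : Set ↥D)) = topologicalKrullDim (closure ({z} : Set (Y k X))) := by
    rw [(hcl.isClosedEmbedding_subtypeVal.isEmbedding.homeomorphImage _).isHomeomorph.topologicalKrullDim_eq,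
      ← hcl.isClosedEmbedding_subtypeVal.closure_image_eq, Set.image_singleton]
    rfl
  rw [he, hdim, Variety2.Dim.dim_closure_singleton] at hle
  exact WithBot.coe_le_coe.1 hle

/-- Iterated differences do not change. -/
theorem delta_bc : ∀ (l : List X.Modules), (∀ M ∈ l, PicF.IsInvertible M) → ∀ F : X.Modules, Coh.IsCoh F →
    delta (RatFunc k) (l.map (Scheme.Modules.pullback (g k X)).obj)
      ((Scheme.Modules.pullback (g k X)).obj F) = delta k l F := by
  intro l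
  induction l with
  | nil =>
    intro _ F hF
    have := hF.1
    exact euler_bc k X (RatFunc k) F
  | cons a l ih =>
    intro hl F hF
    have hN : IsNoetherian X := isNoetherian k
    have hl' : ∀ M ∈ l, PicF.IsInvertible M := fun M hM => hl M (List.mem_cons_of_mem _ hM)
    rw [List.map_cons, delta_cons, delta_cons, ih hl' F hF,
      ← ih hl' _ (isCoh_twist (hl a List.mem_cons_self) hF),
      delta_congr (RatFunc k) _ ⟨((exists_pullback_tensorMod (g k X) a F).choose).symm⟩]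

/-- Krull's theorem for the zero locus of a section, with a specialization. -/
theorem exists_height_specializes {K : Type u} [Field K] {W : Scheme.{u}} [W.Over (Spec (CommRingCat.of K))]
    [IsProper (W ↘ Spec (CommRingCat.of K))] [IsIntegral W] {M : W.Modules} (hM : PicF.IsInvertible M)
    (t : Γ(M, (⊤ : W.Opens))) {x : W} (hx : x ∉ gloc t) :
    ∃ y, y ⤳ x ∧ y ∉ gloc t ∧ topologicalKrullDim W ≤ (Order.height y : ℕ∞) + 1 := by
  have hNoe : IsNoetherian W := isNoetherian K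
  obtain ⟨V, e, hV, hxV, he⟩ := exists_affine_gen_mem hM x
  obtain ⟨c, hc⟩ := he.exists_coeff le_rfl (res M le_top t)
  rw [res_self] at hc
  have hgl := Groth.PropsBasic.Ample.gloc_inf_eq_basicOpen he hc
  have hmem : ∀ (w : W) (hwV : w ∈ V), w ∈ gloc t ↔ c ∉ (hV.primeIdealOf ⟨w, hwV⟩).asIdeal := by
    intro w hwV
    have h1 : w ∈ gloc t ↔ w ∈ W.basicOpen c :=
      ⟨fun h => hgl ▸ ⟨h, hwV⟩, fun h => (hgl.symm.le h).1⟩
    rw [h1]
    have h2 : hV.primeIdealOf ⟨w, hwV⟩ ∈ hV.fromSpec ⁻¹ᵁ W.basicOpen c ↔ w ∈ W.basicOpen c := by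
      change hV.fromSpec (hV.primeIdealOf ⟨w, hwV⟩) ∈ W.basicOpen c ↔ _
      rw [hV.fromSpec_primeIdealOf ⟨w, hwV⟩]
    rw [← h2, hV.fromSpec_preimage_basicOpen]
    rfl
  let P := hV.primeIdealOf ⟨x, hxV⟩
  have hcP : c ∈ P.asIdeal := by
    by_contra hn
    exact hx ((hmem x hxV).2 hn)
  obtain ⟨q, hq, hqP⟩ := Ideal.exists_minimalPrimes_le (I := Ideal.span {c}) (J := P.asIdeal)
    ((Ideal.span_singleton_le_iff_mem _).2 hcP)
  have := hq.isPrime
  have : IsNoetherianRing Γ(W, V) := IsLocallyNoetherian.component_noetherian (X := W) ⟨V, hV⟩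
  have hh : q.height ≤ 1 := Ideal.height_le_one_of_isPrincipal_of_mem_minimalPrimes _ q hq
  let Q : PrimeSpectrum Γ(W, V) := ⟨q, inferInstance⟩
  let y : W := hV.fromSpec Q
  have hyV : y ∈ V := hV.range_fromSpec.le ⟨Q, rfl⟩
  refine ⟨y, ?_, ?_, ?_⟩
  · exact (((PrimeSpectrum.le_iff_specializes Q P).1 hqP).map hV.fromSpec.continuous).trans
      (specializes_of_eq (hV.fromSpec_primeIdealOf ⟨x, hxV⟩))
  · rw [hmem y hyV, not_not,
      show hV.primeIdealOf ⟨y, hyV⟩ = Q from hV.fromSpec.isOpenEmbedding.injective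
        (hV.fromSpec_primeIdealOf ⟨y, hyV⟩)]
    exact hq.1.2 (Ideal.mem_span_singleton_self c)
  · rw [← Variety2.Dim.ringKrullDim_stalk_add_height (W ↘ Spec (CommRingCat.of K)) y, add_comm]
    refine add_le_add le_rfl ?_
    letI := TopCat.Presheaf.algebra_section_stalk W.presheaf (⟨y, hyV⟩ : V)
    haveI hloc : IsLocalization.AtPrime (W.presheaf.stalk y) q := hV.isLocalization_stalk' Q hyV
    rw [IsLocalization.AtPrime.ringKrullDim_eq_height q (W.presheaf.stalk y)]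
    exact WithBot.coe_le_coe.2 hh

/-- Over the frame of `s₀` the locus `s₁ = t s₀` has at most one generic point. -/
theorem exists_generic [IsIntegral X] {U : X.Opens} (hU : IsAffineOpen U)
    (f : Γ(X, U)) {z : Y k X} (hz : z ∈ g k X ⁻¹ᵁ U)
    (hzf : z ∉ (Y k X).basicOpen ((g k X).app U f - toSec (RatFunc k) (g k X ⁻¹ᵁ U) RatFunc.X)) :
    ∃ ζ : ↥(Y k X), ζ ∈ g k X ⁻¹ᵁ U ∧
      ζ ∉ (Y k X).basicOpen ((g k X).app U f - toSec (RatFunc k) (g k X ⁻¹ᵁ U) RatFunc.X) ∧
      ∀ w ∈ g k X ⁻¹ᵁ U,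
        w ∉ (Y k X).basicOpen ((g k X).app U f - toSec (RatFunc k) (g k X ⁻¹ᵁ U) RatFunc.X) → ζ ⤳ w := by
  have hne : Nonempty U := ⟨⟨_, hz⟩⟩
  have hV : IsAffineOpen (g k X ⁻¹ᵁ U) := hU.preimage _
  set c := (g k X).app U f - toSec (RatFunc k) (g k X ⁻¹ᵁ U) RatFunc.X
  have hmem : ∀ (w : Y k X) (hw : w ∈ g k X ⁻¹ᵁ U),
      w ∈ (Y k X).basicOpen c ↔ c ∉ (hV.primeIdealOf ⟨w, hw⟩).asIdeal := by
    intro w hw
    have h2 : hV.primeIdealOf ⟨w, hw⟩ ∈ hV.fromSpec ⁻¹ᵁ (Y k X).basicOpen c ↔ w ∈ (Y k X).basicOpen c := by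
      change hV.fromSpec (hV.primeIdealOf ⟨w, hw⟩) ∈ (Y k X).basicOpen c ↔ _
      rw [hV.fromSpec_primeIdealOf ⟨w, hw⟩]
    rw [← h2, hV.fromSpec_preimage_basicOpen]
    rfl
  have hcz : c ∈ (hV.primeIdealOf ⟨z, hz⟩).asIdeal := by
    by_contra h
    exact hzf ((hmem z hz).2 h)
  have hp := RatFuncBC.span_isPrime (isPushout_toSec (isBC k X) hU) f
    (hV.primeIdealOf ⟨z, hz⟩).isPrime hcz
  let Q : PrimeSpectrum Γ(Y k X, g k X ⁻¹ᵁ U) := ⟨Ideal.span {c}, hp⟩
  have hQU : hV.fromSpec Q ∈ g k X ⁻¹ᵁ U := hV.range_fromSpec.le ⟨Q, rfl⟩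
  have hQ : hV.primeIdealOf ⟨_, hQU⟩ = Q :=
    hV.fromSpec.isOpenEmbedding.injective (hV.fromSpec_primeIdealOf ⟨_, hQU⟩)
  refine ⟨hV.fromSpec Q, hQU, fun h => ?_, fun w hw hwf => ?_⟩
  · have := (hmem _ hQU).1 h
    rw [hQ] at this
    exact this (Ideal.mem_span_singleton_self c)
  · have hsp : hV.fromSpec Q ⤳ hV.fromSpec (hV.primeIdealOf ⟨w, hw⟩) := by
      refine ((PrimeSpectrum.le_iff_specializes Q _).1 ?_).map hV.fromSpec.continuous
      refine (Ideal.span_singleton_le_iff_mem _).2 ?_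
      by_contra h
      exact hwf ((hmem w hw).2 h)
    exact hsp.trans (specializes_of_eq (hV.fromSpec_primeIdealOf ⟨w, hw⟩))

theorem basicOpen_nonempty [IsIntegral X] {U : X.Opens} (hU : IsAffineOpen U) (hne : Nonempty U)
    (f : Γ(X, U)) : ∃ w, w ∈ (Y k X).basicOpen ((g k X).app U f - toSec (RatFunc k) (g k X ⁻¹ᵁ U) RatFunc.X) := by
  have := isIntegral k X
  by_contra h
  push Not at h
  refine RatFuncBC.sub_ne_zero (isPushout_toSec (isBC k X) hU) f ?_
  exact (basicOpen_eq_bot_iff _).1 (eq_bot_iff.2 fun w hw => absurd hw (h w))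

end Groth.Misc13.PencilBC
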