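import Mathlib.RingTheory.PicardGroup
import Mathlib.RingTheory.Ideal.MinimalPrime.Noetherian
import Mathlib.RingTheory.Ideal.MinimalPrime.Basic
import Mathlib.RingTheory.Localization.FractionRing
import Mathlib.RingTheory.Ideal.Quotient.Operations
import Mathlib.RingTheory.Nilpotent.Lemmas

/-!
Surjectivity of `Pic A → Pic B` for a surjection `A → B` with an element `e` killing the kernel, whose image cuts out
a finite ring in the reduced Noetherian ring `B`.
-/

set_option autoImplicit false
set_option linter.style.haveILetI false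
set_option linter.unusedSectionVars false

universe u

open TensorProduct

namespace Groth.Misc13.PicSurj

section

variable {B : Type u} [CommRing B] {P : Type u} [AddCommGroup P] [Module B P] [Module.Invertible B P]

theorem dual_smul_comm (φ : Module.Dual B P) (x y : P) : φ x • y = φ y • x := by
  have := congrArg ((TensorProduct.lid B P).toLinearMap ∘ₗ φ.rTensor P) (Module.Invertible.tmul_comm (R := B) (m₁ := x) (m₂ := y))
  simpa using this

theorem exists_notMem (m : Ideal B) (hm : m ≠ ⊤) : ∃ (φ : Module.Dual B P) (y : P), φ y ∉ m := by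
  by_contra! h
  refine hm ((Ideal.eq_top_iff_one m).2 ?_)
  have key : ∀ t : Module.Dual B P ⊗[B] P, Module.Invertible.linearEquiv B P t ∈ m := fun t => by
    induction t using TensorProduct.induction_on with
    | zero => simp
    | tmul f z => exact h f z
    | add a b ha hb => simpa using m.add_mem ha hb
  simpa using key ((Module.Invertible.linearEquiv B P).symm 1)

theorem exists_notMem_finset (F : Finset (Ideal B)) (hF : ∀ m ∈ F, m.IsMaximal) :
    ∃ (φ : Module.Dual B P) (y : P), ∀ m ∈ F, φ y ∉ m := by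
  classical
  choose φ y hy using fun m : F => exists_notMem (P := P) m.1 (hF _ m.2).ne_top
  have hc : ∀ m : F, ∃ c : B, c ∉ m.1 ∧ ∀ k : F, k ≠ m → c ∈ k.1 := by
    intro m
    have h : ∀ k : F, ∃ a : B, a ∉ m.1 ∧ (k ≠ m → a ∈ k.1) := fun k => by
      rcases eq_or_ne k m with h | h
      · exact ⟨1, fun h1 => (hF _ m.2).ne_top ((Ideal.eq_top_iff_one _).2 h1), fun hne => absurd h hne⟩
      · obtain ⟨a, ha, ha'⟩ := SetLike.not_le_iff_exists.1 fun hle : k.1 ≤ m.1 =>
          h (Subtype.ext ((hF _ k.2).eq_of_le (hF _ m.2).ne_top hle))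
        exact ⟨a, ha', fun _ => ha⟩
    choose a ha ha' using h
    refine ⟨∏ k, a k, fun hmem => ?_, fun k hk => Ideal.prod_mem _ (Finset.mem_univ k) (ha' k hk)⟩
    obtain ⟨k, -, hk⟩ := ((hF _ m.2).isPrime.prod_mem_iff).1 hmem
    exact ha k hk
  choose c hc hc' using hc
  refine ⟨∑ m, c m • φ m, ∑ m, c m • y m, fun m hm hmem => ?_⟩
  let m' : F := ⟨m, hm⟩
  have h1 : ∀ k : F, k ≠ m' → c k ∈ m := fun k hk => hc' k m' hk.symm
  have h3 : c m' * (c m' * φ m' (y m')) ∈ m := by
    rw [← Ideal.Quotient.eq_zero_iff_mem] at hmem ⊢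
    rw [← hmem]
    simp only [LinearMap.sum_apply, LinearMap.smul_apply, map_sum, map_smul, smul_eq_mul, map_mul]
    have h0 : ∀ k : F, k ≠ m' → Ideal.Quotient.mk m (c k) = 0 := fun k hk => Ideal.Quotient.eq_zero_iff_mem.2 (h1 k hk)
    rw [Finset.sum_eq_single m' (fun k _ hk => by simp [h0 k hk]) (fun h => absurd (Finset.mem_univ _) h)]
    rw [Finset.sum_eq_single m' (fun k _ hk => by simp [h0 k hk]) (fun h => absurd (Finset.mem_univ _) h)]
  rcases (hF _ hm).isPrime.mem_or_mem h3 with h | h
  · exact hc m' h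
  · rcases (hF _ hm).isPrime.mem_or_mem h with h | h
    · exact hc m' h
    · exact hy m' h

theorem exists_regular_sub_one_mem [IsNoetherianRing B] [IsReduced B] (n : B) [Finite (B ⧸ Ideal.span {n})] :
    ∃ (φ : Module.Dual B P) (y : P), IsSMulRegular B (φ y) ∧ φ y - 1 ∈ Ideal.span {n} := by
  classical
  let π := Ideal.Quotient.mk (Ideal.span {n})
  have hfin : {m : Ideal B | m.IsMaximal ∧ n ∈ m}.Finite := by
    refine Set.Finite.of_finite_image (f := fun m : Ideal B => π '' (m : Set B)) (Set.toFinite _) ?_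
    intro m hm m' hm' h
    have key : ∀ k : Ideal B, n ∈ k → π ⁻¹' (π '' (k : Set B)) = (k : Set B) := fun k hk => by
      refine Set.Subset.antisymm (fun x ⟨z, hz, hzx⟩ => ?_) (Set.subset_preimage_image _ _)
      have hmem := Ideal.Quotient.eq.1 hzx.symm
      have := k.add_mem ((Ideal.span_singleton_le_iff_mem k).2 hk hmem) hz
      simpa using this
    apply SetLike.coe_injective
    rw [← key m hm.2, ← key m' hm'.2]
    exact congrArg (π ⁻¹' ·) h
  obtain ⟨F, hF, hFn, hFmin⟩ : ∃ F : Finset (Ideal B), (∀ m ∈ F, m.IsMaximal) ∧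
      (∀ m : Ideal B, m.IsMaximal → n ∈ m → m ∈ F) ∧ ∀ p ∈ minimalPrimes B, ∃ m ∈ F, p ≤ m := by
    choose mx hmx hle using fun p : minimalPrimes B => Ideal.exists_le_maximal p.1 (Ideal.minimalPrimes_isPrime p.2).ne_top
    haveI : Finite (minimalPrimes B) := (minimalPrimes.finite_of_isNoetherianRing B).to_subtype
    refine ⟨(hfin.union (Set.finite_range mx)).toFinset, fun m hm => ?_, fun m h1 h2 => ?_, fun p hp => ?_⟩
    · rcases (Set.Finite.mem_toFinset _).1 hm with h | ⟨p, rfl⟩
      · exact h.1
      · exact hmx p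
    · exact (Set.Finite.mem_toFinset _).2 (Or.inl ⟨h1, h2⟩)
    · exact ⟨mx ⟨p, hp⟩, (Set.Finite.mem_toFinset _).2 (Or.inr ⟨⟨p, hp⟩, rfl⟩), hle ⟨p, hp⟩⟩
  obtain ⟨φ, y, hy⟩ := exists_notMem_finset (P := P) F hF
  have hreg : IsSMulRegular B (φ y) := by
    refine IsSMulRegular.of_right_eq_zero_of_smul fun x hx => ?_
    have h1 : x ∈ sInf (minimalPrimes B) := by
      rw [Submodule.mem_sInf]
      intro p hp
      obtain ⟨m, hm, hpm⟩ := hFmin p hp
      exact ((Ideal.minimalPrimes_isPrime hp).mem_or_mem (show φ y * x ∈ p by rw [← smul_eq_mul, hx]; exact p.zero_mem)).resolve_left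
        fun h => hy m hm (hpm h)
    rw [show minimalPrimes B = (⊥ : Ideal B).minimalPrimes from rfl, Ideal.sInf_minimalPrimes] at h1
    exact (show IsNilpotent x from h1).eq_zero
  have hunit : IsUnit (π (φ y)) := by
    by_contra hnu
    obtain ⟨m, hm, hmem⟩ := exists_max_ideal_of_mem_nonunits hnu
    haveI := Ideal.comap_isMaximal_of_surjective π Ideal.Quotient.mk_surjective (K := m)
    exact hy _ (hFn _ this (by simp [π, Ideal.mem_comap])) hmem
  obtain ⟨k, hk, hk'⟩ := isOfFinOrder_iff_pow_eq_one.1 (isOfFinOrder_of_finite hunit.unit)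
  refine ⟨φ, φ y ^ (k - 1) • y, ?_, ?_⟩
  · rw [map_smul, smul_eq_mul, ← pow_succ, Nat.sub_add_cancel hk]
    exact hreg.pow k
  · rw [map_smul, smul_eq_mul, ← pow_succ, Nat.sub_add_cancel hk, ← Ideal.Quotient.eq, map_pow, map_one]
    simpa using congrArg Units.val hk'

end

variable {A B : Type u} [CommRing A] [CommRing B] [Algebra A B]

theorem mapAlgebra_surjective [IsNoetherianRing B] [IsReduced B] (hf : Function.Surjective (algebraMap A B))
    (e : A) (he : ∀ i ∈ RingHom.ker (algebraMap A B), e * i = 0) [Finite (B ⧸ Ideal.span {algebraMap A B e})] :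
    Function.Surjective (CommRing.Pic.mapAlgebra A B) := by
  intro M
  obtain ⟨φ, y, hreg, h1⟩ := exists_regular_sub_one_mem (P := M) (algebraMap A B e)
  set f := algebraMap A B
  set b := φ y with hb
  obtain ⟨t', ht'⟩ := Ideal.mem_span_singleton'.1 h1
  obtain ⟨t, rfl⟩ := hf t'
  set a := 1 + e * t with ha
  have hfa : f a = b := by rw [ha, map_add, map_one, map_mul, mul_comm, ht']; ring
  have hker : ∀ i ∈ RingHom.ker f, a * i = i := fun i hi => by
    rw [ha, add_mul, one_mul, mul_assoc, mul_comm t, ← mul_assoc, he i hi, zero_mul, add_zero]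
  have hareg : a ∈ nonZeroDivisors A := by
    refine mem_nonZeroDivisors_iff_right.2 fun x hx => ?_
    have hx' : x ∈ RingHom.ker f := (RingHom.mem_ker).2 (hreg.right_eq_zero_of_smul (show b • f x = 0 by
      rw [smul_eq_mul, ← hfa, ← map_mul, mul_comm, hx, map_zero]))
    rw [← hker x hx', mul_comm, hx]
  let J : Ideal B := LinearMap.range φ
  let K : Ideal B := LinearMap.range (LinearMap.applyₗ y : Module.Dual B M →ₗ[B] B)
  have hφinj : Function.Injective φ := (injective_iff_map_eq_zero φ).2 fun x hx => by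
    have h2 : b • x = 0 := by rw [hb, dual_smul_comm, hx, zero_smul]
    have h3 : ∀ ψ : Module.Dual B M, ψ x = 0 := fun ψ => hreg.right_eq_zero_of_smul (show b • ψ x = 0 by rw [← map_smul, h2, map_zero])
    exact (Module.forall_dual_apply_eq_zero_iff B x).1 h3
  have hJK : J * K = Ideal.span {b} := by
    apply le_antisymm
    · rw [Ideal.mul_le]
      rintro _ ⟨x, rfl⟩ _ ⟨ψ, rfl⟩
      refine Ideal.mem_span_singleton'.2 ⟨ψ x, ?_⟩
      have := congrArg ψ (dual_smul_comm φ x y)
      simp only [map_smul, smul_eq_mul] at this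
      rw [LinearMap.applyₗ_apply_apply, this, hb, mul_comm]
    · rw [Ideal.span_singleton_le_iff_mem]
      have key : ∀ s : Module.Dual B M ⊗[B] M, Module.Invertible.linearEquiv B M s * b ∈ J * K := fun s => by
        induction s using TensorProduct.induction_on with
        | zero => simp
        | tmul ψ x =>
          have := congrArg ψ (dual_smul_comm φ x y)
          simp only [map_smul, smul_eq_mul] at this
          show ψ x * b ∈ _
          rw [hb, show ψ x * φ y = φ y * ψ x from mul_comm _ _, ← this]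
          exact Ideal.mul_mem_mul ⟨x, rfl⟩ ⟨ψ, rfl⟩
        | add s s' hs hs' => rw [map_add, add_mul]; exact (J * K).add_mem hs hs'
      simpa using key ((Module.Invertible.linearEquiv B M).symm 1)
  let J' := J.comap f
  let K' := K.comap f
  have hkJ : RingHom.ker f ≤ J' := Ideal.comap_mono bot_le
  have haK : a ∈ K' := by
    show f a ∈ K
    rw [hfa]; exact ⟨φ, rfl⟩
  have hprod : J' * K' = Ideal.span {a} := by
    apply le_antisymm
    · rw [Ideal.mul_le]
      intro x hx z hz
      have := Ideal.mul_mem_mul (show f x ∈ J from hx) (show f z ∈ K from hz)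
      rw [hJK, Ideal.mem_span_singleton'] at this
      obtain ⟨c', hc'⟩ := this
      obtain ⟨c, rfl⟩ := hf c'
      have hi : x * z - c * a ∈ RingHom.ker f := by rw [RingHom.mem_ker, map_sub, map_mul, map_mul, hfa, hc', sub_self]
      refine Ideal.mem_span_singleton'.2 ⟨c + (x * z - c * a), ?_⟩
      linear_combination hker _ hi
    · rw [Ideal.span_singleton_le_iff_mem]
      have h2 : f a ∈ (J' * K').map f := by
        rw [Ideal.map_mul, Ideal.map_comap_of_surjective f hf, Ideal.map_comap_of_surjective f hf, hJK, hfa]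
        exact Ideal.subset_span rfl
      rw [← Ideal.mem_comap, Ideal.comap_map_of_surjective f hf] at h2
      obtain ⟨z, hz, i, hi, hzi⟩ := Submodule.mem_sup.1 h2
      rw [← hzi]
      refine Ideal.add_mem _ hz ?_
      have hi' : i ∈ RingHom.ker f := hi
      rw [← hker i hi', show a * i = i * a from mul_comm _ _]
      exact Ideal.mul_mem_mul (hkJ hi') haK
  let L := FractionRing A
  let ι : A →ₐ[A] L := Algebra.ofId A L
  haveI : FaithfulSMul A L := (faithfulSMul_iff_algebraMap_injective A L).2 (IsFractionRing.injective A L)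
  have hau : IsUnit (algebraMap A L a) := IsLocalization.map_units L (⟨a, hareg⟩ : nonZeroDivisors A)
  let U : Submodule A L := Submodule.map ι.toLinearMap J'
  let V : Submodule A L := Submodule.map ι.toLinearMap K' * Submodule.span A {(↑hau.unit⁻¹ : L)}
  have hUV : U * V = 1 := by
    rw [← mul_assoc, ← Submodule.map_mul, show (J' * K' : Submodule A A) = Ideal.span {a} from hprod,
      Ideal.span, Submodule.map_span, Set.image_singleton, Submodule.span_mul_span, Set.singleton_mul_singleton,
      show ι.toLinearMap a * (↑hau.unit⁻¹ : L) = 1 from hau.mul_val_inv, Submodule.one_eq_span]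
  let UU : (Submodule A L)ˣ := Units.mkOfMulEqOne U V hUV
  let eJ : J' ≃ₗ[A] U := Submodule.equivMapOfInjective ι.toLinearMap (IsFractionRing.injective A L) J'
  haveI : Module.Invertible A UU.1 := inferInstance
  haveI : Module.Invertible A U := ‹Module.Invertible A UU.1›
  haveI : Module.Invertible A J' := Module.Invertible.congr eJ.symm
  let eφ : M ≃ₗ[B] J := LinearEquiv.ofInjective φ hφinj
  haveI : Module.Invertible B J := Module.Invertible.congr eφ
  let g : J' →ₗ[A] J :=
    { toFun := fun x => ⟨f x, x.2⟩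
      map_add' := fun x z => Subtype.ext (map_add f _ _)
      map_smul' := fun r x => Subtype.ext (by simp [f, Algebra.smul_def]) }
  have hsurj : Function.Surjective (g.liftBaseChange B) := fun z => by
    obtain ⟨x, hx⟩ := hf z.1
    exact ⟨1 ⊗ₜ ⟨x, show f x ∈ J by rw [hx]; exact z.2⟩, Subtype.ext (by simp [g, f, hx])⟩
  refine ⟨CommRing.Pic.mk A J', CommRing.Pic.mk_eq_iff.2 ⟨?_⟩⟩
  exact (TensorProduct.AlgebraTensorModule.congr (LinearEquiv.refl B B) (CommRing.Pic.mk.linearEquiv A J')) ≪≫ₗ
    LinearEquiv.ofBijective _ (Module.Invertible.bijective_of_surjective hsurj) ≪≫ₗ eφ.symm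

end Groth.Misc13.PicSurj
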