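import Groth.Prelude.Def_W4c4chowquasisplitNorm
import Mathlib.FieldTheory.Galois.Basic
import Mathlib.GroupTheory.Sylow
import Mathlib.RingTheory.Int.Basic
import Mathlib.GroupTheory.Archimedean

/-! The Chow group of zero-cycles of a point is `ℤ`; norm subgroups of the point. -/

set_option autoImplicit false

universe u

open CategoryTheory AlgebraicGeometry

namespace Groth.Misc13.PtChow

/-- The evaluation `R → κ(x)` at a point of `Spec R`. -/
noncomputable def ev (R : CommRingCat.{u}) (x : Spec R) : R ⟶ (Spec R).residueField x :=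
  (Scheme.ΓSpecIso R).inv ≫ (Spec R).Γevaluation x

lemma ev_bijective (F : Type u) [Field F] (x : Spec (CommRingCat.of F)) :
    Function.Bijective (ev (CommRingCat.of F) x).hom := by
  refine ⟨(ev (CommRingCat.of F) x).hom.injective, ?_⟩
  have : x.asIdeal.IsMaximal := by
    have hb : x.asIdeal = ⊥ := (Ideal.eq_bot_or_top _).resolve_right x.isPrime.ne_top
    rw [hb]; exact Ideal.bot_isMaximal
  intro z
  obtain ⟨y, rfl⟩ := (Scheme.Spec.residueFieldIso (CommRingCat.of F) x).symm.commRingCatIsoToRingEquiv.surjective z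
  obtain ⟨a, ha⟩ := (Ideal.bijective_algebraMap_quotient_residueField x.asIdeal).2 y
  obtain ⟨a, rfl⟩ := Ideal.Quotient.mk_surjective a
  refine ⟨a, ?_⟩
  have h := congrArg (fun g => g a) (Scheme.Spec.algebraMap_residueFieldIso_inv (CommRingCat.of F) x)
  rw [← ha]
  exact h.symm

/-- The residue degree of `Spec F ⟶ Spec k` is the degree of the field extension. -/
lemma residueDegree_Spec (k F : Type u) [Field k] [Field F] [Algebra k F]
    (x : Spec (CommRingCat.of F)) :
    (Spec.map (CommRingCat.ofHom (algebraMap k F))).residueDegree x = Module.finrank k F := by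
  set f := Spec.map (CommRingCat.ofHom (algebraMap k F)) with hf
  let := (f.residueFieldMap x).hom.toAlgebra
  have h : ev (CommRingCat.of k) (f x) ≫ f.residueFieldMap x =
      CommRingCat.ofHom (algebraMap k F) ≫ ev (CommRingCat.of F) x := by
    unfold ev
    rw [Category.assoc, Scheme.Γevaluation_naturality, ← Category.assoc, ← Category.assoc,
      Scheme.ΓSpecIso_inv_naturality]
  refine (Algebra.finrank_eq_of_equiv_equiv (RingEquiv.ofBijective (ev (CommRingCat.of k) (f x)).hom
    (ev_bijective k _)) (RingEquiv.ofBijective (ev (CommRingCat.of F) x).hom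
    (ev_bijective F _)) ?_).symm
  ext a
  exact congrArg (fun g => g a) h

section Point

variable (k : Type u) [Field k]

local notation "S" => Spec (CommRingCat.of k)

/-- The only point. -/
noncomputable abbrev pt : S := IsLocalRing.closedPoint k

lemma eq_pt (x : S) : x = pt k := Subsingleton.elim _ _

lemma mem_Zk (α : AlgebraicCycle S ℤ) : α ∈ Cyc.Zk S (fun _ => 0) 0 := fun _ h => absurd rfl h

lemma eq_zero_of_ratTriv (a : ↥(ChowOps.zk S (fun _ => 0) 0))
    (ha : a ∈ ChowOps.ratTriv S (fun _ => 0) 0) : (a : AlgebraicCycle S ℤ) (pt k) = 0 := by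
  let φ : ↥(ChowOps.zk S (fun _ => 0) 0) →+ ℤ :=
    AddMonoidHom.mk' (fun a => (a : AlgebraicCycle S ℤ) (pt k)) fun _ _ => rfl
  suffices ChowOps.ratTriv S (fun _ => 0) 0 ≤ φ.ker from AddMonoidHom.mem_ker.1 (this ha)
  refine (AddSubgroup.closure_le _).2 ?_
  rintro b ⟨ι, ξ, f, hξ, -, -, hb⟩
  have : IsEmpty ι := ⟨fun i => by simpa using hξ i⟩
  exact (hb (pt k)).trans (finsum_of_isEmpty _)

/-- `CH_0(Spec k) → ℤ`, the coefficient at the point. -/
noncomputable def evalHom : ChowOps.CH S (fun _ => 0) 0 →+ ℤ :=
  QuotientAddGroup.lift _ (AddMonoidHom.mk' (fun a => (a : AlgebraicCycle S ℤ) (pt k)) fun _ _ => rfl)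
    (fun a ha => AddMonoidHom.mem_ker.2 (eq_zero_of_ratTriv k a ha))

lemma evalHom_cl (α : AlgebraicCycle S ℤ) (h : α ∈ Cyc.Zk S (fun _ => 0) 0) :
    evalHom k (ChowOps.cl α h) = α (pt k) := rfl

lemma evalHom_bijective : Function.Bijective (evalHom k) := by
  constructor
  · refine (injective_iff_map_eq_zero _).2 fun c hc => ?_
    obtain ⟨a, rfl⟩ := QuotientAddGroup.mk_surjective c
    have : a = 0 := Subtype.ext (Function.locallyFinsuppWithin.ext fun x => by
      rw [eq_pt k x]; exact hc)
    rw [this]; rfl
  · intro m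
    classical
    exact ⟨ChowOps.cl (Function.locallyFinsuppWithin.single (pt k) m) (mem_Zk k _), by
      rw [evalHom_cl]; simp⟩

lemma map_apply_pt (F : Type u) [Field F] [Algebra k F]
    (α : AlgebraicCycle (Spec (CommRingCat.of F)) ℤ) :
    AlgebraicCycle.map (Spec.map (CommRingCat.ofHom (algebraMap k F))) (fun _ => (0 : ℤ))
      (fun _ => (0 : ℤ)) α (pt k) = α (pt F) * (Module.finrank k F : ℤ) := by
  rw [AlgebraicCycle.map, Function.locallyFinsupp.map_apply]
  have hs : ⇑(Spec.map (CommRingCat.ofHom (algebraMap k F))) ⁻¹' {pt k} = {pt F} :=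
    Set.ext fun x => iff_of_true (eq_pt k _) (eq_pt F x)
  rw [hs, finsum_mem_singleton]
  simp [AlgebraicCycle.mapCoeff, residueDegree_Spec]

variable (K : Type u) [Field K] [Algebra k K]

/-- The image of the norm subgroup of the point in `ℤ`. -/
noncomputable def normImage : AddSubgroup ℤ := (QsChow.ptNormSubgroup k K).map (evalHom k)

lemma finrank_mem (F : IntermediateField k K) [FiniteDimensional k F] (hF : F ≠ ⊥) :
    (Module.finrank k F : ℤ) ∈ normImage k K := by
  classical
  refine ⟨_, AddSubgroup.subset_closure ⟨F, inferInstance, hF,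
    Function.locallyFinsuppWithin.single (pt F) 1, mem_Zk k _, rfl⟩, ?_⟩
  rw [evalHom_cl, map_apply_pt]
  simp

lemma normImage_le (H : AddSubgroup ℤ)
    (h : ∀ F : IntermediateField k K, FiniteDimensional k F → F ≠ ⊥ →
      (Module.finrank k F : ℤ) ∈ H) : normImage k K ≤ H := by
  refine AddSubgroup.map_le_iff_le_comap.2 ((AddSubgroup.closure_le _).2 ?_)
  rintro c ⟨F, hfd, hne, α, hα, rfl⟩
  rw [SetLike.mem_coe, AddSubgroup.mem_comap, evalHom_cl, map_apply_pt, ← smul_eq_mul]
  exact AddSubgroup.zsmul_mem _ (h F hfd hne) _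

lemma eq_top_iff : QsChow.ptNormSubgroup k K = ⊤ ↔ normImage k K = ⊤ := by
  constructor
  · intro h
    rw [normImage, h, AddSubgroup.map_top_of_surjective _ (evalHom_bijective k).2]
  · intro h
    apply AddSubgroup.map_injective (evalHom_bijective k).1
    rw [AddSubgroup.map_top_of_surjective _ (evalHom_bijective k).2]
    exact h

lemma index_eq : (QsChow.ptNormSubgroup k K).index = (normImage k K).index :=
  ((QsChow.ptNormSubgroup k K).index_map_of_bijective (evalHom_bijective k)).symm

/-- A subgroup of the Galois group of a finite Galois intermediate field gives an intermediate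
field whose degree is the index of the subgroup. -/
lemma exists_intermediateField_finrank_eq_index (L : IntermediateField k K) [FiniteDimensional k L]
    [IsGalois k L] (H : Subgroup (L ≃ₐ[k] L)) :
    ∃ F : IntermediateField k K, FiniteDimensional k F ∧ Module.finrank k F = H.index := by
  let E : IntermediateField k L := IntermediateField.fixedField H
  have e : ↥E ≃ₐ[k] ↥(IntermediateField.lift E) := IntermediateField.liftAlgEquiv E
  refine ⟨IntermediateField.lift E, e.toLinearEquiv.finiteDimensional, ?_⟩
  rw [← e.toLinearEquiv.finrank_eq]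
  have h1 : Module.finrank k E * Nat.card H = Module.finrank k L := by
    rw [← IntermediateField.finrank_fixedField_eq_card H, Module.finrank_mul_finrank]
  rw [← IsGalois.card_aut_eq_finrank k L, ← H.index_mul_card] at h1
  exact Nat.eq_of_mul_eq_mul_right Nat.card_pos h1

end Point

end Groth.Misc13.PtChow
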