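import Groth.Prelude.Def_W4c4chowquasisplitPn
import Groth.Prelude.Def_W4c4chowquasisplitPn2
import Mathlib.RingTheory.MvPolynomial.Ideal
import Mathlib.Algebra.MvPolynomial.Division
import Mathlib.LinearAlgebra.FiniteDimensional.Lemmas
import Mathlib.LinearAlgebra.Dimension.Constructions
import Mathlib.Algebra.MvPolynomial.Rename
import Mathlib.Tactic.LinearCombination
import Mathlib.Tactic.Ring
import Mathlib.Algebra.Field.ZMod

/-!
The invariants of the involution on the truncated algebra `QsChow.P n`.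
-/

set_option autoImplicit false
set_option linter.style.haveILetI false
set_option linter.unusedSectionVars false

open MvPolynomial

namespace Groth.Misc13.QsC

open QsChow

variable {n : ℕ}

abbrev i₀ (n : ℕ) : Fin (numVars n) := ⟨0, Nat.succ_pos _⟩

theorem add_self' {A : Type*} [CommRing A] [Algebra (ZMod 2) A] (a : A) : a + a = 0 := by
  have h : (2 : A) = 0 := by
    have h2 : ((2 : ZMod 2)) = 0 := rfl
    simpa only [map_ofNat, map_zero] using congrArg (algebraMap (ZMod 2) A) h2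
  rw [← two_mul, h, zero_mul]

theorem add_sq' {A : Type*} [CommRing A] [Algebra (ZMod 2) A] (a b : A) : (a + b) ^ 2 = a ^ 2 + b ^ 2 := by
  have h := add_self' (a * b)
  linear_combination h

theorem add_pow2 {A : Type*} [CommRing A] [Algebra (ZMod 2) A] (a b : A) (t : ℕ) :
    (a + b) ^ 2 ^ t = a ^ 2 ^ t + b ^ 2 ^ t := by
  induction t with
  | zero => simp
  | succ t ih => rw [pow_succ, pow_mul, ih, add_sq', ← pow_mul, ← pow_mul]

theorem sum_sq' {A : Type*} [CommRing A] [Algebra (ZMod 2) A] {α : Type*} (s : Finset α) (f : α → A) :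
    (∑ i ∈ s, f i) ^ 2 = ∑ i ∈ s, f i ^ 2 := by
  classical
  induction s using Finset.induction_on with
  | empty => simp
  | insert i s his ih => rw [Finset.sum_insert his, Finset.sum_insert his, add_sq', ih]

theorem two_le_numVars (hn : 2 ≤ n) : 2 ≤ numVars n := by unfold numVars; omega

theorem eps_eq (i : Fin (numVars n)) : eps n (i.val + 1) = Ideal.Quotient.mk (truncIdeal n) (X i) := by
  rw [eps, dif_pos ⟨Nat.succ_pos _, i.isLt⟩]
  rfl

theorem eps_one : eps n 1 = Ideal.Quotient.mk (truncIdeal n) (X (i₀ n)) := eps_eq (i₀ n)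

theorem genImage_some (i : Fin (numVars n)) :
    genImage n (some i) = if i.val = 0 then eps n 1 else if i.val = 1 then eps n 2 ^ 2 + eps n 1 * eps n 2
      else eps n (i.val + 1) + eps n 1 ^ (2 * (i.val + 1) - 4) * eps n 2 := rfl

theorem psi_X0 : psi n (X (i₀ n)) = eps n 1 := by simp [psi, genImage_some]

theorem psi_X1 (hn : 2 ≤ n) : psi n (X ⟨1, two_le_numVars hn⟩) = eps n 2 ^ 2 + eps n 1 * eps n 2 := by
  simp [psi, genImage_some]

theorem phi_rename (p : FreeP n) : phi n (rename some p) = psi n p := by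
  rw [phi, aeval_rename]; rfl

theorem psi_mem_range (p : FreeP n) : psi n p ∈ (phi n).range := ⟨rename some p, phi_rename p⟩

theorem mk_X_pow_bound (i : Fin (numVars n)) :
    (Ideal.Quotient.mk (truncIdeal n) (X i)) ^ bound n i = 0 := by
  rw [← map_pow, Ideal.Quotient.eq_zero_iff_mem]
  exact Ideal.subset_span ⟨i, rfl⟩

theorem eps_one_pow : eps n 1 ^ n = 0 := by
  have := mk_X_pow_bound (i₀ n)
  rwa [← eps_one, show bound n (i₀ n) = n from if_pos rfl] at this

theorem eps_pow_klog {j : ℕ} (hj : 2 ≤ j) (hjs : j ≤ numVars n) : eps n j ^ 2 ^ klog n j = 0 := by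
  have hlt : j - 1 < numVars n := by omega
  have := mk_X_pow_bound (⟨j - 1, hlt⟩ : Fin (numVars n))
  rw [← eps_eq, show bound n ⟨j - 1, hlt⟩ = 2 ^ klog n (j - 1 + 1) from if_neg (show j - 1 ≠ 0 by omega)] at this
  simpa [show j - 1 + 1 = j by omega] using this

theorem le_pow_klog {j : ℕ} (hj : 2 ≤ j) : n ≤ (2 * j - 3) * 2 ^ klog n j := by
  have h := Nat.lt_pow_succ_log_self (b := 2) one_lt_two ((2 * n - 1) / (2 * j - 3))
  rw [Nat.div_lt_iff_lt_mul (by omega), pow_succ] at h
  rw [klog]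
  rw [mul_comm (2 * j - 3)]
  have : 2 ^ Nat.log 2 ((2 * n - 1) / (2 * j - 3)) * 2 * (2 * j - 3) = 2 * (2 ^ Nat.log 2 ((2 * n - 1) / (2 * j - 3)) * (2 * j - 3)) := by
    ring
  omega

theorem pow_klog_le (hn : 2 ≤ n) {j : ℕ} (hj : 2 ≤ j) (hjs : j ≤ numVars n) :
    (2 * j - 3) * 2 ^ klog n j ≤ 2 * n - 1 := by
  unfold numVars at hjs
  have h1 : (2 * n - 1) / (2 * j - 3) ≠ 0 := by
    rw [Nat.div_ne_zero_iff]
    omega
  have h := Nat.pow_log_le_self 2 h1
  calc (2 * j - 3) * 2 ^ klog n j ≤ (2 * j - 3) * ((2 * n - 1) / (2 * j - 3)) := Nat.mul_le_mul_left _ h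
    _ ≤ 2 * n - 1 := Nat.mul_div_le _ _

theorem one_le_klog_two (hn : 2 ≤ n) : 1 ≤ klog n 2 := by
  refine Nat.log_pos one_lt_two ?_
  simp only [show 2 * 2 - 3 = 1 by omega, Nat.div_one]
  omega

/-- `u ^ 2 ^ k` in terms of the invariant generators. -/
theorem u_pow (hn : 2 ≤ n) (k : ℕ) :
    eps n 2 ^ 2 ^ k = eps n 1 ^ (2 ^ k - 1) * eps n 2 +
      ∑ t ∈ Finset.range k, eps n 1 ^ (2 ^ k - 2 ^ (t + 1)) * (eps n 2 ^ 2 + eps n 1 * eps n 2) ^ 2 ^ t := by
  induction k with
  | zero => simp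
  | succ k ih =>
    rw [pow_succ, pow_mul, ih, add_sq', sum_sq', Finset.sum_range_succ']
    have h1 : (1 : ℕ) ≤ 2 ^ k := Nat.one_le_two_pow
    have hsum : ∀ t ∈ Finset.range k, (eps n 1 ^ (2 ^ k - 2 ^ (t + 1)) * (eps n 2 ^ 2 + eps n 1 * eps n 2) ^ 2 ^ t) ^ 2 =
        eps n 1 ^ (2 ^ k * 2 - 2 ^ (t + 1 + 1)) * (eps n 2 ^ 2 + eps n 1 * eps n 2) ^ 2 ^ (t + 1) := by
      intro t ht
      have : 2 ^ (t + 1) ≤ 2 ^ k := Nat.pow_le_pow_right two_pos (Finset.mem_range.1 ht)
      rw [mul_pow, ← pow_mul, ← pow_mul, ← pow_succ,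
        show (2 ^ k - 2 ^ (t + 1)) * 2 = 2 ^ k * 2 - 2 ^ (t + 1 + 1) by rw [pow_succ 2 (t + 1)]; omega]
    rw [Finset.sum_congr rfl hsum, show 2 ^ k * 2 - 2 ^ (0 + 1) = (2 ^ k - 1) * 2 by rw [zero_add, pow_one]; omega,
      show 2 ^ k * 2 - 1 = (2 ^ k - 1) * 2 + 1 by omega, pow_add, pow_one, mul_pow, ← pow_mul]
    simp only [pow_zero, pow_one]
    linear_combination -(add_self' (eps n 1 ^ ((2 ^ k - 1) * 2) * eps n 1 * eps n 2))

theorem decomp (hn : 2 ≤ n) (y : P n) : ∃ a b : FreeP n, y = psi n a + psi n b * eps n 2 := by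
  have hmul : ∀ a b c d : FreeP n, ∃ a' b' : FreeP n,
      (psi n a + psi n b * eps n 2) * (psi n c + psi n d * eps n 2) = psi n a' + psi n b' * eps n 2 := fun a b c d => by
    refine ⟨a * c + b * d * X ⟨1, two_le_numVars hn⟩, a * d + b * c + b * d * X (i₀ n), ?_⟩
    simp only [map_add, map_mul, psi_X0, psi_X1 hn]
    linear_combination -(add_self' (psi n b * psi n d * eps n 1 * eps n 2))
  have hgen : ∀ i : Fin (numVars n), ∃ c d : FreeP n, Ideal.Quotient.mk (truncIdeal n) (X i) = psi n c + psi n d * eps n 2 := by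
    intro i
    rw [← eps_eq]
    rcases Nat.eq_zero_or_pos i.val with h | h
    · exact ⟨X (i₀ n), 0, by rw [h, psi_X0, map_zero, zero_mul, add_zero]⟩
    rcases Nat.lt_or_ge i.val 2 with h2 | h2
    · exact ⟨0, 1, by rw [show i.val = 1 by omega, map_zero, map_one, one_mul, zero_add]⟩
    · refine ⟨X i, X (i₀ n) ^ (2 * (i.val + 1) - 4), ?_⟩
      rw [map_pow, psi_X0, show psi n (X i) = eps n (i.val + 1) + eps n 1 ^ (2 * (i.val + 1) - 4) * eps n 2 by
        simp [psi, genImage_some, show i.val ≠ 0 by omega, show i.val ≠ 1 by omega], add_assoc, add_self', add_zero]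
  obtain ⟨f, rfl⟩ := Ideal.Quotient.mk_surjective y
  induction f using MvPolynomial.induction_on with
  | C a => exact ⟨C a, 0, by rw [map_zero, zero_mul, add_zero]; exact ((psi n).commutes a).symm⟩
  | add f g hf hg =>
    obtain ⟨a, b, h1⟩ := hf; obtain ⟨c, d, h2⟩ := hg
    exact ⟨a + c, b + d, by rw [map_add, h1, h2, map_add, map_add]; ring⟩
  | mul_X f i hf =>
    obtain ⟨a, b, h1⟩ := hf; obtain ⟨c, d, h2⟩ := hgen i
    rw [map_mul, h1, h2]
    exact hmul a b c d

theorem mem_trunc (f : FreeP n) : f ∈ truncIdeal n ↔ ∀ m ∈ f.support, ∃ i, bound n i ≤ m i := by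
  classical
  have h : truncIdeal n = Ideal.span ((fun s => monomial s (1 : ZMod 2)) ''
      (Set.range fun i : Fin (numVars n) => Finsupp.single i (bound n i))) := by
    rw [truncIdeal, ← Set.range_comp]
    congr 1
    ext f
    simp [X_pow_eq_monomial]
  rw [h, mem_ideal_span_monomial_image]
  simp

theorem ann {k : ℕ} {y : P n} (h : eps n 1 ^ k * y = 0) : ∃ z, y = eps n 1 ^ (n - k) * z := by
  classical
  obtain ⟨f, rfl⟩ := Ideal.Quotient.mk_surjective y
  rw [eps_one, ← map_pow, ← map_mul, Ideal.Quotient.eq_zero_iff_mem, mem_trunc] at h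
  refine ⟨Ideal.Quotient.mk _ (f.divMonomial (Finsupp.single (i₀ n) (n - k))), ?_⟩
  rw [eps_one, ← map_pow, ← map_mul, Ideal.Quotient.eq, mem_trunc]
  intro m hm
  have hr : f - X (i₀ n) ^ (n - k) * f.divMonomial (Finsupp.single (i₀ n) (n - k)) =
      f.modMonomial (Finsupp.single (i₀ n) (n - k)) := by
    rw [X_pow_eq_monomial, sub_eq_iff_eq_add, add_comm, divMonomial_add_modMonomial]
  rw [hr, mem_support_iff] at hm
  by_cases hle : Finsupp.single (i₀ n) (n - k) ≤ m
  · exact absurd (coeff_modMonomial_of_le _ hle) hm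
  rw [coeff_modMonomial_of_not_le _ hle] at hm
  have hmem : m + Finsupp.single (i₀ n) k ∈ (X (i₀ n) ^ k * f).support := by
    rw [mem_support_iff, X_pow_eq_monomial, add_comm, coeff_monomial_mul, one_mul]
    exact hm
  obtain ⟨i, hi⟩ := h _ hmem
  rw [Finsupp.single_le_iff] at hle
  rcases eq_or_ne i (i₀ n) with rfl | hne
  · rw [show bound n (i₀ n) = n from if_pos rfl, Finsupp.add_apply, Finsupp.single_eq_same] at hi
    omega
  · exact ⟨i, by simpa [Finsupp.single_eq_of_ne hne] using hi⟩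

theorem phi_none : phi n (X none) = eps n 1 ^ (n - 1) * eps n 2 := by simp [phi, genImage]

variable (τ : P n →ₐ[ZMod 2] P n)

section inv
variable (hn : 2 ≤ n) (hτ1 : τ (eps n 1) = eps n 1)
  (hτ : ∀ j : ℕ, 2 ≤ j → j ≤ numVars n → τ (eps n j) = eps n j + eps n 1 ^ (2 * j - 3))

include hn hτ in
theorem tau_u : τ (eps n 2) = eps n 2 + eps n 1 := by rw [hτ 2 le_rfl (two_le_numVars hn)]; simp

include hn hτ1 hτ in
theorem tau_psi (p : FreeP n) : τ (psi n p) = psi n p := by
  have h : τ.comp (psi n) = psi n := by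
    refine MvPolynomial.algHom_ext fun i => ?_
    show τ (psi n (X i)) = psi n (X i)
    simp only [psi, aeval_X, genImage_some]
    rcases Nat.eq_zero_or_pos i.val with h | h
    · simp [h, hτ1]
    rcases Nat.lt_or_ge i.val 2 with h2 | h2
    · simp only [show i.val = 1 by omega, one_ne_zero, if_false, if_true, map_add, map_mul, map_pow, hτ1, tau_u τ hn hτ]
      linear_combination add_self' (eps n 1 * eps n 2) + add_self' (eps n 1 * eps n 1)
    · simp only [show i.val ≠ 0 by omega, show i.val ≠ 1 by omega, if_false, map_add, map_mul, map_pow, hτ1,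
        tau_u τ hn hτ, hτ (i.val + 1) (by omega) i.isLt,
        show 2 * (i.val + 1) - 3 = 2 * (i.val + 1) - 4 + 1 by omega, pow_succ]
      linear_combination add_self' (eps n 1 ^ (2 * (i.val + 1) - 4) * eps n 1)
  exact DFunLike.congr_fun h p

include hn hτ1 hτ in
theorem tau_x : τ (eps n 1 ^ (n - 1) * eps n 2) = eps n 1 ^ (n - 1) * eps n 2 := by
  rw [map_mul, map_pow, hτ1, tau_u τ hn hτ, mul_add, ← pow_succ, show n - 1 + 1 = n by omega, eps_one_pow, add_zero]

include hn hτ1 hτ in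
theorem D_eq {y : P n} {a b : FreeP n} (hy : y = psi n a + psi n b * eps n 2) :
    y + τ y = eps n 1 * psi n b := by
  subst hy
  rw [map_add, map_mul, tau_psi τ hn hτ1 hτ, tau_psi τ hn hτ1 hτ, tau_u τ hn hτ]
  linear_combination add_self' (psi n a) + add_self' (psi n b * eps n 2)

include hn hτ1 hτ in
theorem mem_range_of_fixed {y : P n} (hy : τ y = y) : y ∈ (phi n).range := by
  obtain ⟨a, b, hab⟩ := decomp hn y
  have h : eps n 1 ^ 1 * psi n b = 0 := by rw [pow_one, ← D_eq τ hn hτ1 hτ hab, hy, add_self']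
  obtain ⟨z, hz⟩ := ann h
  obtain ⟨a', b', hz'⟩ := decomp hn z
  refine ⟨rename some a + rename some a' * X none + rename some (b' * X (i₀ n) ^ (n - 1) * X ⟨1, two_le_numVars hn⟩), ?_⟩
  show phi n _ = y
  rw [map_add, map_add, map_mul, phi_rename, phi_rename, phi_rename, phi_none, map_mul, map_mul, map_pow, psi_X0, psi_X1 hn,
    hab, hz, hz']
  have h0 := eps_one_pow (n := n)
  have hsucc : eps n 1 ^ (n - 1) * eps n 1 = 0 := by rw [← pow_succ, show n - 1 + 1 = n by omega, h0]
  linear_combination (psi n b' * eps n 2) * hsucc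

include hn hτ1 hτ in
theorem range_phi : (phi n).range = AlgHom.equalizer τ (AlgHom.id (ZMod 2) (P n)) := by
  refine le_antisymm ?_ fun y hy => mem_range_of_fixed τ hn hτ1 hτ hy
  rintro _ ⟨q, rfl⟩
  show τ (phi n q) = phi n q
  have h : τ.comp (phi n) = phi n := by
    refine MvPolynomial.algHom_ext fun i => ?_
    cases i with
    | none => show τ (phi n (X none)) = _; rw [phi_none]; exact tau_x τ hn hτ1 hτ
    | some i =>
      show τ (phi n (X (some i))) = phi n (X (some i))
      rw [show (X (some i) : FreeE n) = rename some (X i : FreeP n) by simp, phi_rename]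
      exact tau_psi τ hn hτ1 hτ _
  exact DFunLike.congr_fun h q

include hn hτ1 hτ in
theorem range_D :
    Set.range (fun y : P n => y + τ y) =
      (fun z : P n => eps n 1 * z) '' (AlgHom.equalizer τ (AlgHom.id (ZMod 2) (P n)) : Set (P n)) := by
  apply Set.Subset.antisymm
  · rintro _ ⟨y, rfl⟩
    obtain ⟨a, b, hab⟩ := decomp hn y
    exact ⟨psi n b, tau_psi τ hn hτ1 hτ b, (D_eq τ hn hτ1 hτ hab).symm⟩
  · rintro _ ⟨z, hz, rfl⟩
    refine ⟨z * eps n 2, ?_⟩
    show z * eps n 2 + τ (z * eps n 2) = eps n 1 * z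
    rw [map_mul, show τ z = z from hz, tau_u τ hn hτ]
    linear_combination add_self' (z * eps n 2)

include hn hτ1 hτ in
theorem exists_fixed_of_mem_span {m : ℕ} (hm1 : 1 ≤ m) (hmn : m ≤ n) {y : P n}
    (hy : y + τ y ∈ Ideal.span ({eps n 1 ^ m} : Set (P n))) :
    ∃ z : P n, τ z = z ∧ y + τ y = eps n 1 ^ m * z := by
  obtain ⟨a, b, hab⟩ := decomp hn y
  rw [D_eq τ hn hτ1 hτ hab] at hy ⊢
  obtain ⟨w, hw⟩ := Ideal.mem_span_singleton'.1 hy
  have hpow : eps n 1 ^ (m - 1) * eps n 1 = eps n 1 ^ m := by rw [← pow_succ, show m - 1 + 1 = m by omega]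
  have h : eps n 1 ^ 1 * (psi n b - eps n 1 ^ (m - 1) * w) = 0 := by
    rw [pow_one]; linear_combination -hw - w * hpow
  obtain ⟨z, hz⟩ := ann h
  have hsplit : eps n 1 ^ (n - 1) = eps n 1 ^ (m - 1) * eps n 1 ^ (n - m) := by rw [← pow_add]; congr 1; omega
  obtain ⟨c, d, hcd⟩ := decomp hn (w + eps n 1 ^ (n - m) * z)
  have hb : psi n b = eps n 1 ^ (m - 1) * (psi n c + psi n d * eps n 2) := by
    rw [← hcd]; linear_combination hz + z * hsplit
  have hfix := tau_psi τ hn hτ1 hτ b
  rw [hb, map_mul, map_pow, hτ1, map_add, map_mul, tau_psi τ hn hτ1 hτ, tau_psi τ hn hτ1 hτ, tau_u τ hn hτ] at hfix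
  have hd : eps n 1 ^ m * psi n d = 0 := by linear_combination hfix - psi n d * hpow
  refine ⟨psi n c, tau_psi τ hn hτ1 hτ c, ?_⟩
  rw [hb]
  linear_combination (psi n c + psi n d * eps n 2) * hpow + eps n 2 * hd

end inv

section dim

open Module

/-- exponent vectors below the bounds -/
noncomputable abbrev box (n : ℕ) : Finset (Fin (numVars n) → ℕ) :=
  Fintype.piFinset fun i => Finset.range (bound n i)

/-- coefficients inside the box -/
noncomputable def coeffs (n : ℕ) : FreeP n →ₗ[ZMod 2] (↥(box n) → ZMod 2) :=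
  LinearMap.pi fun m => lcoeff (ZMod 2) (Finsupp.equivFunOnFinite.symm m.1)

theorem coeffs_apply (f : FreeP n) (m : ↥(box n)) : coeffs n f m = coeff (Finsupp.equivFunOnFinite.symm m.1) f := rfl

theorem ker_coeffs : LinearMap.ker (coeffs n) = (truncIdeal n).restrictScalars (ZMod 2) := by
  ext f
  rw [LinearMap.mem_ker, Submodule.restrictScalars_mem, mem_trunc]
  constructor
  · intro h m hm
    by_contra! hc
    refine (mem_support_iff.1 hm) ?_
    have := congrFun h ⟨(m : Fin (numVars n) → ℕ), Fintype.mem_piFinset.2 fun i => Finset.mem_range.2 (hc i)⟩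
    rw [coeffs_apply] at this
    simpa using this
  · intro h
    funext m
    rw [coeffs_apply, Pi.zero_apply]
    by_contra hc
    obtain ⟨i, hi⟩ := h _ (mem_support_iff.2 hc)
    have := Finset.mem_range.1 (Fintype.mem_piFinset.1 m.2 i)
    simp at hi
    omega

theorem coeffs_surjective : Function.Surjective (coeffs n) := by
  classical
  intro c
  refine ⟨∑ m, monomial (Finsupp.equivFunOnFinite.symm m.1) (c m), ?_⟩
  funext m
  rw [coeffs_apply, coeff_sum, Finset.sum_eq_single m]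
  · simp
  · intro b _ hb
    rw [coeff_monomial, if_neg]
    exact fun e => hb (Subtype.ext (Finsupp.equivFunOnFinite.symm.injective e))
  · simp

/-- `P n` in coordinates -/
noncomputable def coord (n : ℕ) : P n ≃ₗ[ZMod 2] (↥(box n) → ZMod 2) :=
  (LinearMap.quotKerEquivOfSurjective (Ideal.Quotient.mkₐ (ZMod 2) (truncIdeal n)).toLinearMap
      Ideal.Quotient.mk_surjective).symm ≪≫ₗ
    Submodule.quotEquivOfEq _ _ (by
      rw [ker_coeffs]; ext f; simp [Ideal.Quotient.eq_zero_iff_mem]) ≪≫ₗ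
    LinearMap.quotKerEquivOfSurjective (coeffs n) coeffs_surjective

instance finite_P : Module.Finite (ZMod 2) (P n) := Module.Finite.equiv (coord n).symm

/-- product of the bounds of the variables other than the first -/
noncomputable def Q' (n : ℕ) : ℕ := ∏ i ∈ Finset.univ.erase (i₀ n), bound n i

theorem finrank_P : finrank (ZMod 2) (P n) = n * Q' n := by
  rw [(coord n).finrank_eq, Module.finrank_pi, Fintype.card_coe, Fintype.card_piFinset, Q',
    ← Finset.mul_prod_erase Finset.univ _ (Finset.mem_univ (i₀ n))]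
  simp [Finset.card_range, show bound n (i₀ n) = n from if_pos rfl]

/-- multiplication by a power of `ε₁` -/
noncomputable abbrev μ (n k : ℕ) : P n →ₗ[ZMod 2] P n := LinearMap.mulLeft (ZMod 2) (eps n 1 ^ k)

theorem finrank_succ {k : ℕ} (hk : k < n) :
    finrank (ZMod 2) (LinearMap.range (μ n k)) =
      finrank (ZMod 2) (LinearMap.range (μ n (k + 1))) + finrank (ZMod 2) (LinearMap.range (μ n (n - 1))) := by
  let f := (μ n 1).comp (LinearMap.range (μ n k)).subtype
  rw [← LinearMap.finrank_range_add_finrank_ker f]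
  congr 1
  · rw [LinearMap.range_comp, Submodule.range_subtype, ← LinearMap.range_comp,
      show (μ n 1).comp (μ n k) = μ n (k + 1) from LinearMap.ext fun y => by
        simp [μ, pow_succ]; ring]
  · refine LinearEquiv.finrank_eq ?_
    refine (LinearMap.ker f).equivMapOfInjective (LinearMap.range (μ n k)).subtype Subtype.val_injective ≪≫ₗ
      LinearEquiv.ofEq _ _ ?_
    ext y
    constructor
    · rintro ⟨⟨z, hz⟩, hf, rfl⟩
      obtain ⟨w, hw⟩ := ann (show eps n 1 ^ 1 * z = 0 from hf)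
      exact ⟨w, hw.symm⟩
    · rintro ⟨w, rfl⟩
      refine ⟨⟨μ n (n - 1) w, eps n 1 ^ (n - 1 - k) * w, ?_⟩, ?_, rfl⟩
      · simp only [μ, LinearMap.mulLeft_apply]; rw [← mul_assoc, ← pow_add]; congr 2; omega
      · show eps n 1 ^ 1 * (eps n 1 ^ (n - 1) * w) = 0
        rw [← mul_assoc, ← pow_add, show 1 + (n - 1) = n by omega, eps_one_pow, zero_mul]

theorem finrank_range_top (hn : 2 ≤ n) : finrank (ZMod 2) (LinearMap.range (μ n (n - 1))) = Q' n := by
  have h : ∀ j ≤ n, finrank (ZMod 2) (LinearMap.range (μ n (n - j))) = j * finrank (ZMod 2) (LinearMap.range (μ n (n - 1))) := by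
    intro j
    induction j with
    | zero =>
      intro _
      rw [Nat.sub_zero, zero_mul, show μ n n = 0 from LinearMap.ext fun y => by simp [μ, eps_one_pow], LinearMap.range_zero, finrank_bot]
    | succ j ih =>
      intro hj
      rw [finrank_succ (show n - (j + 1) < n by omega), show n - (j + 1) + 1 = n - j by omega, ih (by omega), add_mul, one_mul]
  have h' := h n le_rfl
  rw [Nat.sub_self, show μ n 0 = LinearMap.id from LinearMap.ext fun y => by simp [μ], LinearMap.range_id, finrank_top, finrank_P] at h'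
  exact (Nat.eq_of_mul_eq_mul_left (by omega) h'.symm)

variable (τ : P n →ₐ[ZMod 2] P n) (hn : 2 ≤ n) (hτ1 : τ (eps n 1) = eps n 1)
  (hτ : ∀ j : ℕ, 2 ≤ j → j ≤ numVars n → τ (eps n j) = eps n j + eps n 1 ^ (2 * j - 3))

/-- the range of `φ` as a subspace -/
noncomputable abbrev fixedSpace (n : ℕ) : Submodule (ZMod 2) (P n) := (phi n).range.toSubmodule

include hn hτ1 hτ in
theorem two_mul_finrank_fixed : 2 * finrank (ZMod 2) (fixedSpace n) = (n + 1) * Q' n := by
  let D : P n →ₗ[ZMod 2] P n := LinearMap.id + τ.toLinearMap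
  have hr := range_phi τ hn hτ1 hτ
  have hmem : ∀ y, y ∈ fixedSpace n ↔ τ y = y := fun y => by
    show y ∈ (phi n).range ↔ _
    rw [hr]; rfl
  have hker : LinearMap.ker D = fixedSpace n := by
    ext y
    rw [hmem, LinearMap.mem_ker]
    show y + τ y = 0 ↔ _
    constructor
    · intro h; linear_combination h - add_self' y
    · intro h; rw [h, add_self']
  let f := (μ n 1).comp (fixedSpace n).subtype
  have hrange : LinearMap.range D = LinearMap.range f := by
    apply SetLike.coe_injective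
    rw [LinearMap.coe_range, LinearMap.coe_range]
    rw [show (Set.range ⇑D) = Set.range (fun y : P n => y + τ y) from rfl, range_D τ hn hτ1 hτ]
    ext y
    constructor
    · rintro ⟨z, hz, rfl⟩; exact ⟨⟨z, (hmem z).2 hz⟩, by simp [f]⟩
    · rintro ⟨⟨z, hz⟩, rfl⟩; exact ⟨z, (hmem z).1 hz, by simp [f]⟩
  have hkerf : finrank (ZMod 2) (LinearMap.ker f) = Q' n := by
    rw [← finrank_range_top hn]
    refine LinearEquiv.finrank_eq ((LinearMap.ker f).equivMapOfInjective (fixedSpace n).subtype Subtype.val_injective ≪≫ₗ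
      LinearEquiv.ofEq _ _ ?_)
    ext y
    constructor
    · rintro ⟨⟨z, hz⟩, hf, rfl⟩
      obtain ⟨w, hw⟩ := ann (show eps n 1 ^ 1 * z = 0 from hf)
      exact ⟨w, hw.symm⟩
    · rintro ⟨w, rfl⟩
      have hy : eps n 1 ^ 1 * μ n (n - 1) w = 0 := by
        show eps n 1 ^ 1 * (eps n 1 ^ (n - 1) * w) = 0
        rw [← mul_assoc, ← pow_add, show 1 + (n - 1) = n by omega, eps_one_pow, zero_mul]
      refine ⟨⟨μ n (n - 1) w, (hmem _).2 ?_⟩, hy, rfl⟩
      obtain ⟨a, b, hab⟩ := decomp hn w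
      show τ (eps n 1 ^ (n - 1) * w) = eps n 1 ^ (n - 1) * w
      rw [hab, mul_add, map_add, map_mul, map_pow, hτ1, tau_psi τ hn hτ1 hτ, ← mul_left_comm (psi n b),
        map_mul, tau_psi τ hn hτ1 hτ, tau_x τ hn hτ1 hτ]
  have h1 := LinearMap.finrank_range_add_finrank_ker D
  have h2 := LinearMap.finrank_range_add_finrank_ker f
  rw [hrange, hker, finrank_P] at h1
  rw [hkerf] at h2
  rw [add_mul, one_mul]
  omega

end dim

section pres

theorem evar_eq (i : Fin (numVars n)) : evar n (i.val + 1) = X (some i) := by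
  rw [evar, dif_pos ⟨Nat.succ_pos _, i.isLt⟩]
  rfl

theorem evar_one : evar n 1 = X (some (i₀ n)) := evar_eq (i₀ n)

theorem evar_two (hn : 2 ≤ n) : evar n 2 = X (some ⟨1, two_le_numVars hn⟩) := evar_eq ⟨1, two_le_numVars hn⟩

theorem phi_evar_one : phi n (evar n 1) = eps n 1 := by simp [evar_one, phi, genImage]

theorem phi_evar_two (hn : 2 ≤ n) : phi n (evar n 2) = eps n 2 ^ 2 + eps n 1 * eps n 2 := by
  simp [evar_two hn, phi, genImage]

theorem phi_xvar : phi n (xvar n) = eps n 1 ^ (n - 1) * eps n 2 := phi_none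

theorem phi_sPoly (hn : 2 ≤ n) (j : ℕ) :
    phi n (sPoly n j) = eps n 2 ^ 2 ^ klog n j + eps n 1 ^ (2 ^ klog n j - 1) * eps n 2 := by
  rw [u_pow hn (klog n j), sPoly, map_sum]
  simp only [map_mul, map_pow, phi_evar_one, phi_evar_two hn]
  linear_combination -add_self' (eps n 1 ^ (2 ^ klog n j - 1) * eps n 2)

theorem presIdeal_le (hn : 2 ≤ n) : presIdeal n ≤ RingHom.ker (phi n) := by
  rw [presIdeal, Ideal.span_le]
  have h0 := eps_one_pow (n := n)
  rintro q ((rfl | rfl | rfl) | ⟨i, rfl⟩)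
  · show phi n _ = 0; rw [map_pow, phi_evar_one, h0]
  · show phi n _ = 0
    rw [map_mul, phi_evar_one, phi_xvar, ← mul_assoc, ← pow_succ', show n - 1 + 1 = n by omega, h0, zero_mul]
  · show phi n _ = 0
    rw [map_pow, phi_xvar, mul_pow, ← pow_mul, show (n - 1) * 2 = n + (n - 2) by omega, pow_add, h0, zero_mul, zero_mul]
  show phi n (hrel n (i.val + 1)) = 0
  rcases Nat.eq_zero_or_pos i.val with h | h
  · simp [hrel, h]
  rcases Nat.lt_or_ge i.val 2 with h2 | h2
  · have hge := le_pow_klog (n := n) (j := 2) le_rfl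
    have hk := eps_pow_klog (n := n) le_rfl (two_le_numVars hn)
    simp only [show 2 * 2 - 3 = 1 by omega, one_mul] at hge
    rw [show i.val + 1 = 2 by omega, hrel, if_pos rfl, map_add, map_mul, map_pow, phi_evar_one, phi_xvar, phi_sPoly hn,
      ← mul_assoc, ← pow_add, show 2 ^ klog n 2 - n + (n - 1) = 2 ^ klog n 2 - 1 by omega, hk, zero_add, add_self']
  · set j := i.val + 1 with hj
    have hjs : j ≤ numVars n := i.isLt
    have hge := le_pow_klog (n := n) (j := j) (by omega)
    have hk := eps_pow_klog (n := n) (show 2 ≤ j by omega) hjs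
    have h1 : 1 ≤ 2 ^ klog n j := Nat.one_le_two_pow
    have he : phi n (evar n j) = eps n j + eps n 1 ^ (2 * j - 4) * eps n 2 := by
      simp [hj, evar_eq, phi, genImage, show i.val ≠ 0 by omega, show i.val ≠ 1 by omega]
    have hexp : (2 * j - 3) * 2 ^ klog n j = (2 * j - 4) * 2 ^ klog n j + 2 ^ klog n j := by
      rw [← Nat.succ_mul]; congr 1; omega
    rw [hrel, if_neg (by omega), if_pos ⟨by omega, hjs⟩, map_add, map_add, map_mul, map_mul, map_pow, map_pow, map_pow,
      phi_evar_one, phi_xvar, phi_sPoly hn, he, add_pow2, hk, zero_add, mul_pow, ← pow_mul, ← mul_assoc, ← pow_add,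
      show (2 * j - 3) * 2 ^ klog n j - n + (n - 1) = (2 * j - 4) * 2 ^ klog n j + (2 ^ klog n j - 1) by omega, pow_add]
    linear_combination add_self' (eps n 1 ^ ((2 * j - 4) * 2 ^ klog n j) * eps n 2 ^ 2 ^ klog n j) +
      add_self' (eps n 1 ^ ((2 * j - 4) * 2 ^ klog n j) * eps n 1 ^ (2 ^ klog n j - 1) * eps n 2)

/-- exponent bounds modulo `(e₁, x)` -/
def mb (n : ℕ) (i : Fin (numVars n)) : ℕ :=
  if i.val = 0 then 1 else if i.val = 1 then 2 ^ (klog n 2 - 1) else bound n i

theorem hrel_mem (i : Fin (numVars n)) : hrel n (i.val + 1) ∈ presIdeal n :=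
  Ideal.subset_span (Or.inr ⟨i, rfl⟩)

theorem sPoly_two_sub_mem (hn : 2 ≤ n) :
    sPoly n 2 - evar n 2 ^ 2 ^ (klog n 2 - 1) ∈ Ideal.span ({evar n 1} : Set (FreeE n)) := by
  obtain ⟨k, hk⟩ : ∃ k, klog n 2 = k + 1 := ⟨klog n 2 - 1, by have := one_le_klog_two hn; omega⟩
  rw [sPoly, hk, Finset.sum_range_succ, Nat.sub_self, pow_zero, one_mul, Nat.add_sub_cancel, add_sub_cancel_right]
  have h : ∀ t ∈ Finset.range k, (evar n 1 : FreeE n) ^ (2 ^ (k + 1) - 2 ^ (t + 1)) * evar n 2 ^ 2 ^ t ∈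
      Ideal.span ({evar n 1} : Set (FreeE n)) := fun t ht => by
    have hlt : 2 ^ (t + 1) < 2 ^ (k + 1) := Nat.pow_lt_pow_right one_lt_two (Nat.succ_lt_succ (Finset.mem_range.1 ht))
    exact Ideal.mem_span_singleton.2 (Dvd.dvd.mul_right (dvd_pow_self _ (Nat.sub_ne_zero_of_lt hlt)) _)
  exact Ideal.sum_mem _ h

theorem pow_mb_mem (hn : 2 ≤ n) (i : Fin (numVars n)) :
    (X (some i) : FreeE n) ^ mb n i ∈ presIdeal n ⊔ Ideal.span {evar n 1, xvar n} := by
  set I := presIdeal n ⊔ Ideal.span {evar n 1, xvar n}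
  have he1 : evar n 1 ∈ I := Ideal.mem_sup_right (Ideal.subset_span (Set.mem_insert _ _))
  have hx : xvar n ∈ I := Ideal.mem_sup_right (Ideal.subset_span (Set.mem_insert_of_mem _ rfl))
  rcases Nat.eq_zero_or_pos i.val with h | h
  · rw [show mb n i = 1 from if_pos h, pow_one, show i = i₀ n from Fin.ext h, ← evar_one]
    exact he1
  rcases Nat.lt_or_ge i.val 2 with h2 | h2
  · have hi : i.val = 1 := by omega
    rw [show mb n i = 2 ^ (klog n 2 - 1) by simp [mb, hi], show i = ⟨1, two_le_numVars hn⟩ from Fin.ext hi, ← evar_two hn]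
    have h3 : sPoly n 2 - evar n 2 ^ 2 ^ (klog n 2 - 1) ∈ I :=
      (Ideal.span_le.2 (Set.singleton_subset_iff.2 he1)) (sPoly_two_sub_mem hn)
    have h4 : hrel n 2 ∈ I := Ideal.mem_sup_left (hrel_mem ⟨1, two_le_numVars hn⟩)
    rw [hrel, if_pos rfl] at h4
    have h5 := I.sub_mem ((I.add_mem_iff_right (I.mul_mem_left _ hx)).1 h4) h3
    rwa [sub_sub_cancel] at h5
  · rw [show mb n i = 2 ^ klog n (i.val + 1) by simp [mb, bound, show i.val ≠ 0 by omega, show i.val ≠ 1 by omega], ← evar_eq]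
    have h4 : hrel n (i.val + 1) ∈ I := Ideal.mem_sup_left (hrel_mem i)
    rw [hrel, if_neg (by omega), if_pos ⟨by omega, i.isLt⟩] at h4
    refine (I.add_mem_iff_left (I.mul_mem_left _ hx)).1 ((I.add_mem_iff_left (I.mul_mem_right _ ?_)).1 h4)
    exact I.pow_mem_of_mem he1 _ (Nat.mul_pos (by omega) (Nat.two_pow_pos _))

/-- the monomials left modulo `(e₁, x)` -/
noncomputable abbrev M (n : ℕ) : Finset (Fin (numVars n) → ℕ) := Fintype.piFinset fun i => Finset.range (mb n i)

/-- the monomial of an exponent vector -/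
noncomputable def mono (m : Fin (numVars n) → ℕ) : FreeE n := ∏ i, X (some i) ^ m i

theorem exists_reduce (hn : 2 ≤ n) (q : FreeE n) :
    ∃ s ∈ Submodule.span (ZMod 2) (mono '' (M n : Set (Fin (numVars n) → ℕ))),
      q - s ∈ presIdeal n ⊔ Ideal.span {evar n 1, xvar n} := by
  classical
  set I := presIdeal n ⊔ Ideal.span {evar n 1, xvar n}
  induction q using MvPolynomial.induction_on' with
  | add p p' hp hp' =>
    obtain ⟨s, hs, h⟩ := hp; obtain ⟨s', hs', h'⟩ := hp'
    exact ⟨s + s', add_mem hs hs', by rw [add_sub_add_comm]; exact I.add_mem h h'⟩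
  | monomial d a =>
    have heq : monomial d a = C a * (X none ^ d none * ∏ i, X (some i) ^ d (some i)) := by
      rw [monomial_eq, Finsupp.prod_fintype _ _ (fun i => pow_zero _), Fintype.prod_option]
    by_cases h : d none = 0 ∧ ∀ i, d (some i) < mb n i
    · refine ⟨a • mono fun i => d (some i), Submodule.smul_mem _ _ (Submodule.subset_span
        ⟨_, Fintype.mem_piFinset.2 fun i => Finset.mem_range.2 (h.2 i), rfl⟩), ?_⟩
      rw [heq, h.1, pow_zero, one_mul, smul_eq_C_mul, mono, sub_self]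
      exact I.zero_mem
    · refine ⟨0, zero_mem _, ?_⟩
      rw [sub_zero, heq]
      refine I.mul_mem_left _ ?_
      by_cases h0 : d none = 0
      · obtain ⟨i, hi⟩ := not_forall.1 fun hh => h ⟨h0, hh⟩
        refine I.mul_mem_left _ ?_
        rw [← Finset.mul_prod_erase _ _ (Finset.mem_univ i)]
        refine I.mul_mem_right _ ?_
        rw [← Nat.sub_add_cancel (Nat.le_of_not_lt hi), pow_add]
        exact I.mul_mem_left _ (pow_mb_mem hn i)
      · refine I.mul_mem_right _ (I.pow_mem_of_mem ?_ _ (Nat.pos_of_ne_zero h0))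
        exact Ideal.mem_sup_right (Ideal.subset_span (Set.mem_insert_of_mem _ rfl))

/-- spanning set of the presented algebra -/
noncomputable def gens (n : ℕ) : Finset (FreeE n) :=
  (Finset.range n ×ˢ M n).image (fun p => evar n 1 ^ p.1 * mono p.2) ∪ (M n).image (fun m => xvar n * mono m)

theorem span_gens (hn : 2 ≤ n) :
    (presIdeal n).restrictScalars (ZMod 2) ⊔ Submodule.span (ZMod 2) (gens n : Set (FreeE n)) = ⊤ := by
  classical
  set W := (presIdeal n).restrictScalars (ZMod 2) ⊔ Submodule.span (ZMod 2) (gens n : Set (FreeE n))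
  have hp : ∀ q ∈ presIdeal n, q ∈ W := fun q hq => Submodule.mem_sup_left hq
  have hg : ∀ q ∈ gens n, q ∈ W := fun q hq => Submodule.mem_sup_right (Submodule.subset_span hq)
  have hspan : ∀ (c : FreeE n), (∀ m ∈ M n, c * mono m ∈ gens n) →
      ∀ s ∈ Submodule.span (ZMod 2) (mono '' (M n : Set (Fin (numVars n) → ℕ))), c * s ∈ W := by
    intro c hc s hs
    have : Submodule.span (ZMod 2) (mono '' (M n : Set (Fin (numVars n) → ℕ))) ≤ W.comap (LinearMap.mulLeft (ZMod 2) c) := by
      rw [Submodule.span_le]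
      rintro _ ⟨m, hm, rfl⟩
      exact hg _ (hc m hm)
    exact this hs
  have hx1 : evar n 1 * xvar n ∈ presIdeal n := Ideal.subset_span (Or.inl (Or.inr (Or.inl rfl)))
  have hx2 : xvar n ^ 2 ∈ presIdeal n := Ideal.subset_span (Or.inl (Or.inr (Or.inr rfl)))
  have hdec : ∀ q, ∃ s ∈ Submodule.span (ZMod 2) (mono '' (M n : Set (Fin (numVars n) → ℕ))), ∃ r ∈ presIdeal n,
      ∃ a b, q = s + r + evar n 1 * a + xvar n * b := fun q => by
    obtain ⟨s, hs, h⟩ := exists_reduce hn q
    obtain ⟨r, hr, t, ht, hrt⟩ := Submodule.mem_sup.1 h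
    obtain ⟨a, b, hab⟩ := Ideal.mem_span_pair.1 ht
    exact ⟨s, hs, r, hr, a, b, by linear_combination -hrt - hab⟩
  have hxb : ∀ b, xvar n * b ∈ W := fun b => by
    obtain ⟨s, hs, r, hr, a, c, rfl⟩ := hdec b
    rw [mul_add, mul_add, mul_add]
    refine add_mem (add_mem (add_mem (hspan _ (fun m hm => ?_) s hs) (hp _ (Ideal.mul_mem_left _ _ hr))) ?_) ?_
    · exact Finset.mem_union_right _ (Finset.mem_image.2 ⟨m, hm, rfl⟩)
    · exact hp _ (by rw [← mul_assoc, mul_comm (xvar n)]; exact Ideal.mul_mem_right _ _ hx1)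
    · exact hp _ (by rw [← mul_assoc, ← sq]; exact Ideal.mul_mem_right _ _ hx2)
  have key : ∀ j ≤ n, ∀ q, evar n 1 ^ (n - j) * q ∈ W := by
    intro j
    induction j with
    | zero => exact fun _ q => hp _ (Ideal.mul_mem_right _ _ (Ideal.subset_span (Or.inl (Or.inl rfl))))
    | succ j ih =>
      intro hj q
      obtain ⟨s, hs, r, hr, a, b, rfl⟩ := hdec q
      rw [mul_add, mul_add, mul_add]
      refine add_mem (add_mem (add_mem (hspan _ (fun m hm => ?_) s hs) (hp _ (Ideal.mul_mem_left _ _ hr))) ?_) ?_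
      · exact Finset.mem_union_left _ (Finset.mem_image.2 ⟨(n - (j + 1), m), Finset.mem_product.2
          ⟨Finset.mem_range.2 (by omega), hm⟩, rfl⟩)
      · rw [← mul_assoc, ← pow_succ, show n - (j + 1) + 1 = n - j by omega]
        exact ih (by omega) a
      · rcases Nat.eq_zero_or_pos (n - (j + 1)) with h0 | h0
        · rw [h0, pow_zero, one_mul]; exact hxb b
        · rw [← Nat.sub_add_cancel h0, pow_add, pow_one, ← mul_assoc, mul_assoc _ (evar n 1) (xvar n)]
          exact hp _ (Ideal.mul_mem_right _ _ (Ideal.mul_mem_left _ _ hx1))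
  rw [eq_top_iff]
  intro q _
  simpa using key n le_rfl q

theorem card_gens (hn : 2 ≤ n) : 2 * (gens n).card ≤ (n + 1) * Q' n := by
  classical
  have hM : 2 * (M n).card = Q' n := by
    have h1 : (⟨1, two_le_numVars hn⟩ : Fin (numVars n)) ∈ Finset.univ.erase (i₀ n) := by simp [Fin.ext_iff]
    rw [Fintype.card_piFinset, Q', ← Finset.mul_prod_erase Finset.univ _ (Finset.mem_univ (i₀ n)),
      ← Finset.mul_prod_erase _ (bound n) h1, ← Finset.mul_prod_erase _ (fun i => (Finset.range (mb n i)).card) h1]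
    simp only [Finset.card_range]
    rw [show mb n (i₀ n) = 1 from if_pos rfl, one_mul,
      show mb n ⟨1, two_le_numVars hn⟩ = 2 ^ (klog n 2 - 1) by simp [mb],
      show bound n ⟨1, two_le_numVars hn⟩ = 2 ^ klog n 2 by simp [bound],
      ← mul_assoc, ← pow_succ', show klog n 2 - 1 + 1 = klog n 2 by have := one_le_klog_two hn; omega]
    congr 1
    refine Finset.prod_congr rfl fun i hi => ?_
    simp only [Finset.mem_erase, ne_eq, Fin.ext_iff] at hi
    simp [mb, show i.val ≠ 0 by omega, show i.val ≠ 1 by omega]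
  have : (gens n).card ≤ (n + 1) * (M n).card := by
    refine (Finset.card_union_le _ _).trans ?_
    rw [add_mul, one_mul]
    gcongr
    · exact Finset.card_image_le.trans (by simp)
    · exact Finset.card_image_le
  calc 2 * (gens n).card ≤ 2 * ((n + 1) * (M n).card) := by omega
    _ = _ := by rw [← hM]; ring

theorem ker_phi (τ : P n →ₐ[ZMod 2] P n) (hn : 2 ≤ n) (hτ1 : τ (eps n 1) = eps n 1)
    (hτ : ∀ j : ℕ, 2 ≤ j → j ≤ numVars n → τ (eps n j) = eps n j + eps n 1 ^ (2 * j - 3)) :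
    RingHom.ker (phi n) = presIdeal n := by
  classical
  refine le_antisymm ?_ (presIdeal_le hn)
  let π : FreeE n →ₗ[ZMod 2] FreeE n ⧸ presIdeal n := (Ideal.Quotient.mkₐ (ZMod 2) (presIdeal n)).toLinearMap
  let Φ := Ideal.Quotient.liftₐ (presIdeal n) (phi n) fun q hq => presIdeal_le hn hq
  have htop : Submodule.span (ZMod 2) (((gens n).image π : Finset _) : Set (FreeE n ⧸ presIdeal n)) = ⊤ := by
    rw [Finset.coe_image, Submodule.span_image, eq_top_iff]
    intro y _
    obtain ⟨q, rfl⟩ := Ideal.Quotient.mk_surjective y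
    obtain ⟨r, hr, s, hs, rfl⟩ := Submodule.mem_sup.1 ((span_gens hn).ge (Submodule.mem_top (x := q)))
    exact ⟨s, hs, by simp [π, map_add, Ideal.Quotient.eq_zero_iff_mem.2 hr]⟩
  haveI : Module.Finite (ZMod 2) (FreeE n ⧸ presIdeal n) := ⟨⟨_, htop⟩⟩
  have hle : Module.finrank (ZMod 2) (FreeE n ⧸ presIdeal n) ≤ (gens n).card := by
    rw [← finrank_top (ZMod 2) (FreeE n ⧸ presIdeal n), ← htop]
    exact (finrank_span_finset_le_card _).trans Finset.card_image_le
  have hrange : LinearMap.range Φ.toLinearMap = fixedSpace n := by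
    ext y
    constructor
    · rintro ⟨z, rfl⟩; obtain ⟨q, rfl⟩ := Ideal.Quotient.mk_surjective z; exact ⟨q, rfl⟩
    · rintro ⟨q, rfl⟩; exact ⟨Ideal.Quotient.mk _ q, rfl⟩
  have h1 := LinearMap.finrank_range_add_finrank_ker Φ.toLinearMap
  rw [hrange] at h1
  have h2 := two_mul_finrank_fixed τ hn hτ1 hτ
  have h3 := card_gens hn
  have hbot : LinearMap.ker Φ.toLinearMap = ⊥ := Submodule.finrank_eq_zero.1 (by omega)
  intro q hq
  rw [← Ideal.Quotient.eq_zero_iff_mem]
  exact (Submodule.mem_bot (ZMod 2)).1 (hbot.le (show Φ (Ideal.Quotient.mk _ q) = 0 from hq))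

/-- the involution (used to drop it from the hypotheses of `ker_phi`) -/
theorem exists_tau (hn : 2 ≤ n) : ∃ τ : P n →ₐ[ZMod 2] P n, τ (eps n 1) = eps n 1 ∧
    ∀ j : ℕ, 2 ≤ j → j ≤ numVars n → τ (eps n j) = eps n j + eps n 1 ^ (2 * j - 3) := by
  let f : FreeP n →ₐ[ZMod 2] P n :=
    aeval fun i => if i.val = 0 then eps n 1 else eps n (i.val + 1) + eps n 1 ^ (2 * (i.val + 1) - 3)
  have hf : ∀ q ∈ truncIdeal n, f q = 0 := by
    intro q hq
    refine (show truncIdeal n ≤ RingHom.ker f from ?_) hq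
    unfold truncIdeal
    rw [Ideal.span_le]
    rintro _ ⟨i, rfl⟩
    show f _ = 0
    rw [map_pow, aeval_X]
    by_cases h : i.val = 0
    · rw [if_pos h, show bound n i = n from if_pos h, eps_one_pow]
    · rw [if_neg h, show bound n i = 2 ^ klog n (i.val + 1) from if_neg h, add_pow2, eps_pow_klog (by omega) i.isLt,
        ← pow_mul, zero_add]
      exact pow_eq_zero_of_le (le_pow_klog (by omega)) eps_one_pow
  refine ⟨Ideal.Quotient.liftₐ (truncIdeal n) f hf, ?_, fun j hj hjs => ?_⟩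
  · rw [eps_one]
    show f (X _) = _
    rw [aeval_X, if_pos rfl, eps_one]
  · have hlt : j - 1 < numVars n := by omega
    have hj' : j - 1 + 1 = j := by omega
    have := eps_eq (⟨j - 1, hlt⟩ : Fin (numVars n))
    simp only [hj'] at this
    rw [this]
    show f (X _) = _
    rw [aeval_X, if_neg (show j - 1 ≠ 0 by omega)]
    simp only [hj', this]

end pres

end Groth.Misc13.QsC
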