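import Groth.Agent.Misc13.QsChowAlg
import Mathlib.NumberTheory.Padics.PadicVal.Basic

/-!
The three presentations of the invariant algebra modulo a power of `ε₁`.
-/

set_option autoImplicit false
set_option linter.style.haveILetI false
set_option linter.unusedSectionVars false

open MvPolynomial

namespace Groth.Misc13.QsC

open QsChow

variable {n : ℕ}

theorem add_sub_eq {A : Type*} [CommRing A] [Algebra (ZMod 2) A] (a b : A) : a + b = a - b := by
  linear_combination add_self' b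

theorem exists_fixed_iff (τ : P n →ₐ[ZMod 2] P n) (hn : 2 ≤ n) (hτ1 : τ (eps n 1) = eps n 1)
    (hτ : ∀ j : ℕ, 2 ≤ j → j ≤ numVars n → τ (eps n j) = eps n j + eps n 1 ^ (2 * j - 3)) (m : ℕ) (q : FreeE n) :
    (∃ w, τ w = w ∧ phi n q = eps n 1 ^ m * w) ↔ q ∈ presIdeal n ⊔ Ideal.span ({evar n 1 ^ m} : Set (FreeE n)) := by
  have hr := range_phi τ hn hτ1 hτ
  constructor
  · rintro ⟨w, hw, hq⟩
    obtain ⟨r, hrw⟩ : w ∈ (phi n).range := by rw [hr]; exact hw
    have h1 : q - evar n 1 ^ m * r ∈ presIdeal n := by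
      rw [← ker_phi τ hn hτ1 hτ, RingHom.mem_ker, map_sub, map_mul, map_pow, phi_evar_one, hq,
        show phi n r = w from hrw, sub_self]
    exact Submodule.mem_sup.2 ⟨_, h1, evar n 1 ^ m * r,
      Ideal.mul_mem_right _ _ (Ideal.subset_span rfl), sub_add_cancel _ _⟩
  · intro h
    obtain ⟨a, ha, b, hb, rfl⟩ := Submodule.mem_sup.1 h
    obtain ⟨c, rfl⟩ := Ideal.mem_span_singleton'.1 hb
    refine ⟨phi n c, ?_, ?_⟩
    · have : phi n c ∈ AlgHom.equalizer τ (AlgHom.id (ZMod 2) (P n)) := by rw [← hr]; exact ⟨c, rfl⟩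
      exact this
    · rw [map_add, (RingHom.mem_ker).1 (presIdeal_le hn ha), zero_add, map_mul, map_pow, phi_evar_one, mul_comm]

theorem rename_evarE (j : ℕ) : rename some (evarE n j) = evar n j := by
  unfold evarE evar
  split <;> simp

theorem psi_eq_phi (q : FreeP n) : psi n q = phi n (rename some q) := (phi_rename q).symm

/-- eliminating `x` -/
noncomputable def elim (v : FreeP n) : FreeE n →ₐ[ZMod 2] FreeP n := aeval fun o => o.elim v X

theorem elim_rename (v q : FreeP n) : elim v (rename some q) = q := by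
  rw [elim, aeval_rename]
  exact aeval_X_left_apply q

theorem elim_evar (v : FreeP n) (j : ℕ) : elim v (evar n j) = evarE n j := by
  rw [← rename_evarE, elim_rename]

theorem elim_xvar (v : FreeP n) : elim v (xvar n) = v := by simp [elim, xvar]

theorem mk_rename_elim {J : Ideal (FreeE n)} {v : FreeP n} (hC : xvar n - rename some v ∈ J) (q : FreeE n) :
    q - rename some (elim v q) ∈ J := by
  rw [← Ideal.Quotient.eq]
  have h : (Ideal.Quotient.mkₐ (ZMod 2) J).comp ((rename some).comp (elim v)) = Ideal.Quotient.mkₐ (ZMod 2) J := by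
    refine MvPolynomial.algHom_ext fun i => ?_
    cases i with
    | none => simpa [elim, xvar, Ideal.Quotient.mkₐ_eq_mk] using (Ideal.Quotient.eq.2 hC).symm
    | some i => simp [elim]
  exact (DFunLike.congr_fun h q).symm

theorem elim_conclusion (τ : P n →ₐ[ZMod 2] P n) (hn : 2 ≤ n) (hτ1 : τ (eps n 1) = eps n 1)
    (hτ : ∀ j : ℕ, 2 ≤ j → j ≤ numVars n → τ (eps n j) = eps n j + eps n 1 ^ (2 * j - 3)) (m : ℕ)
    (I : Ideal (FreeP n)) (v : FreeP n)
    (hA : presIdeal n ⊔ Ideal.span ({evar n 1 ^ m} : Set (FreeE n)) ≤ I.comap (elim v))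
    (hB : I ≤ (presIdeal n ⊔ Ideal.span ({evar n 1 ^ m} : Set (FreeE n))).comap (rename some : FreeP n →ₐ[ZMod 2] FreeE n))
    (hC : xvar n - rename some v ∈ presIdeal n ⊔ Ideal.span ({evar n 1 ^ m} : Set (FreeE n))) :
    (∀ q : FreeP n, (∃ w, τ w = w ∧ psi n q = eps n 1 ^ m * w) ↔ q ∈ I) ∧
    (∀ z, τ z = z → ∃ q : FreeP n, ∃ w, τ w = w ∧ z = psi n q + eps n 1 ^ m * w) := by
  constructor
  · intro q
    rw [psi_eq_phi, exists_fixed_iff τ hn hτ1 hτ]
    refine ⟨fun h => ?_, fun h => hB h⟩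
    have := hA h
    rwa [Ideal.mem_comap, elim_rename] at this
  · intro z hz
    obtain ⟨q', rfl⟩ := mem_range_of_fixed τ hn hτ1 hτ hz
    obtain ⟨w, hw, hw'⟩ := (exists_fixed_iff τ hn hτ1 hτ m _).2 (mk_rename_elim hC q')
    refine ⟨elim v q', w, hw, ?_⟩
    show phi n q' = _
    rw [← hw', psi_eq_phi, ← map_add, add_sub_cancel]

theorem hrel_ge {j : ℕ} (hj : 3 ≤ j) (hjs : j ≤ numVars n) :
    hrel n j = evar n j ^ 2 ^ klog n j + evar n 1 ^ ((2 * j - 3) * 2 ^ klog n j - n) * xvar n +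
      evar n 1 ^ ((2 * j - 4) * 2 ^ klog n j) * sPoly n j := by
  rw [hrel, if_neg (by omega), if_pos ⟨hj, hjs⟩]

theorem hrel_two : hrel n 2 = evar n 1 ^ (2 ^ klog n 2 - n) * xvar n + sPoly n 2 := if_pos rfl

theorem hrel_one : hrel n 1 = 0 := by simp [hrel]

theorem pow_mem_span {m e : ℕ} (h : m ≤ e) {s : Set (FreeE n)} (hs : evar n 1 ^ m ∈ s) :
    evar n 1 ^ e ∈ Ideal.span s := by
  rw [← Nat.sub_add_cancel h, pow_add]
  exact Ideal.mul_mem_left _ _ (Ideal.subset_span hs)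

theorem pow_mul_x_mem {e : ℕ} (h : e ≠ 0) {s : Set (FreeE n)} (hs : evar n 1 * xvar n ∈ s) :
    evar n 1 ^ e * xvar n ∈ Ideal.span s := by
  obtain ⟨e, rfl⟩ := Nat.exists_eq_succ_of_ne_zero h
  rw [pow_succ, mul_assoc]
  exact Ideal.mul_mem_left _ _ (Ideal.subset_span hs)

theorem e1_x_mem : evar n 1 * xvar n ∈ presIdeal n := Ideal.subset_span (Or.inl (Or.inr (Or.inl rfl)))
theorem x_sq_mem : xvar n ^ 2 ∈ presIdeal n := Ideal.subset_span (Or.inl (Or.inr (Or.inr rfl)))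
theorem e1_pow_mem : evar n 1 ^ n ∈ presIdeal n := Ideal.subset_span (Or.inl (Or.inl rfl))

theorem sPoly_sub_mem (hn : 2 ≤ n) {m : ℕ} (hm : m ≤ 2 ^ (klog n 2 - 1)) {s : Set (FreeE n)} (hs : evar n 1 ^ m ∈ s) :
    sPoly n 2 - evar n 2 ^ 2 ^ (klog n 2 - 1) ∈ Ideal.span s := by
  obtain ⟨k, hk⟩ : ∃ k, klog n 2 = k + 1 := ⟨klog n 2 - 1, by have := one_le_klog_two hn; omega⟩
  rw [hk, Nat.add_sub_cancel] at hm
  rw [sPoly, hk, Finset.sum_range_succ, Nat.sub_self, pow_zero, one_mul, Nat.add_sub_cancel, add_sub_cancel_right]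
  refine Ideal.sum_mem _ fun t ht => Ideal.mul_mem_right _ _ (pow_mem_span ?_ hs)
  have h1 : 2 ^ (t + 1) ≤ 2 ^ k := Nat.pow_le_pow_right two_pos (Finset.mem_range.1 ht)
  have h2 : 2 ^ (k + 1) = 2 * 2 ^ k := by rw [pow_succ]; ring
  omega

theorem odd_mul_pow_inj : ∀ (x y : ℕ) {a b : ℕ}, Odd a → Odd b → a * 2 ^ x = b * 2 ^ y → x = y ∧ a = b
  | 0, 0, a, b, _, _, h => ⟨rfl, by simpa using h⟩
  | 0, y + 1, a, b, ha, _, h => by
    refine absurd ha (Nat.not_odd_iff_even.2 ⟨b * 2 ^ y, ?_⟩)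
    rw [pow_zero, mul_one] at h
    rw [h, pow_succ]; ring
  | x + 1, 0, a, b, _, hb, h => by
    refine absurd hb (Nat.not_odd_iff_even.2 ⟨a * 2 ^ x, ?_⟩)
    rw [pow_zero, mul_one] at h
    rw [← h, pow_succ]; ring
  | x + 1, y + 1, a, b, ha, hb, h => by
    obtain ⟨h1, h2⟩ := odd_mul_pow_inj x y ha hb (by
      rw [pow_succ, pow_succ, ← mul_assoc, ← mul_assoc] at h
      exact Nat.eq_of_mul_eq_mul_right two_pos h)
    exact ⟨by rw [h1], h2⟩

theorem kprime_eq_klog (hn : 2 ≤ n) {j : ℕ} (hj : 3 ≤ j) (hjs : j ≤ numVars n)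
    (h : ∀ t, (2 * j - 3) * 2 ^ t ≠ 2 * n) : kprime n j = klog n j := by
  rw [kprime, if_neg (by omega), if_neg (by omega)]
  apply Nat.log_eq_of_pow_le_of_lt_pow
  · rw [Nat.le_div_iff_mul_le (by omega), mul_comm]
    exact (pow_klog_le hn (by omega) hjs).trans (Nat.sub_le _ _)
  · rw [Nat.div_lt_iff_lt_mul (by omega), mul_comm _ (2 * j - 3)]
    have h1 := le_pow_klog (n := n) (show 2 ≤ j by omega)
    have h2 := h (klog n j + 1)
    rw [pow_succ, ← mul_assoc] at h2 ⊢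
    omega

theorem klog_two_bounds (hn : 2 ≤ n) :
    n ≤ 2 ^ klog n 2 ∧ 2 ^ (klog n 2 - 1) * 2 = 2 ^ klog n 2 ∧ 2 ^ klog n 2 ≤ 2 * n - 1 := by
  have h1 := le_pow_klog (n := n) (j := 2) le_rfl
  have h2 := pow_klog_le hn (j := 2) le_rfl (two_le_numVars hn)
  simp only [show 2 * 2 - 3 = 1 by omega, one_mul] at h1 h2
  exact ⟨h1, by rw [← pow_succ, show klog n 2 - 1 + 1 = klog n 2 by have := one_le_klog_two hn; omega], h2⟩

theorem kprime_two (hn : 2 ≤ n) (h : 2 ^ klog n 2 ≠ n) : kprime n 2 = klog n 2 - 1 := by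
  obtain ⟨h1, h2, h3⟩ := klog_two_bounds hn
  rw [kprime, if_neg (by omega), if_pos rfl]
  apply Nat.log_eq_of_pow_le_of_lt_pow
  · omega
  · rw [show klog n 2 - 1 + 1 = klog n 2 by have := one_le_klog_two hn; omega]
    omega

/-! ### `n` odd -/

theorem oddIdeal_eq (hn : 2 ≤ n) (hodd : Odd n) :
    oddIdeal n = presIdeal n ⊔ Ideal.span ({evar n 1 ^ 1} : Set (FreeE n)) := by
  rw [pow_one]
  set K := Ideal.span ({evar n 1} : Set (FreeE n)) with hK
  obtain ⟨hb1, hb2, hb3⟩ := klog_two_bounds hn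
  have hc2 : 2 ^ klog n 2 ≠ n := by
    intro h
    rcases Nat.eq_zero_or_pos (klog n 2) with h0 | h0
    · have := one_le_klog_two hn; omega
    · exact absurd hodd (Nat.not_odd_iff_even.2 ⟨2 ^ (klog n 2 - 1), by omega⟩)
  have hne : ∀ j, 3 ≤ j → j ≤ numVars n → ∀ t, (2 * j - 3) * 2 ^ t ≠ 2 * n := by
    intro j hj hjs t he
    obtain ⟨-, hab⟩ := odd_mul_pow_inj t 1 (a := 2 * j - 3) ⟨j - 2, by omega⟩ hodd (by rw [he]; ring)
    unfold numVars at hjs
    obtain ⟨r, hr⟩ := hodd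
    omega
  have hd : ∀ i : Fin (numVars n), i.val ≠ 0 →
      hrel n (i.val + 1) - evar n (i.val + 1) ^ 2 ^ kprime n (i.val + 1) ∈ K := by
    intro i hi
    rcases Nat.lt_or_ge i.val 2 with h | h
    · rw [show i.val + 1 = 2 by omega, hrel_two, kprime_two hn hc2, add_sub_assoc]
      refine K.add_mem (K.mul_mem_right _ (K.pow_mem_of_mem (Ideal.subset_span rfl) _ ?_))
        (sPoly_sub_mem hn (m := 1) Nat.one_le_two_pow (by rw [pow_one]; rfl))
      omega
    · have hjs : i.val + 1 ≤ numVars n := i.isLt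
      rw [hrel_ge (by omega) hjs, kprime_eq_klog hn (by omega) hjs (hne _ (by omega) hjs), add_assoc, add_sub_cancel_left]
      refine K.add_mem (K.mul_mem_right _ (K.pow_mem_of_mem (Ideal.subset_span rfl) _ ?_))
        (K.mul_mem_right _ (K.pow_mem_of_mem (Ideal.subset_span rfl) _ (Nat.mul_pos (by omega) (Nat.two_pow_pos _))))
      have h1 := le_pow_klog (n := n) (show 2 ≤ i.val + 1 by omega)
      have h2 := hne (i.val + 1) (by omega) hjs (klog n (i.val + 1) + 1)
      rw [pow_succ, ← mul_assoc] at h2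
      omega
  have he1 : evar n 1 ∈ oddIdeal n := Ideal.subset_span (Or.inl (Or.inl rfl))
  have hKle : K ≤ oddIdeal n := Ideal.span_le.2 (Set.singleton_subset_iff.2 he1)
  apply le_antisymm
  · rw [oddIdeal, Ideal.span_le]
    rintro q ((rfl | rfl) | ⟨i, rfl⟩)
    · exact Ideal.mem_sup_right (Ideal.subset_span rfl)
    · exact Ideal.mem_sup_left x_sq_mem
    · show evar n (i.val + 1) ^ 2 ^ kprime n (i.val + 1) ∈ presIdeal n ⊔ K
      by_cases hi : i.val = 0
      · rw [hi]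
        exact Ideal.mem_sup_right (K.pow_mem_of_mem (Ideal.subset_span rfl) _ (Nat.two_pow_pos _))
      · rw [← sub_sub_self (hrel n (i.val + 1)) (evar n (i.val + 1) ^ 2 ^ kprime n (i.val + 1))]
        exact Ideal.sub_mem _ (Ideal.mem_sup_left (hrel_mem i)) (Ideal.mem_sup_right (hd i hi))
  · refine sup_le ?_ hKle
    rw [presIdeal, Ideal.span_le]
    rintro q ((rfl | rfl | rfl) | ⟨i, rfl⟩)
    · exact Ideal.pow_mem_of_mem _ he1 _ (by omega)
    · exact Ideal.mul_mem_right _ _ he1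
    · exact Ideal.subset_span (Or.inl (Or.inr rfl))
    · show hrel n (i.val + 1) ∈ oddIdeal n
      by_cases hi : i.val = 0
      · rw [hi, hrel_one]; exact Ideal.zero_mem _
      · rw [← sub_add_cancel (hrel n (i.val + 1)) (evar n (i.val + 1) ^ 2 ^ kprime n (i.val + 1))]
        exact Ideal.add_mem _ (hKle (hd i hi)) (Ideal.subset_span (Or.inr ⟨i, rfl⟩))

/-! ### `n` even, not a power of two -/

theorem two_pow_twoExp (hn : 2 ≤ n) :
    ∃ o, Odd o ∧ n = o * 2 ^ twoExp n := by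
  obtain ⟨a, o, ho, rfl⟩ : ∃ a o, Odd o ∧ n = o * 2 ^ a := by
    obtain ⟨a, o, h1, h2⟩ := Nat.exists_eq_pow_mul_and_not_dvd (n := n) (by omega) 2 (by omega)
    exact ⟨a, o, Nat.odd_iff.2 (by omega), by rw [h2]; ring⟩
  refine ⟨o, ho, ?_⟩
  have : twoExp (o * 2 ^ a) = a := by
    rw [twoExp, padicValNat.mul (by intro h; subst h; simp at ho) (pow_ne_zero _ two_ne_zero), padicValNat.prime_pow,
      padicValNat.eq_zero_of_not_dvd (by rw [Nat.two_dvd_ne_zero, ← Nat.odd_iff]; exact ho), zero_add]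
  rw [this]

theorem even_conclusion (τ : P n →ₐ[ZMod 2] P n) (hn : 2 ≤ n) (hτ1 : τ (eps n 1) = eps n 1)
    (hτ : ∀ j : ℕ, 2 ≤ j → j ≤ numVars n → τ (eps n j) = eps n j + eps n 1 ^ (2 * j - 3))
    (ha : 1 ≤ twoExp n) (hne : n ≠ 2 ^ twoExp n) :
    (∀ q : FreeP n, (∃ w, τ w = w ∧ psi n q = eps n 1 ^ 2 ^ twoExp n * w) ↔ q ∈ evenIdeal n) ∧
    (∀ z, τ z = z → ∃ q : FreeP n, ∃ w, τ w = w ∧ z = psi n q + eps n 1 ^ 2 ^ twoExp n * w) := by
  obtain ⟨o, ho, hno⟩ := two_pow_twoExp hn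
  set a := twoExp n with ha'
  have hpa : 2 ≤ 2 ^ a := (Nat.pow_le_pow_right two_pos ha : 2 ^ 1 ≤ 2 ^ a)
  have ho3 : 3 ≤ o := by
    obtain ⟨r, rfl⟩ := ho
    rcases Nat.eq_zero_or_pos r with rfl | h
    · simp at hno; exact absurd hno hne
    · omega
  set l := lIdx n with hl
  have hl' : 2 * l - 3 = o ∧ 3 ≤ l := by
    have : n / 2 ^ a = o := by rw [hno, Nat.mul_div_cancel _ (Nat.two_pow_pos _)]
    rw [hl, lIdx, ← ha', this]
    obtain ⟨r, rfl⟩ := ho
    omega
  have hls : l ≤ numVars n := by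
    have : o * 2 ≤ n := by rw [hno]; exact Nat.mul_le_mul_left _ hpa
    unfold numVars
    omega
  have huniq : ∀ j t, 2 ≤ j → (2 * j - 3) * 2 ^ t = 2 * n → j = l ∧ t = a + 1 := by
    intro j t hj he
    obtain ⟨h1, h2⟩ := odd_mul_pow_inj t (a + 1) (a := 2 * j - 3) ⟨j - 2, by omega⟩ ho (by rw [he, hno]; ring)
    exact ⟨by omega, h1⟩
  obtain ⟨hb1, hb2, hb3⟩ := klog_two_bounds hn
  have hc2 : 2 ^ klog n 2 ≠ n := by
    intro h
    have := (huniq 2 (klog n 2 + 1) le_rfl (by rw [show 2 * 2 - 3 = 1 by omega, one_mul, pow_succ]; omega)).1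
    omega
  have hk2 : kprime n 2 = klog n 2 - 1 := kprime_two hn hc2
  have hkl : klog n l = a := by
    have h1 := le_pow_klog (n := n) (show 2 ≤ l by omega)
    have h2 := pow_klog_le hn (show 2 ≤ l by omega) hls
    rw [hl'.1] at h1 h2
    have h3 : o * 2 ^ a ≤ o * 2 ^ klog n l := hno ▸ h1
    have h4 := Nat.le_of_mul_le_mul_left h3 (by omega)
    have h5 : o * 2 ^ klog n l < o * 2 ^ (a + 1) := by
      rw [pow_succ, ← mul_assoc, ← hno]; omega
    have h6 := Nat.lt_of_mul_lt_mul_left h5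
    rw [Nat.pow_lt_pow_iff_right one_lt_two] at h6
    rw [Nat.pow_le_pow_iff_right one_lt_two] at h4
    omega
  have hkpl : kprime n l = a + 1 := by
    rw [kprime, if_neg (by omega), if_neg (by omega), hl'.1, show 2 * n = o * 2 ^ (a + 1) by rw [hno]; ring,
      Nat.mul_div_cancel_left _ (by omega), Nat.log_pow one_lt_two]
  have hk1 : kprime n 1 = a := if_pos rfl
  set K := Ideal.span ({evar n 1 ^ 2 ^ a, evar n 1 * xvar n} : Set (FreeE n)) with hK
  have hKa : evar n 1 ^ 2 ^ a ∈ ({evar n 1 ^ 2 ^ a, evar n 1 * xvar n} : Set (FreeE n)) := Set.mem_insert _ _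
  have hKx : evar n 1 * xvar n ∈ ({evar n 1 ^ 2 ^ a, evar n 1 * xvar n} : Set (FreeE n)) := Set.mem_insert_of_mem _ rfl
  -- congruences
  have hd2 : hrel n 2 - evar n 2 ^ 2 ^ kprime n 2 ∈ K := by
    rw [hrel_two, hk2, add_sub_assoc]
    refine K.add_mem (pow_mul_x_mem (by omega) hKx) (sPoly_sub_mem hn ?_ hKa)
    have h1 : 2 ^ a * 3 ≤ n := by rw [hno, mul_comm]; exact Nat.mul_le_mul_right _ ho3
    have : 2 ^ a < 2 ^ (klog n 2) := by omega
    rw [Nat.pow_lt_pow_iff_right one_lt_two] at this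
    exact Nat.pow_le_pow_right two_pos (by omega)
  have hdj : ∀ j, 3 ≤ j → j ≤ numVars n → j ≠ l → hrel n j - evar n j ^ 2 ^ kprime n j ∈ K := by
    intro j hj hjs hjl
    rw [hrel_ge hj hjs, kprime_eq_klog hn hj hjs (fun t he => hjl (huniq j t (by omega) he).1), add_assoc, add_sub_cancel_left]
    have h1 := le_pow_klog (n := n) (show 2 ≤ j by omega)
    refine K.add_mem (pow_mul_x_mem ?_ hKx) (K.mul_mem_right _ (pow_mem_span ?_ hKa))
    · intro h0
      exact hjl (huniq j (klog n j + 1) (by omega) (by rw [pow_succ, ← mul_assoc]; omega)).1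
    · rcases le_or_gt a (klog n j) with h | h
      · exact (Nat.pow_le_pow_right two_pos h).trans (Nat.le_mul_of_pos_left _ (by omega))
      · obtain ⟨d, hd⟩ := Nat.exists_eq_add_of_lt h
        replace h1 : o * 2 ^ (d + 1) * 2 ^ klog n j ≤ (2 * j - 3) * 2 ^ klog n j := by
          refine le_trans (le_of_eq ?_) h1
          conv_rhs => rw [hno, hd]
          ring
        have h2 := Nat.le_of_mul_le_mul_right h1 (Nat.two_pow_pos _)
        rw [show 2 ^ a = 2 ^ (d + 1) * 2 ^ klog n j by rw [hd]; ring]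
        refine Nat.mul_le_mul_right _ ?_
        have h3 : 2 ^ (d + 1) * 3 ≤ o * 2 ^ (d + 1) := by rw [mul_comm o]; exact Nat.mul_le_mul_left _ ho3
        omega
  have hdl : hrel n l - (evar n l ^ 2 ^ a + xvar n) ∈ K := by
    rw [hrel_ge hl'.2 hls, hkl, hl'.1, ← hno, Nat.sub_self, pow_zero, one_mul, add_sub_cancel_left]
    exact K.mul_mem_right _ (pow_mem_span (Nat.le_mul_of_pos_left _ (by omega)) hKa)
  have hKJ : K ≤ presIdeal n ⊔ Ideal.span ({evar n 1 ^ 2 ^ a} : Set (FreeE n)) := by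
    rw [Ideal.span_le]
    rintro q (rfl | rfl)
    · exact Ideal.mem_sup_right (Ideal.subset_span rfl)
    · exact Ideal.mem_sup_left e1_x_mem
  set J := presIdeal n ⊔ Ideal.span ({evar n 1 ^ 2 ^ a} : Set (FreeE n))
  have hrelJ : ∀ j, 2 ≤ j → j ≤ numVars n → hrel n j ∈ J := fun j h1 h2 => by
    have := hrel_mem (n := n) ⟨j - 1, by omega⟩
    rw [show (j - 1) + 1 = j by omega] at this
    exact Ideal.mem_sup_left this
  have hxl : evar n l ^ 2 ^ a + xvar n ∈ J := by
    rw [← sub_sub_self (hrel n l) (evar n l ^ 2 ^ a + xvar n)]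
    exact J.sub_mem (hrelJ l (by omega) hls) (hKJ hdl)
  have hC : xvar n - rename some (evarE n l ^ 2 ^ a) ∈ J := by
    rw [map_pow, rename_evarE, ← add_sub_eq, add_comm]
    exact hxl
  have hgenl : evarE n 1 * evarE n l ^ 2 ^ a ∈ evenIdeal n := by
    refine Ideal.subset_span (Or.inl ?_)
    rw [Set.mem_singleton_iff, ← hl, hkpl, Nat.add_sub_cancel]
  have hgen : ∀ j, 1 ≤ j → j ≤ numVars n → evarE n j ^ 2 ^ kprime n j ∈ evenIdeal n := fun j h1 h2 =>
    Ideal.subset_span (Or.inr ⟨⟨j - 1, by omega⟩, by simp only [show (j - 1) + 1 = j by omega]⟩)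
  have h1s : 1 ≤ numVars n := Nat.succ_pos _
  have hKI : K ≤ (evenIdeal n).comap (elim (evarE n l ^ 2 ^ a)) := by
    rw [Ideal.span_le]
    rintro q (rfl | rfl)
    · show elim _ _ ∈ evenIdeal n
      rw [map_pow, elim_evar, ← hk1]
      exact hgen 1 le_rfl h1s
    · show elim _ _ ∈ evenIdeal n
      rw [map_mul, elim_evar, elim_xvar]
      exact hgenl
  refine elim_conclusion τ hn hτ1 hτ _ (evenIdeal n) (evarE n l ^ 2 ^ a) (sup_le ?_ ?_) ?_ hC
  · rw [presIdeal, Ideal.span_le]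
    rintro q ((rfl | rfl | rfl) | ⟨i, rfl⟩)
    · exact hKI (pow_mem_span (by rw [hno]; exact Nat.le_mul_of_pos_left _ (by omega)) hKa)
    · exact hKI (Ideal.subset_span hKx)
    · show elim _ _ ∈ evenIdeal n
      rw [map_pow, elim_xvar, ← pow_mul, ← pow_succ, ← hkpl]
      exact hgen l (by omega) hls
    · show hrel n (i.val + 1) ∈ (evenIdeal n).comap (elim (evarE n l ^ 2 ^ a))
      have hjs : i.val + 1 ≤ numVars n := i.isLt
      generalize hj : i.val + 1 = j at hjs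
      rcases (show j = 1 ∨ j = 2 ∨ 3 ≤ j by omega) with rfl | rfl | h3
      · rw [hrel_one]; exact Ideal.zero_mem _
      · rw [← sub_add_cancel (hrel n 2) (evar n 2 ^ 2 ^ kprime n 2)]
        refine Ideal.add_mem _ (hKI hd2) ?_
        show elim _ _ ∈ evenIdeal n
        rw [map_pow, elim_evar]; exact hgen 2 (by omega) hjs
      · by_cases hjl : j = l
        · rw [hjl, ← sub_add_cancel (hrel n l) (evar n l ^ 2 ^ a + xvar n)]
          refine Ideal.add_mem _ (hKI hdl) ?_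
          show elim _ _ ∈ evenIdeal n
          rw [map_add, map_pow, elim_evar, elim_xvar, add_self']
          exact Ideal.zero_mem _
        · rw [← sub_add_cancel (hrel n j) (evar n j ^ 2 ^ kprime n j)]
          refine Ideal.add_mem _ (hKI (hdj j h3 hjs hjl)) ?_
          show elim _ _ ∈ evenIdeal n
          rw [map_pow, elim_evar]; exact hgen j (by omega) hjs
  · exact (Ideal.span_le.2 (Set.singleton_subset_iff.2 (hKI (Ideal.subset_span hKa))))
  · rw [evenIdeal, Ideal.span_le]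
    rintro q (rfl | ⟨i, rfl⟩)
    · show rename some _ ∈ J
      rw [map_mul, map_pow, rename_evarE, rename_evarE, ← hl, hkpl, Nat.add_sub_cancel,
        show evar n 1 * evar n l ^ 2 ^ a = evar n 1 * (evar n l ^ 2 ^ a + xvar n) - evar n 1 * xvar n by ring]
      exact J.sub_mem (J.mul_mem_left _ hxl) (Ideal.mem_sup_left e1_x_mem)
    · show rename some (evarE n (i.val + 1) ^ 2 ^ kprime n (i.val + 1)) ∈ J
      have hjs : i.val + 1 ≤ numVars n := i.isLt
      generalize hj : i.val + 1 = j at hjs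
      rw [map_pow, rename_evarE]
      rcases (show j = 1 ∨ j = 2 ∨ 3 ≤ j by omega) with rfl | rfl | h3
      · rw [hk1]; exact Ideal.mem_sup_right (Ideal.subset_span rfl)
      · rw [← sub_sub_self (hrel n 2) (evar n 2 ^ 2 ^ kprime n 2)]
        exact J.sub_mem (hrelJ 2 le_rfl hjs) (hKJ hd2)
      · by_cases hjl : j = l
        · rw [hjl, hkpl, pow_succ 2 a, pow_mul, show (evar n l ^ 2 ^ a) ^ 2 =
            (evar n l ^ 2 ^ a + xvar n) * (evar n l ^ 2 ^ a - xvar n) + xvar n ^ 2 by ring]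
          exact J.add_mem (J.mul_mem_right _ hxl) (Ideal.mem_sup_left x_sq_mem)
        · rw [← sub_sub_self (hrel n j) (evar n j ^ 2 ^ kprime n j)]
          exact J.sub_mem (hrelJ j (by omega) hjs) (hKJ (hdj j h3 hjs hjl))

/-! ### `n` a power of two -/

theorem pow_conclusion (τ : P n →ₐ[ZMod 2] P n) (hn : 2 ≤ n) (hτ1 : τ (eps n 1) = eps n 1)
    (hτ : ∀ j : ℕ, 2 ≤ j → j ≤ numVars n → τ (eps n j) = eps n j + eps n 1 ^ (2 * j - 3))
    (b : ℕ) (hb : 1 ≤ b) (hnb : n = 2 ^ b) :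
    (psi n).range = AlgHom.equalizer τ (AlgHom.id (ZMod 2) (P n)) ∧ RingHom.ker (psi n) = powIdeal n := by
  have hklog : klog n 2 = b := by
    rw [klog, show 2 * 2 - 3 = 1 by omega, Nat.div_one]
    apply Nat.log_eq_of_pow_le_of_lt_pow <;> rw [hnb]
    · have := Nat.one_le_two_pow (n := b); omega
    · rw [pow_succ]; have := Nat.one_le_two_pow (n := b); omega
  have hk2 : kprime n 2 = b := by rw [kprime, if_neg (by omega), if_pos rfl, hnb, Nat.log_pow one_lt_two]
  have hte : twoExp n = b := by rw [twoExp, hnb, padicValNat.prime_pow]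
  have hk1 : 2 ^ kprime n 1 = n := by rw [kprime, if_pos rfl, hte, hnb]
  have hne : ∀ j, 3 ≤ j → ∀ t, (2 * j - 3) * 2 ^ t ≠ 2 * n := by
    intro j hj t he
    obtain ⟨-, h2⟩ := odd_mul_pow_inj t (b + 1) (a := 2 * j - 3) (b := 1) ⟨j - 2, by omega⟩ odd_one (by rw [he, hnb]; ring)
    omega
  set v : FreeP n := ∑ t ∈ Finset.range (kprime n 2), evarE n 1 ^ (2 ^ kprime n 2 - 2 ^ (t + 1)) * evarE n 2 ^ 2 ^ t with hv
  have hrv : rename some v = sPoly n 2 := by
    simp only [hv, hk2, sPoly, hklog, map_sum, map_mul, map_pow, rename_evarE]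
  have hev : elim v (sPoly n 2) = v := by rw [← hrv, elim_rename]
  set K := Ideal.span ({evar n 1 ^ n, evar n 1 * xvar n} : Set (FreeE n))
  have hKn : evar n 1 ^ n ∈ ({evar n 1 ^ n, evar n 1 * xvar n} : Set (FreeE n)) := Set.mem_insert _ _
  have hKx : evar n 1 * xvar n ∈ ({evar n 1 ^ n, evar n 1 * xvar n} : Set (FreeE n)) := Set.mem_insert_of_mem _ rfl
  have hd2 : hrel n 2 = xvar n + sPoly n 2 := by rw [hrel_two, hklog, ← hnb, Nat.sub_self, pow_zero, one_mul]
  have hdj : ∀ j, 3 ≤ j → j ≤ numVars n → hrel n j - evar n j ^ 2 ^ kprime n j ∈ K := by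
    intro j hj hjs
    rw [hrel_ge hj hjs, kprime_eq_klog hn hj hjs (hne j hj), add_assoc, add_sub_cancel_left]
    have h1 := le_pow_klog (n := n) (show 2 ≤ j by omega)
    refine K.add_mem (pow_mul_x_mem ?_ hKx) (K.mul_mem_right _ (pow_mem_span ?_ hKn))
    · intro h0
      exact hne j hj (klog n j + 1) (by rw [pow_succ, ← mul_assoc]; omega)
    · rcases le_or_gt b (klog n j) with h | h
      · refine hnb.le.trans ((Nat.pow_le_pow_right two_pos h).trans (Nat.le_mul_of_pos_left _ ?_))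
        omega
      · obtain ⟨d, hd⟩ := Nat.exists_eq_add_of_lt h
        have hn' : n = 2 ^ (d + 1) * 2 ^ klog n j := by
          rw [← pow_add]; exact hnb.trans (congrArg (2 ^ ·) (by omega))
        have h2 : 2 ^ (d + 1) * 2 ^ klog n j ≤ (2 * j - 3) * 2 ^ klog n j := by omega
        have h3 := Nat.le_of_mul_le_mul_right h2 (Nat.two_pow_pos _)
        refine le_trans hn'.le (Nat.mul_le_mul_right _ ?_)
        have h4 : 2 ^ (d + 1) = 2 * 2 ^ d := by rw [pow_succ]; ring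
        omega
  have hsq : sPoly n 2 ^ 2 - evar n 2 ^ 2 ^ b ∈ K := by
    obtain ⟨k, hk⟩ : ∃ k, b = k + 1 := ⟨b - 1, by omega⟩
    rw [sPoly, hklog, hk, Finset.sum_range_succ, Nat.sub_self, pow_zero, one_mul, add_sq', ← pow_mul, ← pow_succ,
      add_sub_cancel_right, sum_sq']
    refine Ideal.sum_mem _ fun t ht => ?_
    rw [mul_pow, ← pow_mul]
    refine K.mul_mem_right _ (pow_mem_span ?_ hKn)
    have h1 : 2 ^ (t + 1) ≤ 2 ^ k := Nat.pow_le_pow_right two_pos (Finset.mem_range.1 ht)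
    have h2 : n = 2 * 2 ^ k := by rw [hnb, hk, pow_succ]; ring
    rw [pow_succ 2 k]
    omega
  set J := presIdeal n ⊔ Ideal.span ({evar n 1 ^ n} : Set (FreeE n)) with hJ'
  have hJ : J = presIdeal n := sup_eq_left.2 (Ideal.span_le.2 (Set.singleton_subset_iff.2 e1_pow_mem))
  have hKJ : K ≤ J := by
    rw [hJ, Ideal.span_le]
    rintro q (rfl | rfl)
    exacts [e1_pow_mem, e1_x_mem]
  have hC : xvar n - rename some v ∈ J := by
    rw [hrv, hJ, ← add_sub_eq, ← hd2]
    exact hrel_mem (⟨1, two_le_numVars hn⟩ : Fin (numVars n))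
  have hgen : ∀ j, 1 ≤ j → j ≤ numVars n → evarE n j ^ 2 ^ kprime n j ∈ powIdeal n := fun j h1 h2 =>
    Ideal.subset_span (Or.inr ⟨⟨j - 1, by omega⟩, by simp only [show (j - 1) + 1 = j by omega]⟩)
  have hgenv : evarE n 1 * v ∈ powIdeal n := Ideal.subset_span (Or.inl rfl)
  have hKI : K ≤ (powIdeal n).comap (elim v) := by
    rw [Ideal.span_le]
    rintro q (rfl | rfl)
    · show elim _ _ ∈ powIdeal n
      have := hgen 1 le_rfl (Nat.succ_pos _)
      rw [hk1] at this
      rw [map_pow, elim_evar]; exact this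
    · show elim _ _ ∈ powIdeal n
      rw [map_mul, elim_evar, elim_xvar]; exact hgenv
  have main := elim_conclusion τ hn hτ1 hτ n (powIdeal n) v (sup_le ?_ ?_) ?_ hC
  · constructor
    · refine le_antisymm ?_ fun z hz => ?_
      · rintro _ ⟨q, rfl⟩
        exact tau_psi τ hn hτ1 hτ q
      · obtain ⟨q, w, -, h⟩ := main.2 z hz
        exact ⟨q, by rw [eps_one_pow, zero_mul, add_zero] at h; exact h.symm⟩
    · ext q
      rw [← main.1 q, RingHom.mem_ker]
      constructor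
      · intro h; exact ⟨0, map_zero τ, by rw [h, mul_zero]⟩
      · rintro ⟨w, -, h⟩; rw [h, eps_one_pow, zero_mul]
  · rw [presIdeal, Ideal.span_le]
    rintro q ((rfl | rfl | rfl) | ⟨i, rfl⟩)
    · exact hKI (Ideal.subset_span hKn)
    · exact hKI (Ideal.subset_span hKx)
    · show elim _ _ ∈ powIdeal n
      have h1 : elim v (sPoly n 2 ^ 2 - evar n 2 ^ 2 ^ b) ∈ powIdeal n := hKI hsq
      rw [map_sub, map_pow, map_pow, hev, elim_evar] at h1
      have h2 := hgen 2 (by omega) (two_le_numVars hn)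
      rw [hk2] at h2
      rw [map_pow, elim_xvar, ← sub_add_cancel (v ^ 2) (evarE n 2 ^ 2 ^ b)]
      exact Ideal.add_mem _ h1 h2
    · show hrel n (i.val + 1) ∈ (powIdeal n).comap (elim v)
      have hjs : i.val + 1 ≤ numVars n := i.isLt
      generalize hj : i.val + 1 = j at hjs
      rcases (show j = 1 ∨ j = 2 ∨ 3 ≤ j by omega) with rfl | rfl | h3
      · rw [hrel_one]; exact Ideal.zero_mem _
      · show elim _ _ ∈ powIdeal n
        rw [hd2, map_add, elim_xvar, hev, add_self']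
        exact Ideal.zero_mem _
      · rw [← sub_add_cancel (hrel n j) (evar n j ^ 2 ^ kprime n j)]
        refine Ideal.add_mem _ (hKI (hdj j h3 hjs)) ?_
        show elim _ _ ∈ powIdeal n
        rw [map_pow, elim_evar]; exact hgen j (by omega) hjs
  · exact (Ideal.span_le.2 (Set.singleton_subset_iff.2 (hKI (Ideal.subset_span hKn))))
  · rw [powIdeal, Ideal.span_le]
    have hxv : xvar n + sPoly n 2 ∈ J := by rw [hJ, ← hd2]; exact hrel_mem (⟨1, two_le_numVars hn⟩ : Fin (numVars n))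
    rintro q (rfl | ⟨i, rfl⟩)
    · show rename some (evarE n 1 * v) ∈ J
      rw [map_mul, rename_evarE, hrv, show evar n 1 * sPoly n 2 =
        evar n 1 * (xvar n + sPoly n 2) - evar n 1 * xvar n by ring]
      exact J.sub_mem (J.mul_mem_left _ hxv) (Ideal.mem_sup_left e1_x_mem)
    · show rename some (evarE n (i.val + 1) ^ 2 ^ kprime n (i.val + 1)) ∈ J
      have hjs : i.val + 1 ≤ numVars n := i.isLt
      generalize hj : i.val + 1 = j at hjs
      rw [map_pow, rename_evarE]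
      rcases (show j = 1 ∨ j = 2 ∨ 3 ≤ j by omega) with rfl | rfl | h3
      · rw [hk1]; exact Ideal.mem_sup_left e1_pow_mem
      · rw [hk2, show evar n 2 ^ 2 ^ b = (sPoly n 2 + xvar n) * (sPoly n 2 - xvar n) + xvar n ^ 2 -
          (sPoly n 2 ^ 2 - evar n 2 ^ 2 ^ b) by ring]
        exact J.sub_mem (J.add_mem (J.mul_mem_right _ (by rw [add_comm]; exact hxv)) (Ideal.mem_sup_left x_sq_mem))
          (hKJ hsq)
      · rw [← sub_sub_self (hrel n j) (evar n j ^ 2 ^ kprime n j)]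
        refine J.sub_mem (Ideal.mem_sup_left ?_) (hKJ (hdj j h3 hjs))
        have := hrel_mem (n := n) i
        rwa [hj] at this

end Groth.Misc13.QsC
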