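import Mathlib.FieldTheory.RatFunc.AsPolynomial
import Mathlib.RingTheory.Localization.FractionRing
import Mathlib.Algebra.Category.Ring.Constructions
import Mathlib.Algebra.Category.Ring.Limits

/-!
# Base change of a ring along `k ⊆ k(t)`
-/

set_option autoImplicit false

universe u

open CategoryTheory CategoryTheory.Limits Polynomial
open scoped TensorProduct nonZeroDivisors

namespace Groth.Misc13.RatFuncBC

/-- Substituting the variable is injective on polynomials over a domain. -/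
theorem eval₂_ratFunc_eq_zero {R : Type u} [CommRing R] [IsDomain R] {P : R[X]}
    (hP : P.eval₂ ((algebraMap (FractionRing R) (RatFunc (FractionRing R))).comp
      (algebraMap R (FractionRing R))) RatFunc.X = 0) : P = 0 := by
  let F := FractionRing R
  let j : R →+* F := algebraMap R F
  have h : eval₂RingHom ((algebraMap F (RatFunc F)).comp j) RatFunc.X =
      (algebraMap F[X] (RatFunc F)).comp (mapRingHom j) := by
    refine Polynomial.ringHom_ext (fun c => ?_) ?_
    · simp only [coe_eval₂RingHom, eval₂_C, RingHom.comp_apply, coe_mapRingHom, map_C]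
      exact IsScalarTower.algebraMap_apply F F[X] (RatFunc F) _
    · simp [RatFunc.algebraMap_X]
  have h1 : algebraMap F[X] (RatFunc F) (P.map j) = 0 := congr($h P).symm.trans hP
  rw [FaithfulSMul.algebraMap_eq_zero_iff] at h1
  exact Polynomial.map_injective j (IsFractionRing.injective R F) (by rw [h1, Polynomial.map_zero])

variable {k R S : Type u} [Field k] [CommRing R] [CommRing S] {a : k →+* R} {ι : R →+* S}
  {κ : RatFunc k →+* S}
  (hpo : IsPushout (CommRingCat.ofHom a) (CommRingCat.ofHom (algebraMap k (RatFunc k)))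
    (CommRingCat.ofHom ι) (CommRingCat.ofHom κ))
include hpo

theorem comm_apply (c : k) : ι (a c) = κ (algebraMap k (RatFunc k) c) :=
  congr($(hpo.w) c)

/-- Evaluation at the variable. -/
theorem eval₂_map (Q : k[X]) :
    (Q.map a).eval₂ ι (κ RatFunc.X) = κ (algebraMap k[X] (RatFunc k) Q) := by
  have h : (eval₂RingHom ι (κ RatFunc.X)).comp (mapRingHom a) = κ.comp (algebraMap k[X] (RatFunc k)) := by
    refine Polynomial.ringHom_ext (fun c => ?_) ?_
    · simp only [RingHom.comp_apply, coe_mapRingHom, map_C, coe_eval₂RingHom, eval₂_C, comm_apply hpo]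
      exact congrArg κ (IsScalarTower.algebraMap_apply k k[X] (RatFunc k) c)
    · simp [RatFunc.algebraMap_X]
  exact congr($h Q)

/-- Every element has a normal form. -/
theorem exists_form (z : S) : ∃ (Q : k[X]) (P : R[X]), Q ≠ 0 ∧
    κ (algebraMap k[X] (RatFunc k) Q) * z = P.eval₂ ι (κ RatFunc.X) := by
  let T : Subring S :=
    { carrier := {z | ∃ (Q : k[X]) (P : R[X]), Q ≠ 0 ∧
        κ (algebraMap k[X] (RatFunc k) Q) * z = P.eval₂ ι (κ RatFunc.X)}
      zero_mem' := ⟨1, 0, one_ne_zero, by simp⟩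
      one_mem' := ⟨1, 1, one_ne_zero, by simp⟩
      add_mem' := by
        rintro x y ⟨Q, P, hQ, hP⟩ ⟨Q', P', hQ', hP'⟩
        refine ⟨Q * Q', P * Q'.map a + P' * Q.map a, mul_ne_zero hQ hQ', ?_⟩
        rw [eval₂_add, eval₂_mul, eval₂_mul, eval₂_map hpo, eval₂_map hpo, ← hP, ← hP', map_mul, map_mul]
        ring
      mul_mem' := by
        rintro x y ⟨Q, P, hQ, hP⟩ ⟨Q', P', hQ', hP'⟩
        refine ⟨Q * Q', P * P', mul_ne_zero hQ hQ', ?_⟩
        rw [eval₂_mul, ← hP, ← hP', map_mul, map_mul]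
        ring
      neg_mem' := by
        rintro x ⟨Q, P, hQ, hP⟩
        exact ⟨Q, -P, hQ, by rw [mul_neg, hP, eval₂_neg]⟩ }
  have hι : ∀ r, ι r ∈ T := fun r => ⟨1, C r, one_ne_zero, by simp⟩
  have hκ : ∀ b, κ b ∈ T := fun b => ⟨b.denom, b.num.map a, b.denom_ne_zero, by
    rw [eval₂_map hpo, ← map_mul]
    congr 1
    conv_lhs => arg 2; rw [← b.num_div_denom]
    rw [mul_div_cancel₀]
    simpa using b.denom_ne_zero⟩
  let d := hpo.desc (W := CommRingCat.of T) (CommRingCat.ofHom (ι.codRestrict T hι))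
    (CommRingCat.ofHom (κ.codRestrict T hκ)) (CommRingCat.hom_ext (RingHom.ext fun c =>
      Subtype.ext (comm_apply hpo c)))
  have he : d ≫ CommRingCat.ofHom T.subtype = 𝟙 (CommRingCat.of S) := by
    refine hpo.hom_ext ?_ ?_
    · rw [hpo.inl_desc_assoc, Category.comp_id]; rfl
    · rw [hpo.inr_desc_assoc, Category.comp_id]; rfl
  have := (d z).2
  rwa [show ((d z : T) : S) = z from congr($he z)] at this

/-- Homomorphisms to a field. -/
theorem exists_hom {Ω : Type u} [Field Ω] (ψ : R →+* Ω) (τ : Ω)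
    (hτ : ∀ Q : k[X], Q ≠ 0 → (Q.map a).eval₂ ψ τ ≠ 0) :
    ∃ Ψ : S →+* Ω, ∀ P : R[X], Ψ (P.eval₂ ι (κ RatFunc.X)) = P.eval₂ ψ τ := by
  let φ : k[X] →+* Ω := (eval₂RingHom ψ τ).comp (mapRingHom a)
  have hφ : k[X]⁰ ≤ Ω⁰.comap φ := fun Q hQ => mem_nonZeroDivisors_of_ne_zero (by
    simpa [φ] using hτ Q (nonZeroDivisors.ne_zero hQ))
  let L := RatFunc.liftRingHom φ hφ
  have hw : CommRingCat.ofHom a ≫ CommRingCat.ofHom ψ =
      CommRingCat.ofHom (algebraMap k (RatFunc k)) ≫ CommRingCat.ofHom L := by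
    refine CommRingCat.hom_ext (RingHom.ext fun c => ?_)
    change ψ (a c) = L (algebraMap k (RatFunc k) c)
    rw [IsScalarTower.algebraMap_apply k k[X] (RatFunc k) c, RatFunc.liftRingHom_algebraMap]
    simp [φ]
  let d := hpo.desc (CommRingCat.ofHom ψ) (CommRingCat.ofHom L) hw
  refine ⟨d.hom, fun P => ?_⟩
  rw [Polynomial.hom_eval₂]
  have h1 : d.hom.comp ι = ψ := congrArg CommRingCat.Hom.hom (hpo.inl_desc (CommRingCat.ofHom ψ)
    (CommRingCat.ofHom L) hw)
  have h2 : d.hom (κ RatFunc.X) = L RatFunc.X := congr($(hpo.inr_desc (CommRingCat.ofHom ψ)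
    (CommRingCat.ofHom L) hw) RatFunc.X)
  rw [h1, h2, ← RatFunc.algebraMap_X, RatFunc.liftRingHom_algebraMap]
  simp [φ]

omit hpo [CommRing R] in
theorem isUnit_denom {Q : k[X]} (hQ : Q ≠ 0) : IsUnit (κ (algebraMap k[X] (RatFunc k) Q)) :=
  (isUnit_iff_ne_zero.2 (by simpa using hQ)).map κ

/-- The base change of a domain is a domain. -/
theorem isDomain [IsDomain R] : IsDomain S := by
  let F := FractionRing R
  let ψ : R →+* RatFunc F := (algebraMap F (RatFunc F)).comp (algebraMap R F)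
  have hz : ∀ P : R[X], P.eval₂ ψ RatFunc.X = 0 → P = 0 := fun P hP => eval₂_ratFunc_eq_zero hP
  obtain ⟨Ψ, hΨ⟩ := exists_hom hpo ψ RatFunc.X fun Q hQ h =>
    hQ (Polynomial.map_injective a a.injective (by rw [hz _ h, Polynomial.map_zero]))
  refine Function.Injective.isDomain Ψ ((injective_iff_map_eq_zero _).2 fun z hzz => ?_)
  obtain ⟨Q, P, hQ, hP⟩ := exists_form hpo z
  have : P = 0 := hz P (by rw [← hΨ, ← hP, map_mul, hzz, mul_zero])
  rw [this, eval₂_zero] at hP
  exact (isUnit_denom (κ := κ) hQ).mul_right_eq_zero.1 hP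

/-- The locus `f = t` has a single generic point. -/
theorem span_isPrime [IsDomain R] (f : R) {q : Ideal S} (hq : q.IsPrime)
    (hcq : ι f - κ RatFunc.X ∈ q) : (Ideal.span {ι f - κ RatFunc.X}).IsPrime := by
  let F := FractionRing R
  let j : R →+* F := algebraMap R F
  have hj : Function.Injective j := IsFractionRing.injective R F
  set I := Ideal.span {ι f - κ RatFunc.X}
  have hcongr : ∀ P : R[X], P.eval₂ ι (κ RatFunc.X) - ι (P.eval f) ∈ I := fun P => by
    obtain ⟨G, hG⟩ : (X - C f) ∣ P - C (P.eval f) := X_sub_C_dvd_sub_C_eval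
    have h := congrArg (fun p : R[X] => p.eval₂ ι (κ RatFunc.X)) hG
    simp only [eval₂_sub, eval₂_C, eval₂_mul, eval₂_X] at h
    rw [h, show κ RatFunc.X - ι f = -(ι f - κ RatFunc.X) by ring, neg_mul, neg_mem_iff]
    exact Ideal.mul_mem_right _ _ (Ideal.mem_span_singleton_self _)
  have hev : ∀ P : R[X], P.eval₂ j (j f) = j (P.eval f) := fun P => eval₂_at_apply j f
  obtain ⟨Ψ, hΨ⟩ := exists_hom hpo j (j f) fun Q hQ h => by
    rw [hev, map_eq_zero_iff j hj] at h
    refine hq.ne_top (Ideal.eq_top_of_isUnit_mem _ ?_ (isUnit_denom (κ := κ) hQ))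
    have h1 := hcongr (Q.map a)
    rw [h, map_zero, sub_zero, eval₂_map hpo] at h1
    exact (Ideal.span_singleton_le_iff_mem _).2 hcq h1
  have hker : RingHom.ker Ψ = I := by
    refine le_antisymm (fun z hz => ?_) ((Ideal.span_singleton_le_iff_mem _).2 ?_)
    · obtain ⟨Q, P, hQ, hP⟩ := exists_form hpo z
      rw [RingHom.mem_ker] at hz
      have h0 : j (P.eval f) = 0 := by rw [← hev, ← hΨ, ← hP, map_mul, hz, mul_zero]
      rw [map_eq_zero_iff j hj] at h0
      have h1 := hcongr P
      rw [h0, map_zero, sub_zero, ← hP] at h1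
      exact (Ideal.unit_mul_mem_iff_mem _ (isUnit_denom (κ := κ) hQ)).1 h1
    · rw [RingHom.mem_ker]
      have h := hΨ (C f - X)
      simpa using h
  exact hker ▸ RingHom.ker_isPrime Ψ

/-- The difference `f - t` is not zero. -/
theorem sub_ne_zero [IsDomain R] (f : R) : ι f - κ RatFunc.X ≠ 0 := fun h => by
  obtain ⟨Ψ, hΨ⟩ := exists_hom hpo ((algebraMap (FractionRing R) (RatFunc (FractionRing R))).comp
    (algebraMap R (FractionRing R))) RatFunc.X fun Q hQ h0 =>
      hQ (Polynomial.map_injective a a.injective (by rw [eval₂_ratFunc_eq_zero h0, Polynomial.map_zero]))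
  have h1 := hΨ (C f - X)
  rw [eval₂_sub, eval₂_C, eval₂_X, h, map_zero] at h1
  have := congrArg (fun p : R[X] => p.coeff 1) (eval₂_ratFunc_eq_zero h1.symm)
  simp [coeff_X] at this

end Groth.Misc13.RatFuncBC
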