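import Groth.Agent.Ega4Algebra2.CMUnmixed

/-!
# Generators of an ideal with a regular prefix
-/

universe u

namespace Groth.Misc13.RegularPrefix

open IsLocalRing RingTheory.Sequence Pointwise

variable {R : Type u} [CommRing R]

/-- Avoidance of finitely many primes and two arbitrary ideals. -/
lemma exists_avoid {I A B : Ideal R} {P : Set (Ideal R)} (hP : P.Finite) (hp : ∀ Q ∈ P, Q.IsPrime)
    (hA : ¬ I ≤ A) (hB : ¬ I ≤ B) (hPI : ∀ Q ∈ P, ¬ I ≤ Q) :
    ∃ x ∈ I, x ∉ A ∧ x ∉ B ∧ ∀ Q ∈ P, x ∉ Q := by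
  classical
  by_contra! hne
  have hsub : (I : Set R) ⊆ ⋃ Q ∈ (↑(insert A (insert B hP.toFinset)) : Set (Ideal R)), (Q : Set R) := by
    intro x hx
    simp only [Finset.coe_insert, Set.mem_iUnion, Set.mem_insert_iff, SetLike.mem_coe,
      Set.Finite.coe_toFinset, exists_prop]
    by_cases hxA : x ∈ A
    · exact ⟨A, Or.inl rfl, hxA⟩
    by_cases hxB : x ∈ B
    · exact ⟨B, Or.inr (Or.inl rfl), hxB⟩
    obtain ⟨Q, hQ, hxQ⟩ := hne x hx hxA hxB
    exact ⟨Q, Or.inr (Or.inr hQ), hxQ⟩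
  obtain ⟨Q, hQ, hle⟩ := (Ideal.subset_union_prime (f := id) A B (fun Q hQ h1 h2 => by
    simp only [Finset.mem_insert, h1, h2, false_or, Set.Finite.mem_toFinset] at hQ
    exact hp Q hQ)).1 hsub
  simp only [Finset.mem_insert, Set.Finite.mem_toFinset] at hQ
  rcases hQ with rfl | rfl | hQ
  · exact hA hle
  · exact hB hle
  · exact hPI Q hQ hle

variable [IsLocalRing R]

/-- An element outside `𝔪 J + I` replaces one generator. -/
lemma exchange {I J : Ideal R} {G : Finset R} {n : ℕ} (hJ : J = I ⊔ Ideal.span (G : Set R))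
    (hG : G.card ≤ n + 1) {t : R} (ht : t ∈ J) (ht' : t ∉ maximalIdeal R * J ⊔ I) :
    ∃ G' : Finset R, G'.card ≤ n ∧ J = I ⊔ Ideal.span {t} ⊔ Ideal.span (G' : Set R) := by
  classical
  obtain ⟨a, ha, b, hb, hab⟩ := Submodule.mem_sup.1 (hJ ▸ ht)
  obtain ⟨c, -, hc⟩ := Submodule.mem_span_finset.1 hb
  obtain ⟨g₀, hg₀, hu⟩ : ∃ g ∈ G, IsUnit (c g) := by
    by_contra! hne
    apply ht'
    rw [← hab, ← hc]
    refine add_mem (Ideal.mem_sup_right ha) (Ideal.mem_sup_left (sum_mem fun g hg => ?_))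
    rw [smul_eq_mul]
    exact Ideal.mul_mem_mul ((mem_maximalIdeal _).2 (hne g hg))
      (hJ ▸ Ideal.mem_sup_right (Ideal.subset_span hg))
  refine ⟨G.erase g₀, by rw [Finset.card_erase_of_mem hg₀]; omega, le_antisymm ?_ ?_⟩
  · rw [hJ]
    refine sup_le (le_sup_left.trans le_sup_left) (Ideal.span_le.2 fun g hg => ?_)
    rcases eq_or_ne g g₀ with rfl | hne
    · have hsum : c g * g = t - a - ∑ x ∈ G.erase g, c x * x := by
        rw [← hab, ← hc, ← Finset.add_sum_erase G _ hg₀]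
        simp only [smul_eq_mul]
        ring
      rw [SetLike.mem_coe, ← Ideal.unit_mul_mem_iff_mem _ hu, hsum]
      refine sub_mem (sub_mem ?_ ?_) (sum_mem fun x hx => Ideal.mul_mem_left _ _ ?_)
      · exact Ideal.mem_sup_left (Ideal.mem_sup_right (Ideal.subset_span rfl))
      · exact Ideal.mem_sup_left (Ideal.mem_sup_left ha)
      · exact Ideal.mem_sup_right (Ideal.subset_span hx)
    · exact Ideal.mem_sup_right (Ideal.subset_span (Finset.mem_coe.2 (Finset.mem_erase.2 ⟨hne, hg⟩)))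
  · refine sup_le (sup_le (hJ ▸ le_sup_left) ((Ideal.span_singleton_le_iff_mem J).2 ht)) ?_
    refine (Ideal.span_mono ?_).trans (hJ ▸ le_sup_right)
    exact_mod_cast Finset.erase_subset _ _

lemma eq_of_le_mul_maximalIdeal_sup [IsNoetherianRing R] {I J : Ideal R} (hIJ : I ≤ J)
    (h : J ≤ maximalIdeal R * J ⊔ I) : J = I := by
  refine le_antisymm ?_ hIJ
  refine Submodule.le_of_le_smul_of_le_jacobson_bot (IsNoetherian.noetherian J)
    (IsLocalRing.maximalIdeal_le_jacobson ⊥) ?_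
  rw [smul_eq_mul, sup_comm]
  exact h

omit [IsLocalRing R] in
lemma ofList_le {l : List R} {J : Ideal R} (h : ∀ r ∈ l, r ∈ J) : Ideal.ofList l ≤ J :=
  Ideal.span_le.2 h

omit [IsLocalRing R] in
lemma spanFinrank_le_length (l : List R) : Submodule.spanFinrank (Ideal.ofList l) ≤ l.length := by
  classical
  have h : {r | r ∈ l} = (↑l.toFinset : Set R) := by ext; simp
  calc Submodule.spanFinrank (Ideal.ofList l) ≤ {r | r ∈ l}.ncard :=
        Submodule.spanFinrank_span_le_ncard_of_finite (List.finite_toSet l)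
    _ ≤ l.length := by rw [h, Set.ncard_coe_finset]; exact List.toFinset_card_le l

omit [IsLocalRing R] in
lemma ofList_toList (G : Finset R) : Ideal.ofList G.toList = Ideal.span (G : Set R) := by
  simp only [Ideal.ofList, Finset.mem_toList]
  rfl

variable [IsNoetherianRing R]

omit [IsLocalRing R] in
lemma idealDepth_quotient_ofList {J : Ideal R} (l : List R) :
    ∀ (M : Type u) [AddCommGroup M] [Module R M] [Module.Finite R M],
      J • (⊤ : Submodule R M) ≠ ⊤ → IsWeaklyRegular M l → (∀ x ∈ l, x ∈ J) →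
      LocCoh.idealDepth J (M ⧸ Ideal.ofList l • (⊤ : Submodule R M)) + l.length =
        LocCoh.idealDepth J M := by
  induction l with
  | nil =>
    intro M _ _ _ _ _ _
    rw [Groth.LocCohBase.idealDepth_congr (Submodule.quotEquivOfEqBot _ (by simp))]
    simp
  | cons x l ih =>
    intro M _ _ _ hM hreg hmem
    obtain ⟨h1, h2⟩ := (isWeaklyRegular_cons_iff M x l).1 hreg
    have hx := hmem x List.mem_cons_self
    rw [Groth.LocCohBase.idealDepth_congr
        (Submodule.quotOfListConsSMulTopEquivQuotSMulTopInner M x l),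
      ← Groth.LocCohBase.idealDepth_quotSMulTop_add_one J M hM hx h1,
      ← ih (QuotSMulTop x M) (Groth.LocCohBase.smul_top_quotSMulTop_ne_top hx hM) h2
        (fun y hy => hmem y (List.mem_cons_of_mem _ hy))]
    rw [List.length_cons, Nat.cast_succ, add_assoc]

omit [IsLocalRing R] in
/-- Below the depth, `J` is in no associated prime of `R/(l)`, and `(l) ≠ J`. -/
lemma not_le_of_length_lt {J : Ideal R} (hJ : J ≠ ⊤) {l : List R} (hreg : IsWeaklyRegular R l)
    (hmem : ∀ x ∈ l, x ∈ J) (hlt : (l.length : ℕ∞) < LocCoh.idealDepth J R) :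
    J ≠ Ideal.ofList l ∧ ∀ Q ∈ associatedPrimes R (R ⧸ Ideal.ofList l), ¬ J ≤ Q := by
  have he : Ideal.ofList l • (⊤ : Submodule R R) = Ideal.ofList l := by rw [smul_eq_mul, Ideal.mul_top]
  have hJR : J • (⊤ : Submodule R R) ≠ ⊤ := by rwa [smul_eq_mul, Ideal.mul_top]
  have h := idealDepth_quotient_ofList l R hJR hreg hmem
  rw [Groth.LocCohBase.idealDepth_congr (Submodule.quotEquivOfEq _ _ he)] at h
  have h1 : (1 : ℕ∞) ≤ LocCoh.idealDepth J (R ⧸ Ideal.ofList l) := by
    by_contra hlt'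
    rw [not_le, Order.lt_one_iff] at hlt'
    rw [hlt', zero_add] at h
    exact hlt.ne h
  have hne : J • (⊤ : Submodule R (R ⧸ Ideal.ofList l)) ≠ ⊤ := by
    intro heq
    apply hJ
    have h2 := congrArg (Submodule.comap (Submodule.mkQ (Ideal.ofList l))) heq
    rw [Submodule.comap_smul_top_of_surjective J _ (Submodule.mkQ_surjective _),
      Submodule.ker_mkQ, Submodule.comap_top, smul_eq_mul, Ideal.mul_top, sup_eq_left.2 (ofList_le hmem)] at h2
    exact h2
  obtain ⟨x, hx, hxreg⟩ := Groth.LocCohBase.exists_regular_of_one_le hne h1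
  refine ⟨fun heq => hne ?_, fun Q hQ hle => ?_⟩
  · have hz : ∀ y : R ⧸ Ideal.ofList l, x • y = x • 0 := by
      intro y
      obtain ⟨y, rfl⟩ := Submodule.Quotient.mk_surjective _ y
      rw [smul_zero, ← Submodule.Quotient.mk_smul, Submodule.Quotient.mk_eq_zero, smul_eq_mul]
      exact Ideal.mul_mem_right _ _ (heq ▸ hx)
    have hsub : ∀ y : R ⧸ Ideal.ofList l, y = 0 := fun y => hxreg (hz y)
    exact eq_top_iff.2 fun y _ => by rw [hsub y]; exact zero_mem _
  · have : x ∈ ⋃ p ∈ associatedPrimes R (R ⧸ Ideal.ofList l), (p : Set R) :=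
      Set.mem_biUnion hQ (hle hx)
    rw [biUnion_associatedPrimes_eq_compl_regular] at this
    exact this hxreg

omit [IsLocalRing R] in
/-- Extend a weakly regular sequence inside `J`, avoiding two further ideals. -/
lemma exists_next {J : Ideal R} (hJ : J ≠ ⊤) {l : List R} (hreg : IsWeaklyRegular R l)
    (hmem : ∀ x ∈ l, x ∈ J) (hlt : (l.length : ℕ∞) < LocCoh.idealDepth J R)
    {A B : Ideal R} (hA : ¬ J ≤ A) (hB : ¬ J ≤ B) :
    ∃ x ∈ J, x ∉ A ∧ x ∉ B ∧ IsWeaklyRegular R (l ++ [x]) := by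
  obtain ⟨x, hx, hxA, hxB, hxP⟩ := exists_avoid (associatedPrimes.finite R (R ⧸ Ideal.ofList l))
    (fun Q hQ => hQ.isPrime) hA hB (not_le_of_length_lt hJ hreg hmem hlt).2
  refine ⟨x, hx, hxA, hxB, (isWeaklyRegular_append_iff R l [x]).2 ⟨hreg, ?_⟩⟩
  rw [isWeaklyRegular_singleton_iff]
  have he : Ideal.ofList l • (⊤ : Submodule R R) = Ideal.ofList l := by rw [smul_eq_mul, Ideal.mul_top]
  rw [(Submodule.quotEquivOfEq _ _ he).isSMulRegular_congr]
  by_contra hn
  have : x ∈ ({r : R | IsSMulRegular (R ⧸ Ideal.ofList l) r}ᶜ : Set R) := hn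
  rw [← biUnion_associatedPrimes_eq_compl_regular, Set.mem_iUnion₂] at this
  obtain ⟨Q, hQ, hxQ⟩ := this
  exact hxP Q hQ hxQ

/-- An ideal has `c` generators (`c` minimal) whose first `i` form a weakly regular sequence, `i ≤ depth`. -/
lemma exists_prefix {J : Ideal R} (hJ : J ≠ ⊤) (i : ℕ) (hi : (i : ℕ∞) ≤ LocCoh.idealDepth J R) :
    ∃ (l : List R) (G : Finset R), l.length = i ∧ (∀ x ∈ l, x ∈ J) ∧ IsWeaklyRegular R l ∧
      G.card + i ≤ Submodule.spanFinrank J ∧ J = Ideal.ofList l ⊔ Ideal.span (G : Set R) := by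
  induction i with
  | zero =>
    obtain ⟨G, hG, hspan⟩ :=
      Submodule.FG.exists_span_finset_card_eq_spanFinrank (IsNoetherian.noetherian J)
    exact ⟨[], G, rfl, by simp, IsWeaklyRegular.nil R R, by omega, by simpa using hspan.symm⟩
  | succ i ih =>
    have hlt : (i : ℕ∞) < LocCoh.idealDepth J R := lt_of_lt_of_le (by exact_mod_cast i.lt_succ_self) hi
    obtain ⟨l, G, hlen, hmem, hreg, hcard, hspan⟩ := ih hlt.le
    subst hlen
    have hB : ¬ J ≤ maximalIdeal R * J ⊔ Ideal.ofList l := fun h =>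
      (not_le_of_length_lt hJ hreg hmem hlt).1 (eq_of_le_mul_maximalIdeal_sup (ofList_le hmem) h)
    obtain ⟨x, hx, hxB, -, hreg'⟩ := exists_next hJ hreg hmem hlt hB hB
    have hG : G.card ≠ 0 := fun h0 => by
      rw [Finset.card_eq_zero.1 h0] at hspan
      exact (not_le_of_length_lt hJ hreg hmem hlt).1 (by simpa using hspan)
    obtain ⟨G', hG', hspan'⟩ := exchange (n := G.card - 1) hspan (by omega) hx hxB
    refine ⟨l ++ [x], G', by simp, ?_, hreg', by omega, ?_⟩
    · simpa [or_imp, forall_and, hx] using hmem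
    · rw [Ideal.ofList_append, Ideal.ofList_singleton]
      exact hspan'

end Groth.Misc13.RegularPrefix
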