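import Groth.Agent.EulerDeg.GenericRank
import Groth.Agent.Misc7.ClosedImm.Modules
import Groth.Agent.Inter.Push
import Groth.Agent.PicAux.EffCartierLine
import Groth.Agent.Curves1.RR.BaseChange
import Groth.Agent.Curves1.RR.GenusZeroP1
import Groth.Agent.Curves1.RR.P1Facts
import Groth.Agent.PnCoh.VanishingClosed
import Groth.Agent.Variety2.ProjDim
import Groth.Agent.Variety2.ProjBasics
import Groth.Agent.Variety2.Reg.Pn
import Groth.Agent.Ega4Algebra2.RegularImmersion
import Groth.Agent.PicAux.Pullback

/-!
The degree of an invertible module on a square-zero thickening of a curve by a line bundle.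
-/

set_option autoImplicit false
universe u

open CategoryTheory CategoryTheory.Limits AlgebraicGeometry Coh TopologicalSpace Opposite

namespace Groth.Misc13.RibbonDeg

open Groth.EulerDeg

variable {C : Scheme.{u}} (I : C.IdealSheafData)

/-- A square zero ideal is killed by itself. -/
theorem killed_idealMod (hI : I ^ 2 = ⊥) :
    Groth.Misc7.ClosedImm.Killed I.subschemeι (ClSub.idealMod I) := by
  refine ⟨fun x hx => absurd ?_ hx, fun z a ha t => ?_⟩
  · rw [Scheme.IdealSheafData.range_subschemeι]
    have h : (I ^ 2).support = I.support := I.support_pow 2 two_ne_zero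
    rw [hI, Scheme.IdealSheafData.support_bot] at h
    rw [← h]; trivial
  · obtain ⟨V, hxV, k, rfl⟩ := Groth.QCohMod.exists_germ (ClSub.idealMod I) (I.subschemeι z) t
    obtain ⟨W, hxW, hWV⟩ := Divisors.exists_affine_le (I.subschemeι z) V hxV
    rw [← Groth.QCohMod.germ_res (ClSub.idealMod I) hWV (I.subschemeι z) hxW k]
    generalize Groth.QCohMod.res (ClSub.idealMod I) hWV k = k'
    have hker : a ∈ (I.ideal W).map (C.presheaf.germ W.1 (I.subschemeι z) hxW).hom := by
      have h := Groth.Ega4b.ker_stalkMap_eq_map I.subschemeι W.2 z hxW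
      rw [Scheme.IdealSheafData.ker_subschemeι] at h
      exact h ▸ ha
    clear ha
    induction hker using Submodule.span_induction with
    | mem y hy =>
      obtain ⟨b, hb, rfl⟩ := hy
      rw [← Groth.QCohMod.germ_smul]
      have : b • k' = 0 := by
        refine Groth.OmegaSheaf.idealSect_injective I W.1 ?_
        rw [Groth.OmegaSheaf.idealSect_smul, map_zero]
        have hmul : b * OmegaSh.idealSect I W.1 k' ∈ I.ideal W ^ 2 :=
          pow_two (I.ideal W) ▸ Ideal.mul_mem_mul hb (Groth.OmegaSheaf.idealSect_mem I W k')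
        have h2 : I.ideal W ^ 2 = ⊥ := by
          rw [← Pi.pow_apply, ← Scheme.IdealSheafData.ideal_pow, hI]
          simp
        rwa [h2, Ideal.mem_bot] at hmul
      rw [this, map_zero]
    | zero => rw [zero_smul]
    | add y y' _ _ h h' => rw [add_smul, h, h', add_zero]
    | smul c y _ h => rw [smul_eq_mul, mul_smul, h, smul_zero]

variable (k : Type u) [Field k] [C.Over (Spec (CommRingCat.of k))]
  [IsProper (C ↘ Spec (CommRingCat.of k))]

omit [IsProper (C ↘ Spec (CommRingCat.of k))] in
theorem tensorDefect_congr (L : C.Modules) {A B : C.Modules} (u : A ≅ B) :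
    tensorDefect k L 1 A = tensorDefect k L 1 B := by
  have e : CohB1.tensorMod L A ≅ CohB1.tensorMod L B := ((DCoh.tensorBi (X := C)).obj L).mapIso u
  simp only [tensorDefect]
  rw [euler_congr k u, euler_congr k e]

/-- The degree on a closed curve as the defect of an invertible module on it. -/
theorem tensorDefect_push [IsIntegral I.subscheme] (hdim : topologicalKrullDim I.subscheme ≤ 1)
    {L : C.Modules} (hL : PicF.IsInvertible L) {M : I.subscheme.Modules} (hM : PicF.IsInvertible M) :
    letI : I.subscheme.Over (Spec (CommRingCat.of k)) :=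
      ⟨I.subschemeι ≫ (C ↘ Spec (CommRingCat.of k))⟩
    tensorDefect k L 1 ((Coh.push I.subschemeι).obj M) =
      Curv2.deg k I.subscheme ((Scheme.Modules.pullback I.subschemeι).obj L) 1 := by
  let _ : I.subscheme.Over (Spec (CommRingCat.of k)) :=
    ⟨I.subschemeι ≫ (C ↘ Spec (CommRingCat.of k))⟩
  have : IsProper (I.subscheme ↘ Spec (CommRingCat.of k)) :=
    inferInstanceAs (IsProper (I.subschemeι ≫ (C ↘ Spec (CommRingCat.of k))))
  obtain ⟨e⟩ := Groth.Inter.tensor_push I.subschemeι hL M
  have hE := Groth.PicAux.isInvertible_pullback I.subschemeι hL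
  have h := euler_tensor_curve k hdim (Groth.LocFree.isInvertible_iff_ofRank_one.1 hE)
    (isCoh_of_isInvertible hM)
  rw [Groth.LocFree.finrank_stalk (Groth.LocFree.isInvertible_iff_ofRank_one.1 hM)] at h
  rw [tensorDefect, euler_congr k e, Groth.Inter.euler_push k I.subschemeι rfl,
    Groth.Inter.euler_push k I.subschemeι rfl, h]
  push_cast
  ring

omit [C.Over (Spec (CommRingCat.of k))] [IsProper (C ↘ Spec (CommRingCat.of k))] in
/-- The degree of `O(n)` on the projective line. -/
theorem deg_twist (n : ℤ) :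
    letI : (CohB1.ProjSpace 1 k).Over (Spec (CommRingCat.of k)) := ⟨CohB1.ProjSpace.toSpec 1 k⟩
    Curv2.deg k (CohB1.ProjSpace 1 k) (Twist.twistProjSpace 1 k n) 1 = n := by
  let _ : (CohB1.ProjSpace 1 k).Over (Spec (CommRingCat.of k)) := ⟨CohB1.ProjSpace.toSpec 1 k⟩
  have key : ∀ d : ℤ, Curv2.euler k (CohB1.ProjSpace 1 k) (Twist.twistProjSpace 1 k d) = d + 1 := by
    intro d
    have h1 := Groth.PnCoh.euler_twist k 1 d
    rw [Ring.choose_one_right] at h1
    unfold Curv2.euler
    rw [finsum_eq_sum_of_support_subset (s := Finset.range 2) _ fun i hi => ?_]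
    · push_cast at h1
      exact h1
    · simp only [Function.mem_support] at hi
      by_contra h
      simp only [Finset.coe_range, Set.mem_Iio, not_lt] at h
      refine hi ?_
      rw [Groth.PnCoh.finrank_eq_zero k 1 d i (by omega) (by omega), Nat.cast_zero, mul_zero]
  obtain ⟨e⟩ := Groth.Variety2.Reg.nonempty_twist_zero (n := 1) (k := k)
  rw [Curv2.deg, key, ← euler_congr k e, key]
  push_cast
  ring

set_option maxHeartbeats 1000000 in
theorem main (hI : I ^ 2 = ⊥) (e : I.subscheme ≅ CohB1.ProjSpace 1 k)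
    (he : e.hom ≫ CohB1.ProjSpace.toSpec 1 k = I.subschemeι ≫ (C ↘ (Spec (CommRingCat.of k))))
    (m : ℤ) (hconormal : Nonempty ((Scheme.Modules.pullback I.subschemeι).obj (ClSub.idealMod I) ≅
      (Scheme.Modules.pullback e.hom).obj (Twist.twistProjSpace 1 k m)))
    (L : C.Modules) (hL : PicF.IsInvertible L) (n : ℤ)
    (hLD : Nonempty ((Scheme.Modules.pullback I.subschemeι).obj L ≅
      (Scheme.Modules.pullback e.hom).obj (Twist.twistProjSpace 1 k n))) :
    Curv2.deg k C L 1 = 2 * n := by
  let _ : I.subscheme.Over (Spec (CommRingCat.of k)) :=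
    ⟨I.subschemeι ≫ (C ↘ Spec (CommRingCat.of k))⟩
  let _ : (CohB1.ProjSpace 1 k).Over (Spec (CommRingCat.of k)) := ⟨CohB1.ProjSpace.toSpec 1 k⟩
  have : IsProper ((CohB1.ProjSpace 1 k) ↘ Spec (CommRingCat.of k)) :=
    Groth.Variety2.isProper_projSpace_toSpec 1 k
  have : Nonempty I.subscheme := ⟨e.inv (genericPoint _)⟩
  have : IsIntegral I.subscheme := isIntegral_of_isOpenImmersion e.hom
  have hdim : topologicalKrullDim I.subscheme ≤ 1 := by
    rw [IsHomeomorph.topologicalKrullDim_eq _ e.hom.homeomorph.isHomeomorph,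
      Groth.Variety2.PSpace.dim_projSpace]
    simp
  have hinv : ∀ d : ℤ, PicF.IsInvertible ((Scheme.Modules.pullback e.hom).obj
      (Twist.twistProjSpace 1 k d)) :=
    fun d => Groth.PicAux.isInvertible_pullback e.hom (Groth.PnCoh.isInvertible_twist 1 k d)
  have hdeg : Curv2.deg k I.subscheme ((Scheme.Modules.pullback I.subschemeι).obj L) 1 = n := by
    obtain ⟨a⟩ := hLD
    have h := Groth.Curves1.RR.deg_pullback (Groth.Curves1.RR.isPullback_of_iso e he)
      (Groth.PnCoh.isInvertible_twist 1 k n)
    rw [deg_twist] at h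
    rw [← h, Curv2.deg, Curv2.deg, euler_congr k a]
  have hrank := Groth.LocFree.isInvertible_iff_ofRank_one.1 hL
  have hι := isCoh_of_isInvertible (Groth.EulerDeg.isInvertible_structureModule I.subscheme)
  obtain ⟨b⟩ := hconormal
  have hpI : PicF.IsInvertible ((Scheme.Modules.pullback I.subschemeι).obj (ClSub.idealMod I)) :=
    Groth.PicAux.isInvertible_of_iso (hinv m) b.symm
  have := Groth.Misc7.ClosedImm.isIso_unit I.subschemeι (killed_idealMod I hI)
  obtain ⟨u⟩ : Nonempty (ClSub.idealMod I ≅ (Coh.push I.subschemeι).obj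
      ((Scheme.Modules.pullback I.subschemeι).obj (ClSub.idealMod I))) :=
    ⟨asIso ((Scheme.Modules.pullbackPushforwardAdjunction I.subschemeι).unit.app (ClSub.idealMod I))⟩
  have h₁ : IsCoh (ClSub.idealMod I) :=
    Groth.QCohMod.isCoh_of_iso u.symm
      (Groth.CohTwo.isCoh_push I.subschemeι (isCoh_of_isInvertible hpI))
  have h₂ : IsCoh (structureModule C) :=
    isCoh_of_isInvertible (Groth.EulerDeg.isInvertible_structureModule C)
  have h₃ : IsCoh (ClSub.quotMod I) := Groth.CohTwo.isCoh_push I.subschemeι hι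
  have key := tensorDefect_add k hrank (Groth.PicAux.shortExact_idealMod I) h₁ h₂ h₃
  have d₁ : tensorDefect k L 1 (ClSub.idealMod I) = n := by
    rw [← hdeg, ← tensorDefect_push I k hdim hL hpI]
    exact tensorDefect_congr k L u
  have d₃ : tensorDefect k L 1 (ClSub.quotMod I) = n := by
    rw [← hdeg, ← tensorDefect_push I k hdim hL
      (Groth.EulerDeg.isInvertible_structureModule I.subscheme)]
  change tensorDefect k L 1 (structureModule C) = tensorDefect k L 1 (ClSub.idealMod I) +
    tensorDefect k L 1 (ClSub.quotMod I) at key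
  rw [d₁, d₃] at key
  obtain ⟨c, -⟩ := Groth.PicAux.exists_braiding L (structureModule C)
  obtain ⟨l, -⟩ := Groth.PicAux.exists_leftUnitor L
  simp only [tensorDefect, euler_congr k (c ≪≫ l)] at key
  rw [Curv2.deg]
  linarith

end Groth.Misc13.RibbonDeg
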