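import Groth.Agent.FlatMor2.AffineThickening
import Groth.Agent.FlatmorThree.SmoothLift

/-! A square zero thickening of a smooth affine scheme retracts onto it. -/

set_option autoImplicit false

universe u

open CategoryTheory AlgebraicGeometry

namespace Groth.Misc13.RibbonSplit

lemma isAffine_of_sq {C : Scheme.{u}} (I : C.IdealSheafData) (hI : I ^ 2 = ⊥)
    [IsAffine I.subscheme] : IsAffine C := by
  have : Surjective I.subschemeι := ⟨fun x => by
    have h : (I ^ 2).support = I.support := I.support_pow 2 two_ne_zero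
    rw [hI, Scheme.IdealSheafData.support_bot] at h
    have hx : x ∈ (I.support : Set C) := by rw [← h]; trivial
    rw [← Scheme.IdealSheafData.range_subschemeι] at hx
    exact hx⟩
  refine Groth.FlatMor2.isAffine_of_ker_sq_eq_bot I.subschemeι ?_
  rw [Scheme.IdealSheafData.ker_subschemeι, ← pow_two, hI]

theorem exists_retraction {C T : Scheme.{u}} (f : C ⟶ T) (I : C.IdealSheafData) (hI : I ^ 2 = ⊥)
    [IsAffine I.subscheme] [Smooth (I.subschemeι ≫ f)] :
    ∃ r : C ⟶ I.subscheme, I.subschemeι ≫ r = 𝟙 I.subscheme ∧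
      r ≫ I.subschemeι ≫ f = f := by
  have := isAffine_of_sq I hI
  obtain ⟨-, hsurj⟩ := IsClosedImmersion.isAffine_surjective_of_isAffine (f := I.subschemeι)
  let φ := I.subschemeι.appTop
  have hJ : RingHom.ker φ.hom = I.ideal ⟨⊤, isAffineOpen_top C⟩ :=
    Scheme.IdealSheafData.ker_subschemeι_app I ⟨⊤, isAffineOpen_top C⟩
  have hJ2 : RingHom.ker φ.hom ^ 2 = ⊥ := by
    rw [hJ, ← Pi.pow_apply, ← Scheme.IdealSheafData.ideal_pow, hI]
    simp
  let ψ : CommRingCat.of (Γ(C, ⊤) ⧸ RingHom.ker φ.hom) ≅ Γ(I.subscheme, ⊤) :=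
    (RingHom.quotientKerEquivOfSurjective hsurj).toCommRingCatIso
  have hψ : CommRingCat.ofHom (Ideal.Quotient.mk (RingHom.ker φ.hom)) ≫ ψ.hom = φ := by
    ext x; rfl
  let a : Spec (CommRingCat.of (Γ(C, ⊤) ⧸ RingHom.ker φ.hom)) ⟶ I.subscheme :=
    Spec.map ψ.inv ≫ I.subscheme.isoSpec.inv
  have hι : I.subschemeι = I.subscheme.isoSpec.hom ≫ Spec.map φ ≫ C.isoSpec.inv := by
    rw [Scheme.isoSpec_hom_naturality_assoc, Iso.hom_inv_id, Category.comp_id]
  have hinv : Spec.map ψ.inv ≫ Spec.map ψ.hom = 𝟙 _ := by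
    rw [← Spec.map_comp, ψ.hom_inv_id, Spec.map_id]
  have hw : Spec.map (CommRingCat.ofHom (Ideal.Quotient.mk (RingHom.ker φ.hom))) ≫
      (C.isoSpec.inv ≫ f) = a ≫ (I.subschemeι ≫ f) := by
    conv_rhs => rw [hι, show Spec.map φ = Spec.map ψ.hom ≫ Spec.map (CommRingCat.ofHom
      (Ideal.Quotient.mk (RingHom.ker φ.hom))) by rw [← Spec.map_comp, hψ]]
    simp only [a, Category.assoc, Iso.inv_hom_id_assoc]
    rw [reassoc_of% hinv]
  obtain ⟨l, hl, hlf⟩ := Groth.FlatmorThree.SmoothLift.isFormallySmoothHom_of_smooth (I.subschemeι ≫ f)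
    Γ(C, ⊤) _ hJ2 a (C.isoSpec.inv ≫ f) hw
  refine ⟨C.isoSpec.hom ≫ l, ?_, ?_⟩
  · conv_lhs => rw [hι, show Spec.map φ = Spec.map ψ.hom ≫ Spec.map (CommRingCat.ofHom
      (Ideal.Quotient.mk (RingHom.ker φ.hom))) by rw [← Spec.map_comp, hψ]]
    simp only [Category.assoc, Iso.inv_hom_id_assoc]
    rw [hl]
    simp only [a]
    rw [← Spec.map_comp_assoc, ψ.inv_hom_id, Spec.map_id, Category.id_comp, Iso.hom_inv_id]
  · rw [Category.assoc, hlf, Iso.hom_inv_id_assoc]

end Groth.Misc13.RibbonSplit
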