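import Mathlib.NumberTheory.Multiplicity
import Mathlib.NumberTheory.LSeries.PrimesInAP
import Mathlib.NumberTheory.Padics.PadicVal.Basic
import Mathlib.RingTheory.ZMod.UnitsCyclic
import Mathlib.Data.Nat.Factorization.Basic

/-!
The gcd of `∏ (ℓ^{2a} - 1)` over large primes `ℓ`.
-/

set_option autoImplicit false
set_option linter.style.haveILetI false

open Finset

namespace Groth.Misc13.SSRedGcd

theorem padicValNat_prod {p : ℕ} [Fact p.Prime] {ι : Type*} (s : Finset ι) (f : ι → ℕ)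
    (hf : ∀ i ∈ s, f i ≠ 0) : padicValNat p (∏ i ∈ s, f i) = ∑ i ∈ s, padicValNat p (f i) := by
  classical
  induction s using Finset.induction with
  | empty => simp
  | insert a s ha ih =>
    rw [Finset.prod_insert ha, Finset.sum_insert ha, padicValNat.mul (hf a (by simp))
      (Finset.prod_ne_zero_iff.2 fun i hi => hf i (by simp [hi])), ih (fun i hi => hf i (by simp [hi]))]

theorem padicValNat_factorial_eq_sum {p : ℕ} [Fact p.Prime] (g : ℕ) :
    padicValNat p g.factorial = ∑ a ∈ Icc 1 g, padicValNat p a := by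
  induction g with
  | zero => simp
  | succ n ih =>
    rw [Nat.factorial_succ, padicValNat.mul (Nat.succ_ne_zero n) n.factorial_ne_zero, ih,
      Finset.sum_Icc_succ_top (by omega : 1 ≤ n + 1)]
    exact add_comm _ _

theorem pow_sub_one_ne_zero {ℓ k : ℕ} (hℓ : 1 < ℓ) (hk : k ≠ 0) : ℓ ^ k - 1 ≠ 0 := by
  have := Nat.one_lt_pow hk hℓ; omega

theorem dvd_pow_sub_one_iff {m ℓ k : ℕ} (hℓ : 1 ≤ ℓ) : m ∣ ℓ ^ k - 1 ↔ (ℓ : ZMod m) ^ k = 1 := by
  rw [← ZMod.natCast_eq_zero_iff, Nat.cast_sub (Nat.one_le_pow _ _ hℓ), Nat.cast_pow, Nat.cast_one,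
    sub_eq_zero]

/-- sum over the multiples of `h` -/
theorem sum_multiples {g h : ℕ} (hh : 0 < h) (f : ℕ → ℕ) :
    ∑ i ∈ Icc 1 (g / h), f (i * h) ≤ ∑ a ∈ Icc 1 g, f a ∧
      ((∀ a ∈ Icc 1 g, ¬ h ∣ a → f a = 0) → ∑ i ∈ Icc 1 (g / h), f (i * h) = ∑ a ∈ Icc 1 g, f a) := by
  have hinj : ∀ x ∈ Icc 1 (g / h), ∀ y ∈ Icc 1 (g / h), x * h = y * h → x = y :=
    fun x _ y _ e => Nat.eq_of_mul_eq_mul_right hh e
  rw [← Finset.sum_image (f := f) hinj]
  have hsub : (Icc 1 (g / h)).image (· * h) ⊆ Icc 1 g := by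
    intro a ha
    obtain ⟨i, hi, rfl⟩ := Finset.mem_image.1 ha
    rw [Finset.mem_Icc] at hi ⊢
    exact ⟨Nat.one_le_iff_ne_zero.2 (Nat.mul_ne_zero (by omega) hh.ne'),
      (Nat.mul_le_mul_right h hi.2).trans (Nat.div_mul_le_self g h)⟩
  refine ⟨Finset.sum_le_sum_of_subset hsub, fun h0 => Finset.sum_subset hsub fun a ha ha' => ?_⟩
  refine h0 a ha fun hd => ha' (Finset.mem_image.2 ⟨a / h, ?_, Nat.div_mul_cancel hd⟩)
  rw [Finset.mem_Icc] at ha ⊢
  exact ⟨Nat.div_pos (Nat.le_of_dvd (by omega) hd) hh, Nat.div_le_div_right ha.2⟩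

/-- The exponent of `p` in `N(g)`. -/
def E (g p : ℕ) : ℕ :=
  if p = 2 then 3 * g + padicValNat 2 g.factorial
  else (2 * g) / (p - 1) + ∑ i ∈ Icc 1 ((2 * g) / (p - 1)), padicValNat p i

/-- The product. -/
def P (g ℓ : ℕ) : ℕ := ∏ a ∈ Icc 1 g, (ℓ ^ (2 * a) - 1)

theorem P_ne_zero {g ℓ : ℕ} (hℓ : 1 < ℓ) : P g ℓ ≠ 0 :=
  Finset.prod_ne_zero_iff.2 fun a ha => pow_sub_one_ne_zero hℓ (by rw [Finset.mem_Icc] at ha; omega)

theorem val_P {g ℓ p : ℕ} [Fact p.Prime] (hℓ : 1 < ℓ) :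
    padicValNat p (P g ℓ) = ∑ a ∈ Icc 1 g, padicValNat p (ℓ ^ (2 * a) - 1) :=
  padicValNat_prod _ _ fun a ha => pow_sub_one_ne_zero hℓ (by rw [Finset.mem_Icc] at ha; omega)

theorem val_two {g ℓ : ℕ} (hℓ : 1 < ℓ) (h2 : ¬ 2 ∣ ℓ) :
    E g 2 ≤ padicValNat 2 (P g ℓ) ∧ (ℓ % 8 = 3 → padicValNat 2 (P g ℓ) = E g 2) := by
  have hv : ∀ a ∈ Icc 1 g, padicValNat 2 (2 * a) = 1 + padicValNat 2 a := fun a ha => by
    rw [Finset.mem_Icc] at ha
    rw [padicValNat.mul two_ne_zero (by omega), padicValNat_self]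
  have hE : E g 2 = ∑ a ∈ Icc 1 g, (3 + padicValNat 2 a) := by
    rw [E, if_pos rfl, Finset.sum_add_distrib, padicValNat_factorial_eq_sum]; simp [mul_comm]
  rw [val_P hℓ, hE]
  constructor
  · refine Finset.sum_le_sum fun a ha => ?_
    have := padicValNat.pow_two_sub_one_ge (x := ℓ) (n := 2 * a) hℓ h2
      (by rw [Finset.mem_Icc] at ha; omega) (even_two_mul a)
    rw [hv a ha] at this; omega
  · intro h8
    refine Finset.sum_congr rfl fun a ha => ?_
    have := padicValNat.pow_two_sub_one (x := ℓ) (n := 2 * a) hℓ h2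
      (by rw [Finset.mem_Icc] at ha; omega) (even_two_mul a)
    have h4 : padicValNat 2 (ℓ + 1) = 2 := by
      obtain ⟨c, hc⟩ : ∃ c, ℓ + 1 = 2 ^ 2 * (2 * c + 1) := ⟨ℓ / 8, by omega⟩
      rw [hc, padicValNat.mul (by norm_num) (by omega), padicValNat.prime_pow,
        padicValNat.eq_zero_of_not_dvd (by omega)]
    have h1 : padicValNat 2 (ℓ - 1) = 1 := by
      obtain ⟨c, hc⟩ : ∃ c, ℓ - 1 = 2 * (2 * c + 1) := ⟨(ℓ - 3) / 4, by omega⟩
      rw [hc, padicValNat.mul (by norm_num) (by omega), padicValNat_self,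
        padicValNat.eq_zero_of_not_dvd (by omega)]
    rw [hv a ha, h4, h1] at this; omega

theorem val_odd {g ℓ p : ℕ} [hp : Fact p.Prime] (hp2 : p ≠ 2) (hℓ : 1 < ℓ) (hnd : ¬ p ∣ ℓ) :
    E g p ≤ padicValNat p (P g ℓ) ∧
      ((∀ k, p ∣ ℓ ^ k - 1 → p - 1 ∣ k) → ¬ p ^ 2 ∣ ℓ ^ (p - 1) - 1 → padicValNat p (P g ℓ) = E g p) := by
  have hodd : Odd p := hp.out.odd_of_ne_two hp2
  obtain ⟨h, hh⟩ : ∃ h, p = 2 * h + 1 := ⟨p / 2, by obtain ⟨c, hc⟩ := hodd; omega⟩
  have hh0 : 0 < h := by have := hp.out.two_le; omega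
  have hfermat : p ∣ ℓ ^ (p - 1) - 1 := by
    rw [dvd_pow_sub_one_iff (by omega)]
    exact ZMod.pow_card_sub_one_eq_one (fun e => hnd ((ZMod.natCast_eq_zero_iff ℓ p).1 e))
  have hne : ℓ ^ (p - 1) - 1 ≠ 0 := pow_sub_one_ne_zero hℓ (by omega)
  have hm : (2 * g) / (p - 1) = g / h := by
    rw [hh, Nat.add_sub_cancel, Nat.mul_div_mul_left _ _ two_pos]
  set v := padicValNat p (ℓ ^ (p - 1) - 1) with hv
  have hv1 : 1 ≤ v := one_le_padicValNat_of_dvd hne hfermat
  have hterm : ∀ i ∈ Icc 1 (g / h), padicValNat p (ℓ ^ (2 * (i * h)) - 1) = v + padicValNat p i := by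
    intro i hi
    rw [Finset.mem_Icc] at hi
    rw [show 2 * (i * h) = (p - 1) * i by rw [hh, Nat.add_sub_cancel]; ring, pow_mul]
    have := padicValNat.pow_sub_pow (p := p) (x := ℓ ^ (p - 1)) (y := 1) hodd
      (Nat.one_lt_pow (by omega) hℓ) hfermat
      (fun e => hnd (hp.out.dvd_of_dvd_pow e)) (n := i) (by omega)
    simpa using this
  have hE : E g p = ∑ i ∈ Icc 1 (g / h), (1 + padicValNat p i) := by
    rw [E, if_neg hp2, hm, Finset.sum_add_distrib]; simp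
  rw [val_P hℓ]
  obtain ⟨hle, heq⟩ := sum_multiples (g := g) hh0 (fun a => padicValNat p (ℓ ^ (2 * a) - 1))
  constructor
  · refine le_trans ?_ hle
    rw [hE, Finset.sum_congr rfl hterm]
    exact Finset.sum_le_sum fun i _ => by omega
  · intro hord hsq
    rw [← heq (fun a _ ha => padicValNat.eq_zero_of_not_dvd fun hd => ha ?_), hE, Finset.sum_congr rfl hterm]
    · have hv2 : v = 1 := by
        by_contra hne'
        exact hsq ((padicValNat_dvd_iff_le hne).2 (by omega))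
      simp [hv2]
    · have h2a := hord _ hd
      rw [hh, Nat.add_sub_cancel] at h2a
      exact (Nat.mul_dvd_mul_iff_left two_pos).1 h2a

theorem le_val (g : ℕ) {ℓ p : ℕ} [hp : Fact p.Prime] (hℓ : ℓ.Prime) (hbig : 2 * g + 1 < ℓ) :
    E g p ≤ padicValNat p (P g ℓ) := by
  by_cases h : p = ℓ
  · subst h
    rcases Nat.eq_zero_or_pos g with rfl | hg
    · simp [E]
    · have : E g p = 0 := by
        rw [E, if_neg (by omega), Nat.div_eq_of_lt (by omega)]; simp
      omega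
  · have hnd : ¬ p ∣ ℓ := fun e => h ((Nat.prime_dvd_prime_iff_eq hp.out hℓ).1 e)
    by_cases hp2 : p = 2
    · subst hp2; exact (val_two hℓ.one_lt hnd).1
    · exact (val_odd hp2 hℓ.one_lt hnd).1

theorem exists_val_eq (g B : ℕ) {p : ℕ} [hp : Fact p.Prime] :
    ∃ ℓ, ℓ.Prime ∧ B < ℓ ∧ padicValNat p (P g ℓ) = E g p := by
  by_cases hp2 : p = 2
  · subst hp2
    obtain ⟨ℓ, hℓB, hℓ, hmod⟩ := Nat.forall_exists_prime_gt_and_modEq B (q := 8) (a := 3) (by norm_num) (by norm_num)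
    have h8 : ℓ % 8 = 3 := hmod
    exact ⟨ℓ, hℓ, hℓB, (val_two hℓ.one_lt (by omega)).2 h8⟩
  · haveI := ZMod.isCyclic_units_of_prime_pow p hp.out hp2 2
    obtain ⟨u, hu⟩ := IsCyclic.exists_generator (α := (ZMod (p ^ 2))ˣ)
    haveI : NeZero (p ^ 2) := ⟨pow_ne_zero _ hp.out.ne_zero⟩
    obtain ⟨ℓ, hℓB, hℓ, hmod⟩ := Nat.forall_exists_prime_gt_and_eq_mod (a := (u : ZMod (p ^ 2))) u.isUnit (max B p)
    have hdvd : p ∣ p ^ 2 := dvd_pow_self _ two_ne_zero
    have hnd : ¬ p ∣ ℓ := fun e => by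
      have := (Nat.prime_dvd_prime_iff_eq hp.out hℓ).1 e
      omega
    refine ⟨ℓ, hℓ, by omega, (val_odd hp2 hℓ.one_lt hnd).2 (fun k hk => ?_) (fun hsq => ?_)⟩
    · rw [dvd_pow_sub_one_iff hℓ.one_lt.le] at hk
      set φ := ZMod.unitsMap (n := p) (m := p ^ 2) hdvd
      have hgen : ∀ x : (ZMod p)ˣ, x ∈ Subgroup.zpowers (φ u) := fun x => by
        obtain ⟨y, rfl⟩ := ZMod.unitsMap_surjective hdvd x
        obtain ⟨n, rfl⟩ := hu y
        exact ⟨n, (map_zpow φ u n).symm⟩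
      have hord : orderOf (φ u) = p - 1 := by
        rw [orderOf_eq_card_of_forall_mem_zpowers hgen, Nat.card_eq_fintype_card, ZMod.card_units]
      rw [← hord]
      apply orderOf_dvd_of_pow_eq_one
      apply Units.ext
      rw [Units.val_pow_eq_pow_val, Units.val_one]
      have hval : ((φ u : (ZMod p)ˣ) : ZMod p) = (ℓ : ZMod p) := by
        simp only [φ, ZMod.unitsMap_def, Units.coe_map, MonoidHom.coe_coe]
        rw [← hmod, map_natCast]
      rw [hval]; exact hk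
    · rw [dvd_pow_sub_one_iff hℓ.one_lt.le, hmod] at hsq
      have h1 : u ^ (p - 1) = 1 := Units.ext (by simpa using hsq)
      have hord : orderOf u = p * (p - 1) := by
        rw [orderOf_eq_card_of_forall_mem_zpowers hu, Nat.card_eq_fintype_card, ZMod.card_units_eq_totient,
          Nat.totient_prime_pow hp.out two_pos]
        simp
      have hd := orderOf_dvd_of_pow_eq_one h1
      rw [hord] at hd
      have := Nat.le_of_dvd (by have := hp.out.two_le; omega) hd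
      have h2 := Nat.mul_le_mul_right (p - 1) hp.out.two_le
      have := hp.out.two_le
      omega

/-- `N(g)`. -/
def N (g : ℕ) : ℕ :=
  2 ^ (3 * g + padicValNat 2 g.factorial) *
    ∏ p ∈ (Icc 3 (2 * g + 1)).filter Nat.Prime,
      p ^ ((2 * g) / (p - 1) + ∑ i ∈ Icc 1 ((2 * g) / (p - 1)), padicValNat p i)

theorem N_ne_zero (g : ℕ) : N g ≠ 0 :=
  Nat.mul_ne_zero (pow_ne_zero _ two_ne_zero) (Finset.prod_ne_zero_iff.2 fun q hq =>
    pow_ne_zero _ (by simp at hq; omega))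

theorem val_N (g : ℕ) {p : ℕ} [hp : Fact p.Prime] : padicValNat p (N g) = E g p := by
  classical
  rw [N, padicValNat.mul (pow_ne_zero _ two_ne_zero) (Finset.prod_ne_zero_iff.2 fun q hq =>
    pow_ne_zero _ (by simp at hq; omega)), padicValNat_prod _ _ (fun q hq => pow_ne_zero _ (by simp at hq; omega))]
  have hterm : ∀ q ∈ (Icc 3 (2 * g + 1)).filter Nat.Prime, ∀ e : ℕ,
      padicValNat p (q ^ e) = if q = p then e else 0 := by
    intro q hq e
    split_ifs with h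
    · subst h; exact padicValNat.prime_pow e
    · haveI := Fact.mk (Finset.mem_filter.1 hq).2
      exact padicValNat_prime_prime_pow e (Ne.symm h)
  rw [Finset.sum_congr rfl (fun q hq => hterm q hq _), Finset.sum_ite_eq', E]
  by_cases hp2 : p = 2
  · subst hp2; simp
  · haveI : Fact (Nat.Prime 2) := ⟨Nat.prime_two⟩
    rw [padicValNat_prime_prime_pow _ hp2, if_neg hp2, zero_add]
    split_ifs with hmem
    · rfl
    · have : 2 * g + 1 < p := by
        simp only [Finset.mem_filter, Finset.mem_Icc, hp.out, and_true, not_and, not_le] at hmem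
        exact hmem (by have := hp.out.two_le; omega)
      rw [Nat.div_eq_of_lt (by omega)]; simp

theorem main (g B d : ℕ) (hB : 2 * g + 1 ≤ B) :
    (∀ ℓ : ℕ, ℓ.Prime → B < ℓ → d ∣ P g ℓ) ↔ d ∣ N g := by
  constructor
  · intro h
    rw [Nat.dvd_iff_prime_pow_dvd_dvd]
    intro q k hq hk
    haveI := Fact.mk hq
    obtain ⟨ℓ, hℓ, hℓB, heq⟩ := exists_val_eq g B (p := q)
    have := (padicValNat_dvd_iff_le (P_ne_zero hℓ.one_lt)).1 (hk.trans (h ℓ hℓ hℓB))
    exact (padicValNat_dvd_iff_le (N_ne_zero g)).2 (by rw [val_N]; omega)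
  · intro h ℓ hℓ hℓB
    refine h.trans ?_
    rw [Nat.dvd_iff_prime_pow_dvd_dvd]
    intro q k hq hk
    haveI := Fact.mk hq
    have := (padicValNat_dvd_iff_le (N_ne_zero g)).1 hk
    rw [val_N] at this
    exact (padicValNat_dvd_iff_le (P_ne_zero hℓ.one_lt)).2 (this.trans (le_val g hℓ (by omega)))

end Groth.Misc13.SSRedGcd
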