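import Mathlib.Algebra.Lie.Sl2
import Mathlib.Algebra.Lie.Semisimple.Defs
import Mathlib.Algebra.Lie.Weights.Linear
import Mathlib.LinearAlgebra.Trace
import Mathlib.FieldTheory.IsAlgClosed.Basic
import Mathlib.Data.Nat.Choose.Cast

/-!
Trace of `h²` on an irreducible finite-dimensional representation of `sl₂`.
-/

set_option autoImplicit false
set_option linter.style.haveILetI false

open LieModule Module

namespace Groth.Misc13.Sl2Trace

variable {k : Type*} [Field k] [CharZero k]

theorem sum_sq_aux (c : k) (N : ℕ) :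
    3 * ∑ i ∈ Finset.range N, (c - 2 * (i : k)) ^ 2 =
      3 * N * c ^ 2 - 6 * c * N * (N - 1) + 2 * N * (N - 1) * (2 * N - 1) := by
  induction N with
  | zero => simp
  | succ N ih => rw [Finset.sum_range_succ, mul_add, ih]; push_cast; ring

theorem choose_three (n : ℕ) : 6 * ((n + 2).choose 3 : k) = (n + 2) * (n + 1) * n := by
  induction n with
  | zero => simp [Nat.choose_eq_zero_of_lt]
  | succ n ih =>
    rw [show n + 1 + 2 = (n + 2) + 1 by omega, Nat.choose_succ_succ', Nat.cast_add, mul_add,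
      show (2 + 1 : ℕ) = 3 from rfl, ih, Nat.cast_choose_two]
    push_cast
    ring

theorem sum_sq (n : ℕ) :
    ∑ i ∈ Finset.range (n + 1), ((n : k) - 2 * (i : k)) ^ 2 = 2 * ((n + 2).choose 3 : k) := by
  have h1 := sum_sq_aux (n : k) (n + 1)
  have h2 := choose_three (k := k) n
  push_cast at h1
  linear_combination (1 / 3 : k) * h1 - (1 / 3 : k) * h2

variable {L : Type*} [LieRing L] [LieAlgebra k L] {h e f : L}

theorem trace_h_sq [IsAlgClosed k] (t : IsSl2Triple h e f) (hspan : t.toLieSubalgebra k = ⊤)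
    (M : Type*) [AddCommGroup M] [Module k M] [LieRingModule L M] [LieModule k L M]
    [FiniteDimensional k M] [Nontrivial M]
    (hirr : ∀ N : LieSubmodule k L M, N ≠ ⊥ → N = ⊤) :
    LinearMap.trace k M ((toEnd k L M h) ^ 2) = 2 * ((finrank k M + 1).choose 3 : k) := by
  haveI : IsTriangularizable k L M :=
    ⟨fun x => Module.End.iSup_maxGenEigenspace_eq_top _⟩
  obtain ⟨μ, m, hm0, P⟩ := t.exists_hasPrimitiveVectorWith (R := k) (M := M)
  obtain ⟨n, hn⟩ := P.exists_nat
  let w : ℕ → M := fun i => ((toEnd k L M f) ^ i) m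
  have hh : ∀ i, ⁅h, w i⁆ = (μ - 2 * (i : k)) • w i := P.lie_h_pow_toEnd_f
  have hz : w (n + 1) = 0 := P.pow_toEnd_f_eq_zero_of_eq_nat hn
  let S : Submodule k M := Submodule.span k (Set.range fun i : Fin (n + 1) => w i)
  have hw : ∀ i, w i ∈ S := fun i => by
    by_cases hi : i < n + 1
    · exact Submodule.subset_span ⟨⟨i, hi⟩, rfl⟩
    · obtain ⟨j, rfl⟩ : ∃ j, i = j + (n + 1) := ⟨i - (n + 1), by omega⟩
      simp only [w] at hz ⊢
      rw [pow_add, Module.End.mul_apply, hz, map_zero]
      exact S.zero_mem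
  have hgen : ∀ i, ⁅e, w i⁆ ∈ S ∧ ⁅f, w i⁆ ∈ S ∧ ⁅h, w i⁆ ∈ S := by
    intro i
    refine ⟨?_, ?_, ?_⟩
    · cases i with
      | zero => simp only [w, pow_zero, Module.End.one_apply, P.lie_e]; exact S.zero_mem
      | succ i => rw [show ⁅e, w (i + 1)⁆ = _ from P.lie_e_pow_succ_toEnd_f i]; exact S.smul_mem _ (hw i)
    · rw [show ⁅f, w i⁆ = w (i + 1) from P.lie_f_pow_toEnd_f i]; exact hw _
    · rw [hh]; exact S.smul_mem _ (hw i)
  let N : LieSubmodule k L M :=
    { S with
      lie_mem := by
        intro x y hy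
        simp only [AddSubsemigroup.mem_carrier, AddSubmonoid.mem_toSubsemigroup,
          Submodule.mem_toAddSubmonoid] at hy ⊢
        have hx : x ∈ t.toLieSubalgebra k := hspan ▸ LieSubalgebra.mem_top x
        obtain ⟨c₁, c₂, c₃, rfl⟩ := IsSl2Triple.mem_toLieSubalgebra_iff.1 hx
        rw [t.lie_e_f]
        induction hy using Submodule.span_induction with
        | mem y hy' =>
          obtain ⟨i, rfl⟩ := hy'
          simp only [add_lie, smul_lie]
          exact S.add_mem (S.add_mem (S.smul_mem _ (hgen i).1) (S.smul_mem _ (hgen i).2.1))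
            (S.smul_mem _ (hgen i).2.2)
        | zero => simp
        | add a b _ _ ha hb => rw [lie_add]; exact S.add_mem ha hb
        | smul c a _ ha => rw [lie_smul]; exact S.smul_mem c ha }
  have hN : N = ⊤ := hirr N (fun hbot => hm0 (by
    have : m ∈ N := hw 0
    rw [hbot] at this
    simpa using this))
  have hli : LinearIndependent k (fun i : Fin (n + 1) => w i) := by
    refine (toEnd k L M h).eigenvectors_linearIndependent' (fun i : Fin (n + 1) => μ - 2 * (i : k)) ?_ _
      (fun i => ⟨Module.End.mem_eigenspace_iff.2 (hh i), P.pow_toEnd_f_ne_zero_of_eq_nat hn (Nat.lt_succ_iff.1 i.2)⟩)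
    intro a b hab
    simp only [sub_right_inj, mul_right_inj' (two_ne_zero' k), Nat.cast_inj] at hab
    exact Fin.ext hab
  let b := Basis.mk hli (show (⊤ : Submodule k M) ≤ S from fun x _ => by
    show x ∈ N
    rw [hN]; trivial)
  have hfr : finrank k M = n + 1 := by rw [finrank_eq_card_basis b, Fintype.card_fin]
  rw [LinearMap.trace_eq_matrix_trace k b, Matrix.trace]
  have hdiag : ∀ i : Fin (n + 1),
      (LinearMap.toMatrix b b ((toEnd k L M h) ^ 2)).diag i = ((n : k) - 2 * ((i : ℕ) : k)) ^ 2 := by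
    intro i
    rw [Matrix.diag_apply, LinearMap.toMatrix_apply]
    have : ((toEnd k L M h) ^ 2) (b i) = (((n : k) - 2 * ((i : ℕ) : k)) ^ 2) • b i := by
      simp only [b, Basis.mk_apply, sq, Module.End.mul_apply, toEnd_apply_apply, hh, lie_smul, smul_smul, hn]
    rw [this, map_smul, Basis.repr_self, Finsupp.smul_single, Finsupp.single_eq_same, smul_eq_mul, mul_one]
  rw [Finset.sum_congr rfl (fun i _ => hdiag i),
    Fin.sum_univ_eq_sum_range (fun i : ℕ => ((n : k) - 2 * (i : k)) ^ 2), sum_sq, hfr]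

end Groth.Misc13.Sl2Trace
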