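import Mathlib.FieldTheory.IsAlgClosed.Basic
import Mathlib.GroupTheory.Commutator.Basic
import Mathlib.GroupTheory.Index
import Mathlib.GroupTheory.Subgroup.Centralizer
import Mathlib.LinearAlgebra.LinearIndependent.Basic
import Mathlib.LinearAlgebra.Dimension.StrongRankCondition
import Mathlib.LinearAlgebra.FreeModule.Finite.Basic
import Mathlib.Algebra.CharP.Defs

/-!
The commutator pairing of the group of points of a non-degenerate theta group.
-/

set_option autoImplicit false
set_option linter.unusedSectionVars false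
set_option linter.style.haveILetI false

universe u

namespace Groth.Misc13.Theta

variable {k : Type u} [Field k]

theorem natCard_ne_zero {n : ℕ} (hn : n ≠ 0) (hcop : n.Coprime (ringExpChar k)) : (n : k) ≠ 0 := by
  intro h
  have hd := (ringChar.spec k n).1 h
  have hp0 : ringChar k ≠ 0 := fun e => hn (by rw [e] at hd; exact Nat.eq_zero_of_zero_dvd hd)
  have hp1 : ringChar k ≠ 1 := CharP.char_ne_one k _
  have he : ringExpChar k = ringChar k := max_eq_left (by omega)
  rw [he] at hcop
  exact hp1 (Nat.eq_one_of_dvd_coprimes hcop hd dvd_rfl)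

/-- At most `N.index` homomorphisms to `kˣ` are trivial on `N`. -/
theorem card_le_index {G R : Type*} [Group G] (N : Subgroup G) [N.FiniteIndex]
    (φ : R → G →* kˣ) (hφ : Function.Injective φ) (h1 : ∀ r, ∀ x ∈ N, φ r x = 1) :
    Finite R ∧ Nat.card R ≤ N.index := by
  haveI : Finite (G ⧸ N) := N.finite_quotient_of_finiteIndex
  have := Fintype.ofFinite (G ⧸ N)
  let χ : R → G →* k := fun r => (Units.coeHom k).comp (φ r)
  have hχ : Function.Injective χ := fun a b h => hφ (MonoidHom.ext fun x => Units.ext (DFunLike.congr_fun h x))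
  have hwd : ∀ r (a b : G), a⁻¹ * b ∈ N → χ r a = χ r b := fun r a b hab => by
    have := h1 r _ hab
    rw [map_mul, map_inv, inv_mul_eq_one] at this
    simp [χ, this]
  let ψ : R → (G ⧸ N) → k := fun r => Quotient.lift (χ r) (fun a b hab =>
    hwd r a b (QuotientGroup.leftRel_apply.1 hab))
  have hli : LinearIndependent k ψ := by
    let L : ((G ⧸ N) → k) →ₗ[k] (G → k) := LinearMap.funLeft k k (QuotientGroup.mk)
    refine LinearIndependent.of_comp L ?_
    exact (linearIndependent_monoidHom G k).comp χ hχ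
  haveI : Finite R := hli.finite
  have := Fintype.ofFinite R
  refine ⟨inferInstance, ?_⟩
  rw [Nat.card_eq_fintype_card, Subgroup.index, Nat.card_eq_fintype_card]
  simpa using hli.fintype_card_le_finrank

variable {Γ : Type u} [Group Γ] {ι : kˣ →* Γ}

/-- The hypotheses on the group of points of a non-degenerate theta group. -/
structure Data (ι : kˣ →* Γ) : Prop where
  inj : Function.Injective ι
  cent : ι.range = Subgroup.center Γ
  comm : commutator Γ ≤ ι.range

variable (D : Data ι)
include D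

theorem ι_comm (z : kˣ) (x : Γ) : ι z * x = x * ι z := by
  have : ι z ∈ Subgroup.center Γ := D.cent ▸ ⟨z, rfl⟩
  exact ((Subgroup.mem_center_iff.1 this) x).symm

theorem range_normal : ι.range.Normal := by
  rw [D.cent]; infer_instance

theorem exists_e (x y : Γ) : ∃ z : kˣ, ι z = x * y * x⁻¹ * y⁻¹ :=
  D.comm (Subgroup.commutator_mem_commutator (Subgroup.mem_top x) (Subgroup.mem_top y))

/-- The commutator pairing. -/
noncomputable def e (x y : Γ) : kˣ := (exists_e D x y).choose

theorem ι_e (x y : Γ) : ι (e D x y) = x * y * x⁻¹ * y⁻¹ := (exists_e D x y).choose_spec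

theorem swap (x y : Γ) : x * y = ι (e D x y) * y * x := by rw [ι_e]; group

theorem e_mul_left (x x' y : Γ) : e D (x * x') y = e D x y * e D x' y := by
  apply D.inj
  rw [map_mul, ι_e]
  have h := ι_e D x' y
  calc x * x' * y * (x * x')⁻¹ * y⁻¹ = x * (x' * y * x'⁻¹ * y⁻¹) * y * x⁻¹ * y⁻¹ := by group
    _ = x * ι (e D x' y) * y * x⁻¹ * y⁻¹ := by rw [h]
    _ = ι (e D x' y) * (x * y * x⁻¹ * y⁻¹) := by rw [← ι_comm D]; group
    _ = ι (e D x' y) * ι (e D x y) := by rw [ι_e D x y]
    _ = _ := by rw [← map_mul, ← map_mul, mul_comm]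

theorem e_swap (x y : Γ) : e D y x = (e D x y)⁻¹ := by
  apply D.inj
  rw [map_inv, ι_e, ι_e]; group

theorem e_mul_right (x y y' : Γ) : e D x (y * y') = e D x y * e D x y' := by
  rw [e_swap D (y * y') x, e_mul_left, e_swap D y x, e_swap D y' x, mul_inv]

theorem e_eq_one_iff {x y : Γ} : e D x y = 1 ↔ x * y = y * x := by
  constructor
  · intro h; rw [swap D x y, h, map_one, one_mul]
  · intro h; apply D.inj; rw [ι_e, map_one, h]; group

theorem e_ι_left (z : kˣ) (y : Γ) : e D (ι z) y = 1 := (e_eq_one_iff D).2 (ι_comm D z y)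

theorem exists_e_ne_one {x : Γ} (hx : x ∉ ι.range) : ∃ y, e D y x ≠ 1 := by
  by_contra! h
  exact hx (D.cent ▸ Subgroup.mem_center_iff.2 fun y => (e_eq_one_iff D).1 (h y))

/-- `x ↦ e(x, ·)`. -/
noncomputable def pair (x : Γ) : Γ →* kˣ where
  toFun := e D x
  map_one' := (e_eq_one_iff D).2 (by simp)
  map_mul' := e_mul_right D x

/-- the pairing as a homomorphism -/
noncomputable def pairHom : Γ →* (Γ →* kˣ) where
  toFun := pair D
  map_one' := by ext y; simp [pair, (e_eq_one_iff D).2 (show (1 : Γ) * y = y * 1 by simp)]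
  map_mul' a b := by ext y; simp [pair, e_mul_left]

theorem ker_pairHom_comp (S : Subgroup Γ) :
    ((MonoidHom.compHom' S.subtype).comp (pairHom D)).ker = Subgroup.centralizer (S : Set Γ) := by
  ext x
  simp only [MonoidHom.mem_ker, Subgroup.mem_centralizer_iff]
  constructor
  · intro h s hs
    exact ((e_eq_one_iff D).1 (DFunLike.congr_fun h ⟨s, hs⟩)).symm
  · intro h; ext s
    simpa [pairHom, pair] using (e_eq_one_iff D).2 (h s s.2).symm

theorem range_le_centralizer (S : Set Γ) : ι.range ≤ Subgroup.centralizer S := by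
  rw [D.cent]; exact Subgroup.center_le_centralizer S

variable [Finite (Γ ⧸ ι.range)]

theorem finiteIndex : ι.range.FiniteIndex := Subgroup.finiteIndex_of_finite_quotient

theorem finiteIndex_centralizer (S : Set Γ) : (Subgroup.centralizer S).FiniteIndex :=
  haveI := finiteIndex D
  Subgroup.finiteIndex_of_le (range_le_centralizer D S)

/-- `[Γ : C(H)] = [H : Z]`. -/
theorem index_centralizer (H : Subgroup Γ) :
    (Subgroup.centralizer (H : Set Γ)).index = ι.range.relIndex H := by
  haveI := finiteIndex D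
  haveI := finiteIndex_centralizer D (H : Set Γ)
  set C := Subgroup.centralizer (H : Set Γ)
  let Φ := (MonoidHom.compHom' H.subtype).comp (pairHom D)
  apply le_antisymm
  · have h := card_le_index (k := k) (ι.range.subgroupOf H) (fun r : Φ.range => (r : H →* kˣ))
      Subtype.val_injective (fun r x hx => by
        obtain ⟨_, y, rfl⟩ := r
        obtain ⟨z, hz⟩ := Subgroup.mem_subgroupOf.1 hx
        simpa [Φ, pairHom, pair] using (e_eq_one_iff D).2 (hz ▸ (ι_comm D z y).symm))
    rw [← Subgroup.index_ker, ker_pairHom_comp D H] at h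
    exact h.2
  · let Ψ := (pairHom D).comp H.subtype
    have hker : Ψ.ker = ι.range.subgroupOf H := by
      ext x
      rw [MonoidHom.mem_ker, Subgroup.mem_subgroupOf]
      constructor
      · intro h
        by_contra hx
        obtain ⟨y, hy⟩ := exists_e_ne_one D hx
        exact hy (by rw [e_swap D (x : Γ) y]; simpa [Ψ, pairHom, pair] using DFunLike.congr_fun h y)
      · rintro ⟨z, hz⟩
        ext y
        simp [Ψ, pairHom, pair, ← hz, e_ι_left D z y]
    have h := card_le_index (k := k) C (fun r : Ψ.range => (r : Γ →* kˣ))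
      Subtype.val_injective (fun r x hx => by
        obtain ⟨_, y, rfl⟩ := r
        simpa [Ψ, pairHom, pair] using (e_eq_one_iff D).2 ((Subgroup.mem_centralizer_iff.1 hx) y y.2))
    rw [← Subgroup.index_ker, hker] at h
    exact h.2

theorem lagrangian_tfae (H : Subgroup Γ) (hH : ι.range ≤ H) :
    List.TFAE [
      IsMulCommutative H ∧ ∀ H' : Subgroup Γ, IsMulCommutative H' → H ≤ H' → H' = H,
      IsMulCommutative H ∧ (ι.range.relIndex H) ^ 2 = ι.range.index,
      H = Subgroup.centralizer (H : Set Γ)] := by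
  haveI := finiteIndex D
  have hcc : ∀ A : Subgroup Γ, IsMulCommutative A → A ≤ Subgroup.centralizer (A : Set Γ) := fun A hA x hx =>
    Subgroup.mem_centralizer_iff.2 fun y hy => congrArg Subtype.val (IsMulCommutative.is_comm.comm (⟨y, hy⟩ : A) ⟨x, hx⟩)
  tfae_have 1 → 3 := by
    rintro ⟨hc, hmax⟩
    refine le_antisymm (hcc H hc) fun x hx => ?_
    have hset : ∀ a ∈ insert x (H : Set Γ), ∀ b ∈ insert x (H : Set Γ), a * b = b * a := by
      have hHH : ∀ a ∈ H, ∀ b ∈ H, a * b = b * a := fun a ha b hb =>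
        Subgroup.mem_centralizer_iff.1 (hcc H hc hb) a ha
      intro a ha b hb
      rcases ha with rfl | ha <;> rcases hb with rfl | hb
      · rfl
      · exact (Subgroup.mem_centralizer_iff.1 hx b hb).symm
      · exact Subgroup.mem_centralizer_iff.1 hx a ha
      · exact hHH a ha b hb
    have := hmax _ (Subgroup.isMulCommutative_closure hset)
      (fun a ha => Subgroup.subset_closure (Or.inr ha))
    rw [← this]
    exact Subgroup.subset_closure (Or.inl rfl)
  tfae_have 3 → 2 := by
    intro h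
    refine ⟨⟨⟨fun a b => Subtype.ext (Subgroup.mem_centralizer_iff.1 (h.le b.2) a a.2)⟩⟩, ?_⟩
    have hi := index_centralizer D H
    rw [← h] at hi
    rw [sq]
    nth_rewrite 2 [← hi]
    exact Subgroup.relIndex_mul_index hH
  tfae_have 2 → 1 := by
    rintro ⟨hc, hsq⟩
    refine ⟨hc, fun H' hc' hle => ?_⟩
    have hmul := Subgroup.relIndex_mul_index (hH.trans hle)
    have hi := index_centralizer D H'
    have hdvd : (Subgroup.centralizer (H' : Set Γ)).index ≤ H'.index :=
      Nat.le_of_dvd (Nat.pos_of_ne_zero (Subgroup.finiteIndex_of_le (hH.trans hle)).index_ne_zero)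
        (Subgroup.index_dvd_of_le (hcc H' hc'))
    rw [hi] at hdvd
    set b := ι.range.relIndex H'
    set a := ι.range.relIndex H
    have hb : b * b ≤ a ^ 2 := by rw [hsq, ← hmul]; exact Nat.mul_le_mul_left b hdvd
    have hba : b ≤ a := by
      by_contra hlt
      push Not at hlt
      exact absurd hb (not_le.2 (by rw [sq]; exact Nat.mul_lt_mul'' hlt hlt))
    have htower := Subgroup.relIndex_mul_relIndex ι.range H H' hH hle
    have hapos : a ≠ 0 := fun h0 => by
      rw [h0] at hsq; exact finiteIndex D |>.index_ne_zero (by simpa using hsq.symm)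
    have h1 : H.relIndex H' = 1 := by
      have hne : H.relIndex H' ≠ 0 := fun h0 => by
        rw [h0, mul_zero] at htower
        exact (finiteIndex D).index_ne_zero (by rw [← hmul, show b = 0 from htower.symm, zero_mul])
      by_contra h1
      have : a * 2 ≤ b := (Nat.mul_le_mul_left a (by omega : 2 ≤ H.relIndex H')).trans htower.le
      omega
    exact le_antisymm (Subgroup.relIndex_eq_one.1 h1) hle
  tfae_finish

/-- A maximal level subgroup `H` has centraliser `H · Z`. -/
theorem centralizer_eq_sup [IsAlgClosed k] (H : Subgroup Γ) (hH : H ⊓ ι.range = ⊥)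
    (hmax : ∀ H' : Subgroup Γ, H' ⊓ ι.range = ⊥ → H ≤ H' → H' = H) :
    Subgroup.centralizer (H : Set Γ) = H ⊔ ι.range := by
  haveI := finiteIndex D
  haveI := range_normal D
  have hHH : ∀ a ∈ H, ∀ b ∈ H, a * b = b * a := fun a ha b hb => by
    have hmem : a * b * a⁻¹ * b⁻¹ ∈ H ⊓ ι.range :=
      ⟨H.mul_mem (H.mul_mem (H.mul_mem ha hb) (H.inv_mem ha)) (H.inv_mem hb), ⟨_, ι_e D a b⟩⟩
    rw [hH, Subgroup.mem_bot] at hmem
    calc a * b = (a * b * a⁻¹ * b⁻¹) * (b * a) := by group
      _ = b * a := by rw [hmem, one_mul]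
  apply le_antisymm
  · intro x hx
    have hex : ∃ n, n ≠ 0 ∧ x ^ n ∈ H ⊔ ι.range := by
      obtain ⟨n, hn, -, hmem⟩ := ι.range.exists_pow_mem_of_index_ne_zero (finiteIndex D).index_ne_zero x
      exact ⟨n, hn.ne', Subgroup.mem_sup_right hmem⟩
    classical
    set m := Nat.find hex
    obtain ⟨hm0, hmem⟩ := Nat.find_spec hex
    obtain ⟨h, hh, c', hc', hxm⟩ : ∃ h ∈ (H : Set Γ), ∃ c' ∈ (ι.range : Set Γ), h * c' = x ^ m := by
      rw [← Set.mem_mul, ← Subgroup.mul_normal]; exact hmem
    obtain ⟨c, rfl⟩ := hc'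
    obtain ⟨z, hz⟩ := IsAlgClosed.exists_pow_nat_eq ((c⁻¹ : kˣ) : k) (Nat.pos_of_ne_zero hm0)
    have hz0 : z ≠ 0 := fun e => by rw [e, zero_pow hm0] at hz; exact (c⁻¹).ne_zero hz.symm
    let zu : kˣ := Units.mk0 z hz0
    have hzu : zu ^ m = c⁻¹ := Units.ext (by simpa [zu] using hz)
    set x' := x * ι zu with hx'
    have hx'm : x' ^ m = h := by
      rw [hx', (show Commute x (ι zu) from (ι_comm D zu x).symm).mul_pow, ← map_pow, hzu, ← hxm,
        map_inv, mul_inv_cancel_right]
    have hx'C : ∀ a ∈ H, Commute a x' := fun a ha =>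
      (show Commute a x from Subgroup.mem_centralizer_iff.1 hx a ha).mul_right (ι_comm D zu a).symm
    let H' : Subgroup Γ :=
      { carrier := {y | ∃ a ∈ H, ∃ j : ℤ, y = a * x' ^ j}
        one_mem' := ⟨1, H.one_mem, 0, by simp⟩
        mul_mem' := by
          rintro _ _ ⟨a, ha, i, rfl⟩ ⟨b, hb, j, rfl⟩
          refine ⟨a * b, H.mul_mem ha hb, i + j, ?_⟩
          rw [mul_assoc, ← mul_assoc (x' ^ i), ← ((hx'C b hb).zpow_right i).eq, zpow_add]
          group
        inv_mem' := by
          rintro _ ⟨a, ha, i, rfl⟩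
          refine ⟨a⁻¹, H.inv_mem ha, -i, ?_⟩
          rw [mul_inv_rev, ← zpow_neg, ((hx'C _ (H.inv_mem ha)).zpow_right _).eq] }
    have hle : H ≤ H' := fun a ha => ⟨a, ha, 0, by simp⟩
    have hbot : H' ⊓ ι.range = ⊥ := by
      rw [eq_bot_iff]
      rintro _ ⟨⟨a, ha, j, rfl⟩, hz'⟩
      have hxj : x ^ j ∈ H ⊔ ι.range := by
        obtain ⟨w, hw⟩ := hz'
        have e1 : x' ^ j = x ^ j * ι (zu ^ j) := by
          rw [hx', (show Commute x (ι zu) from (ι_comm D zu x).symm).mul_zpow, map_zpow]
        have e2 : x ^ j = a⁻¹ * (ι w * (ι (zu ^ j))⁻¹) := by rw [hw, e1]; group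
        rw [e2]
        exact Subgroup.mul_mem_sup (H.inv_mem ha) (ι.range.mul_mem ⟨w, rfl⟩ (ι.range.inv_mem ⟨_, rfl⟩))
      have hr : x ^ (j % (m : ℤ)) ∈ H ⊔ ι.range := by
        rw [Int.emod_def, zpow_sub, zpow_mul, zpow_natCast]
        exact Subgroup.mul_mem _ hxj (Subgroup.inv_mem _ (Subgroup.zpow_mem _ hmem _))
      have hj0 : j % (m : ℤ) = 0 := by
        by_contra hne
        have h0 := Int.emod_nonneg j (Int.natCast_ne_zero.2 hm0)
        have hlt := Int.emod_lt_of_pos j (by omega : (0 : ℤ) < (m : ℤ))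
        have hcast : (((j % (m : ℤ)).toNat : ℕ) : ℤ) = j % (m : ℤ) := Int.toNat_of_nonneg h0
        exact Nat.find_min hex (m := (j % (m : ℤ)).toNat) (by omega)
          ⟨by omega, by rw [← zpow_natCast, hcast]; exact hr⟩
      obtain ⟨q, rfl⟩ := Int.dvd_of_emod_eq_zero hj0
      have hin : a * x' ^ ((m : ℤ) * q) ∈ H := by
        rw [zpow_mul, zpow_natCast, hx'm]; exact H.mul_mem ha (H.zpow_mem hh q)
      rw [← hH]; exact ⟨hin, hz'⟩
    have hH' := hmax H' hbot hle
    have hx'H : x' ∈ H := by rw [← hH']; exact ⟨1, H.one_mem, 1, by simp⟩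
    have : x = x' * (ι zu)⁻¹ := by rw [hx']; group
    rw [this]
    exact Subgroup.mul_mem_sup hx'H (ι.range.inv_mem ⟨zu, rfl⟩)
  · exact sup_le (fun a ha => Subgroup.mem_centralizer_iff.2 fun b hb => hHH b hb a ha)
      (range_le_centralizer D _)

theorem relIndex_eq_card {H : Subgroup Γ} (hH : H ⊓ ι.range = ⊥) :
    ι.range.relIndex H = Nat.card H := by
  rw [Subgroup.relIndex, Subgroup.subgroupOf_eq_bot.2 (disjoint_iff.2 (by rwa [inf_comm])), Subgroup.index_bot]

theorem card_sq [IsAlgClosed k] (H : Subgroup Γ) (hH : H ⊓ ι.range = ⊥)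
    (hmax : ∀ H' : Subgroup Γ, H' ⊓ ι.range = ⊥ → H ≤ H' → H' = H) :
    Nat.card H * Nat.card H = ι.range.index := by
  haveI := range_normal D
  have hC := centralizer_eq_sup D H hH hmax
  have hi := index_centralizer D H
  rw [relIndex_eq_card D hH, hC] at hi
  have := Subgroup.relIndex_mul_index (le_sup_right : ι.range ≤ H ⊔ ι.range)
  rwa [Subgroup.relIndex_sup_right, relIndex_eq_card D hH, hi] at this

end Groth.Misc13.Theta
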