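import Groth.Agent.Misc13.ThetaPairing
import Mathlib.RepresentationTheory.FDRep
import Mathlib.RepresentationTheory.Irreducible
import Mathlib.RepresentationTheory.Semisimple
import Mathlib.RepresentationTheory.Invariants
import Mathlib.LinearAlgebra.Trace
import Mathlib.LinearAlgebra.Eigenspace.Triangularizable
import Mathlib.GroupTheory.GroupAction.Quotient

/-!
Weight-one representations of the group of points of a non-degenerate theta group.
-/

set_option autoImplicit false
set_option linter.unusedSectionVars false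
set_option linter.style.haveILetI false

universe u

open Representation Module

namespace Groth.Misc13.Theta

variable {k : Type u} [Field k] {Γ : Type u} [Group Γ] {ι : kˣ →* Γ}

/-- The central torus acts by scalars. -/
def IsWeightOne (ι : kˣ →* Γ) {V : Type*} [AddCommGroup V] [Module k V]
    (ρ : Representation k Γ V) : Prop :=
  ∀ (z : kˣ) (v : V), ρ (ι z) v = (z : k) • v

section avg

variable {V W : Type*} [AddCommGroup V] [Module k V] [AddCommGroup W] [Module k W]
  {ρV : Representation k Γ V} {ρW : Representation k Γ W}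
  (hV : IsWeightOne ι ρV) (hW : IsWeightOne ι ρW)

omit hV hW in
/-- conjugate of `T` -/
def conjT (ρV : Representation k Γ V) (ρW : Representation k Γ W) (T : V →ₗ[k] W) (x : Γ) :
    V →ₗ[k] W := ρW x ∘ₗ T ∘ₗ ρV x⁻¹

theorem conjT_eq (T : V →ₗ[k] W) (hV : IsWeightOne ι ρV) (hW : IsWeightOne ι ρW) (x : Γ) (z : kˣ) :
    conjT ρV ρW T (x * ι z) = conjT ρV ρW T x := by
  ext v
  simp only [conjT, LinearMap.comp_apply, map_mul, mul_inv_rev, ← map_inv ι, End.mul_apply]
  simp only [hV _ _, hW _ _, map_smul, smul_smul, Units.inv_mul, Units.mul_inv, one_smul]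

omit hV hW in
theorem conjT_mul (T : V →ₗ[k] W) (g x : Γ) (v : V) :
    conjT ρV ρW T (g * x) (ρV g v) = ρW g (conjT ρV ρW T x v) := by
  simp only [conjT, LinearMap.comp_apply, map_mul, mul_inv_rev, End.mul_apply, inv_self_apply]

variable [Fintype (Γ ⧸ ι.range)]

omit hV hW in
/-- The average of the conjugates of `T`. -/
noncomputable def avg (ρV : Representation k Γ V) (ρW : Representation k Γ W) (ι : kˣ →* Γ)
    [Fintype (Γ ⧸ ι.range)] (T : V →ₗ[k] W) : V →ₗ[k] W :=
  ∑ q : Γ ⧸ ι.range, conjT ρV ρW T q.out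

omit hV hW in
theorem avg_apply (T : V →ₗ[k] W) (v : V) :
    avg ρV ρW ι T v = ∑ q : Γ ⧸ ι.range, ρW q.out (T (ρV q.out⁻¹ v)) := by
  simp [avg, conjT, LinearMap.sum_apply]

include hV hW in
theorem conjT_out (T : V →ₗ[k] W) (x : Γ) :
    conjT ρV ρW T ((QuotientGroup.mk x : Γ ⧸ ι.range).out) = conjT ρV ρW T x := by
  obtain ⟨⟨n, z, rfl⟩, h⟩ := QuotientGroup.mk_out_eq_mul ι.range x
  rw [h]; exact conjT_eq T hV hW x z

include hV hW in
theorem avg_equivariant (T : V →ₗ[k] W) (g : Γ) (v : V) :
    avg ρV ρW ι T (ρV g v) = ρW g (avg ρV ρW ι T v) := by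
  simp only [avg, LinearMap.sum_apply, map_sum]
  refine (Fintype.sum_equiv (MulAction.toPerm (α := Γ) g) _ _ (fun q => ?_)).symm
  rw [← conjT_mul]
  congr 1
  have : (MulAction.toPerm g) q = (QuotientGroup.mk (g * q.out) : Γ ⧸ ι.range) := by
    conv_lhs => rw [← QuotientGroup.out_eq' q]
    rfl
  rw [this, conjT_out hV hW]

/-- `avg` as an intertwining map -/
noncomputable def avgMap (T : V →ₗ[k] W) : IntertwiningMap ρV ρW :=
  (avg ρV ρW ι T).intertwiningMap_of_isIntertwiningMap ρV ρW (avg_equivariant hV hW T)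

end avg

variable (D : Data ι) [Fintype (Γ ⧸ ι.range)]

section trace

variable {V : Type*} [AddCommGroup V] [Module k V] [FiniteDimensional k V]
  {ρ : Representation k Γ V} (hρ : IsWeightOne ι ρ)

include D hρ in
theorem trace_eq_zero {x : Γ} (hx : x ∉ ι.range) : LinearMap.trace k V (ρ x) = 0 := by
  obtain ⟨y, hy⟩ := exists_e_ne_one D hx
  have h1 : ρ y * ρ x * ρ y⁻¹ = (e D y x : k) • ρ x := by
    rw [← map_mul, ← map_mul, show y * x * y⁻¹ = ι (e D y x) * x by rw [ι_e D y x]; group, map_mul]
    ext v; exact hρ _ _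
  have h2 := congrArg (LinearMap.trace k V) h1
  rw [LinearMap.trace_mul_comm, ← mul_assoc, ← map_mul, inv_mul_cancel, map_one, one_mul, map_smul,
    smul_eq_mul] at h2
  have hne : (1 : k) - (e D y x : k) ≠ 0 := sub_ne_zero.2 (fun h => hy (Units.ext h.symm))
  have h3 : ((1 : k) - (e D y x : k)) * LinearMap.trace k V (ρ x) = 0 := by rw [sub_mul, one_mul]; exact sub_eq_zero.2 h2
  exact (mul_eq_zero.1 h3).resolve_left hne

include hρ in
theorem trace_ι (z : kˣ) : LinearMap.trace k V (ρ (ι z)) = (z : k) * (finrank k V : k) := by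
  rw [show ρ (ι z) = (z : k) • (1 : End k V) from LinearMap.ext fun v => hρ z v, map_smul,
    LinearMap.trace_one, smul_eq_mul]

omit [Fintype (Γ ⧸ ι.range)] in
theorem trace_eq_sum {ιb : Type*} [Fintype ιb] [DecidableEq ιb] (b : Basis ιb k V) (f : V →ₗ[k] V) :
    LinearMap.trace k V f = ∑ i, b.coord i (f (b i)) := by
  rw [LinearMap.trace_eq_matrix_trace k b, Matrix.trace]
  simp [LinearMap.toMatrix_apply]

include D hρ in
/-- Only the trivial coset contributes. -/
theorem sum_trace_smul {W : Type*} [AddCommGroup W] [Module k W] {σ : Representation k Γ W}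
    (hσ : IsWeightOne ι σ) (w : W) :
    ∑ q : Γ ⧸ ι.range, LinearMap.trace k V (ρ q.out⁻¹) • σ q.out w = (finrank k V : k) • w := by
  classical
  rw [Fintype.sum_eq_single (QuotientGroup.mk (1 : Γ))]
  · obtain ⟨⟨n, z, rfl⟩, h⟩ := QuotientGroup.mk_out_eq_mul ι.range (1 : Γ)
    rw [h]
    simp only [one_mul]
    rw [← map_inv ι, trace_ι hρ, hσ, smul_smul]
    congr 1
    rw [mul_comm, ← mul_assoc, Units.mul_inv, one_mul]
  · intro q hq
    rw [trace_eq_zero D hρ, zero_smul]
    intro hmem
    refine hq ?_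
    rw [← QuotientGroup.out_eq' q, QuotientGroup.eq, mul_one]
    exact hmem

end trace

section irreducible

variable [IsAlgClosed k] {V : Type*} [AddCommGroup V] [Module k V] [FiniteDimensional k V]
  {ρ : Representation k Γ V} (hρ : IsWeightOne ι ρ) [IsIrreducible ρ]

omit [Fintype (Γ ⧸ ι.range)] [IsAlgClosed k] [FiniteDimensional k V] [IsIrreducible ρ] in
theorem nontrivial_of_irreducible (ρ' : Representation k Γ V) [IsIrreducible ρ'] : Nontrivial V := by
  by_contra h
  rw [not_nontrivial_iff_subsingleton] at h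
  have : (⊥ : Subrepresentation ρ') = ⊤ := Subrepresentation.toSubmodule_injective (Subsingleton.elim _ _)
  exact bot_ne_top this

omit [Fintype (Γ ⧸ ι.range)] in
theorem exists_eq_smul (f : V →ₗ[k] V) (hf : ∀ g v, f (ρ g v) = ρ g (f v)) :
    ∃ c : k, ∀ v, f v = c • v := by
  haveI := nontrivial_of_irreducible ρ
  obtain ⟨c, hc⟩ := Module.End.exists_eigenvalue f
  let E : Subrepresentation ρ := ⟨Module.End.eigenspace f c, fun g v hv => by
    rw [Module.End.mem_eigenspace_iff] at hv ⊢
    rw [hf, hv, map_smul]⟩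
  rcases IsSimpleOrder.eq_bot_or_eq_top E with h | h
  · exact absurd (congrArg Subrepresentation.toSubmodule h) hc
  · refine ⟨c, fun v => Module.End.mem_eigenspace_iff.1 ?_⟩
    have : v ∈ E.toSubmodule := by rw [h]; trivial
    exact this

variable (hQ : (Nat.card (Γ ⧸ ι.range) : k) ≠ 0)

include hρ hQ in
theorem finrank_ne_zero_and_avg :
    (finrank k V : k) ≠ 0 ∧ ∀ (T : V →ₗ[k] V) (v : V),
      avg ρ ρ ι T v = ((Nat.card (Γ ⧸ ι.range) : k) / (finrank k V : k) * LinearMap.trace k V T) • v := by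
  have key : ∀ T : V →ₗ[k] V, ∃ c : k, (∀ v, avg ρ ρ ι T v = c • v) ∧
      (Nat.card (Γ ⧸ ι.range) : k) * LinearMap.trace k V T = c * (finrank k V : k) := by
    intro T
    obtain ⟨c, hc⟩ := exists_eq_smul (avg ρ ρ ι T) (avg_equivariant hρ hρ T)
    refine ⟨c, hc, ?_⟩
    have h := congrArg (LinearMap.trace k V) (show avg ρ ρ ι T = c • 1 from LinearMap.ext hc)
    rw [map_smul, LinearMap.trace_one, smul_eq_mul, avg, map_sum] at h
    have hterm : ∀ q : Γ ⧸ ι.range, LinearMap.trace k V (conjT ρ ρ T q.out) = LinearMap.trace k V T := fun q => by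
      rw [show conjT ρ ρ T q.out = ρ q.out * (T * ρ q.out⁻¹) from rfl, LinearMap.trace_mul_comm,
        mul_assoc, ← map_mul, inv_mul_cancel, map_one, mul_one]
    rw [Finset.sum_congr rfl (fun q _ => hterm q), Finset.sum_const, Finset.card_univ, nsmul_eq_mul,
      ← Nat.card_eq_fintype_card] at h
    exact h
  haveI := nontrivial_of_irreducible ρ
  have hn : (finrank k V : k) ≠ 0 := by
    classical
    let b := finBasis k V
    let i : Fin (finrank k V) := ⟨0, finrank_pos⟩
    obtain ⟨c, -, hc⟩ := key ((b.coord i).smulRight (b i))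
    rw [trace_eq_sum b, Finset.sum_eq_single i (fun j _ hj => by simp [b.repr_self, Ne.symm hj])
      (fun h => absurd (Finset.mem_univ i) h)] at hc
    intro h0
    rw [h0, mul_zero] at hc
    simp at hc
    exact hQ (by rw [Nat.card_eq_fintype_card]; exact hc)
  refine ⟨hn, fun T v => ?_⟩
  obtain ⟨c, hc, hc'⟩ := key T
  rw [hc v, div_mul_eq_mul_div, hc', mul_div_assoc, div_self hn, mul_one]

include D hρ hQ in
/-- `(dim V)² = |K|`. -/
theorem finrank_sq : finrank k V ^ 2 = Nat.card (Γ ⧸ ι.range) := by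
  classical
  obtain ⟨hn, havg⟩ := finrank_ne_zero_and_avg hρ hQ
  set c := (Nat.card (Γ ⧸ ι.range) : k) / (finrank k V : k)
  have hc : c ≠ 0 := div_ne_zero hQ hn
  let B : Γ ⧸ ι.range → End k V := fun q => ρ q.out
  have hli : LinearIndependent k B := by
    rw [Fintype.linearIndependent_iff]
    intro g hg r
    have h := congrArg (fun f : End k V => LinearMap.trace k V (f * ρ r.out⁻¹)) hg
    simp only [zero_mul, map_zero, Finset.sum_mul, map_sum, smul_mul_assoc, map_smul, smul_eq_mul, B, ← map_mul] at h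
    rw [Fintype.sum_eq_single r (fun q hq => ?_)] at h
    · rw [mul_inv_cancel, map_one, LinearMap.trace_one] at h
      exact (mul_eq_zero.1 h).resolve_right hn
    · rw [trace_eq_zero D hρ (fun hmem => hq ?_), mul_zero]
      haveI := range_normal D
      rw [← QuotientGroup.out_eq' q, ← QuotientGroup.out_eq' r, QuotientGroup.eq]
      obtain ⟨z, hz⟩ := hmem
      refine ⟨z⁻¹, ?_⟩
      have h2 : q.out = ι z * r.out := by rw [hz]; group
      rw [map_inv, h2, ι_comm D z r.out, mul_inv_rev]
      group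
  have hspan : (⊤ : Submodule k (End k V)) ≤ Submodule.span k (Set.range B) := by
    intro S _
    have hS : S = c⁻¹ • ∑ q : Γ ⧸ ι.range, LinearMap.trace k V (ρ q.out⁻¹ * S) • B q := by
      apply LinearMap.ext
      intro x
      have hkey : ∑ q : Γ ⧸ ι.range, LinearMap.trace k V (ρ q.out⁻¹ * S) • ρ q.out x = c • S x := by
        let b := finBasis k V
        simp only [trace_eq_sum b, End.mul_apply, Finset.sum_smul]
        rw [Finset.sum_comm]
        have hi : ∀ i, ∑ q : Γ ⧸ ι.range, b.coord i (ρ q.out⁻¹ (S (b i))) • ρ q.out x =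
            c • (b.coord i x • S (b i)) := fun i => by
          have := havg ((b.coord i).smulRight x) (S (b i))
          simp only [avg_apply, LinearMap.smulRight_apply, map_smul] at this
          rw [this, LinearMap.trace_smulRight, smul_smul]
        rw [Finset.sum_congr rfl (fun i _ => hi i), ← Finset.smul_sum]
        congr 1
        simp only [← map_smul, ← map_sum, Basis.coord_apply, b.sum_repr]
      simp only [LinearMap.smul_apply, LinearMap.sum_apply, B, hkey, smul_smul, inv_mul_cancel₀ hc, one_smul]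
    rw [hS]
    exact Submodule.smul_mem _ _ (Submodule.sum_mem _ fun q _ =>
      Submodule.smul_mem _ _ (Submodule.subset_span ⟨q, rfl⟩))
  have := finrank_eq_card_basis (Basis.mk hli hspan)
  rw [finrank_linearMap] at this
  rw [sq, this, Nat.card_eq_fintype_card]

include D hρ hQ in
/-- An irreducible weight-one representation maps nontrivially to every nonzero one. -/
theorem exists_ne_zero {W : Type*} [AddCommGroup W] [Module k W] [Nontrivial W] {σ : Representation k Γ W}
    (hσ : IsWeightOne ι σ) : ∃ f : IntertwiningMap ρ σ, f ≠ 0 := by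
  classical
  obtain ⟨w, hw⟩ := exists_ne (0 : W)
  obtain ⟨hn, -⟩ := finrank_ne_zero_and_avg hρ hQ
  by_contra! h
  let b := finBasis k V
  have h0 : ∀ i, avg ρ σ ι ((b.coord i).smulRight w) (b i) = 0 := fun i => by
    have := h (avgMap hρ hσ ((b.coord i).smulRight w))
    exact DFunLike.congr_fun this (b i)
  simp only [avg_apply, LinearMap.smulRight_apply, map_smul] at h0
  have h1 := Finset.sum_eq_zero (s := Finset.univ) (fun i _ => h0 i)
  rw [Finset.sum_comm] at h1
  simp only [← Finset.sum_smul, ← trace_eq_sum b, sum_trace_smul D hρ hσ] at h1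
  exact hw ((smul_eq_zero.1 h1).resolve_left hn)

include D hρ hQ in
theorem nonempty_equiv {W : Type*} [AddCommGroup W] [Module k W] {σ : Representation k Γ W}
    [IsIrreducible σ] (hσ : IsWeightOne ι σ) : Nonempty (Representation.Equiv ρ σ) := by
  haveI : Nontrivial W := by
    by_contra h
    rw [not_nontrivial_iff_subsingleton] at h
    exact bot_ne_top (α := Subrepresentation σ) (Subrepresentation.toSubmodule_injective (Subsingleton.elim _ _))
  obtain ⟨f, hf⟩ := exists_ne_zero D hρ hQ hσ
  exact ⟨f.ofBijective ((IsIrreducible.bijective_or_eq_zero f).resolve_right hf)⟩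

end irreducible

section semisimple

variable {W : Type*} [AddCommGroup W] [Module k W] {σ : Representation k Γ W} (hσ : IsWeightOne ι σ)

include hσ in
theorem isSemisimple (hQ : (Nat.card (Γ ⧸ ι.range) : k) ≠ 0) : IsSemisimpleRepresentation σ := by
  refine ⟨fun U => ?_⟩
  obtain ⟨P, hP⟩ := U.toSubmodule.subtype.exists_leftInverse_of_injective U.toSubmodule.ker_subtype
  set a : k := (Nat.card (Γ ⧸ ι.range) : k)⁻¹
  let A : W →ₗ[k] W := a • avg σ σ ι (U.toSubmodule.subtype ∘ₗ P)
  have hAg : ∀ g v, A (σ g v) = σ g (A v) := fun g v => by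
    simp [A, avg_equivariant hσ hσ]
  have hmem : ∀ v, A v ∈ U.toSubmodule := fun v => by
    simp only [A, LinearMap.smul_apply, avg_apply]
    exact U.toSubmodule.smul_mem _ (U.toSubmodule.sum_mem fun q _ => U.apply_mem_toSubmodule _ (P _).2)
  have hid : ∀ u ∈ U.toSubmodule, A u = u := fun u hu => by
    simp only [A, LinearMap.smul_apply, avg_apply]
    have hterm : ∀ q : Γ ⧸ ι.range, σ q.out ((U.toSubmodule.subtype ∘ₗ P) (σ q.out⁻¹ u)) = u := fun q => by
      have hfix : (U.toSubmodule.subtype ∘ₗ P) (σ q.out⁻¹ u) = σ q.out⁻¹ u :=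
        congrArg Subtype.val (LinearMap.congr_fun hP ⟨_, U.apply_mem_toSubmodule _ hu⟩)
      rw [hfix, ← End.mul_apply, ← map_mul, mul_inv_cancel, map_one, End.one_apply]
    rw [Finset.sum_congr rfl (fun q _ => hterm q), Finset.sum_const, Finset.card_univ, ← Nat.cast_smul_eq_nsmul k,
      ← Nat.card_eq_fintype_card, smul_smul, inv_mul_cancel₀ hQ, one_smul]
  let N : Subrepresentation σ := ⟨LinearMap.ker A, fun g v hv => by
    rw [LinearMap.mem_ker] at hv ⊢; rw [hAg, hv, map_zero]⟩
  refine ⟨N, ?_, ?_⟩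
  · rw [disjoint_iff]
    apply Subrepresentation.toSubmodule_injective
    change U.toSubmodule ⊓ LinearMap.ker A = ⊥
    rw [eq_bot_iff]
    rintro x ⟨hx, hx'⟩
    simpa [hid x hx] using hx'
  · rw [codisjoint_iff]
    apply Subrepresentation.toSubmodule_injective
    change U.toSubmodule ⊔ LinearMap.ker A = ⊤
    rw [eq_top_iff]
    intro x _
    rw [show x = A x + (x - A x) by abel]
    exact Submodule.add_mem_sup (hmem x) (by rw [LinearMap.mem_ker, map_sub, hid _ (hmem x), sub_self])

include D hσ in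
theorem finrank_eq_mul [IsAlgClosed k] [FiniteDimensional k W] (hQ : (Nat.card (Γ ⧸ ι.range) : k) ≠ 0) (H : Subgroup Γ)
    (hH : H ⊓ ι.range = ⊥) :
    finrank k W = Nat.card H * finrank k (Representation.invariants (σ.comp H.subtype)) := by
  classical
  set C := Subgroup.centralizer (H : Set Γ)
  haveI := finiteIndex D
  haveI := finiteIndex_centralizer D (H : Set Γ)
  haveI : Finite (Γ ⧸ C) := C.finite_quotient_of_finiteIndex
  have := Fintype.ofFinite (Γ ⧸ C)
  have hcardC : C.index = Nat.card H := by rw [index_centralizer D H, relIndex_eq_card D hH]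
  haveI : Finite H := Nat.finite_of_card_ne_zero (by rw [← hcardC]; exact Subgroup.FiniteIndex.index_ne_zero)
  have := Fintype.ofFinite H
  have hdvd : Nat.card H ∣ Nat.card (Γ ⧸ ι.range) := hcardC ▸ Subgroup.index_dvd_of_le (range_le_centralizer D _)
  have hHk : (Nat.card H : k) ≠ 0 := fun h0 => hQ (by
    obtain ⟨m, hm⟩ := hdvd
    rw [hm, Nat.cast_mul, h0, zero_mul])
  let τ : Representation k H W := σ.comp H.subtype
  let P : W →ₗ[k] W := (Nat.card H : k)⁻¹ • ∑ h : H, σ (h : Γ)
  have hPmem : ∀ w, P w ∈ τ.invariants := fun w g => by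
    simp only [P, LinearMap.smul_apply, LinearMap.sum_apply, map_smul, map_sum, τ, MonoidHom.comp_apply]
    congr 1
    refine Fintype.sum_equiv (Equiv.mulLeft g) _ _ fun h => ?_
    simp [End.mul_apply]
  have hchar : ∀ c : Γ, c ∉ C → ∑ h : H, (e D h c : k) = 0 := by
    intro c hc
    have : ∃ h₀ : H, e D h₀ c ≠ 1 := by
      by_contra! h
      exact hc (Subgroup.mem_centralizer_iff.2 fun a ha => (e_eq_one_iff D).1 (h ⟨a, ha⟩))
    obtain ⟨h₀, h₀ne⟩ := this
    have hshift : ∑ h : H, (e D h c : k) = (e D h₀ c : k) * ∑ h : H, (e D h c : k) := by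
      rw [Finset.mul_sum]
      refine (Fintype.sum_equiv (Equiv.mulLeft h₀) _ _ fun h => ?_).symm
      simp [e_mul_left]
    have : (1 - (e D h₀ c : k)) * ∑ h : H, (e D h c : k) = 0 := by rw [sub_mul, one_mul, ← hshift, sub_self]
    exact (mul_eq_zero.1 this).resolve_left (sub_ne_zero.2 fun h => h₀ne (Units.ext h.symm))
  have hchar' : ∀ h : H, h ≠ 1 → ∑ q : Γ ⧸ C, (e D q.out h : k) = 0 := by
    intro h hne
    have hnot : (h : Γ) ∉ ι.range := fun hm => hne (Subtype.ext (Subgroup.mem_bot.1 (hH ▸ ⟨h.2, hm⟩)))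
    obtain ⟨y, hy⟩ := exists_e_ne_one D hnot
    have hshift : ∑ q : Γ ⧸ C, (e D q.out h : k) = (e D y h : k) * ∑ q : Γ ⧸ C, (e D q.out h : k) := by
      rw [Finset.mul_sum]
      refine (Fintype.sum_equiv (MulAction.toPerm (α := Γ) y) _ _ fun q => ?_).symm
      have hq : (MulAction.toPerm y) q = (QuotientGroup.mk (y * q.out) : Γ ⧸ C) := by
        conv_lhs => rw [← QuotientGroup.out_eq' q]
        rfl
      obtain ⟨⟨n, hn⟩, hout⟩ := QuotientGroup.mk_out_eq_mul C (y * q.out)
      rw [hq, hout, e_mul_left, e_mul_left, (e_eq_one_iff D).2 ((Subgroup.mem_centralizer_iff.1 hn) h h.2).symm,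
        mul_one, Units.val_mul]
    have : (1 - (e D y h : k)) * ∑ q : Γ ⧸ C, (e D q.out h : k) = 0 := by rw [sub_mul, one_mul, ← hshift, sub_self]
    exact (mul_eq_zero.1 this).resolve_left (sub_ne_zero.2 fun hh => hy (Units.ext hh.symm))
  have hcomm : ∀ (h c : Γ) (v : W), σ h (σ c v) = (e D h c : k) • σ c (σ h v) := fun h c v => by
    rw [← End.mul_apply, ← map_mul, swap D h c, map_mul, map_mul, End.mul_apply, End.mul_apply, hσ]
  have e1 : ∀ x : Γ, e D x 1 = 1 := fun x => (e_eq_one_iff D).2 (by simp)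
  let F : ((Γ ⧸ C) → τ.invariants) →ₗ[k] W :=
    ∑ q : Γ ⧸ C, (σ q.out ∘ₗ τ.invariants.subtype) ∘ₗ LinearMap.proj q
  let G : W →ₗ[k] ((Γ ⧸ C) → τ.invariants) :=
    LinearMap.pi fun q => (P ∘ₗ σ q.out⁻¹).codRestrict _ (fun w => hPmem _)
  have hF : ∀ f, F f = ∑ q : Γ ⧸ C, σ q.out (f q : W) := fun f => by simp [F, LinearMap.sum_apply]
  have hG : ∀ w q, (G w q : W) = (Nat.card H : k)⁻¹ • ∑ h : H, σ (h : Γ) (σ q.out⁻¹ w) := fun w q => by
    simp [G, P, LinearMap.sum_apply]
  have hGF : ∀ f, G (F f) = f := fun f => by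
    funext r
    apply Subtype.ext
    rw [hG, hF]
    have hterm : ∀ q : Γ ⧸ C, ∑ h : H, σ (h : Γ) (σ r.out⁻¹ (σ q.out (f q : W))) =
        (∑ h : H, (e D h (r.out⁻¹ * q.out) : k)) • σ (r.out⁻¹ * q.out) (f q : W) := fun q => by
      rw [Finset.sum_smul]
      refine Finset.sum_congr rfl fun h _ => ?_
      rw [← End.mul_apply (σ r.out⁻¹), ← map_mul, hcomm, show σ (h : Γ) (f q : W) = f q from (f q).2 h]
    simp only [map_sum]
    rw [Finset.sum_comm, Finset.sum_congr rfl (fun q _ => hterm q), Fintype.sum_eq_single r (fun q hq => ?_)]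
    · simp [inv_mul_cancel, e1, smul_smul, hHk, Nat.card_eq_fintype_card] at hHk ⊢
      rw [inv_mul_cancel₀ hHk, one_smul]
    · rw [hchar _ (fun hmem => hq ?_), zero_smul]
      rw [← QuotientGroup.out_eq' q, ← QuotientGroup.out_eq' r, QuotientGroup.eq]
      simpa [mul_inv_rev] using C.inv_mem hmem
  have hFG : ∀ w, F (G w) = w := fun w => by
    rw [hF]
    have hterm : ∀ q : Γ ⧸ C, σ q.out (G w q : W) =
        (Nat.card H : k)⁻¹ • ∑ h : H, (e D q.out h : k) • σ (h : Γ) w := fun q => by
      rw [hG, map_smul, map_sum]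
      congr 1
      refine Finset.sum_congr rfl fun h _ => ?_
      rw [hcomm, ← End.mul_apply (σ q.out), ← map_mul, mul_inv_cancel, map_one, End.one_apply]
    rw [Finset.sum_congr rfl (fun q _ => hterm q), ← Finset.smul_sum, Finset.sum_comm]
    simp only [← Finset.sum_smul]
    rw [Fintype.sum_eq_single (1 : H) (fun h hne => by rw [hchar' h hne, zero_smul])]
    have hcC : (Fintype.card (Γ ⧸ C) : k) = Nat.card H := by
      rw [← Nat.card_eq_fintype_card, ← hcardC]; rfl
    have hHk' : (Fintype.card H : k) ≠ 0 := by rwa [Nat.card_eq_fintype_card] at hHk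
    simp [e1, smul_smul, hcC]
    rw [inv_mul_cancel₀ hHk', one_smul]
  let Φ : ((Γ ⧸ C) → τ.invariants) ≃ₗ[k] W :=
    LinearEquiv.ofLinearMap F G (LinearMap.ext hFG) (LinearMap.ext hGF)
  rw [← Φ.finrank_eq, Module.finrank_pi_fintype, Finset.sum_const, Finset.card_univ, smul_eq_mul,
    ← Nat.card_eq_fintype_card]
  exact congrArg (· * _) hcardC

end semisimple

section existence

omit [Fintype (Γ ⧸ ι.range)] in
/-- Functions `f` with `f (ι z * x) = z * f x`. -/
def regular (ι : kˣ →* Γ) : Submodule k (Γ → k) where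
  carrier := {f | ∀ (z : kˣ) (x : Γ), f (ι z * x) = (z : k) * f x}
  add_mem' hf hg z x := by simp [hf z x, hg z x, mul_add]
  zero_mem' z x := by simp
  smul_mem' c f hf z x := by simp [hf z x, mul_left_comm]

omit [Fintype (Γ ⧸ ι.range)] in
/-- Right translation. -/
def regularRep (ι : kˣ →* Γ) : Representation k Γ (regular ι) where
  toFun g := (LinearMap.funLeft k k (· * g)).restrict (fun f hf z x => by
    simpa [LinearMap.funLeft, mul_assoc] using hf z (x * g))
  map_one' := by ext f x; simp [LinearMap.funLeft]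
  map_mul' a b := by ext f x; simp [LinearMap.funLeft, mul_assoc]

include D in
theorem exists_irreducible : ∃ V : FDRep k Γ, IsIrreducible V.ρ ∧ IsWeightOne ι V.ρ := by
  classical
  have hw : IsWeightOne ι (regularRep ι) := fun z f => by
    apply Subtype.ext; funext x
    show (f : Γ → k) (x * ι z) = (z : k) * (f : Γ → k) x
    rw [← ι_comm D z x]; exact f.2 z x
  haveI : FiniteDimensional k (regular ι) :=
    FiniteDimensional.of_injective ((LinearMap.funLeft k k (fun q : Γ ⧸ ι.range => q.out)).comp (regular ι).subtype)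
      (fun f g h => by
        apply Subtype.ext; funext x
        obtain ⟨⟨n, z, rfl⟩, hx⟩ := QuotientGroup.mk_out_eq_mul ι.range x
        have hfg := congrFun h (QuotientGroup.mk x)
        simp only [LinearMap.comp_apply, LinearMap.funLeft_apply, Submodule.subtype_apply, hx] at hfg
        rw [← ι_comm D z x, f.2, g.2] at hfg
        exact mul_left_cancel₀ z.ne_zero hfg)
  haveI : Nontrivial (regular ι) := by
    let f₀ : Γ → k := fun x => if h : x ∈ ι.range then ((h.choose : kˣ) : k) else 0
    have hf₀ : f₀ ∈ regular ι := fun z x => by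
      simp only [f₀]
      by_cases hx : x ∈ ι.range
      · have hzx : ι z * x ∈ ι.range := ι.range.mul_mem ⟨z, rfl⟩ hx
        rw [dif_pos hzx, dif_pos hx, ← Units.val_mul]
        congr 1
        apply D.inj
        rw [hzx.choose_spec, map_mul, hx.choose_spec]
      · rw [dif_neg hx, dif_neg, mul_zero]
        exact fun h => hx ((Subgroup.mul_mem_cancel_left _ (⟨z, rfl⟩ : ι z ∈ ι.range)).1 h)
    refine ⟨⟨f₀, hf₀⟩, 0, fun h => ?_⟩
    have h1 := congrFun (congrArg Subtype.val h) 1
    simp [f₀] at h1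
    exact h1 1 (map_one ι)
  let S : Set (Subrepresentation (regularRep ι)) := {U | U ≠ ⊥}
  have hne : S.Nonempty := ⟨⊤, fun h => bot_ne_top (congrArg Subrepresentation.toSubmodule h).symm⟩
  obtain ⟨U, hU, hmin⟩ := (InvImage.wf (fun U : Subrepresentation (regularRep ι) => finrank k U.toSubmodule)
    Nat.lt_wfRel.wf).has_min S hne
  refine ⟨FDRep.of (V := U.toSubmodule) U.toRepresentation, ?_, fun z v => ?_⟩
  swap
  · exact Subtype.ext (hw z v.1)
  haveI : Nontrivial (Subrepresentation U.toRepresentation) := ⟨⊥, ⊤, fun h => hU (by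
    apply Subrepresentation.toSubmodule_injective
    refine eq_bot_iff.2 fun x hx => ?_
    have h' : (⟨x, hx⟩ : U.toSubmodule) ∈ (⊤ : Submodule k U.toSubmodule) := trivial
    have h'' := congrArg Subrepresentation.toSubmodule h
    change (⊥ : Submodule k U.toSubmodule) = ⊤ at h''
    rw [← h''] at h'
    simpa using h')⟩
  refine (show IsSimpleOrder (Subrepresentation U.toRepresentation) from ⟨fun T => ?_⟩)
  by_cases hT : T = ⊥
  · exact Or.inl hT
  · right
    let T' : Subrepresentation (regularRep ι) := ⟨T.toSubmodule.map U.toSubmodule.subtype, fun g v hv => by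
      obtain ⟨w, hw', rfl⟩ := Submodule.mem_map.1 hv
      exact ⟨U.toRepresentation g w, T.apply_mem_toSubmodule g hw', rfl⟩⟩
    have hT' : T' ∈ S := fun h => hT (by
      apply Subrepresentation.toSubmodule_injective
      have h' : T.toSubmodule.map U.toSubmodule.subtype = ⊥ := congrArg Subrepresentation.toSubmodule h
      exact Submodule.map_injective_of_injective (f := U.toSubmodule.subtype) Subtype.val_injective (h'.trans (Submodule.map_bot _).symm))
    have hle := hmin T' hT'
    simp only [InvImage, WellFoundedRelation.rel, not_lt, T', Submodule.finrank_map_subtype_eq] at hle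
    apply Subrepresentation.toSubmodule_injective
    exact Submodule.eq_top_of_finrank_eq (K := k) (V := U.toSubmodule) (S := T.toSubmodule) (le_antisymm (Submodule.finrank_le T.toSubmodule) hle)

end existence

end Groth.Misc13.Theta
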