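import Groth.Agent.Misc13.ToddCoeff
import Mathlib.NumberTheory.ZetaValues
import Mathlib.Analysis.Polynomial.Basic
import Mathlib.Algebra.Order.Field.Basic

set_option autoImplicit false

namespace Groth.Misc13.Todd

open PowerSeries

theorem exp_sub_one_ne_zero : (exp ℚ - 1 : ℚ⟦X⟧) ≠ 0 := by
  intro h
  have := congrArg (coeff 1) h
  simp [coeff_exp, coeff_one] at this

theorem rescale_neg_one_B : rescale (-1 : ℚ) (bernoulli'PowerSeries ℚ) * exp ℚ = bernoulli'PowerSeries ℚ := by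
  apply mul_right_cancel₀ exp_sub_one_ne_zero
  have h := bernoulli'PowerSeries_mul_exp_sub_one ℚ
  have h2 : rescale (-1 : ℚ) (bernoulli'PowerSeries ℚ) * (exp ℚ - 1) = X := by
    have := congrArg (rescale (-1 : ℚ)) h
    simp only [map_mul, map_sub, map_one, rescale_X] at this
    have he : exp ℚ * rescale (-1 : ℚ) (exp ℚ) = 1 := by
      have := exp_mul_exp_eq_exp_add (A := ℚ) 1 (-1)
      simpa [rescale_one, rescale_zero] using this
    have hC : (C (-1 : ℚ)) = -1 := by simp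
    rw [hC] at this
    linear_combination (-1 * exp ℚ) * this +
      (X + rescale (-1 : ℚ) (bernoulli'PowerSeries ℚ)) * he
  rw [h, ← h2]; ring

theorem rescale_neg_B (a : ℚ) :
    rescale (-a) (bernoulli'PowerSeries ℚ) * rescale a (exp ℚ) = rescale a (bernoulli'PowerSeries ℚ) := by
  have := congrArg (rescale a) rescale_neg_one_B
  rw [map_mul, rescale_rescale] at this
  convert this using 3; ring

/-- the `p`-independent factor -/
noncomputable def toddA (n d : ℕ) (s : ℤ) : ℚ⟦X⟧ :=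
  (rescale (-(d : ℚ)) (bernoulli'PowerSeries ℚ))⁻¹ * bernoulli'PowerSeries ℚ ^ (n + 1) *
    rescale ((s : ℚ) - d - n - 1) (exp ℚ)

theorem toddA_zero (n d : ℕ) (s : ℤ) : coeff 0 (toddA n d s) = 1 := by
  simp only [toddA, coeff_mul₀, (inv_coeffs _).1, (exp_coeffs _).1]
  rw [coeff_zero_eq_constantCoeff_apply, map_pow, ← coeff_zero_eq_constantCoeff_apply, B0]; simp

theorem toddA_one (n d : ℕ) (s : ℤ) :
    coeff 1 (toddA n d s) = (2 * (s : ℚ) - d - n - 1) / 2 := by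
  simp only [toddA, coeff_mul₁, coeff_mul₀, (inv_coeffs _).1, (inv_coeffs _).2.1, (exp_coeffs _).1,
    (exp_coeffs _).2.1, coeff_one_pow, B1]
  rw [coeff_zero_eq_constantCoeff_apply, map_pow, ← coeff_zero_eq_constantCoeff_apply, B0]
  push_cast
  simp
  ring

theorem toddProduct_eq (n d p : ℕ) (s : ℤ) :
    (rescale (-(d : ℚ)) (bernoulli'PowerSeries ℚ))⁻¹ * rescale (-((d : ℚ) * p)) (bernoulli'PowerSeries ℚ) *
      bernoulli'PowerSeries ℚ ^ (n + 1) * rescale ((d : ℚ) * p - d - n - 1 + s) (exp ℚ) =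
    toddA n d s * rescale ((d : ℚ) * p) (bernoulli'PowerSeries ℚ) := by
  rw [← rescale_neg_B ((d : ℚ) * p), toddA]
  have := exp_mul_exp_eq_exp_add (A := ℚ) ((s : ℚ) - d - n - 1) ((d : ℚ) * p)
  rw [show (d : ℚ) * p - d - n - 1 + s = ((s : ℚ) - d - n - 1) + (d : ℚ) * p by ring, ← this]
  ring

/-- lower order part of the coefficient as a polynomial -/
noncomputable def toddRest (n d : ℕ) (s : ℤ) : Polynomial ℚ :=
  ∑ j ∈ Finset.range (n - 1),
    Polynomial.C (coeff (n - j) (toddA n d s) * (bernoulli' j / (j.factorial : ℚ)) * (d : ℚ) ^ j) * Polynomial.X ^ j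

theorem natDegree_toddRest (n d : ℕ) (s : ℤ) : (toddRest n d s).natDegree ≤ n - 2 := by
  refine Polynomial.natDegree_sum_le_of_forall_le _ _ fun j hj => ?_
  refine (Polynomial.natDegree_C_mul_X_pow_le _ j).trans ?_
  have := Finset.mem_range.1 hj; omega

theorem coeff_todd (n d p : ℕ) (s : ℤ) (hn : 2 ≤ n) :
    coeff n ((rescale (-(d : ℚ)) (bernoulli'PowerSeries ℚ))⁻¹ * rescale (-((d : ℚ) * p)) (bernoulli'PowerSeries ℚ) *
      bernoulli'PowerSeries ℚ ^ (n + 1) * rescale ((d : ℚ) * p - d - n - 1 + s) (exp ℚ)) =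
    bernoulli' n * ((d : ℚ) * p) ^ n / (Nat.factorial n : ℚ) +
      (2 * (s : ℚ) - d - n - 1) / 2 * bernoulli' (n - 1) * ((d : ℚ) * p) ^ (n - 1) / (Nat.factorial (n - 1) : ℚ) +
      (toddRest n d s).eval (p : ℚ) := by
  obtain ⟨m, rfl⟩ : ∃ m, n = m + 2 := ⟨n - 2, by omega⟩
  rw [toddProduct_eq, mul_comm, coeff_mul, Finset.Nat.sum_antidiagonal_eq_sum_range_succ_mk]
  rw [Finset.sum_range_succ, Finset.sum_range_succ]
  simp only [coeff_rescale, coeff_B, Nat.sub_self, toddA_zero, mul_one,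
    show m + 2 - (m + 1) = 1 by omega, toddA_one, show m + 2 - 1 = m + 1 by omega]
  rw [toddRest, Polynomial.eval_finset_sum, show m + 2 - 1 = m + 1 by omega]
  simp only [Polynomial.eval_mul, Polynomial.eval_C, Polynomial.eval_pow, Polynomial.eval_X]
  rw [Finset.sum_congr rfl (fun j _ => show ((d : ℚ) * p) ^ j * (bernoulli' j / (j.factorial : ℚ)) * coeff (m + 2 - j) (toddA (m + 2) d s) =
    coeff (m + 2 - j) (toddA (m + 2) d s) * (bernoulli' j / (j.factorial : ℚ)) * (d : ℚ) ^ j * (p : ℚ) ^ j by ring)]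
  ring

theorem bernoulli_two_mul_sign (k : ℕ) (hk : k ≠ 0) : 0 < (-1 : ℚ) ^ (k + 1) * bernoulli (2 * k) := by
  have h := hasSum_zeta_nat hk
  have hpos : 0 < ∑' n : ℕ, 1 / (n : ℝ) ^ (2 * k) :=
    Summable.tsum_pos h.summable (fun n => by positivity) 1 (by simp)
  rw [h.tsum_eq] at hpos
  have hq : (0 : ℝ) < (((-1 : ℚ) ^ (k + 1) * bernoulli (2 * k) : ℚ) : ℝ) := by
    push_cast
    have e : (-1 : ℝ) ^ (k + 1) * 2 ^ (2 * k - 1) * Real.pi ^ (2 * k) * (bernoulli (2 * k) : ℝ) / ((2 * k).factorial : ℝ)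
        = ((-1 : ℝ) ^ (k + 1) * (bernoulli (2 * k) : ℝ)) * (2 ^ (2 * k - 1) * Real.pi ^ (2 * k) / ((2 * k).factorial : ℝ)) := by ring
    rw [e] at hpos
    exact (pos_iff_pos_of_mul_pos hpos).2 (by positivity)
  exact_mod_cast hq

theorem bernoulli'_neg_of_four_dvd (n : ℕ) (hn : n % 4 = 0) (h0 : n ≠ 0) : bernoulli' n < 0 := by
  obtain ⟨k, rfl⟩ : ∃ k, n = 2 * (2 * k) := ⟨n / 4, by omega⟩
  have := bernoulli_two_mul_sign (2 * k) (by omega)
  rw [bernoulli_eq_bernoulli'_of_ne_one (by omega), Odd.neg_one_pow ⟨k, rfl⟩] at this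
  linarith

theorem bernoulli'_pos_of_two (n : ℕ) (hn : n % 4 = 2) : 0 < bernoulli' n := by
  obtain ⟨k, rfl⟩ : ∃ k, n = 2 * (2 * k + 1) := ⟨n / 4, by omega⟩
  have := bernoulli_two_mul_sign (2 * k + 1) (by omega)
  rw [bernoulli_eq_bernoulli'_of_ne_one (by omega), Even.neg_one_pow ⟨k + 1, by ring⟩] at this
  linarith

theorem eventually_neg (P : Polynomial ℚ) (α : ℚ) (k : ℕ) (hk : 1 ≤ k) (hP : P.natDegree < k) (hα : α < 0) :
    ∃ N : ℕ, ∀ p : ℕ, N ≤ p → α * (p : ℚ) ^ k + P.eval (p : ℚ) < 0 := by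
  set R := Polynomial.C α * Polynomial.X ^ k + P with hR
  have hlt : P.degree < (Polynomial.C α * Polynomial.X ^ k).degree := by
    rw [Polynomial.degree_C_mul_X_pow k hα.ne]
    exact (Polynomial.degree_le_natDegree).trans_lt (by exact_mod_cast hP)
  have hdeg : 0 < R.degree := by
    rw [hR, Polynomial.degree_add_eq_left_of_degree_lt hlt, Polynomial.degree_C_mul_X_pow k hα.ne]
    exact_mod_cast hk
  have hlc : R.leadingCoeff ≤ 0 := by
    rw [hR, Polynomial.leadingCoeff_add_of_degree_lt' hlt, Polynomial.leadingCoeff_mul_X_pow, Polynomial.leadingCoeff_C]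
    exact hα.le
  have ht := (R.tendsto_atBot_of_leadingCoeff_nonpos hdeg hlc).comp tendsto_natCast_atTop_atTop
  obtain ⟨N, hN⟩ := Filter.eventually_atTop.1 (ht.eventually (Filter.eventually_lt_atBot (0 : ℚ)))
  refine ⟨N, fun p hp => ?_⟩
  have := hN p hp
  simpa [hR] using this

theorem todd_neg (n d : ℕ) (s : ℤ) (hn : 2 ≤ n) (hd : 1 ≤ d)
    (h : n % 4 = 0 ∨ (2 ≤ n - 1 ∧ bernoulli' n = 0 ∧ (2 * (s : ℚ) - d - n - 1) / 2 * bernoulli' (n - 1) < 0)) :
    ∃ P : ℕ, ∀ p : ℕ, P ≤ p →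
      coeff n ((rescale (-(d : ℚ)) (bernoulli'PowerSeries ℚ))⁻¹ * rescale (-((d : ℚ) * p)) (bernoulli'PowerSeries ℚ) *
        bernoulli'PowerSeries ℚ ^ (n + 1) * rescale ((d : ℚ) * p - d - n - 1 + s) (exp ℚ)) < 0 := by
  have hd' : (0 : ℚ) < d := by exact_mod_cast hd
  rcases h with h | ⟨h2, h0, hneg⟩
  · set β := (2 * (s : ℚ) - d - n - 1) / 2 * bernoulli' (n - 1) * (d : ℚ) ^ (n - 1) / (Nat.factorial (n - 1) : ℚ)
    have hdeg : (Polynomial.C β * Polynomial.X ^ (n - 1) + toddRest n d s).natDegree < n := by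
      refine (Polynomial.natDegree_add_le _ _).trans_lt (max_lt ?_ ?_)
      · exact (Polynomial.natDegree_C_mul_X_pow_le _ _).trans_lt (by omega)
      · exact (natDegree_toddRest n d s).trans_lt (by omega)
    obtain ⟨N, hN⟩ := eventually_neg _ (bernoulli' n * (d : ℚ) ^ n / (Nat.factorial n : ℚ)) n (by omega) hdeg
      (by have := bernoulli'_neg_of_four_dvd n h (by omega)
          exact div_neg_of_neg_of_pos (mul_neg_of_neg_of_pos this (by positivity)) (by positivity))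
    refine ⟨N, fun p hp => lt_of_eq_of_lt ?_ (hN p hp)⟩
    rw [coeff_todd n d p s hn, Polynomial.eval_add]
    simp [β]; ring
  · obtain ⟨N, hN⟩ := eventually_neg (toddRest n d s)
      ((2 * (s : ℚ) - d - n - 1) / 2 * bernoulli' (n - 1) * (d : ℚ) ^ (n - 1) / (Nat.factorial (n - 1) : ℚ))
      (n - 1) (by omega) ((natDegree_toddRest n d s).trans_lt (by omega))
      (div_neg_of_neg_of_pos (mul_neg_of_neg_of_pos hneg (by positivity)) (by positivity))
    refine ⟨N, fun p hp => lt_of_eq_of_lt ?_ (hN p hp)⟩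
    rw [coeff_todd n d p s hn, h0]
    ring

end Groth.Misc13.Todd
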