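import Mathlib.NumberTheory.Bernoulli
import Mathlib.RingTheory.PowerSeries.Inverse
import Mathlib.RingTheory.PowerSeries.Substitution
import Mathlib.Tactic.Ring
import Mathlib.Tactic.LinearCombination
import Mathlib.Tactic.NormNum

set_option autoImplicit false

namespace Groth.Misc13.Todd

open PowerSeries

theorem coeff_B (k : ℕ) : coeff k (bernoulli'PowerSeries ℚ) = bernoulli' k / (k.factorial : ℚ) := by
  simp [bernoulli'PowerSeries]

theorem B0 : coeff 0 (bernoulli'PowerSeries ℚ) = 1 := by simp [coeff_B]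
theorem B1 : coeff 1 (bernoulli'PowerSeries ℚ) = 1/2 := by simp [coeff_B]
theorem B2 : coeff 2 (bernoulli'PowerSeries ℚ) = 1/12 := by simp [coeff_B]; norm_num
theorem B3 : coeff 3 (bernoulli'PowerSeries ℚ) = 0 := by simp [coeff_B]

theorem coeff_mul₀ (f g : ℚ⟦X⟧) : coeff 0 (f * g) = coeff 0 f * coeff 0 g := by simp
theorem coeff_mul₁ (f g : ℚ⟦X⟧) : coeff 1 (f * g) = coeff 0 f * coeff 1 g + coeff 1 f * coeff 0 g := by
  rw [coeff_mul, Finset.Nat.sum_antidiagonal_eq_sum_range_succ_mk]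
  simp [Finset.sum_range_succ]
theorem coeff_mul₂ (f g : ℚ⟦X⟧) :
    coeff 2 (f * g) = coeff 0 f * coeff 2 g + coeff 1 f * coeff 1 g + coeff 2 f * coeff 0 g := by
  rw [coeff_mul, Finset.Nat.sum_antidiagonal_eq_sum_range_succ_mk]
  simp [Finset.sum_range_succ]
theorem coeff_mul₃ (f g : ℚ⟦X⟧) :
    coeff 3 (f * g) = coeff 0 f * coeff 3 g + coeff 1 f * coeff 2 g + coeff 2 f * coeff 1 g + coeff 3 f * coeff 0 g := by
  rw [coeff_mul, Finset.Nat.sum_antidiagonal_eq_sum_range_succ_mk]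
  simp [Finset.sum_range_succ]

theorem inv_coeffs (a : ℚ) :
    coeff 0 (rescale a (bernoulli'PowerSeries ℚ))⁻¹ = 1 ∧
    coeff 1 (rescale a (bernoulli'PowerSeries ℚ))⁻¹ = -a / 2 ∧
    coeff 2 (rescale a (bernoulli'PowerSeries ℚ))⁻¹ = a ^ 2 / 6 ∧
    coeff 3 (rescale a (bernoulli'PowerSeries ℚ))⁻¹ = -a ^ 3 / 24 := by
  set f := rescale a (bernoulli'PowerSeries ℚ) with hf
  have hc : constantCoeff f ≠ 0 := by
    rw [← coeff_zero_eq_constantCoeff_apply, hf, coeff_rescale, B0]; simp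
  have h : ∀ k, coeff k (f * f⁻¹) = coeff k (1 : ℚ⟦X⟧) := fun k => by rw [PowerSeries.mul_inv_cancel _ hc]
  have e0 := h 0
  have e1 := h 1
  have e2 := h 2
  have e3 := h 3
  simp only [coeff_mul₀, coeff_mul₁, coeff_mul₂, coeff_mul₃, hf, coeff_rescale, B0, B1, B2, B3, coeff_one] at e0 e1 e2 e3
  norm_num at e0 e1 e2 e3
  simp only [← coeff_zero_eq_constantCoeff_apply] at *
  rw [← hf] at e0 e1 e2 e3
  have c1 : coeff 1 f⁻¹ = -a / 2 := by rw [e0] at e1; linear_combination e1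
  have c2 : coeff 2 f⁻¹ = a ^ 2 / 6 := by rw [e0, c1] at e2; linear_combination e2
  have c0 : coeff 0 f⁻¹ = 1 := by
    rw [coeff_zero_eq_constantCoeff_apply, constantCoeff_inv, ← coeff_zero_eq_constantCoeff_apply, e0, inv_one]
  refine ⟨c0, c1, c2, ?_⟩
  rw [c1, c2] at e3; linear_combination e3

theorem exp_coeffs (c : ℚ) :
    coeff 0 (rescale c (exp ℚ)) = 1 ∧ coeff 1 (rescale c (exp ℚ)) = c ∧
    coeff 2 (rescale c (exp ℚ)) = c ^ 2 / 2 ∧ coeff 3 (rescale c (exp ℚ)) = c ^ 3 / 6 := by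
  simp [coeff_rescale, coeff_exp, Nat.factorial]
  constructor <;> ring

theorem resB_coeffs (a : ℚ) :
    coeff 0 (rescale a (bernoulli'PowerSeries ℚ)) = 1 ∧ coeff 1 (rescale a (bernoulli'PowerSeries ℚ)) = a / 2 ∧
    coeff 2 (rescale a (bernoulli'PowerSeries ℚ)) = a ^ 2 / 12 ∧ coeff 3 (rescale a (bernoulli'PowerSeries ℚ)) = 0 := by
  simp only [coeff_rescale, B0, B1, B2, B3]
  refine ⟨?_, ?_, ?_, ?_⟩ <;> ring

theorem coeff_three (a b c : ℚ) :
    coeff 3 ((rescale a (bernoulli'PowerSeries ℚ))⁻¹ * rescale b (bernoulli'PowerSeries ℚ) *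
        bernoulli'PowerSeries ℚ ^ 4 * rescale c (exp ℚ)) =
      -a^3/24 + a^2*b/12 - a*b^2/24
      + 2*(a^2/6 - a*b/4 + b^2/12) + (11/6)*(-a/2 + b/2) + 1
      + c*((a^2/6 - a*b/4 + b^2/12) + 2*(-a/2 + b/2) + 11/6)
      + c^2/2*((-a/2 + b/2) + 2) + c^3/6 := by
  obtain ⟨i0, i1, i2, i3⟩ := inv_coeffs a
  obtain ⟨b0, b1, b2, b3⟩ := resB_coeffs b
  obtain ⟨x0, x1, x2, x3⟩ := exp_coeffs c
  simp only [pow_succ, pow_zero, one_mul, coeff_mul₃, coeff_mul₂, coeff_mul₁, coeff_mul₀, i0, i1, i2, i3,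
    b0, b1, b2, b3, x0, x1, x2, x3, B0, B1, B2, B3]
  ring

end Groth.Misc13.Todd
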