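import Mathlib.FieldTheory.Minpoly.Basic
import Mathlib.Analysis.Complex.Basic
import Mathlib.Analysis.SpecialFunctions.Pow.Real
import Mathlib.Analysis.Complex.Polynomial.Basic
import Mathlib.NumberTheory.Padics.Complex
import Mathlib.RingTheory.Valuation.ValuationSubring
import Mathlib.Algebra.Polynomial.Div
import Mathlib.RingTheory.Valuation.Integral

/-!
Weil polynomials: functional equation, and number of unit roots in an algebraic closure of `ℚ_p`.
-/

set_option autoImplicit false
set_option linter.style.haveILetI false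

open Polynomial ComplexConjugate

namespace Groth.Misc13.WeilNum

theorem aroots_map_conj (P : ℤ[X]) : (P.aroots ℂ).map conj = P.aroots ℂ := by
  rw [aroots_def, ← (IsAlgClosed.splits (P.map (algebraMap ℤ ℂ))).roots_map, Polynomial.map_map,
    RingHom.ext_int ((starRingEnd ℂ).comp (algebraMap ℤ ℂ)) (algebraMap ℤ ℂ)]

theorem mul_conj_eq_of_norm {z : ℂ} {Q : ℝ} (hQ : 0 ≤ Q) (h : ‖z‖ = Real.sqrt Q) : z * conj z = (Q : ℂ) := by
  rw [Complex.mul_conj, Complex.normSq_eq_norm_sq, h, Real.sq_sqrt hQ]

/-- The functional equation of a Weil polynomial without real roots. -/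
theorem funeq {P : ℤ[X]} (hm : P.Monic) {q : ℕ} (hq : 0 < q)
    (habs : ∀ z ∈ P.aroots ℂ, z * conj z = (q : ℂ)) (hnr : ∀ z ∈ P.aroots ℂ, z.im ≠ 0) :
    Even P.natDegree ∧ ∀ r ≤ P.natDegree / 2,
      P.coeff (P.natDegree / 2 - r) = (q : ℤ) ^ r * P.coeff (P.natDegree / 2 + r) := by
  classical
  set s := P.aroots ℂ with hs
  have hsplit := IsAlgClosed.splits (P.map (algebraMap ℤ ℂ))
  have hcard : Multiset.card s = P.natDegree := by
    rw [hs, aroots_def, ← hsplit.natDegree_eq_card_roots, hm.natDegree_map]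
  have hmap : s.map conj = s := aroots_map_conj P
  set A := s.filter (fun z => 0 < z.im) with hA
  have hB : s.filter (fun z => ¬ 0 < z.im) = A.map conj := by
    conv_lhs => rw [← hmap, Multiset.filter_map]
    rw [hA]
    congr 1
    refine Multiset.filter_congr fun z hz => ?_
    simp only [Function.comp_apply, Complex.conj_im]
    rcases lt_or_gt_of_ne (hnr z (hs ▸ hz)) with h | h <;> constructor <;> intro h' <;> linarith
  have hsA : A + A.map conj = s := by rw [← hB, hA, Multiset.filter_add_not]
  set d := Multiset.card A with hd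
  have hn : P.natDegree = 2 * d := by
    rw [← hcard, ← hsA, Multiset.card_add, Multiset.card_map, two_mul]
  refine ⟨⟨d, by rw [hn, two_mul]⟩, ?_⟩
  have hmem : ∀ z ∈ A, z ∈ P.aroots ℂ := fun z hz => hs ▸ Multiset.mem_of_mem_filter hz
  have hprod : s.prod = (q : ℂ) ^ d := by
    rw [← hsA, Multiset.prod_add]
    conv_lhs => arg 1; rw [← Multiset.map_id A]
    rw [← Multiset.prod_map_mul, Multiset.map_congr rfl (fun z hz => show id z * conj z = (q : ℂ) from habs z (hmem z hz)),
      Multiset.map_const', Multiset.prod_replicate]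
  have heval : ∀ x : ℂ, aeval x P = (s.map (fun z => x - z)).prod := by
    intro x
    rw [aeval_def, eval₂_eq_eval_map, hsplit.eq_prod_roots_of_monic (hm.map _), eval_multiset_prod,
      Multiset.map_map, hs, aroots_def]
    exact congrArg _ (Multiset.map_congr rfl fun z _ => by simp)
  set n := P.natDegree with hndef
  have key : ∀ x : ℂ, x ≠ 0 → x ^ n * aeval ((q : ℂ) / x) P = (q : ℂ) ^ d * aeval x P := by
    intro x hx
    rw [heval, heval, ← hcard, ← Multiset.prod_replicate, ← Multiset.map_const', ← Multiset.prod_map_mul]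
    have h1 : ∀ z ∈ s, x * ((q : ℂ) / x - z) = (-z) * (x - conj z) := fun z hz => by
      rw [mul_sub, mul_div_cancel₀ _ hx, ← habs z (hs ▸ hz)]; ring
    rw [Multiset.map_congr rfl h1, Multiset.prod_map_mul]
    congr 1
    · rw [Multiset.prod_map_neg, hcard, hn, pow_mul, neg_one_sq, one_pow, one_mul, hprod]
    · conv_rhs => rw [← hmap, Multiset.map_map]
      rfl
  let R : ℤ[X] := ∑ k ∈ Finset.range (n + 1), C (P.coeff k * (q : ℤ) ^ k) * X ^ (n - k)
  have hR : R = C ((q : ℤ) ^ d) * P := by
    apply map_injective (algebraMap ℤ ℂ) (algebraMap ℤ ℂ).injective_int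
    refine eq_of_infinite_eval_eq _ _ (Set.Infinite.mono ?_ (Set.Finite.infinite_compl (Set.finite_singleton (0 : ℂ))))
    intro x hx
    simp only [Set.mem_compl_iff, Set.mem_singleton_iff] at hx
    simp only [Set.mem_ofPred_eq, eval_map, ← aeval_def, map_mul, aeval_C, map_pow]
    rw [show (algebraMap ℤ ℂ) (q : ℤ) = (q : ℂ) by simp, ← key x hx]
    conv_rhs => rw [aeval_eq_sum_range, Finset.mul_sum]
    simp only [R, map_sum, map_mul, aeval_C, map_pow, aeval_X]
    refine Finset.sum_congr rfl fun k hk => ?_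
    have hk' : k ≤ n := Nat.lt_succ_iff.1 (Finset.mem_range.1 hk)
    rw [Algebra.smul_def, div_pow, show x ^ n = x ^ (n - k) * x ^ k by rw [← pow_add]; congr 1; omega,
      show (algebraMap ℤ ℂ) (q : ℤ) = (q : ℂ) by simp]
    field_simp
  intro r hr
  have hc := congrArg (fun T => T.coeff (n / 2 + r)) hR
  simp only [R, finsetSum_coeff, coeff_C_mul, coeff_X_pow] at hc
  rw [Finset.sum_eq_single (n / 2 - r)] at hc
  · rw [if_pos (by omega), mul_one] at hc
    apply mul_right_cancel₀ (pow_ne_zero (n / 2 - r) (by exact_mod_cast hq.ne' : (q : ℤ) ≠ 0))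
    rw [hc, mul_right_comm, ← pow_add]
    congr 2
    omega
  · intro k hk hne
    rw [Finset.mem_range] at hk
    rw [if_neg (by omega), mul_zero]
  · intro h; exact absurd (Finset.mem_range.2 (by omega)) h

section padic

variable {p : ℕ} [Fact p.Prime]

/-- The unit ball of `PadicAlgCl p`. -/
noncomputable abbrev O (p : ℕ) [Fact p.Prime] : ValuationSubring (PadicAlgCl p) :=
  (PadicAlgCl.valued p).v.valuationSubring

theorem mem_O {x : PadicAlgCl p} : x ∈ O p ↔ ‖x‖ ≤ 1 := by
  rw [Valuation.mem_valuationSubring_iff, PadicAlgCl.valuation_def, ← NNReal.coe_le_coe, coe_nnnorm,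
    NNReal.coe_one]

theorem residue_eq_zero {z : O p} : IsLocalRing.residue (O p) z = 0 ↔ ‖(z : PadicAlgCl p)‖ ≠ 1 := by
  rw [IsLocalRing.residue_eq_zero_iff, IsLocalRing.mem_maximalIdeal, mem_nonunits_iff, not_iff_not]
  have hz1 : ‖(z : PadicAlgCl p)‖ ≤ 1 := mem_O.1 z.2
  constructor
  · rintro ⟨u, rfl⟩
    refine le_antisymm hz1 ?_
    have h : ((u : O p) : PadicAlgCl p) * (((u⁻¹ : (O p)ˣ) : O p) : PadicAlgCl p) = 1 := by
      exact_mod_cast congrArg Subtype.val u.mul_inv
    have hn := congrArg (fun a => ‖a‖) h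
    simp only [norm_mul, norm_one] at hn
    rw [← hn]
    exact mul_le_of_le_one_right (norm_nonneg _) (mem_O.1 (((u⁻¹ : (O p)ˣ) : O p)).2)
  · intro h
    have h0 : (z : PadicAlgCl p) ≠ 0 := fun e => by rw [e, norm_zero] at h; exact zero_ne_one h
    exact IsUnit.of_mul_eq_one (⟨(z : PadicAlgCl p)⁻¹, mem_O.2 (by rw [norm_inv, h, inv_one])⟩ : O p)
      (Subtype.ext (mul_inv_cancel₀ h0))

theorem intCast_residue_eq_zero (a : ℤ) :
    (a : IsLocalRing.ResidueField (O p)) = 0 ↔ (p : ℤ) ∣ a := by
  have hp : (p : IsLocalRing.ResidueField (O p)) = 0 := by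
    rw [← map_natCast (IsLocalRing.residue (O p)), residue_eq_zero]
    have h : ‖((p : ℕ) : PadicAlgCl p)‖ = ‖(p : ℚ_[p])‖ := by
      rw [← map_natCast (algebraMap ℚ_[p] (PadicAlgCl p))]; exact PadicAlgCl.norm_extends p _
    rw [show (((p : ℕ) : O p) : PadicAlgCl p) = (p : PadicAlgCl p) from map_natCast (O p).subtype p, h]
    exact (Padic.norm_p_lt_one).ne
  constructor
  · intro ha
    by_contra hnd
    have hp' := (Nat.prime_iff_prime_int.1 (Fact.out : p.Prime)).coprime_iff_not_dvd.2 hnd
    obtain ⟨u, v, huv⟩ := hp'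
    have := congrArg (fun t : ℤ => (t : IsLocalRing.ResidueField (O p))) huv
    simp [hp, ha] at this
  · rintro ⟨c, rfl⟩
    simp [hp]

/-- The number of unit roots is the degree minus the trailing degree of the reduction. -/
theorem card_unit_roots {P : ℤ[X]} (hm : P.Monic) :
    Multiset.card ((P.aroots (PadicAlgCl p)).filter (fun z => ‖z‖ = 1)) +
      (P.map (Int.castRingHom (IsLocalRing.ResidueField (O p)))).natTrailingDegree = P.natDegree := by
  classical
  set s := P.aroots (PadicAlgCl p) with hs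
  have hsplit := IsAlgClosed.splits (P.map (algebraMap ℤ (PadicAlgCl p)))
  have hcard : Multiset.card s = P.natDegree := by
    rw [hs, aroots_def, ← hsplit.natDegree_eq_card_roots, hm.natDegree_map]
  have hmem : ∀ z ∈ s, z ∈ O p := by
    intro z hz
    have hz' : IsIntegral ℤ z := ⟨P, hm, by
      rw [← aeval_def]; exact ((mem_aroots').1 hz).2⟩
    have hz'' : IsIntegral (O p) z := hz'.tower_top
    have hint : (PadicAlgCl.valued p).v.Integers (O p) :=
      ⟨Subtype.val_injective, fun r => r.2, fun {r} hr => ⟨⟨r, hr⟩, rfl⟩⟩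
    exact (Valuation.mem_integer_iff _ _).1 (hint.mem_of_integral hz'')
  obtain ⟨t, ht⟩ : ∃ t : Multiset (O p), t.map (O p).subtype = s :=
    ⟨s.pmap (fun z h => (⟨z, h⟩ : O p)) hmem, by
      rw [Multiset.map_pmap]; exact (Multiset.pmap_eq_map _ id s hmem).trans (Multiset.map_id s)⟩
  have hP : P.map (Int.castRingHom (O p)) = (t.map (fun z => X - C z)).prod := by
    apply map_injective (O p).subtype Subtype.val_injective
    rw [Polynomial.map_map, RingHom.ext_int ((O p).subtype.comp (Int.castRingHom (O p))) (algebraMap ℤ (PadicAlgCl p)),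
      hsplit.eq_prod_roots_of_monic (hm.map _), ← aroots_def, ← hs, ← ht, Polynomial.map_multiset_prod,
      Multiset.map_map, Multiset.map_map]
    exact congrArg _ (Multiset.map_congr rfl fun z _ => by simp)
  have hPk : P.map (Int.castRingHom (IsLocalRing.ResidueField (O p))) =
      ((t.map (IsLocalRing.residue (O p))).map (fun z => X - C z)).prod := by
    rw [RingHom.ext_int (Int.castRingHom (IsLocalRing.ResidueField (O p)))
        ((IsLocalRing.residue (O p)).comp (Int.castRingHom (O p))), ← Polynomial.map_map, hP,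
      Polynomial.map_multiset_prod, Multiset.map_map, Multiset.map_map]
    exact congrArg _ (Multiset.map_congr rfl fun z _ => by simp)
  rw [← rootMultiplicity_eq_natTrailingDegree', ← count_roots, hPk, roots_multiset_prod_X_sub_C,
    Multiset.count_map, ← hcard, ← ht, Multiset.filter_map, Multiset.card_map, Multiset.card_map,
    ← Multiset.card_add]
  congr 1
  conv_rhs => rw [← Multiset.filter_add_not (fun z : O p => ‖(z : PadicAlgCl p)‖ = 1) t]
  congr 1
  exact Multiset.filter_congr fun z _ => by rw [eq_comm, residue_eq_zero]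

/-- Ordinary iff the middle coefficient is prime to `p`. -/
theorem ordinary_iff {P : ℤ[X]} (hm : P.Monic) {d : ℕ} (hd : P.natDegree = 2 * d)
    (hlow : ∀ k < d, (p : ℤ) ∣ P.coeff k) :
    2 * Multiset.card ((P.aroots (PadicAlgCl p)).filter (fun z => ‖z‖ = 1)) = P.natDegree ↔
      ¬ (p : ℤ) ∣ P.coeff d := by
  have h := card_unit_roots (p := p) hm
  set κ := IsLocalRing.ResidueField (O p)
  set Q := P.map (Int.castRingHom κ) with hQ
  have hQ0 : Q ≠ 0 := (hm.map _).ne_zero
  have hge : d ≤ Q.natTrailingDegree := by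
    refine le_natTrailingDegree hQ0 fun k hk => ?_
    rw [hQ, coeff_map]
    exact (intCast_residue_eq_zero _).2 (hlow k hk)
  rw [← intCast_residue_eq_zero (p := p), ← eq_intCast (Int.castRingHom κ) (P.coeff d), ← coeff_map, ← hQ]
  constructor
  · intro he
    have : Q.natTrailingDegree = d := by omega
    rw [← this]
    exact trailingCoeff_nonzero_iff_nonzero.2 hQ0
  · intro hne
    have : Q.natTrailingDegree ≤ d := natTrailingDegree_le_of_ne_zero hne
    omega

end padic

end Groth.Misc13.WeilNum
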