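import Groth.Agent.Misc13.WeilOrder
import Groth.Agent.Misc13.WeilNum
import Mathlib.RingTheory.UniqueFactorizationDomain.Basic
import Mathlib.RingTheory.Coprime.Lemmas
import Mathlib.RingTheory.Polynomial.UniqueFactorization
import Mathlib.Algebra.Group.Pi.Units

/-!
Finite families of Weil numbers.
-/

set_option autoImplicit false
set_option linter.style.haveILetI false
set_option linter.unusedSectionVars false

universe u

open ComplexConjugate

namespace Groth.Misc13.WeilFamily

open Polynomial in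
theorem funeq {P : ℤ[X]} (hm : P.Monic) {D : ℕ} (hdeg : P.natDegree = 2 * D) {q : ℕ} (hq : 0 < q)
    (habs : ∀ z ∈ P.aroots ℂ, z * conj z = (q : ℂ)) :
    ∃ ε : ℤ, ε * ε = 1 ∧ ∀ r ≤ D, P.coeff (D - r) = ε * (q : ℤ) ^ r * P.coeff (D + r) := by
  classical
  set s := P.aroots ℂ with hs
  have hmap : s.map conj = s := WeilNum.aroots_map_conj P
  have hsplit := IsAlgClosed.splits (P.map (algebraMap ℤ ℂ))
  have hcard : Multiset.card s = P.natDegree := by
    rw [hs, aroots_def, ← hsplit.natDegree_eq_card_roots, hm.natDegree_map]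
  set n := P.natDegree with hn
  have heval : ∀ x : ℂ, aeval x P = (s.map (fun z => x - z)).prod := by
    intro x
    rw [aeval_def, eval₂_eq_eval_map, hsplit.eq_prod_roots_of_monic (hm.map _), eval_multiset_prod,
      Multiset.map_map, hs, aroots_def]
    exact congrArg _ (Multiset.map_congr rfl fun z _ => by simp)
  have h0 : (P.coeff 0 : ℂ) = (s.map (fun z => -z)).prod := by
    have := heval 0
    simp only [zero_sub] at this
    rw [← this, aeval_def, eval₂_at_zero]
    simp
  have key : ∀ x : ℂ, x ≠ 0 → x ^ n * aeval ((q : ℂ) / x) P = (P.coeff 0 : ℂ) * aeval x P := by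
    intro x hx
    rw [heval, heval, h0, ← hcard, ← Multiset.prod_replicate, ← Multiset.map_const', ← Multiset.prod_map_mul]
    have h1 : ∀ z ∈ s, x * ((q : ℂ) / x - z) = (-z) * (x - conj z) := fun z hz => by
      rw [mul_sub, mul_div_cancel₀ _ hx, ← habs z hz]; ring
    rw [Multiset.map_congr rfl h1, Multiset.prod_map_mul]
    congr 2
    conv_rhs => rw [← hmap, Multiset.map_map]
    rfl
  have hsq : (P.coeff 0 : ℂ) * (P.coeff 0 : ℂ) = (q : ℂ) ^ n := by
    conv_lhs => arg 2; rw [← map_intCast (starRingEnd ℂ) (P.coeff 0)]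
    rw [h0, map_multiset_prod, Multiset.map_map, ← Multiset.prod_map_mul,
      Multiset.map_congr rfl (fun z hz => show (-z) * ((starRingEnd ℂ) ∘ fun z => -z) z = (q : ℂ) by
        simp [habs z hz]),
      Multiset.map_const', Multiset.prod_replicate, hcard]
  obtain ⟨ε, hε, hP0⟩ : ∃ ε : ℤ, ε * ε = 1 ∧ P.coeff 0 = ε * (q : ℤ) ^ D := by
    have h1 : P.coeff 0 * P.coeff 0 = ((q : ℤ) ^ D) * ((q : ℤ) ^ D) := by
      rw [← pow_add, ← two_mul, ← hdeg]; exact_mod_cast hsq
    rcases mul_self_eq_mul_self_iff.1 h1 with h | h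
    · exact ⟨1, one_mul 1, by rw [h, one_mul]⟩
    · exact ⟨-1, by norm_num, by rw [h]; ring⟩
  refine ⟨ε, hε, ?_⟩
  let R : ℤ[X] := ∑ k ∈ Finset.range (n + 1), C (P.coeff k * (q : ℤ) ^ k) * X ^ (n - k)
  have hR : R = C (P.coeff 0) * P := by
    apply map_injective (algebraMap ℤ ℂ) (algebraMap ℤ ℂ).injective_int
    refine eq_of_infinite_eval_eq _ _ (Set.Infinite.mono ?_ (Set.Finite.infinite_compl (Set.finite_singleton (0 : ℂ))))
    intro x hx
    simp only [Set.mem_compl_iff, Set.mem_singleton_iff] at hx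
    simp only [Set.mem_ofPred_eq, eval_map, ← aeval_def, map_mul, aeval_C]
    rw [show (algebraMap ℤ ℂ) (P.coeff 0) = (P.coeff 0 : ℂ) by simp, ← key x hx]
    conv_rhs => rw [aeval_eq_sum_range, Finset.mul_sum]
    simp only [R, map_sum, map_mul, aeval_C, map_pow, aeval_X]
    refine Finset.sum_congr rfl fun k hk => ?_
    have hk' : k ≤ n := Nat.lt_succ_iff.1 (Finset.mem_range.1 hk)
    rw [Algebra.smul_def, div_pow, show x ^ n = x ^ (n - k) * x ^ k by rw [← pow_add]; congr 1; omega,
      show (algebraMap ℤ ℂ) (q : ℤ) = (q : ℂ) by simp]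
    field_simp
  intro r hr
  have hc := congrArg (fun T => T.coeff (D + r)) hR
  simp only [R, finsetSum_coeff, coeff_C_mul, coeff_X_pow] at hc
  rw [Finset.sum_eq_single (D - r)] at hc
  · rw [if_pos (by omega), mul_one, hP0, show (q : ℤ) ^ D = (q : ℤ) ^ r * (q : ℤ) ^ (D - r) by
      rw [← pow_add]; congr 1; omega] at hc
    apply mul_right_cancel₀ (pow_ne_zero (D - r) (by exact_mod_cast hq.ne' : (q : ℤ) ≠ 0))
    rw [hc]; ring
  · intro k hk hne
    rw [Finset.mem_range] at hk
    rw [if_neg (by omega), mul_zero]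
  · intro h; exact absurd (Finset.mem_range.2 (by omega)) h

variable {ι : Type} [Fintype ι] {K : ι → Type u} [∀ i, Field (K i)] [∀ i, CharZero (K i)] {π : ∀ i, K i}
  {p e : ℕ} [Fact p.Prime] (hint : ∀ i, IsIntegral ℤ (π i))
  (hweil : ∀ i, ∀ z ∈ (minpoly ℤ (π i)).aroots ℂ, ‖z‖ = Real.sqrt ((p : ℝ) ^ e))
  (hinj : ∀ i j, minpoly ℤ (π i) = minpoly ℤ (π j) → i = j)

/-- the product of the minimal polynomials -/
noncomputable abbrev P (π : ∀ i, K i) : Polynomial ℤ := ∏ i, minpoly ℤ (π i)

include hint in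
theorem monic : (P π).Monic := Polynomial.monic_prod_of_monic _ _ fun i _ => minpoly.monic (hint i)

include hint in
theorem natDegree_eq {D : ℕ} (hD : ∑ i, (minpoly ℤ (π i)).natDegree = 2 * D) : (P π).natDegree = 2 * D := by
  rw [P, Polynomial.natDegree_prod_of_monic _ _ fun i _ => minpoly.monic (hint i), hD]

include hint hweil in
theorem ne_zero (i : ι) : π i ≠ 0 := by
  intro h
  have hmem : (0 : ℂ) ∈ (minpoly ℤ (π i)).aroots ℂ := by
    rw [Polynomial.mem_aroots]
    refine ⟨minpoly.ne_zero (hint i), ?_⟩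
    have := minpoly.eq_X_sub_C_of_algebraMap_inj (A := ℤ) (B := K i) 0 (algebraMap ℤ (K i)).injective_int
    rw [map_zero] at this
    rw [h, this]
    simp
  have := hweil i 0 hmem
  rw [norm_zero, eq_comm, Real.sqrt_eq_zero (pow_nonneg (Nat.cast_nonneg _) _)] at this
  exact pow_ne_zero e (Nat.cast_ne_zero.2 (Fact.out : p.Prime).ne_zero) this

include hint hweil in
theorem habs : ∀ z ∈ (P π).aroots ℂ, z * conj z = (((p ^ e : ℕ) : ℂ)) := by
  intro z hz
  rw [Polynomial.mem_aroots, map_prod, Finset.prod_eq_zero_iff] at hz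
  obtain ⟨i, -, hi⟩ := hz.2
  rw [WeilNum.mul_conj_eq_of_norm (pow_nonneg (Nat.cast_nonneg _) _)
    (hweil i z (Polynomial.mem_aroots.2 ⟨minpoly.ne_zero (hint i), hi⟩))]
  push_cast; rfl

/-- `F ↦ π` -/
abbrev x (π : ∀ i, K i) : ∀ i, K i := fun i => π i
/-- `V ↦ q/π` -/
noncomputable abbrev y (p e : ℕ) (π : ∀ i, K i) : ∀ i, K i := fun i => ((p : K i) ^ e) / π i

include hint hweil in
theorem hxy : x π * y p e π = (((p : ℤ) ^ e : ℤ) : ∀ i, K i) := by
  funext i
  simp [x, y, mul_div_cancel₀ _ (ne_zero hint hweil i)]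

include hint hweil in
theorem hx : IsUnit (x π) := Pi.isUnit_iff.2 fun i => (ne_zero hint hweil i).isUnit

theorem aeval_pi_apply (v : ∀ i, K i) (f : Polynomial ℤ) (i : ι) :
    Polynomial.aeval v f i = Polynomial.aeval (v i) f := by
  induction f using Polynomial.induction_on' with
  | add f g hf hg => simp [map_add, hf, hg]
  | monomial n a => simp [Polynomial.aeval_monomial]

include hint hinj in
theorem hker (f : Polynomial ℤ) : Polynomial.aeval (x π) f = 0 ↔ P π ∣ f := by
  have hiff : Polynomial.aeval (x π) f = 0 ↔ ∀ i, minpoly ℤ (π i) ∣ f := by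
    rw [funext_iff]
    refine forall_congr' fun i => ?_
    rw [← minpoly.isIntegrallyClosed_dvd_iff (hint i), Pi.zero_apply]
    rw [aeval_pi_apply]
  rw [hiff]
  refine ⟨fun h => ?_, fun h i => (Finset.dvd_prod_of_mem (fun j => minpoly ℤ (π j)) (Finset.mem_univ i)).trans h⟩
  refine Finset.prod_dvd_of_isRelPrime ?_ (fun i _ => h i)
  intro i _ j _ hij
  refine (minpoly.irreducible (hint i)).isRelPrime_iff_not_dvd.2 fun hd => hij (hinj i j ?_)
  exact Polynomial.eq_of_monic_of_associated (minpoly.monic (hint i)) (minpoly.monic (hint j))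
    ((minpoly.irreducible (hint i)).associated_of_dvd (minpoly.irreducible (hint j)) hd)

include hint hweil hinj in
theorem exists_module_iff (T : Type) [AddCommGroup T] [Module.Finite ℤ T] [Module.Free ℤ T] (FT : T →ₗ[ℤ] T) :
    (∃ _ : Module (WeilOrder.ev (x π) (y p e π)).range T,
        ∀ t : T, (⟨WeilOrder.ev (x π) (y p e π) (MvPolynomial.X 0), AlgHom.mem_range_self _ _⟩ :
          (WeilOrder.ev (x π) (y p e π)).range) • t = FT t) ↔
      (Polynomial.aeval FT (P π) = 0 ∧ ∃ VT : T →ₗ[ℤ] T, FT ∘ₗ VT = ((p : ℤ) ^ e) • LinearMap.id) := by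
  set φ := WeilOrder.ev (x π) (y p e π) with hφ
  have hq : ((p : ℤ) ^ e) ≠ 0 := pow_ne_zero _ (Nat.cast_ne_zero.2 (Fact.out : p.Prime).ne_zero)
  constructor
  · rintro ⟨M, hM⟩
    letI : Module φ.range T := M
    let ρ : φ.range →+* Module.End ℤ T :=
      { toFun := fun r => (DistribSMul.toAddMonoidHom T r).toIntLinearMap
        map_one' := by ext t; simp
        map_mul' := fun a b => by ext t; simp [mul_smul]
        map_zero' := by ext t; simp
        map_add' := fun a b => by ext t; simp [add_smul] }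
    let Φ : WeilOrder.R2 →+* Module.End ℤ T := ρ.comp φ.rangeRestrict.toRingHom
    have hF : Φ (MvPolynomial.X 0) = FT := by ext t; exact hM t
    have hcomp : ∀ f : Polynomial ℤ, Φ (Polynomial.aeval (MvPolynomial.X 0) f) = Polynomial.aeval FT f := fun f => by
      rw [← hF]
      exact (Polynomial.aeval_algHom_apply Φ.toIntAlgHom (MvPolynomial.X 0) f).symm
    refine ⟨?_, Φ (MvPolynomial.X 1), ?_⟩
    · rw [← hcomp]
      have h0 : φ.rangeRestrict.toRingHom (Polynomial.aeval (MvPolynomial.X 0) (P π)) = 0 := by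
        apply Subtype.ext
        show φ (Polynomial.aeval (MvPolynomial.X 0) (P π)) = 0
        rw [hφ, WeilOrder.ev_aeval]
        exact (hker hint hinj _).2 dvd_rfl
      show ρ _ = 0
      rw [h0, map_zero]
    · have h1 : φ.rangeRestrict.toRingHom (MvPolynomial.X 0 * MvPolynomial.X 1) =
          φ.rangeRestrict.toRingHom (((p : ℤ) ^ e : ℤ) : WeilOrder.R2) := by
        apply Subtype.ext
        show φ _ = φ _
        rw [map_mul, map_intCast]
        simp only [hφ, WeilOrder.ev, MvPolynomial.aeval_X, Matrix.cons_val_zero, Matrix.cons_val_one]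
        exact hxy hint hweil
      have h2 : Φ (MvPolynomial.X 0) * Φ (MvPolynomial.X 1) = (((p : ℤ) ^ e : ℤ) : Module.End ℤ T) := by
        rw [← map_mul, show Φ (MvPolynomial.X 0 * MvPolynomial.X 1) = ρ (φ.rangeRestrict.toRingHom _) from rfl,
          h1, map_intCast, map_intCast]
      rw [hF] at h2
      ext t
      have := LinearMap.congr_fun h2 t
      simpa using this
  · rintro ⟨hP, VT, hVT⟩
    have hP0 : (P π).coeff 0 ≠ 0 := by
      intro h0
      have h1 : (0 : ℂ) ∈ (P π).aroots ℂ := by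
        rw [Polynomial.mem_aroots]
        exact ⟨(monic hint).ne_zero, by rw [Polynomial.aeval_def, Polynomial.eval₂_at_zero, h0, map_zero]⟩
      have := habs hint hweil (p := p) (e := e) 0 h1
      rw [zero_mul, eq_comm, Nat.cast_eq_zero] at this
      exact pow_ne_zero e (Fact.out : p.Prime).ne_zero this
    have hFinj : Function.Injective FT := by
      refine (injective_iff_map_eq_zero FT).2 fun t ht => ?_
      have h1 : Polynomial.aeval FT (P π) t = (P π).coeff 0 • t := by
        conv_lhs => rw [← Polynomial.X_mul_divX_add (P π), mul_comm]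
        simp [ht]
      rw [hP, LinearMap.zero_apply] at h1
      exact (smul_eq_zero.1 h1.symm).resolve_left hP0
    have hcomm : FT * VT = VT * FT := by
      ext t
      apply hFinj
      have h := LinearMap.congr_fun hVT t
      have h' := LinearMap.congr_fun hVT (FT t)
      simp only [LinearMap.comp_apply, LinearMap.smul_apply, LinearMap.id_apply] at h h'
      show FT (FT (VT t)) = FT (VT (FT t))
      rw [h, h', map_smul]
    let S := Algebra.adjoin ℤ ({FT, VT} : Set (Module.End ℤ T))
    haveI : IsMulCommutative S := Algebra.isMulCommutative_adjoin ℤ (by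
      rintro a (rfl | rfl) b (rfl | rfl)
      · rfl
      · exact hcomm
      · exact hcomm.symm
      · rfl)
    letI : CommRing S := { (inferInstance : Ring S) with mul_comm := fun a b => IsMulCommutative.is_comm.comm a b }
    let F' : S := ⟨FT, Algebra.subset_adjoin (Or.inl rfl)⟩
    let V' : S := ⟨VT, Algebra.subset_adjoin (Or.inr rfl)⟩
    let Ψ : WeilOrder.R2 →+* S := MvPolynomial.eval₂Hom (Int.castRingHom S) ![F', V']
    let Φ : WeilOrder.R2 →+* Module.End ℤ T := S.val.toRingHom.comp Ψ
    have hF : Φ (MvPolynomial.X 0) = FT := by simp [Φ, Ψ, F']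
    have hV : Φ (MvPolynomial.X 1) = VT := by simp [Φ, Ψ, V']
    have hg : Φ (WeilOrder.g ((p : ℤ) ^ e)) = 0 := by
      rw [WeilOrder.g, map_sub, map_mul, hF, hV, sub_eq_zero, Module.End.mul_eq_comp, hVT,
        show (MvPolynomial.C ((p : ℤ) ^ e) : WeilOrder.R2) = (((p : ℤ) ^ e : ℤ) : WeilOrder.R2) from by simp,
        map_intCast]
      ext t; simp
    have hker' : RingHom.ker φ.rangeRestrict.toRingHom ≤ RingHom.ker Φ := by
      intro f hf
      have hf' : φ f = 0 := congrArg Subtype.val ((RingHom.mem_ker).1 hf)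
      obtain ⟨N, f', hff'⟩ := WeilOrder.exists_pow_mul_sub_mem ((p : ℤ) ^ e) f
      obtain ⟨t, ht⟩ := Ideal.mem_span_singleton'.1 hff'
      have h1 := congrArg φ ht
      rw [map_mul, hφ, WeilOrder.ev_g (hxy hint hweil), mul_zero, map_sub, map_mul, ← hφ, hf', mul_zero, zero_sub,
        hφ, WeilOrder.ev_aeval, eq_comm, neg_eq_zero] at h1
      obtain ⟨w, rfl⟩ := (hker hint hinj _).1 h1
      have h2 := congrArg Φ ht
      have hcompf : Φ (Polynomial.aeval (MvPolynomial.X 0) (P π * w)) = 0 := by
        have := Polynomial.aeval_algHom_apply Φ.toIntAlgHom (MvPolynomial.X 0 : WeilOrder.R2) (P π * w)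
        simp only [RingHom.toIntAlgHom_apply, hF] at this
        rw [← this, map_mul, hP, zero_mul]
      rw [map_mul, hg, mul_zero, map_sub, map_mul, map_pow, hF, hcompf, sub_zero, eq_comm] at h2
      rw [RingHom.mem_ker]
      ext t
      have h3 := LinearMap.congr_fun h2 t
      rw [Module.End.mul_apply, LinearMap.zero_apply, Module.End.coe_pow] at h3
      exact (hFinj.iterate N) (by rw [LinearMap.zero_apply, h3]; exact (Function.iterate_fixed (map_zero FT) N).symm)
    have hsurj : Function.Surjective φ.rangeRestrict.toRingHom := φ.rangeRestrict_surjective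
    let ρ : φ.range →+* Module.End ℤ T :=
      RingHom.liftOfRightInverse φ.rangeRestrict.toRingHom (Function.surjInv hsurj)
        (Function.rightInverse_surjInv hsurj) ⟨Φ, hker'⟩
    refine ⟨Module.compHom T ρ, fun t => ?_⟩
    show ρ _ t = FT t
    rw [← hF]
    have := RingHom.liftOfRightInverse_comp_apply φ.rangeRestrict.toRingHom (Function.surjInv hsurj)
        (Function.rightInverse_surjInv hsurj) ⟨Φ, hker'⟩ (MvPolynomial.X 0)
    exact LinearMap.congr_fun this t

end Groth.Misc13.WeilFamily
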