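import Groth.Agent.Misc13.CIGorenstein
import Mathlib.Algebra.MvPolynomial.Rename
import Mathlib.Algebra.MvPolynomial.CommRing
import Mathlib.RingTheory.AdjoinRoot
import Mathlib.RingTheory.RegularLocalRing.Polynomial
import Mathlib.RingTheory.MvPolynomial.Basic
import Mathlib.RingTheory.KrullDimension.PID
import Mathlib.RingTheory.Ideal.GoingUp
import Mathlib.FieldTheory.Minpoly.IsIntegrallyClosed
import Mathlib.LinearAlgebra.FreeModule.PID
import Mathlib.Algebra.Ring.ULift
import Mathlib.RingTheory.Int.Basic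

/-!
The order `ℤ[F, V]/(FV - q, …)` generated by a Weil number (or a family) and `q` divided by it.
-/

set_option autoImplicit false
set_option linter.style.haveILetI false
set_option linter.unusedSectionVars false

universe u

open MvPolynomial

namespace Groth.Misc13.WeilOrder

/-- `ℤ[F, V]` -/
abbrev R2 := MvPolynomial (Fin 2) ℤ

/-- `FV - q` -/
noncomputable def g (q : ℤ) : R2 := X 0 * X 1 - C q

variable {q : ℤ}

theorem mk_FV : Ideal.Quotient.mk (Ideal.span {g q}) (X 0 * X 1) = Ideal.Quotient.mk (Ideal.span {g q}) (C q) :=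
  Ideal.Quotient.eq.2 (Ideal.subset_span rfl)

theorem exists_pow_mul_sub_mem (q : ℤ) (f : R2) :
    ∃ (N : ℕ) (p : Polynomial ℤ), X 0 ^ N * f - Polynomial.aeval (X 0 : R2) p ∈ Ideal.span {g q} := by
  induction f using MvPolynomial.induction_on with
  | C a => exact ⟨0, Polynomial.C a, by simp⟩
  | add f f' hf hf' =>
    obtain ⟨N, p, h⟩ := hf; obtain ⟨N', p', h'⟩ := hf'
    refine ⟨N + N', Polynomial.X ^ N' * p + Polynomial.X ^ N * p', ?_⟩
    have := Ideal.add_mem _ (Ideal.mul_mem_left _ (X 0 ^ N') h) (Ideal.mul_mem_left _ (X 0 ^ N) h')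
    convert this using 1
    simp only [map_add, map_mul, Polynomial.aeval_X_pow]
    ring
  | mul_X f i hf =>
    obtain ⟨N, p, h⟩ := hf
    match i with
    | 0 =>
      refine ⟨N, p * Polynomial.X, ?_⟩
      convert Ideal.mul_mem_right (X 0) _ h using 1
      simp only [map_mul, Polynomial.aeval_X]
      ring
    | 1 =>
      refine ⟨N + 1, Polynomial.C q * p, ?_⟩
      have := Ideal.add_mem _ (Ideal.mul_mem_right (X 0 * X 1) _ h)
        (Ideal.mul_mem_left _ (Polynomial.aeval (X 0 : R2) p) (Ideal.subset_span (Set.mem_singleton (g q))))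
      convert this using 1
      simp only [g, map_mul, Polynomial.aeval_C, algebraMap_eq]
      ring

/-- `F ↦ 0`. -/
noncomputable def ψ0 : R2 →ₐ[ℤ] Polynomial ℤ := aeval ![0, Polynomial.X]

/-- `V`-polynomials. -/
noncomputable def incV : Polynomial ℤ →ₐ[ℤ] R2 := Polynomial.aeval (X 1)

theorem sub_incV_mem (f : R2) : f - incV (ψ0 f) ∈ Ideal.span {(X 0 : R2)} := by
  rw [← Ideal.Quotient.eq]
  have : (Ideal.Quotient.mk (Ideal.span {(X 0 : R2)})) =
      (Ideal.Quotient.mk (Ideal.span {(X 0 : R2)})).comp (incV.comp ψ0).toRingHom := by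
    refine MvPolynomial.ringHom_ext (fun a => ?_) (fun i => ?_)
    · simp [ψ0, incV]
    · match i with
      | 0 =>
        have h0 : Ideal.Quotient.mk (Ideal.span {(X 0 : R2)}) (X 0) = 0 :=
          Ideal.Quotient.eq_zero_iff_mem.2 (Ideal.subset_span rfl)
        simp [ψ0, incV, h0]
      | 1 => simp [ψ0, incV]
  exact DFunLike.congr_fun this f

theorem mem_of_F_mul_mem (hq : q ≠ 0) {u : R2} (h : X 0 * u ∈ Ideal.span {g q}) : u ∈ Ideal.span {g q} := by
  obtain ⟨a, ha⟩ := Ideal.mem_span_singleton'.1 h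
  have h0 := congrArg ψ0 ha
  simp [ψ0, g, hq] at h0
  have h1 := sub_incV_mem a
  rw [show ψ0 a = 0 from h0, map_zero, sub_zero] at h1
  obtain ⟨b, rfl⟩ := Ideal.mem_span_singleton'.1 h1
  refine Ideal.mem_span_singleton'.2 ⟨b, ?_⟩
  apply mul_left_cancel₀ (X_ne_zero (0 : Fin 2))
  rw [← ha]; ring

theorem mem_of_pow_mul_mem (hq : q ≠ 0) {u : R2} (N : ℕ) (h : X 0 ^ N * u ∈ Ideal.span {g q}) :
    u ∈ Ideal.span {g q} := by
  induction N generalizing u with
  | zero => simpa using h
  | succ N ih => exact mem_of_F_mul_mem hq (ih (by rwa [← mul_assoc, ← pow_succ]))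

theorem eq_zero_of_aeval_mem (hq : q ≠ 0) {p : Polynomial ℤ}
    (h : Polynomial.aeval (X 0 : R2) p ∈ Ideal.span {g q}) : p = 0 := by
  let T := algebraMap (Polynomial ℚ) (FractionRing (Polynomial ℚ)) Polynomial.X
  have hT : T ≠ 0 := (map_ne_zero_iff _ (IsFractionRing.injective _ _)).2 Polynomial.X_ne_zero
  let θ : R2 →ₐ[ℤ] FractionRing (Polynomial ℚ) := aeval ![T, (q : FractionRing (Polynomial ℚ)) / T]
  obtain ⟨a, ha⟩ := Ideal.mem_span_singleton'.1 h
  have h1 := congrArg θ ha
  rw [map_mul, show θ (g q) = 0 by simp [θ, g, mul_div_cancel₀ _ hT], mul_zero] at h1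
  rw [← Polynomial.aeval_algHom_apply, show θ (X 0) = T by simp [θ],
    show T = algebraMap (Polynomial ℚ) (FractionRing (Polynomial ℚ)) Polynomial.X from rfl,
    Polynomial.aeval_algebraMap_apply] at h1
  have h2 : Polynomial.aeval (Polynomial.X : Polynomial ℚ) p = 0 :=
    (map_eq_zero_iff _ (IsFractionRing.injective _ _)).1 h1.symm
  have h3 : p.map (algebraMap ℤ ℚ) = 0 := by
    rw [Polynomial.map, ← h2, Polynomial.aeval_def]
    congr 1
  exact (Polynomial.map_eq_zero_iff (algebraMap ℤ ℚ).injective_int).1 h3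

section family

variable (P : Polynomial ℤ) (D : ℕ) (ε : ℤ) (q)

/-- The symmetric polynomial. -/
noncomputable def h₀ : R2 :=
  ∑ r ∈ Finset.range (D + 1), C (P.coeff (D + r)) * X 0 ^ r +
    ∑ j ∈ Finset.range D, C (ε * P.coeff (D + (D - j))) * X 1 ^ (D - j)

/-- The symmetric polynomial at `F = 0`. -/
noncomputable def hbar : Polynomial ℤ :=
  Polynomial.C (P.coeff D) + ∑ j ∈ Finset.range D, Polynomial.C (ε * P.coeff (D + (D - j))) * Polynomial.X ^ (D - j)

theorem ψ0_h₀ : ψ0 (h₀ P D ε) = hbar P D ε := by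
  simp only [h₀, hbar, map_add, map_sum, map_mul, map_pow, ψ0, aeval_C, aeval_X]
  rw [Finset.sum_range_succ']
  simp

variable {P D ε q} (hm : P.Monic) (hdeg : P.natDegree = 2 * D) (hq : q ≠ 0) (hε : ε * ε = 1)
  (hfe : ∀ r ≤ D, P.coeff (D - r) = ε * q ^ r * P.coeff (D + r))

include hdeg hfe in
theorem pow_mul_h₀_sub_mem : X 0 ^ D * h₀ P D ε - Polynomial.aeval (X 0 : R2) P ∈ Ideal.span {g q} := by
  rw [← Ideal.Quotient.eq]
  set m := Ideal.Quotient.mk (Ideal.span {g q})
  rw [Polynomial.aeval_eq_sum_range, hdeg, show 2 * D + 1 = D + (D + 1) by omega, Finset.sum_range_add, h₀,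
    mul_add, add_comm, map_add, map_add]
  congr 1
  · rw [Finset.mul_sum, map_sum, map_sum]
    refine Finset.sum_congr rfl fun j hj => ?_
    have hj' := Finset.mem_range.1 hj
    have hf := hfe (D - j) (Nat.sub_le _ _)
    rw [Nat.sub_sub_self hj'.le] at hf
    rw [show (X 0 : R2) ^ D = X 0 ^ j * X 0 ^ (D - j) by rw [← pow_add]; congr 1; omega, hf,
      smul_eq_C_mul]
    rw [show (X 0 : R2) ^ j * X 0 ^ (D - j) * (C (ε * P.coeff (D + (D - j))) * X 1 ^ (D - j)) =
      X 0 ^ j * C (ε * P.coeff (D + (D - j))) * (X 0 * X 1) ^ (D - j) by ring, map_mul, map_pow, mk_FV,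
      ← map_pow, ← map_mul]
    congr 1
    simp only [map_mul, map_pow]
    ring
  · rw [Finset.mul_sum, map_sum, map_sum]
    refine Finset.sum_congr rfl fun r _ => ?_
    rw [smul_eq_C_mul]; congr 1; ring

include hm hdeg hε in
theorem hbar_monic : (Polynomial.C (if D = 0 then 1 else ε) * hbar P D ε).Monic := by
  by_cases hD : D = 0
  · subst hD
    have : P = 1 := Polynomial.eq_one_of_monic_natDegree_zero hm (by simpa using hdeg)
    simp [hbar, this]
  · rw [if_neg hD]
    refine Polynomial.monic_of_natDegree_le_of_coeff_eq_one D ?_ ?_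
    · refine (Polynomial.natDegree_C_mul_le _ _).trans ((Polynomial.natDegree_add_le _ _).trans (max_le (by simp) ?_))
      exact Polynomial.natDegree_sum_le_of_forall_le _ _ fun j _ =>
        (Polynomial.natDegree_C_mul_X_pow_le _ _).trans (Nat.sub_le _ _)
    · simp only [hbar, Polynomial.coeff_C_mul, Polynomial.coeff_add, Polynomial.coeff_C, if_neg hD,
        Polynomial.finsetSum_coeff, Polynomial.coeff_X_pow, zero_add]
      rw [Finset.sum_eq_single 0 (fun j hj hj0 => ?_) (fun h => absurd (Finset.mem_range.2 (Nat.pos_of_ne_zero hD)) h)]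
      · rw [Nat.sub_zero, if_pos rfl, mul_one, show D + D = P.natDegree by omega, hm.coeff_natDegree, mul_one, hε]
      · have := Finset.mem_range.1 hj
        rw [if_neg (by omega), mul_zero]

include hm hdeg hε in
theorem dvd_of_dvd_mul_hbar {b : Polynomial ℤ} (h : Polynomial.C q ∣ b * hbar P D ε) : Polynomial.C q ∣ b := by
  set c := Polynomial.C (if D = 0 then 1 else ε) * hbar P D ε with hc
  have hcm := hbar_monic hm hdeg hε
  have h' : Polynomial.C q ∣ b * c := by
    obtain ⟨w, hw⟩ := h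
    exact ⟨w * Polynomial.C (if D = 0 then 1 else ε), by rw [hc, mul_left_comm, hw]; ring⟩
  let φ := Polynomial.mapRingHom (Ideal.Quotient.mk (Ideal.span {q}))
  have hφ : ∀ s : Polynomial ℤ, φ s = 0 ↔ Polynomial.C q ∣ s := fun s => by
    rw [Polynomial.C_dvd_iff_dvd_coeff, Polynomial.ext_iff]
    simp only [φ, Polynomial.coe_mapRingHom, Polynomial.coeff_map, Polynomial.coeff_zero, Ideal.Quotient.eq_zero_iff_mem, Ideal.mem_span_singleton]
  rw [← hφ] at h' ⊢
  rw [map_mul] at h'
  have hmon : (φ c).Monic := hcm.map _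
  exact hmon.mul_left_eq_zero_iff.1 h'

include hm hdeg hε hq in
/-- `F` is a nonzerodivisor modulo `(g, h₀)`. -/
theorem mem_of_F_mul_mem₂ {u : R2} (h : X 0 * u ∈ Ideal.span {g q, h₀ P D ε}) :
    u ∈ Ideal.span {g q, h₀ P D ε} := by
  rw [Ideal.mem_span_pair] at h
  obtain ⟨a, b, hab⟩ := h
  have h0 := congrArg ψ0 hab
  rw [map_add, map_mul, map_mul, map_mul, ψ0_h₀, show ψ0 (g q) = - Polynomial.C q by simp [ψ0, g],
    show ψ0 (X 0) = 0 by simp [ψ0], zero_mul] at h0
  obtain ⟨c, hc⟩ := dvd_of_dvd_mul_hbar hm hdeg hε (b := ψ0 b) (q := q)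
    ⟨ψ0 a, by linear_combination h0⟩
  have ha : ψ0 a * Polynomial.C q = (c * hbar P D ε) * Polynomial.C q := by
    linear_combination -h0 + (hbar P D ε) * hc
  obtain ⟨a', ha'⟩ := Ideal.mem_span_singleton'.1 (sub_incV_mem a)
  obtain ⟨b', hb'⟩ := Ideal.mem_span_singleton'.1 (sub_incV_mem b)
  obtain ⟨h', hh'⟩ := Ideal.mem_span_singleton'.1 (sub_incV_mem (h₀ P D ε))
  rw [ψ0_h₀] at hh'
  rw [hc, map_mul, show incV (Polynomial.C q) = C q by simp [incV]] at hb'
  have ha2 : ψ0 a = c * hbar P D ε := mul_right_cancel₀ (by simpa using hq) ha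
  rw [ha2, map_mul] at ha'
  refine Ideal.mem_span_pair.2 ⟨a' - incV c * h', b' + incV c * X 1, ?_⟩
  apply mul_left_cancel₀ (X_ne_zero (0 : Fin 2))
  simp only [g] at hab ⊢
  linear_combination hab + (X 0 * X 1 - C q) * ha' + h₀ P D ε * hb' - incV c * (X 0 * X 1 - C q) * hh'

include hm hdeg hε hq in
theorem mem_of_pow_mul_mem₂ {u : R2} (N : ℕ) (h : X 0 ^ N * u ∈ Ideal.span {g q, h₀ P D ε}) :
    u ∈ Ideal.span {g q, h₀ P D ε} := by
  induction N generalizing u with
  | zero => simpa using h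
  | succ N ih => exact mem_of_F_mul_mem₂ hm hdeg hq hε (ih (by rwa [← mul_assoc, ← pow_succ]))

variable {h : R2} (hh : X 0 ^ D * h - Polynomial.aeval (X 0 : R2) P ∈ Ideal.span {g q})

include hdeg hq hfe hh in
theorem h_sub_h₀_mem : h - h₀ P D ε ∈ Ideal.span {g q} := by
  refine mem_of_pow_mul_mem hq D ?_
  have := Ideal.sub_mem _ hh (pow_mul_h₀_sub_mem hdeg hfe)
  convert this using 1; ring

include hdeg hq hfe hh in
theorem span_eq : Ideal.span {g q, h} = Ideal.span {g q, h₀ P D ε} := by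
  obtain ⟨t, ht⟩ := Ideal.mem_span_singleton'.1 (h_sub_h₀_mem hdeg hq hfe hh)
  rw [show h = h₀ P D ε + t * g q by linear_combination -ht, Ideal.span_pair_add_mul_left]

include hm hdeg hq hfe hh in
theorem weaklyRegular : RingTheory.Sequence.IsWeaklyRegular R2 [g q, h] := by
  rw [CIGor.weaklyRegular_pair_iff]
  refine ⟨IsSMulRegular.of_ne_zero ?_, fun u hu => ?_⟩
  · intro e
    have := congrArg ψ0 e
    simp [ψ0, g, hq] at this
  · have h1 : Polynomial.aeval (X 0 : R2) P * u ∈ Ideal.span {g q} := by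
      have := Ideal.sub_mem _ (Ideal.mul_mem_left _ (X 0 ^ D) hu) (Ideal.mul_mem_right u _ hh)
      convert this using 1; ring
    obtain ⟨N, p, hp⟩ := exists_pow_mul_sub_mem q u
    have h2 : Polynomial.aeval (X 0 : R2) (P * p) ∈ Ideal.span {g q} := by
      have := Ideal.sub_mem _ (Ideal.mul_mem_left _ (X 0 ^ N) h1) (Ideal.mul_mem_left _ (Polynomial.aeval (X 0 : R2) P) hp)
      rw [map_mul]; convert this using 1; ring
    have h3 := eq_zero_of_aeval_mem hq h2
    rw [mul_eq_zero, or_iff_right hm.ne_zero] at h3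
    rw [h3, map_zero, sub_zero] at hp
    exact mem_of_pow_mul_mem hq N hp

variable {L : Type u} [CommRing L] {x y : L} (hxy : x * y = (q : L)) (hx : IsUnit x)
  (hker : ∀ p : Polynomial ℤ, Polynomial.aeval x p = 0 ↔ P ∣ p)

/-- evaluation -/
noncomputable def ev (x y : L) : R2 →ₐ[ℤ] L := aeval ![x, y]

include hxy in
theorem ev_g : ev x y (g q) = 0 := by simp [ev, g, hxy]

theorem ev_aeval (p : Polynomial ℤ) : ev x y (Polynomial.aeval (X 0 : R2) p) = Polynomial.aeval x p := by
  rw [← Polynomial.aeval_algHom_apply]; simp [ev]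

include hxy in
theorem ev_eq (f : R2) : ∃ (N : ℕ) (p : Polynomial ℤ), x ^ N * ev x y f = Polynomial.aeval x p := by
  obtain ⟨N, p, h⟩ := exists_pow_mul_sub_mem q f
  obtain ⟨t, ht⟩ := Ideal.mem_span_singleton'.1 h
  refine ⟨N, p, ?_⟩
  have := congrArg (ev x y) ht
  rw [map_mul, ev_g hxy, mul_zero, map_sub, map_mul, map_pow, ev_aeval] at this
  simp only [ev, aeval_X, Matrix.cons_val_zero] at this
  exact sub_eq_zero.1 this.symm

include hm hdeg hq hε hfe hh hxy hx hker in
theorem ker_ev : RingHom.ker (ev x y) = Ideal.span {g q, h} := by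
  apply le_antisymm
  · intro f hf
    rw [span_eq hdeg hq hfe hh]
    obtain ⟨N, p, hp⟩ := exists_pow_mul_sub_mem q f
    obtain ⟨t, ht⟩ := Ideal.mem_span_singleton'.1 hp
    have h1 := congrArg (ev x y) ht
    rw [map_mul, ev_g hxy, mul_zero, map_sub, map_mul, (RingHom.mem_ker).1 hf, mul_zero, zero_sub,
      ev_aeval, eq_comm, neg_eq_zero, hker] at h1
    obtain ⟨p', rfl⟩ := h1
    have hle : (Ideal.span {g q} : Ideal R2) ≤ Ideal.span {g q, h₀ P D ε} :=
      Ideal.span_mono (Set.singleton_subset_iff.2 (Set.mem_insert _ _))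
    have hmem : h₀ P D ε ∈ Ideal.span {g q, h₀ P D ε} :=
      Ideal.subset_span (Set.mem_insert_of_mem _ (Set.mem_singleton _))
    have h2 := hle (pow_mul_h₀_sub_mem hdeg hfe)
    have h3 : Polynomial.aeval (X 0 : R2) P ∈ Ideal.span {g q, h₀ P D ε} := by
      have := Ideal.sub_mem _ (Ideal.mul_mem_left _ (X 0 ^ D) hmem) h2
      rwa [sub_sub_cancel] at this
    refine mem_of_pow_mul_mem₂ hm hdeg hq hε N ?_
    rw [map_mul] at hp
    have := Ideal.add_mem _ (hle hp) (Ideal.mul_mem_right (Polynomial.aeval (X 0 : R2) p') _ h3)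
    rwa [sub_add_cancel] at this
  · rw [Ideal.span_le]
    refine Set.insert_subset_iff.2 ⟨ev_g hxy, Set.singleton_subset_iff.2 ?_⟩
    obtain ⟨t, ht⟩ := Ideal.mem_span_singleton'.1 hh
    have h1 := congrArg (ev x y) ht
    rw [map_mul, ev_g hxy, mul_zero, map_sub, map_mul, map_pow, ev_aeval, (hker P).2 dvd_rfl, sub_zero,
      show ev x y (X 0) = x by simp [ev]] at h1
    exact (hx.pow D).mul_right_eq_zero.1 h1.symm

include hm hker in
theorem isIntegral_x : IsIntegral ℤ x := ⟨P, hm, by rw [← Polynomial.aeval_def]; exact (hker P).2 dvd_rfl⟩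

include hm hdeg hfe hε hxy hx hker in
theorem isIntegral_y : IsIntegral ℤ y := by
  refine ⟨P, hm, ?_⟩
  rw [← Polynomial.aeval_def]
  obtain ⟨t, ht⟩ := Ideal.mem_span_singleton'.1 (pow_mul_h₀_sub_mem (q := q) hdeg hfe)
  -- reversed polynomial identity
  have key : ∑ k ∈ Finset.range (2 * D + 1), ((P.coeff k * q ^ k : ℤ) : L) * x ^ (2 * D - k) =
      ((ε * q ^ D : ℤ) : L) * Polynomial.aeval x P := by
    rw [Polynomial.aeval_eq_sum_range, hdeg, Finset.mul_sum, ← Finset.sum_range_reflect]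
    refine Finset.sum_congr rfl fun j hj => ?_
    have hj' := Finset.mem_range.1 hj
    rw [show 2 * D + 1 - 1 - j = 2 * D - j by omega, show 2 * D - (2 * D - j) = j by omega, zsmul_eq_mul,
      ← mul_assoc, ← Int.cast_mul]
    congr 2
    rcases le_or_gt j D with hjD | hjD
    · have hf := hfe (D - j) (Nat.sub_le _ _)
      rw [Nat.sub_sub_self hjD, show D + (D - j) = 2 * D - j by omega] at hf
      rw [hf, show 2 * D - j = D + (D - j) by omega, pow_add, show D + (D - j) = 2 * D - j by omega]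
      linear_combination (-(q ^ D * q ^ (D - j) * P.coeff (2 * D - j))) * hε
    · have hf := hfe (j - D) (by omega)
      rw [show D - (j - D) = 2 * D - j by omega, show D + (j - D) = j by omega] at hf
      rw [hf, show q ^ D = q ^ (2 * D - j) * q ^ (j - D) by rw [← pow_add]; congr 1; omega]
      ring
  rw [(hker P).2 dvd_rfl, mul_zero] at key
  apply ((hx.pow (2 * D)).mul_right_eq_zero).1
  rw [Polynomial.aeval_eq_sum_range, hdeg, Finset.mul_sum, ← key]
  refine Finset.sum_congr rfl fun k hk => ?_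
  have hk' := Finset.mem_range.1 hk
  rw [zsmul_eq_mul, show x ^ (2 * D) = x ^ (2 * D - k) * x ^ k by rw [← pow_add]; congr 1; omega]
  push_cast
  rw [← hxy, mul_pow]
  ring

include hm hdeg hfe hε hxy hx hker in
theorem finite_range : Module.Finite ℤ (ev x y).range := by
  have hfg : (Algebra.adjoin ℤ (Set.range ![x, y])).toSubmodule.FG :=
    fg_adjoin_of_finite (Set.finite_range _) (by
      rintro z ⟨i, rfl⟩
      match i with
      | 0 => simpa using isIntegral_x hm hker
      | 1 => simpa using isIntegral_y hm hdeg hε hfe hxy hx hker)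
  have : Algebra.adjoin ℤ (Set.range ![x, y]) = (ev x y).range := Algebra.adjoin_range_eq_range_aeval _ _
  rw [← this]
  exact Module.Finite.iff_fg.2 hfg

include hm hdeg hker in
theorem finrank_range_aeval :
    Module.finrank ℤ (LinearMap.range (Polynomial.aeval x : Polynomial ℤ →ₐ[ℤ] L).toLinearMap) = 2 * D := by
  have hk : LinearMap.ker (Polynomial.aeval x : Polynomial ℤ →ₐ[ℤ] L).toLinearMap =
      (Ideal.span {P}).restrictScalars ℤ := by
    ext p; simp [hker, Ideal.mem_span_singleton]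
  rw [← (LinearMap.quotKerEquivRange _).finrank_eq, hk, ← hdeg,
    (Submodule.Quotient.restrictScalarsEquiv ℤ (Ideal.span {P})).finrank_eq]
  exact (AdjoinRoot.powerBasis' hm).finrank.trans (AdjoinRoot.powerBasis'_dim hm)

variable [Module.IsTorsionFree ℤ L]

include hm hdeg hfe hε hxy hx hker in
theorem free_finrank : Module.Free ℤ (ev x y).range ∧ Module.finrank ℤ (ev x y).range = 2 * D := by
  haveI := finite_range hm hdeg hε hfe hxy hx hker
  haveI : Module.Free ℤ (ev x y).range := inferInstance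
  refine ⟨inferInstance, ?_⟩
  set M := LinearMap.range (Polynomial.aeval x : Polynomial ℤ →ₐ[ℤ] L).toLinearMap
  set S : Submodule ℤ L := (ev x y).range.toSubmodule
  haveI : Module.Finite ℤ S := inferInstanceAs (Module.Finite ℤ (ev x y).range)
  haveI : Module.Free ℤ S := inferInstanceAs (Module.Free ℤ (ev x y).range)
  have hMS : M ≤ S := by
    rintro z ⟨p, rfl⟩
    exact ⟨Polynomial.aeval (X 0 : R2) p, ev_aeval p⟩
  obtain ⟨n, s, hs⟩ := Module.Finite.exists_fin (R := ℤ) (M := S)
  choose N hp using fun i : Fin n => (show ∃ f, ev x y f = (s i : L) from (AlgHom.mem_range _).1 (s i).2)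
  choose N' p' hp' using fun i => ev_eq hxy (N i)
  let B := Finset.univ.sup N'
  have hB : ∀ z ∈ S, x ^ B * z ∈ M := by
    intro z hz
    have : (⟨z, hz⟩ : S) ∈ Submodule.comap ((LinearMap.mulLeft ℤ (x ^ B)).comp S.subtype) M := by
      have htop : (⊤ : Submodule ℤ S) ≤ Submodule.comap ((LinearMap.mulLeft ℤ (x ^ B)).comp S.subtype) M := by
        rw [← hs, Submodule.span_le]
        rintro _ ⟨i, rfl⟩
        refine ⟨Polynomial.X ^ (B - N' i) * p' i, ?_⟩
        show Polynomial.aeval x (Polynomial.X ^ (B - N' i) * p' i) = x ^ B * (s i : L)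
        have hsi : (s i : L) = ev x y (N i) := (hp i).symm
        rw [map_mul, ← hp' i, Polynomial.aeval_X_pow, hsi, ← mul_assoc, ← pow_add,
          Nat.sub_add_cancel (Finset.le_sup (f := N') (Finset.mem_univ i))]
      exact htop Submodule.mem_top
    exact this
  let f : S →ₗ[ℤ] M := ((LinearMap.mulLeft ℤ (x ^ B)).comp S.subtype).codRestrict M (fun z => hB z z.2)
  have hf : Function.Injective f := fun a b hab => Subtype.ext ((hx.pow B).mul_left_cancel (congrArg Subtype.val hab))
  haveI : Module.Finite ℤ M := Module.Finite.of_injective (Submodule.inclusion hMS) (Submodule.inclusion_injective _)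
  have h1 := LinearMap.finrank_le_finrank_of_injective hf
  have h2 := LinearMap.finrank_le_finrank_of_injective (Submodule.inclusion_injective hMS)
  have h3 : Module.finrank ℤ M = 2 * D := finrank_range_aeval hm hdeg hker
  show Module.finrank ℤ S = 2 * D
  omega

include hm hdeg hfe hε hxy hx hker in
theorem ringKrullDim_range [Nontrivial L] : ringKrullDim (ev x y).range = 1 := by
  haveI := finite_range hm hdeg hε hfe hxy hx hker
  set S := (ev x y).range
  haveI : Algebra.IsIntegral ℤ S := inferInstance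
  have hinj : Function.Injective (algebraMap ℤ S) := fun a b hab => by
    have h1 : (a : L) = (b : L) := by
      have := congrArg (fun s : S => (s : L)) hab
      simpa using this
    by_contra hne
    have h2 : (a - b) • (1 : L) = 0 := by rw [sub_smul, zsmul_one, zsmul_one, h1, sub_self]
    exact one_ne_zero ((smul_eq_zero.1 h2).resolve_left (sub_ne_zero.2 hne))
  have hZ : ringKrullDim ℤ = 1 := IsPrincipalIdealRing.ringKrullDim_eq_one ℤ Int.not_isField
  refine le_antisymm (hZ ▸ Order.krullDim_le_of_strictMono (PrimeSpectrum.comap (algebraMap ℤ S))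
    fun a b hab => Ideal.IsIntegral.comap_lt_comap (R := ℤ) (I := a.asIdeal) (J := b.asIdeal) hab) ?_
  obtain ⟨Q, -, hQp, hQ⟩ := Ideal.exists_ideal_over_prime_of_isIntegral (R := ℤ) (S := S) ⊥ (⊥ : Ideal S)
    (by rw [← RingHom.ker_eq_comap_bot, (RingHom.injective_iff_ker_eq_bot _).mp hinj])
  haveI : (Ideal.span {(2 : ℤ)}).IsPrime := (Ideal.span_singleton_prime two_ne_zero).2 (Nat.prime_iff_prime_int.1 Nat.prime_two)
  obtain ⟨Q', hQQ', hQ'p, hQ'⟩ := Ideal.exists_ideal_over_prime_of_isIntegral (R := ℤ) (S := S) (Ideal.span {2}) Q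
    (by rw [hQ]; exact bot_le)
  have hlt : (⟨Q, hQp⟩ : PrimeSpectrum S) < ⟨Q', hQ'p⟩ := by
    refine lt_of_le_of_ne hQQ' fun e => ?_
    have e' : Q = Q' := congrArg PrimeSpectrum.asIdeal e
    rw [e', hQ', Ideal.span_singleton_eq_bot] at hQ
    exact two_ne_zero hQ
  exact Order.LTSeries.length_le_krullDim ((RelSeries.singleton _ (⟨Q, hQp⟩ : PrimeSpectrum S)).snoc ⟨Q', hQ'p⟩ hlt)

end family

section gorenstein

theorem isGorensteinRing_of_ringEquiv {A B : Type u} [CommRing A] [CommRing B] (e : A ≃+* B)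
    [LocCoh.IsGorensteinRing A] : LocCoh.IsGorensteinRing B := by
  haveI := isNoetherianRing_of_ringEquiv A e
  constructor
  intro p hp
  haveI : p.IsPrime := hp
  refine (GrothGoren.isGorenstein_iff _).2 ?_
  have h := (GrothGoren.isGorenstein_iff _).1
    (LocCoh.IsGorensteinRing.isGorensteinLocalRing_localization (A := A) (p.comap e))
  exact (GrothGoren.exists_injLT_iff_of_ringEquiv (IsLocalization.ringEquivOfRingEquiv
    (Localization.AtPrime (p.comap e)) (Localization.AtPrime p) e (e.map_primeCompl_comap_eq p))).1 h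

variable {P : Polynomial ℤ} {D : ℕ} {ε q : ℤ} (hm : P.Monic) (hdeg : P.natDegree = 2 * D) (hq : q ≠ 0)
  (hε : ε * ε = 1) (hfe : ∀ r ≤ D, P.coeff (D - r) = ε * q ^ r * P.coeff (D + r))
  {L : Type u} [CommRing L] {x y : L} (hxy : x * y = (q : L)) (hx : IsUnit x)
  (hker : ∀ p : Polynomial ℤ, Polynomial.aeval x p = 0 ↔ P ∣ p)

include hm hdeg hq hε hfe hxy hx hker in
theorem isGorenstein_range : LocCoh.IsGorensteinRing (ev x y).range := by
  let e : ULift.{u} R2 ≃+* R2 := ULift.ringEquiv
  haveI : IsRegularRing (ULift.{u} R2) := IsRegularRing.of_ringEquiv e.symm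
  have hh₀ := pow_mul_h₀_sub_mem (q := q) hdeg hfe
  have hreg := weaklyRegular hm hdeg hq hfe hh₀
  have hreg' : RingTheory.Sequence.IsWeaklyRegular (ULift.{u} R2) [e.symm (g q), e.symm (h₀ P D ε)] := by
    rw [CIGor.weaklyRegular_pair_iff] at hreg ⊢
    refine ⟨fun a b hab => ?_, fun u hu => ?_⟩
    · apply e.injective
      apply hreg.1
      simpa using congrArg e hab
    · obtain ⟨t, ht⟩ := Ideal.mem_span_singleton'.1 hu
      obtain ⟨t', ht'⟩ := Ideal.mem_span_singleton'.1 (hreg.2 (e u)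
        (Ideal.mem_span_singleton'.2 ⟨e t, by simpa using congrArg e ht⟩))
      exact Ideal.mem_span_singleton'.2 ⟨e.symm t', by rw [← map_mul, ht', RingEquiv.symm_apply_apply]⟩
  let φ : ULift.{u} R2 →+* (ev x y).range := (ev x y).rangeRestrict.toRingHom.comp e.toRingHom
  have hφ : Function.Surjective φ := ((ev x y).rangeRestrict_surjective).comp e.surjective
  have hkφ : RingHom.ker φ = Ideal.span {e.symm (g q), e.symm (h₀ P D ε)} := by
    rw [← Set.image_pair, ← Ideal.map_span, ← ker_ev hm hdeg hq hε hfe hh₀ hxy hx hker,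
      Ideal.map_symm]
    ext z
    simp [φ, Subtype.ext_iff]
  haveI := CIGor.isGorensteinRing_quotient' hreg' hkφ
  exact isGorensteinRing_of_ringEquiv (RingHom.quotientKerEquivOfSurjective hφ)

end gorenstein

end Groth.Misc13.WeilOrder
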