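import Groth.Agent.Misc13.WeilFamily
import Groth.Agent.Misc13.PicSurj
import Mathlib.FieldTheory.IsAlgClosed.Basic
import Mathlib.GroupTheory.FiniteAbelian.Basic
import Mathlib.RingTheory.Polynomial.Content

/-!
Finiteness facts on the minimal central order of a family, and the Picard surjection.
-/

set_option autoImplicit false
set_option linter.style.haveILetI false
set_option linter.unusedSectionVars false

universe u

open ComplexConjugate

namespace Groth.Misc13.WeilFamily

theorem isIntegral_div {L : Type u} [Field L] [CharZero L] {π : L} (hπ : IsIntegral ℤ π) {p e : ℕ} [Fact p.Prime]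
    (hweil : ∀ z ∈ (minpoly ℤ π).aroots ℂ, ‖z‖ = Real.sqrt ((p : ℝ) ^ e)) :
    IsIntegral ℤ ((p : L) ^ e / π) := by
  have hπQ : IsIntegral ℚ π := hπ.tower_top
  let E := IntermediateField.adjoin ℚ {π}
  haveI : FiniteDimensional ℚ E := IntermediateField.adjoin.finiteDimensional hπQ
  let π' : E := ⟨π, IntermediateField.mem_adjoin_simple_self ℚ π⟩
  let σ : E →ₐ[ℚ] ℂ := IsAlgClosed.lift
  have h0 : IsIntegral ℤ π' := (isIntegral_algHom_iff (E.val.restrictScalars ℤ) Subtype.val_injective).1 hπ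
  have heq : minpoly ℤ π' = minpoly ℤ π := (minpoly.algHom_eq (E.val.restrictScalars ℤ) Subtype.val_injective π').symm
  have hz : σ π' ∈ (minpoly ℤ π).aroots ℂ := by
    rw [Polynomial.mem_aroots]
    refine ⟨minpoly.ne_zero hπ, ?_⟩
    show Polynomial.aeval ((σ.restrictScalars ℤ) π') _ = 0
    rw [Polynomial.aeval_algHom_apply, ← heq, minpoly.aeval, map_zero]
  have hmul := WeilNum.mul_conj_eq_of_norm (pow_nonneg (Nat.cast_nonneg _) _) (hweil _ hz)
  have hz0 : σ π' ≠ 0 := by
    intro h
    have := hweil _ hz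
    rw [h, norm_zero, eq_comm, Real.sqrt_eq_zero (pow_nonneg (Nat.cast_nonneg _) _)] at this
    exact pow_ne_zero e (Nat.cast_ne_zero.2 (Fact.out : p.Prime).ne_zero) this
  have hy : IsIntegral ℤ (σ ((p : E) ^ e / π')) := by
    rw [map_div₀, map_pow, map_natCast]
    rw [show (p : ℂ) ^ e / σ π' = conj (σ π') from by
      rw [div_eq_iff hz0, mul_comm, hmul]; push_cast; rfl]
    exact map_isIntegral_int (starRingEnd ℂ) (h0.map (σ.restrictScalars ℤ))
  have h2 : IsIntegral ℤ ((p : E) ^ e / π') := (isIntegral_algHom_iff (σ.restrictScalars ℤ) σ.injective).1 hy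
  simpa [π'] using h2.map (E.val.restrictScalars ℤ)

variable {ι : Type} [Fintype ι] {K : ι → Type u} [∀ i, Field (K i)] [∀ i, CharZero (K i)] {π : ∀ i, K i}
  {p e : ℕ} [Fact p.Prime] (hint : ∀ i, IsIntegral ℤ (π i))
  (hweil : ∀ i, ∀ z ∈ (minpoly ℤ (π i)).aroots ℂ, ‖z‖ = Real.sqrt ((p : ℝ) ^ e))

theorem isIntegral_pi (v : ∀ i, K i) (hv : ∀ i, IsIntegral ℤ (v i)) : IsIntegral ℤ v := by
  refine ⟨∏ i, minpoly ℤ (v i), Polynomial.monic_prod_of_monic _ _ fun i _ => minpoly.monic (hv i), ?_⟩
  rw [← Polynomial.aeval_def]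
  funext i
  rw [aeval_pi_apply, map_prod, Pi.zero_apply]
  exact Finset.prod_eq_zero (Finset.mem_univ i) (minpoly.aeval ℤ _)

include hint hweil in
theorem finite_range_family : Module.Finite ℤ (WeilOrder.ev (x π) (y p e π)).range := by
  have hfg : (Algebra.adjoin ℤ (Set.range ![x π, y p e π])).toSubmodule.FG :=
    fg_adjoin_of_finite (Set.finite_range _) (by
      rintro z ⟨i, rfl⟩
      match i with
      | 0 => simpa using isIntegral_pi _ hint
      | 1 => simpa using isIntegral_pi (y p e π) fun i => isIntegral_div (hint i) (hweil i))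
  have : Algebra.adjoin ℤ (Set.range ![x π, y p e π]) = (WeilOrder.ev (x π) (y p e π)).range :=
    Algebra.adjoin_range_eq_range_aeval _ _
  rw [← this]
  exact Module.Finite.iff_fg.2 hfg

theorem ev_apply_family (f : WeilOrder.R2) (i : ι) :
    WeilOrder.ev (x π) (y p e π) f i = MvPolynomial.aeval ![π i, (p : K i) ^ e / π i] f := by
  unfold WeilOrder.ev
  induction f using MvPolynomial.induction_on with
  | C a => simp
  | add a b ha hb => simp [ha, hb]
  | mul_X a j ha =>
    rw [map_mul, map_mul, Pi.mul_apply, ha, MvPolynomial.aeval_X, MvPolynomial.aeval_X]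
    match j with
    | 0 => rfl
    | 1 => rfl

theorem exists_comb_eq_intCast {P Q : Polynomial ℤ}
    (h : IsCoprime (P.map (algebraMap ℤ ℚ)) (Q.map (algebraMap ℤ ℚ))) :
    ∃ (a b : Polynomial ℤ) (n : ℤ), n ≠ 0 ∧ a * P + b * Q = Polynomial.C n := by
  obtain ⟨a, b, hab⟩ := h
  obtain ⟨⟨m, hm⟩, hm'⟩ := IsLocalization.integerNormalization_map_to_map (nonZeroDivisors ℤ) a
  obtain ⟨⟨k, hk⟩, hk'⟩ := IsLocalization.integerNormalization_map_to_map (nonZeroDivisors ℤ) b
  set a' := IsLocalization.integerNormalization (nonZeroDivisors ℤ) a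
  set b' := IsLocalization.integerNormalization (nonZeroDivisors ℤ) b
  refine ⟨Polynomial.C k * a', Polynomial.C m * b', m * k, mul_ne_zero (nonZeroDivisors.ne_zero hm) (nonZeroDivisors.ne_zero hk), ?_⟩
  apply Polynomial.map_injective (algebraMap ℤ ℚ) (algebraMap ℤ ℚ).injective_int
  simp only [Polynomial.map_add, Polynomial.map_mul, Polynomial.map_C, hm', hk', map_mul, Submonoid.mk_smul, zsmul_eq_mul,
    Submonoid.smul_def]
  simp only [Polynomial.C_eq_intCast, eq_intCast]
  linear_combination ((k : Polynomial ℚ) * (m : Polynomial ℚ)) * hab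

end Groth.Misc13.WeilFamily
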